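import Mathlib
import Cfsg.Agent.Lib.SLE.BasA
import Cfsg.Agent.Lib.SLE.NG
import Cfsg.Agent.Lib.CKS.F4a

/-!
# Standard components of type `F₄` in characteristic two: definitions
-/

set_option autoImplicit false

namespace CfsgLib.SLF

open Cfsg.Lie CfsgLib.RGD CfsgLib.Stein CfsgLib.Semi CfsgLib.SLE Subgroup
open scoped commutatorElement

universe u

/-! ### Roots -/

/-- the roots: `47 - r` is the negative of `r`, and `r` is positive iff `24 ≤ r` -/
abbrev R4 := Fin 48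

/-- the inner product: long roots have norm `4`, short roots norm `2` -/
def ip4 (r s : R4) : ℤ := Int.subNatNat (grF4 r s) 4

/-- long roots -/
def Lg (r : R4) : Prop := grF4 r r = 8

instance decLg (r : R4) : Decidable (Lg r) := inferInstanceAs (Decidable (_ = _))

/-- packed weights -/
def tW : ℕ := 0x8874a21d1886c61db1866c61991866419db1666c59991666419591656419570645c119b1466451990456451590455c11191446411171445bd11504453d0d70435410d4f42541094f424bc9170235c08d502353c89502253c892f214bc09500253c092f014bc012f0043c010e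

/-- an additive injective weight `c₁ + 32 c₂ + 1024 c₃ + 32768 c₄`, increasing in the index -/
def wt (r : R4) : ℤ := Int.subNatNat (Nat.land (Nat.shiftRight tW (Nat.mul 18 r)) 262143) 70000

/-- `a + b = k` -/
def Ad (a b k : R4) : Prop := wt a + wt b = wt k

instance decAd (a b k : R4) : Decidable (Ad a b k) := inferInstanceAs (Decidable (_ = _))

/-- `a + b = k`, all three of the same length -/
def Cm (a b k : R4) : Prop := Ad a b k ∧ (Lg a ↔ Lg b) ∧ (Lg a ↔ Lg k)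

instance decCm (a b k : R4) : Decidable (Cm a b k) := inferInstanceAs (Decidable (_ ∧ _))

/-- `l` long, `b` short, `k = l + b`, `m = l + 2 b` -/
def Ls (l b k m : R4) : Prop := Lg l ∧ ¬ Lg b ∧ Ad l b k ∧ Ad k b m

instance decLs (l b k m : R4) : Decidable (Ls l b k m) := inferInstanceAs (Decidable (_ ∧ _))

/-- orthogonal short roots `a, b` with long sum `m` -/
def Ot (a b m : R4) : Prop := ¬ Lg a ∧ ¬ Lg b ∧ Ad a b m ∧ Lg m

instance decOt (a b m : R4) : Decidable (Ot a b m) := inferInstanceAs (Decidable (_ ∧ _))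

/-- orthogonal long roots `a, l` with short midpoint `k` -/
def Md (a l k : R4) : Prop := Lg a ∧ Lg l ∧ wt a + wt l = 2 * wt k ∧ ¬ Lg k

instance decMd (a l k : R4) : Decidable (Md a l k) := inferInstanceAs (Decidable (_ ∧ _))

/-- the permutation of the graph automorphism -/
def ρ (r : R4) : R4 := ⟨rhoF4 r % 48, Nat.mod_lt _ (by decide)⟩

/-- the exponents of the graph automorphism: `1` on long roots, `2` on short roots -/
def ex (r : R4) : ℕ := if Lg r then 1 else 2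

/-- the Cartan integer `⟨s, d^∨⟩` -/
def cv (s d : R4) : ℤ := if Lg d then ip4 s d / 2 else ip4 s d

/-- packed reflections -/
def tR : ℕ := 0x1755240fa4b2489478e284511e0dc6c2641b96b544ec46ba8e34ca0a9e690681f75a62f60159346a3cc2a62241e28467c47436da0af02d554b12ad0a4e3682e72658e015e719b97699094ad140d9ca2648c786018575c0efb985c102c4d2aa93cea0c2e694889f7846ed59518510308100e34c2ca2481e07de75c6da6585d65544d24503e89e69648e286fbadb2baa97deb5b1165683a694c2e2220bee75cb061585eaa434d20403e73648ca2611da66b50245082e79c6455e89ce94d8cb26f7ed76c6daac6a445540d209002690c88a8481d8a964d104fbe07dd6981a89e63a434c2aeb5eb1c6eb66a1561144c34420658e22e12481e95d54903c04503e1aeaa475134a48e2b0204028921a6585d65679a5beeb4334c2dd71ba061443a07de595b623eaa5b2269534ac8447de30ba010185efb87923450ace0dd70a26750616034269966e5e3ad0a5c9c9954b1286015e3682dabc2b405641e246a3ce7436ca9884c67c4318056bda624aea45d9e62ac5138607c6a0d32e66d096063887a503ce71b0e5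24849e1442d75407aeb655d5a6871bb0b8e24a07ef3a7985644ad6a892210103dd34c9035131c6698282051bdfb6662a5a876c6e43224e0b9e9ce95a1ab12954a8484413dc3632d40d21d9157242400bee827ada668b1d7248cd52d7de9a53aaa585c616128945009b88c2d34831d654420f040beeb6881f7ac9e695d71b3abaa992389a6585d654d30b18512151348a2480d140f1c2040aa9b6caefba28669648e89cf5954d26d14185df79475c6998081cc2ca24e3410040c2185aeea6cbeab639e1964a2299941751c49a81178f55d4db61f5893472ca3883021400c6044bebaacbada649e68688e295a6117544e065f4163dc6d279754a34c1ce2482c60810c5100a6eb6caeabe58e2a219e691755e49c6d064f8167d44dd45a60b24838734c2801440c2046beab6caeea669288a78658d87d67536da4603de5547126505cc28e20d1cb2460440c2140beeaecb6aa67a248e69618a069975c51f7985d141b4d25953cd38a24c2c72061420c4040b6ebeca6aae89669e28e485e7e06dc7555d66586924d43d044e2cc34824a1c41460c0042bedbacaaba689a79648a385f81e75b71859a5595d351244f40e30d2ca2091c61050c1080bafb6cae9aa89e59a392286079f71d6d9697615594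4934113ce34b3092881c51840c2001bafb6cae9aa89e59a392286079f71d6d96976155944934113ce34b3092881c51840c2001bedbacaaba689a79648a385f81e75b71859a5595d351244f40e30d2ca2091c61050c1080b6ebeca6aae89669e28e485e7e06dc7555d66586924d43d044e2cc34824a1c41460c0042beeaecb6aa67a248e69618a069975c51f7985d141b4d25953cd38a24c2c72061420c4040beab6caeea669288a78658d87d67536da4603de5547126505cc28e20d1cb2460440c2140a6eb6caeabe58e2a219e691755e49c6d064f8167d44dd45a60b24838734c2801440c2046bebaacbada649e68688e295a6117544e065f4163dc6d279754a34c1ce2482c60810c5100aeea6cbeab639e1964a2299941751c49a81178f55d4db61f5893472ca3883021400c6044aa9b6caefba28669648e89cf5954d26d14185df79475c6998081cc2ca24e3410040c2185beeb6881f7ac9e695d71b3abaa992389a6585d654d30b18512151348a2480d140f1c2040bee827ada668b1d7248cd52d7de9a53aaa585c616128945009b88c2d34831d654420f040bdfb6662a5a876c6e43224e0b9e9ce95a1ab12954a8484413dc3632d40d21d91572424007aeb655d5a6871bb0b8e24a07ef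3a7985644ad6a892210103dd34c9035131c6698282051bda624aea45d9e62ac5138607c6a0d32e66d096063887a503ce71b0e524849e1442d754066e5e3ad0a5c9c9954b1286015e3682dabc2b405641e246a3ce7436ca9884c67c4318056595b623eaa5b2269534ac8447de30ba010185efb87923450ace0dd70a2675061603426994503e1aeaa475134a48e2b0204028921a6585d65679a5beeb4334c2dd71ba061443a07debe07dd6981a89e63a434c2aeb5eb1c6eb66a1561144c34420658e22e12481e95d54903c082e79c6455e89ce94d8cb26f7ed76c6daac6a445540d209002690c88a8481d8a964d104f7deb5b1165683a694c2e2220bee75cb061585eaa434d20403e73648ca2611da66b50245018510308100e34c2ca2481e07de75c6da6585d65544d24503e89e69648e286fbadb2baa9699094ad140d9ca2648c786018575c0efb985c102c4d2aa93cea0c2e694889f7846ed59560159346a3cc2a62241e28467c47436da0af02d554b12ad0a4e3682e72658e015e719b9701755240fa4b2489478e284511e0dc6c2641b96b544ec46ba8e34ca0a9e690681f75a62f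

/-- the reflection of `s` in `d` -/
def rf4 (d s : R4) : R4 :=
  ⟨Nat.land (Nat.shiftRight tR (Nat.mul 6 (Nat.add (Nat.mul 48 d) s))) 63 % 48, Nat.mod_lt _ (by decide)⟩

/-- a product of reflections -/
def wd (L : List R4) (s : R4) : R4 := L.foldr rf4 s

/-! ### Groups -/

variable {F : Type} [Field F] {G : Type u} [Group G]

/-- the Steinberg relations of type `F₄` in characteristic two -/
structure Rel4 {K : Type} [CommRing K] (y : R4 → K → G) : Prop where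
  add : ∀ r u v, y r (u + v) = y r u * y r v
  cm : ∀ a b k, Cm a b k → ∀ u v, y a u * y b v * (y a u)⁻¹ * (y b v)⁻¹ = y k (u * v)
  ls : ∀ l b k m, Ls l b k m → ∀ c v,
    y l c * y b v * (y l c)⁻¹ * (y b v)⁻¹ = y k (c * v) * y m (c * v ^ 2)
  com : ∀ a b, 0 ≤ ip4 a b → ∀ u v, y a u * y b v = y b v * y a u

/-- `S.grp` is the Chevalley group `F₄(F)` -/
def Amb (S : StSys ΦF4 F G) : Prop :=
  ∃ φ : chevF4.group F →* G, Function.Injective φ ∧ ∀ (r : R4) c, φ (xG chevF4 F r c) = S.x r c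

/-- the product of the `n_d(1)` -/
def nw (S : StSys ΦF4 F G) (L : List R4) : G := (L.map fun d => S.n d 1).prod

/-- `g` permutes the root elements exactly -/
def Ex (S : StSys ΦF4 F G) (g : G) (w : R4 → R4) : Prop := ∀ r c, g * S.x r c * g⁻¹ = S.x (w r) c

/-- `g` induces the field automorphism `σ` -/
def Std (S : StSys ΦF4 F G) (g : G) (σ : F ≃+* F) : Prop := ∀ r c, g * S.x r c * g⁻¹ = S.x r (σ c)

/-- `g` induces a graph automorphism -/
def StG (S : StSys ΦF4 F G) (g : G) (σ : F ≃+* F) : Prop :=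
  ∀ r c, g * S.x r c * g⁻¹ = S.x (ρ r) (σ (c ^ ex r))

/-- `S'` is the system dual to `S` -/
def Du (σ : F ≃+* F) (S S' : StSys ΦF4 F G) : Prop := ∀ r c, S'.x r c = S.x (ρ r) (σ (c ^ ex r))

/-- `L C(L)` -/
abbrev N0 (S : StSys ΦF4 F G) : Subgroup G := S.grp ⊔ CL S

/-- the group generated by the root groups of a list -/
abbrev UL (S : StSys ΦF4 F G) (L : List R4) : Subgroup G := S.UU {r | r ∈ L}

/-- the root groups of index at least `n` -/
abbrev Ug (S : StSys ΦF4 F G) (n : ℕ) : Subgroup G := S.UU {r | n ≤ r.1}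

/-- `C_L(x_r(1))` -/
def Y4 (S : StSys ΦF4 F G) (r : R4) : Subgroup G := S.UU {s | 0 ≤ ip4 s r}

/-- `O₂(Y4 r)` -/
def Q4 (S : StSys ΦF4 F G) (r : R4) : Subgroup G := S.UU {s | 1 ≤ ip4 s r}

/-- `Z(Q4 r)` -/
def V4 (S : StSys ΦF4 F G) (r : R4) : Subgroup G :=
  S.UU {s | s = r ∨ (ip4 s r = 2 ∧ ¬ (Lg s ↔ Lg r))}

/-- the roots whose groups centralise the hats of `X_r` -/
def Yr (r s : R4) : Prop := 0 < ip4 s r ∨ (ip4 s r = 0 ∧ ¬ (Lg s ↔ Lg r))

instance decYr (r s : R4) : Decidable (Yr r s) := inferInstanceAs (Decidable (_ ∨ _))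

/-- `Y°_r` -/
def Yo (S : StSys ΦF4 F G) (r : R4) : Subgroup G := S.UU {s | Yr r s}

/-- the positive roots in increasing order -/
def posL4 : List R4 := [24, 25, 26, 27, 28, 29, 30, 31, 32, 33, 34, 35, 36, 37, 38, 39, 40, 41, 42, 43, 44, 45, 46, 47]

open Classical in
/-- the coefficients of `u ∈ U` -/
noncomputable def cf4 (S : StSys ΦF4 F G) (u : G) : R4 → F :=
  if h : ∃ c : R4 → F, (∀ r : R4, r.1 < 24 → c r = 0) ∧ S.xprod posL4 c = u then h.choose else 0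

/-- closed in characteristic two -/
def Cl (T : Set R4) : Prop := (∀ a ∈ T, ∀ b ∈ T, ∀ k, Cm a b k → k ∈ T) ∧
  ∀ l ∈ T, ∀ b ∈ T, ∀ k m, Ls l b k m → k ∈ T ∧ m ∈ T

/-- the commutators of `X_a` and `X_b` lie in `U_K` -/
def Cz (K : Set R4) (a b : R4) : Prop := a.1 + b.1 ≠ 47 ∧ (∀ k, Cm a b k → k ∈ K) ∧
  (∀ k m, Ls a b k m → k ∈ K ∧ m ∈ K) ∧ ∀ k m, Ls b a k m → k ∈ K ∧ m ∈ K

/-- the mixed involution -/
abbrev ic (S : StSys ΦF4 F G) : G := S.x 47 1 * S.x 44 1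

/-- the fourth involution -/
abbrev id4 (S : StSys ΦF4 F G) : G := S.x 39 1 * S.x 45 1

/-- `O₂(C_L(d))` -/
abbrev lRd : List R4 := [28, 29, 30, 31, 32, 35, 36, 37, 38, 39, 40, 41, 42, 43, 44, 45, 46, 47]

/-- `O₂(C_L(c))` -/
abbrev lRm : List R4 := [24, 26, 29, 31, 32, 33, 34, 35, 36, 37, 38, 39, 40, 41, 42, 43, 44, 45, 46, 47]

/-- the derived group of `O₂(C_L(c))` -/
abbrev lE : List R4 := [36, 38, 39, 40, 42, 43, 44, 45, 46, 47]

abbrev lM : List R4 := [42, 43, 44, 45, 46, 47]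

abbrev lMs : List R4 := [36, 38, 39, 40, 44, 47]

/-- `A₂ · {c₃ ≥ 1}` -/
abbrev lY2 : List R4 := [21, 22, 23, 24, 25, 26, 27, 28, 29, 30, 31, 32, 34, 35, 36, 37, 38, 39, 40, 41, 42, 43, 44, 45, 46, 47]

/-- `{c₃ ≥ 1}` -/
abbrev lR2 : List R4 := [27, 28, 29, 30, 31, 32, 34, 35, 36, 37, 38, 39, 40, 41, 42, 43, 44, 45, 46, 47]

/-- `t` is an involution centralising the standard subgroup `L = S.grp` -/
structure Sit (S : StSys ΦF4 F G) (t : G) : Prop where
  amb : Amb S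
  t2 : t * t = 1
  t1 : t ≠ 1
  tC : t ∈ CL S
  CN : centralizer {t} ≤ NL S
  cyc : ∀ P ≤ CL S, IsPGroup 2 P → IsCyclic P

/-- `p` interchanges `t` and `t b`, `b = x_44(1)` -/
structure Sw (S : StSys ΦF4 F G) (t p : G) : Prop where
  pt : p * t * p⁻¹ = t * S.x 44 1
  pb : p * S.x 44 1 * p⁻¹ = S.x 44 1
  nU : p ∈ normalizer (S.U : Set G)
  nY : p ∈ normalizer (Y4 S 44 : Set G)
  nQ : p ∈ normalizer (Q4 S 44 : Set G)
  nO : ∀ l ∈ S.grp, CO S t (p * l * p⁻¹)

/-- the case `q = 2`: `p` centralises `x_44(1)`, `x_40(1)` and `Y2 / R2` -/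
structure Sw2 (S : StSys ΦF4 F G) (t p : G) : Prop where
  pt : p * t * p⁻¹ = t * S.x 44 1
  pb : p * S.x 44 1 * p⁻¹ = S.x 44 1
  pb' : p * S.x 40 1 * p⁻¹ = S.x 40 1
  nY : p ∈ normalizer (Y4 S 44 : Set G)
  nQ : p ∈ normalizer (Q4 S 44 : Set G)
  nY2 : ∀ y ∈ UL S lY2, p * y * p⁻¹ * y⁻¹ ∈ UL S lR2
  co : CO S t p

/-- `p` moves `t` inside `t X_44` and is trivial on `Q / V` -/
structure Tv (S : StSys ΦF4 F G) (t p : G) : Prop where
  pt : ∃ c, c ≠ 0 ∧ p * t * p⁻¹ = t * S.x 44 c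
  nY : p ∈ normalizer (Y4 S 44 : Set G)
  nQ : ∀ v ∈ Q4 S 44, p * v * p⁻¹ * v⁻¹ ∈ V4 S 44
  co : CO S t p

/-- `p` moves `t` inside `t X_44` and centralises `Q` -/
structure Tq (S : StSys ΦF4 F G) (t p : G) : Prop where
  pt : ∃ c, c ≠ 0 ∧ p * t * p⁻¹ = t * S.x 44 c
  nY : p ∈ normalizer (Y4 S 44 : Set G)
  cQ : p ∈ centralizer (Q4 S 44 : Set G)
  co : CO S t p

/-- `g` centralises `Y°_r` and moves `t` to `t x_r(c)` -/
def InT (S : StSys ΦF4 F G) (t : G) (r : R4) (c : F) (g : G) : Prop :=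
  g ∈ centralizer (Yo S r : Set G) ∧ g * t * g⁻¹ = t * S.x r c

/-- the outcome of the fusion analysis -/
structure Mv (S : StSys ΦF4 F G) (t : G) (κ : F) : Prop extends Sit S t where
  two : Two S
  surj : ∀ r, ¬ Lg r → ∀ c, ∃ g, InT S t r c g ∧ CO S t g
  mv : ∀ a r m, Ot a r m → ∀ c g, InT S t r c g → ∀ u,
    g * S.x a u * g⁻¹ = S.x a u * S.x m (κ * c * u)

/-- the hats of the root group `X_r` -/
def IsHat (S : StSys ΦF4 F G) (t : G) (r : R4) (b : G) : Prop :=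
  b * b = 1 ∧ (∃ c, InT S t r c b) ∧ ∀ c, b ≠ t * S.x r c

/-- the hats of the roots in `p` form subgroups of order `q²` -/
structure H1 (S : StSys ΦF4 F G) (t : G) (p : R4 → Prop) (Z : R4 → Subgroup G) : Prop
    extends Sit S t where
  two : Two S
  mem : ∀ r, p r → ∀ b, b ∈ Z r ↔ IsHat S t r b
  surj : ∀ r, p r → ∀ c, ∃ b ∈ Z r, b * t * b⁻¹ = t * S.x r c
  ker : ∀ r, p r → ∀ b ∈ Z r, b * t = t * b → b ∈ S.X r
  co : ∀ r, p r → ∀ b ∈ Z r, CO S t b
  cx : ∀ a b k, p a → Cm a b k → ∀ g ∈ Z a, ∀ u, g * S.x b u * g⁻¹ * (S.x b u)⁻¹ ∈ Z k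

/-- the commutators of hats of the same length -/
structure H2 (S : StSys ΦF4 F G) (t : G) (p : R4 → Prop) (Z : R4 → Subgroup G) : Prop
    extends H1 S t p Z where
  com : ∀ a b, p a → p b → (Lg a ↔ Lg b) → 0 < ip4 a b → ∀ g ∈ Z a, ∀ h ∈ Z b, g * h = h * g
  cz : ∀ a b k, p a → Cm a b k → ∀ g ∈ Z a, ∀ h ∈ Z b, g * h * g⁻¹ * h⁻¹ ∈ Z k

/-- short hats, first step -/
structure HS1 (S : StSys ΦF4 F G) (t : G) (κ : F) (Z : R4 → Subgroup G) : Prop
    extends H1 S t (fun r => ¬ Lg r) Z where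
  mv : ∀ a r m, Ot a r m → ∀ g ∈ Z r, ∀ c, g * t * g⁻¹ = t * S.x r c → ∀ u,
    g * S.x a u * g⁻¹ = S.x a u * S.x m (κ * c * u)

/-- short hats -/
structure HS (S : StSys ΦF4 F G) (t : G) (κ : F) (Z : R4 → Subgroup G) : Prop
    extends H2 S t (fun r => ¬ Lg r) Z where
  mv : ∀ a r m, Ot a r m → ∀ g ∈ Z r, ∀ c, g * t * g⁻¹ = t * S.x r c → ∀ u,
    g * S.x a u * g⁻¹ = S.x a u * S.x m (κ * c * u)
  ort : ∀ a b m, Ot a b m → ∀ g ∈ Z a, ∀ h ∈ Z b, ∃ e, g * h * g⁻¹ * h⁻¹ = S.x m (κ * e)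

/-- long hats -/
structure HL (S : StSys ΦF4 F G) (t : G) (κ : F) (Z : R4 → Subgroup G) : Prop
    extends H2 S t Lg Z where
  mv : ∀ a l k, Md a l k → ∀ g ∈ Z l, ∀ c, g * t * g⁻¹ = t * S.x l (c ^ 2) → ∀ u,
    g * S.x a (u ^ 2) * g⁻¹ = S.x a (u ^ 2) * S.x k (κ * c * u)
  ort : ∀ a l k, Md a l k → ∀ g ∈ Z a, ∀ h ∈ Z l, ∃ e, g * h * g⁻¹ * h⁻¹ = S.x k (κ * e)

/-- all roots have hats, and these centralise `Y4` -/
structure H0 (S : StSys ΦF4 F G) (t : G) (Z : R4 → Subgroup G) : Prop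
    extends H2 S t (fun _ => True) Z where
  cY : ∀ r, Z r ≤ centralizer (Y4 S r : Set G)
  com0 : ∀ a b, 0 ≤ ip4 a b → ∀ g ∈ Z a, ∀ h ∈ Z b, g * h = h * g

/-- the quadratic algebra `F[ω]`, `ω² = δ + ω` -/
abbrev KK (δ : F) : Type := QuadraticAlgebra F δ 1

/-- the identity for `κ = 0`, the conjugation for `κ = 1` -/
def tw {δ : F} (κ : F) (v : KK δ) : KK δ := v + κ • (v + star v)

/-- the short hats, parametrised -/
structure RD (S : StSys ΦF4 F G) (t : G) (κ : F) (Z : R4 → Subgroup G) (δ : F) (y : R4 → KK δ → G) :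
    Prop extends HS S t κ Z where
  k01 : κ = 0 ∨ κ = 1
  add : ∀ r, ¬ Lg r → ∀ u v, y r (u + v) = y r u * y r v
  base : ∀ r, ¬ Lg r → ∀ c, y r (algebraMap F _ c) = S.x r c
  ty : ∀ r, ¬ Lg r → ∀ v, t * y r v * t⁻¹ = y r (star v)
  rng : ∀ r, ¬ Lg r → ∀ g, g ∈ Z r ↔ ∃ v, g = y r v
  r1 : ∀ a b k, ¬ Lg a → Cm a b k → ∀ u v,
    y a u * y b v * (y a u)⁻¹ * (y b v)⁻¹ = y k (tw κ (u * v))
  nl : ∀ d r, Lg d → ¬ Lg r → ∀ v, S.n d 1 * y r v * (S.n d 1)⁻¹ = y (rf4 d r) v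
  ns : ∀ d r, ¬ Lg d → ¬ Lg r → ∀ v, S.n d 1 * y r v * (S.n d 1)⁻¹ = y (rf4 d r) (tw κ v)
  hy : ∀ d r, ¬ Lg r → ∀ c, c ≠ 0 → ∀ v, S.h d c * y r v * (S.h d c)⁻¹ = y r (c ^ cv r d • v)

/-- the relations of the twisted group `²E₆` over the algebra `KK δ` -/
structure RelG {δ : F} (x : R4 → F → G) (y : R4 → KK δ → G) : Prop where
  rx : Rel4 x
  add : ∀ r, ¬ Lg r → ∀ u v, y r (u + v) = y r u * y r v
  base : ∀ r, ¬ Lg r → ∀ c, y r (algebraMap F _ c) = x r c
  r1 : ∀ a b k, ¬ Lg a → Cm a b k → ∀ u v,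
    y a u * y b v * (y a u)⁻¹ * (y b v)⁻¹ = y k (star (u * v))
  r2 : ∀ a b m, Ot a b m → ∀ u v, y a u * y b v * (y a u)⁻¹ * (y b v)⁻¹ = x m (u * star v).im
  r3 : ∀ l b k m, Ls l b k m → ∀ c v,
    x l c * y b v * (x l c)⁻¹ * (y b v)⁻¹ = y k (c • v) * x m (c * v.norm)
  c1 : ∀ a b, ¬ Lg a → ¬ Lg b → 0 < ip4 a b → ∀ u v, y a u * y b v = y b v * y a u
  c2 : ∀ l b, Lg l → ¬ Lg b → 0 ≤ ip4 l b → ∀ c v, x l c * y b v = y b v * x l c

/-- the graph case -/
structure Gr (S : StSys ΦF4 F G) (t : G) (Z : R4 → Subgroup G) (δ : F) (y : R4 → KK δ → G) : Prop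
    extends RD S t 1 Z δ y where
  rel : RelG S.x y
  nla : ¬ IsConj t (t * S.x 47 1)

/-- the group generated by the root groups and the short hats of `T` -/
def UG (S : StSys ΦF4 F G) {δ : F} (y : R4 → KK δ → G) (T : Set R4) : Subgroup G :=
  S.UU T ⊔ closure {g | ∃ r ∈ T, ¬ Lg r ∧ ∃ v, g = y r v}

/-- case `κ = 0`: all hats are parametrised -/
structure D0 (S : StSys ΦF4 F G) (t : G) (Z : R4 → Subgroup G) (δ : F) (y : R4 → KK δ → G) : Prop
    extends H0 S t Z where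
  rel : Rel4 y
  base : ∀ r c, y r (algebraMap F _ c) = S.x r c
  ty : ∀ r v, t * y r v * t⁻¹ = y r (star v)
  rng : ∀ r g, g ∈ Z r ↔ ∃ v, g = y r v

/-- field case -/
structure DblF (S : StSys ΦF4 F G) (t : G) (Z : R4 → Subgroup G) {K : Type} [Field K]
    (T : StSys ΦF4 K G) (f : F →+* K) (τ : K ≃+* K) : Prop extends H0 S t Z where
  ambT : Amb T
  card : Nat.card K = Nat.card F ^ 2
  ext : ∀ r c, T.x r (f c) = S.x r c
  tT : Std T t τ
  fix : ∀ v, τ v = v ↔ ∃ c, v = f c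
  ZT : ∀ r, Z r = T.X r

/-- product case -/
structure DblP (S : StSys ΦF4 F G) (t : G) (Z : R4 → Subgroup G) (S₁ S₂ : StSys ΦF4 F G) : Prop
    extends H0 S t Z where
  amb₁ : Amb S₁
  amb₂ : Amb S₂
  c12 : ∀ r s c d, S₁.x r c * S₂.x s d = S₂.x s d * S₁.x r c
  ext : ∀ r c, S.x r c = S₁.x r c * S₂.x r c
  t12 : ∀ r c, t * S₁.x r c * t⁻¹ = S₂.x r c
  ZT : ∀ r, Z r = S₁.X r ⊔ S₂.X r

end CfsgLib.SLF
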