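import Mathlib
import Cfsg.Agent.Lib.SLF.Defs

/-!
# The root system `F₄`: tables
-/

set_option autoImplicit false
set_option Elab.async false

namespace CfsgLib.SLF

open Cfsg.Lie CfsgLib.RGD CfsgLib.Stein CfsgLib.Semi CfsgLib.SLE Subgroup

theorem ip4_eq (r s : R4) : ip4 r s = ip ΦF4 r s := by
  rw [ip4, Int.subNatNat_eq_coe, grF4_eq, ip]; simp

theorem pos4 (r : R4) : ΦF4.Pos r ↔ 24 ≤ r.1 := CKS.F4D.pos24 r

theorem neg4 : ∀ r : R4, ΦF4.neg r = r.rev := by decide +kernel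

theorem simple4 : ΦF4.simple 0 = 33 ∧ ΦF4.simple 1 = 27 ∧ ΦF4.simple 2 = 25 ∧ ΦF4.simple 3 = 24 := by
  decide +kernel

theorem wt_eq : ∀ r : R4, wt r = ΦF4.rt r 3 + 32 * ΦF4.rt r 2 + 1024 * ΦF4.rt r 1 + 32768 * ΦF4.rt r 0 := by
  decide +kernel

theorem rt_bound : ∀ (r : R4) (i : Fin 4), -4 ≤ ΦF4.rt r i ∧ ΦF4.rt r i ≤ 4 := by decide +kernel

theorem wt_lt : ∀ r s : R4, wt r < wt s ↔ r < s := by decide +kernel

theorem wt_inj {r s : R4} (h : wt r = wt s) : r = s :=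
  le_antisymm (not_lt.1 fun e => by have := (wt_lt _ _).2 e; omega)
    (not_lt.1 fun e => by have := (wt_lt _ _).2 e; omega)

theorem wt_rev : ∀ r : R4, wt r.rev = -wt r := by decide +kernel

theorem wt_pos : ∀ r : R4, 0 < wt r ↔ 24 ≤ r.1 := by decide +kernel

/-- integral relations between four roots can be tested on the weights -/
theorem rt_of_wt {a b c : R4} {i j k : ℤ} (h0 : |i| + |j| + |k| ≤ 7)
    (h : i * wt a + j * wt b = k * wt c) (n : Fin 4) :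
    i * ΦF4.rt a n + j * ΦF4.rt b n = k * ΦF4.rt c n := by
  have key : ∀ n, |i * ΦF4.rt a n + j * ΦF4.rt b n - k * ΦF4.rt c n| ≤ 28 := fun n => by
    have b1 := abs_le.2 (rt_bound a n)
    have b2 := abs_le.2 (rt_bound b n)
    have b3 := abs_le.2 (rt_bound c n)
    have := abs_sub (i * ΦF4.rt a n + j * ΦF4.rt b n) (k * ΦF4.rt c n)
    have := abs_add_le (i * ΦF4.rt a n) (j * ΦF4.rt b n)
    simp only [abs_mul] at *
    nlinarith [abs_nonneg i, abs_nonneg j, abs_nonneg k]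
  have k0 := abs_le.1 (key 0)
  have k1 := abs_le.1 (key 1)
  have k2 := abs_le.1 (key 2)
  have k3 := abs_le.1 (key 3)
  rw [wt_eq, wt_eq, wt_eq] at h
  have e : (i * ΦF4.rt a 3 + j * ΦF4.rt b 3 - k * ΦF4.rt c 3) +
      32 * (i * ΦF4.rt a 2 + j * ΦF4.rt b 2 - k * ΦF4.rt c 2) +
      1024 * (i * ΦF4.rt a 1 + j * ΦF4.rt b 1 - k * ΦF4.rt c 1) +
      32768 * (i * ΦF4.rt a 0 + j * ΦF4.rt b 0 - k * ΦF4.rt c 0) = 0 := by linear_combination h
  fin_cases n <;> simp only [Fin.zero_eta, Fin.mk_one, Fin.reduceFinMk] <;> omega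

theorem ad_iff {a b k : R4} : Ad a b k ↔ RAdd ΦF4 a b k :=
  ⟨fun h n => by
    have := rt_of_wt (i := 1) (j := 1) (k := 1) (a := a) (b := b) (c := k) (by decide) (by simpa [Ad] using h) n
    omega,
  fun h => by rw [Ad, wt_eq, wt_eq, wt_eq, h 0, h 1, h 2, h 3]; ring⟩

theorem ip4_comm : ∀ r s : R4, ip4 r s = ip4 s r := by decide +kernel

theorem ip4_rev : ∀ r s : R4, ip4 r.rev s = -ip4 r s := by decide +kernel

theorem ip4_rev' : ∀ r s : R4, ip4 r s.rev = -ip4 r s := by decide +kernel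

theorem lg_iff : ∀ r : R4, Lg r ↔ ip4 r r = 4 := by decide +kernel

theorem sh_iff : ∀ r : R4, ¬ Lg r ↔ ip4 r r = 2 := by decide +kernel

theorem lg_rev : ∀ r : R4, Lg r.rev ↔ Lg r := by decide +kernel

theorem Ad.ip {a b k : R4} (h : Ad a b k) (s : R4) : ip4 k s = ip4 a s + ip4 b s := by
  simp only [ip4_eq]; exact (ad_iff.1 h).ip_left s

theorem Ad.ip' {a b k : R4} (h : Ad a b k) (s : R4) : ip4 s k = ip4 s a + ip4 s b := by
  rw [ip4_comm, h.ip, ip4_comm a, ip4_comm b]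

theorem Ad.symm {a b k : R4} (h : Ad a b k) : Ad b a k := (add_comm _ _).trans h

theorem Ad.uniq {a b k k' : R4} (h : Ad a b k) (h' : Ad a b k') : k = k' := wt_inj ((Eq.symm h).trans h')

theorem Ad.sub {a b k : R4} (h : Ad a b k) : Ad k b.rev a := by
  rw [Ad, wt_rev, ← h]; ring

theorem Ad.lt {a b k : R4} (h : Ad a b k) (hb : 24 ≤ b.1) : a < k := by
  have := (wt_pos b).2 hb
  rw [← wt_lt, ← h]; omega

theorem Cm.symm {a b k : R4} (h : Cm a b k) : Cm b a k := ⟨h.1.symm, h.2.1.symm, h.2.1.symm.trans h.2.2⟩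

theorem Ot.symm {a b m : R4} (h : Ot a b m) : Ot b a m := ⟨h.2.1, h.1, h.2.2.1.symm, h.2.2.2⟩

theorem Md.symm {a l k : R4} (h : Md a l k) : Md l a k := ⟨h.2.1, h.1, (add_comm _ _).trans h.2.2.1, h.2.2.2⟩

/-- the possible inner products -/
theorem ip4_vals : ∀ a b : R4, (Lg a → Lg b → ip4 a b ∈ [4, 2, 0, -2, -4]) ∧
    (Lg a → ¬ Lg b → ip4 a b ∈ [2, 0, -2]) ∧ (¬ Lg a → ¬ Lg b → ip4 a b ∈ [2, 1, 0, -1, -2]) := by
  decide +kernel

theorem eq_of_ip : ∀ a b : R4, (Lg a ↔ Lg b) → ip4 a b = ip4 a a → a = b := by decide +kernel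

theorem rf4_wt : ∀ d s : R4, wt (rf4 d s) = wt s - cv s d * wt d := by decide +kernel

/-- two roots commute, are opposite, or have one of the commutator relations -/
theorem cases4 (a b : R4) : 0 ≤ ip4 a b ∨ b = a.rev ∨ (∃ k, Cm a b k) ∨ (∃ k m, Ls a b k m) ∨
    ∃ k m, Ls b a k m := by
  have : ∀ a b : R4, 0 ≤ ip4 a b ∨ b = a.rev ∨ Cm a b (rf4 a b) ∨ Ls a b (rf4 a b) (rf4 b a) ∨
      Ls b a (rf4 b a) (rf4 a b) := by decide +kernel
  rcases this a b with h | h | h | h | h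
  exacts [.inl h, .inr (.inl h), .inr (.inr (.inl ⟨_, h⟩)), .inr (.inr (.inr (.inl ⟨_, _, h⟩))),
    .inr (.inr (.inr (.inr ⟨_, _, h⟩)))]

theorem Cm.ip {a b k : R4} (h : Cm a b k) : 2 * ip4 a b = -ip4 a a := by
  have h1 := h.1.ip k
  rw [h.1.ip', h.1.ip', h.1.ip', h.1.ip a, h.1.ip b, ip4_comm b a] at h1
  have h2 := h.1.ip k
  rw [h.1.ip' a, h.1.ip' b, ip4_comm b a] at h2
  by_cases l : Lg a
  · rw [(lg_iff k).1 (h.2.2.1 l), (lg_iff a).1 l, (lg_iff b).1 (h.2.1.1 l)] at *; omega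
  · rw [(sh_iff k).1 (mt h.2.2.2 l), (sh_iff a).1 l, (sh_iff b).1 (mt h.2.1.2 l)] at *; omega

theorem Ls.ip {l b k m : R4} (h : Ls l b k m) : ip4 l b = -2 ∧ ¬ Lg k ∧ Lg m := by
  have : ∀ l b : R4, Lg l → ¬ Lg b → ∀ k, Ad l b k → ip4 l b = -2 ∧ ¬ Lg k := by decide +kernel
  obtain ⟨h1, h2⟩ := this l b h.1 h.2.1 k h.2.2.1
  refine ⟨h1, h2, (lg_iff m).2 ?_⟩
  rw [h.2.2.2.ip, h.2.2.2.ip' k, h.2.2.2.ip' b, (sh_iff k).1 h2, (sh_iff b).1 h.2.1, ip4_comm b k,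
    h.2.2.1.ip b, h1, (sh_iff b).1 h.2.1]
  rfl

theorem Ls.ot {l b k m : R4} (h : Ls l b k m) : Ot k b m := ⟨h.ip.2.1, h.2.1, h.2.2.2, h.ip.2.2⟩

theorem Ot.ip {a b m : R4} (h : Ot a b m) : ip4 a b = 0 := by
  have h2 := h.2.2.1.ip m
  rw [h.2.2.1.ip' a, h.2.2.1.ip' b, ip4_comm b a, (lg_iff m).1 h.2.2.2, (sh_iff a).1 h.1,
    (sh_iff b).1 h.2.1] at h2
  omega

theorem exists_ot : ∀ a b : R4, ¬ Lg a → ¬ Lg b → ip4 a b = 0 → ∃ m, Ot a b m := by decide +kernel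

theorem exists_md : ∀ a b : R4, Lg a → Lg b → ip4 a b = 0 → ∃ k, Md a b k := by decide +kernel

theorem md_ip (a l k : R4) (h : Md a l k) : ip4 a l = 0 ∧ ip4 a k = 2 ∧ ip4 l k = 2 := by
  have : ∀ a : R4, Lg a → ∀ l : R4, Lg l → ∀ k, wt a + wt l = 2 * wt k → ¬ Lg k →
      ip4 a l = 0 ∧ ip4 a k = 2 ∧ ip4 l k = 2 := by decide +kernel
  exact this a h.1 l h.2.1 k h.2.2.1 h.2.2.2

theorem rf4_rf4 : ∀ d s : R4, rf4 d (rf4 d s) = s := by decide +kernel

theorem rf4_self : ∀ d : R4, rf4 d d = d.rev := by decide +kernel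

theorem rf4_rev : ∀ d s : R4, rf4 d.rev s = rf4 d s := by decide +kernel

theorem rf4_of_ip : ∀ d s : R4, ip4 s d = 0 → rf4 d s = s := by decide +kernel

theorem rf4_ip (d r s : R4) : ip4 (rf4 d r) (rf4 d s) = ip4 r s := by
  have : ∀ d r s : R4, grF4 (rf4 d r) (rf4 d s) = grF4 r s := by decide +kernel
  rw [ip4, ip4, this]

theorem ρ_ρ : ∀ r : R4, ρ (ρ r) = r := by decide +kernel

theorem ρ_val : ∀ r : R4, (ρ r).1 = rhoF4 r := by decide +kernel

theorem ex_eq : ∀ r : R4, ex r = expF4 r := by decide +kernel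

theorem lg_ρ : ∀ r : R4, Lg (ρ r) ↔ ¬ Lg r := by decide +kernel

theorem ρ_rev : ∀ r : R4, ρ r.rev = (ρ r).rev := by decide +kernel

theorem ρ_pos : ∀ r : R4, 24 ≤ (ρ r).1 ↔ 24 ≤ r.1 := by decide +kernel

theorem ρ_ip : ∀ r s : R4, 2 * ip4 (ρ r) (ρ s) = ex r * ex s * ip4 r s := by decide +kernel

theorem ρ_rf4 : ∀ d s : R4, ρ (rf4 d s) = rf4 (ρ d) (ρ s) := by decide +kernel

theorem cm_ρ (a b k : R4) (h : Cm a b k) : Cm (ρ a) (ρ b) (ρ k) := by
  have : ∀ a b : R4, (Lg a ↔ Lg b) → 2 * ip4 a b = -ip4 a a → Ad a b (rf4 a b) ∧ Cm (ρ a) (ρ b) (ρ (rf4 a b)) := by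
    decide +kernel
  obtain ⟨h1, h2⟩ := this a b h.2.1 h.ip
  rw [h.1.uniq h1]; exact h2

theorem ot_ρ (a b k : R4) : Ot a b k ↔ Md (ρ a) (ρ b) (ρ k) := by
  have : ∀ a : R4, ¬ Lg a → ∀ b : R4, ¬ Lg b → ∀ k, Lg k →
      (wt a + wt b = wt k ↔ wt (ρ a) + wt (ρ b) = 2 * wt (ρ k)) := by decide +kernel
  simp only [Ot, Md, lg_ρ, not_not, Ad]
  exact ⟨fun h => ⟨h.1, h.2.1, (this a h.1 b h.2.1 k h.2.2.2).1 h.2.2.1, h.2.2.2⟩,
    fun h => ⟨h.1, h.2.1, (this a h.1 b h.2.1 k h.2.2.2).2 h.2.2.1, h.2.2.2⟩⟩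

theorem Ls.ρ {l b k m : R4} (h : Ls l b k m) : Ls (ρ b) (ρ l) (ρ m) (ρ k) := by
  have : ∀ l b : R4, Lg l → ¬ Lg b → ip4 l b = -2 →
      Ls l b (rf4 l b) (rf4 b l) ∧ Ls (SLF.ρ b) (SLF.ρ l) (SLF.ρ (rf4 b l)) (SLF.ρ (rf4 l b)) := by decide +kernel
  obtain ⟨h1, h2⟩ := this l b h.1 h.2.1 h.ip.1
  obtain rfl := h.2.2.1.uniq h1.2.2.1
  obtain rfl := h.2.2.2.uniq h1.2.2.2
  exact h2

theorem yr_ρ : ∀ r s : R4, Yr (ρ r) (ρ s) ↔ Yr r s := by decide +kernel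

/-- an isometry of the root system -/
def Iso4 (w : R4 → R4) : Prop := ∀ r s, ip4 (w r) (w s) = ip4 r s

theorem iso_wd : ∀ L : List R4, Iso4 (wd L)
  | [] => fun _ _ => rfl
  | d :: L => fun r s => (rf4_ip d _ _).trans (iso_wd L r s)

theorem wd_append (L L' : List R4) (s : R4) : wd (L ++ L') s = wd L (wd L' s) := by
  simp [wd, List.foldr_append]

theorem wd_reverse : ∀ (L : List R4) (s : R4), wd L.reverse (wd L s) = s
  | [], _ => rfl
  | d :: L, s => by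
    rw [List.reverse_cons, wd_append]
    show wd L.reverse (rf4 d (rf4 d (wd L s))) = s
    rw [rf4_rf4, wd_reverse L s]

theorem wd_reverse' (L : List R4) (s : R4) : wd L (wd L.reverse s) = s := by
  simpa using wd_reverse L.reverse s

namespace Iso4

variable {w : R4 → R4} (h : Iso4 w)
include h

theorem lg (r : R4) : Lg (w r) ↔ Lg r := by rw [lg_iff, lg_iff, h]

theorem inj : Function.Injective w := fun a b e =>
  eq_of_ip a b (by rw [← h.lg a, e, h.lg]) (by rw [← h a b, ← e, h])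

theorem surj : Function.Surjective w := Finite.surjective_of_injective h.inj

theorem rev (r : R4) : w r.rev = (w r).rev :=
  eq_of_ip _ _ (by rw [h.lg, lg_rev, lg_rev, h.lg]) (by rw [ip4_rev', h, h, ip4_rev', ip4_rev])

theorem ad {a b k : R4} (e : Ad a b k) : Ad (w a) (w b) (w k) := by
  have k0 : ∀ a b k : R4, grF4 k k + grF4 a a + grF4 b b + 2 * grF4 a b = 2 * grF4 k a + 2 * grF4 k b + 4 →
      Ad a b k := by decide +kernel
  have : ∀ a b k : R4, ip4 k k + ip4 a a + ip4 b b + 2 * ip4 a b = 2 * ip4 k a + 2 * ip4 k b → Ad a b k :=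
    fun a b k e => k0 a b k (by simp only [ip4, Int.subNatNat_eq_coe] at e; omega)
  refine this _ _ _ ?_
  simp only [h _ _]
  rw [e.ip k, e.ip' a, e.ip' b, e.ip a, e.ip b, ip4_comm b a]; ring

theorem cm {a b k : R4} (e : Cm a b k) : Cm (w a) (w b) (w k) :=
  ⟨h.ad e.1, by rw [h.lg, h.lg]; exact e.2.1, by rw [h.lg, h.lg]; exact e.2.2⟩

theorem ls {l b k m : R4} (e : Ls l b k m) : Ls (w l) (w b) (w k) (w m) :=
  ⟨(h.lg l).2 e.1, mt (h.lg b).1 e.2.1, h.ad e.2.2.1, h.ad e.2.2.2⟩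

theorem ot {a b m : R4} (e : Ot a b m) : Ot (w a) (w b) (w m) :=
  ⟨mt (h.lg a).1 e.1, mt (h.lg b).1 e.2.1, h.ad e.2.2.1, (h.lg m).2 e.2.2.2⟩

theorem yr (r s : R4) : Yr (w r) (w s) ↔ Yr r s := by simp only [Yr, h _ _, h.lg]

theorem cv (r s : R4) : cv (w r) (w s) = cv r s := by simp only [SLF.cv, h _ _, h.lg]

end Iso4

/-- make a root dominant with the simple reflections of `J` -/
def dom (J : List R4) : ℕ → R4 → List R4
  | 0, _ => []
  | n + 1, r => match J.find? (fun a => ip4 r a < 0) with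
    | none => []
    | some a => dom J n (rf4 a r) ++ [a]

/-- the canonical form of a pair of roots -/
def can (a b : R4) : List R4 :=
  let L := dom [24, 25, 27, 33] 16 a
  dom (if Lg a then [25, 27, 33] else [24, 25, 27]) 10 (wd L b) ++ L

/-- the dominant root -/
def top (a : R4) : R4 := if Lg a then 47 else 44

/-- the second root of the canonical pair -/
def snd (la lb : Bool) (n : ℤ) : R4 :=
  if la then (if lb then (if n = 4 then 47 else if n = 2 then 46 else if n = 0 then 41 else if n = -2 then 23 else 0)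
    else (if n = 2 then 44 else if n = 0 then 37 else 18))
  else (if lb then (if n = 2 then 47 else if n = 0 then 32 else 6)
    else (if n = 2 then 44 else if n = 1 then 40 else if n = 0 then 29 else if n = -1 then 14 else 3))

theorem can_eq : ∀ a b : R4, wd (can a b) a = top a ∧ wd (can a b) b = snd (decide (Lg a)) (decide (Lg b)) (ip4 a b) := by
  decide +kernel

/-- the Weyl group is transitive on pairs of roots with given lengths and inner product -/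
theorem ptrans {a b a' b' : R4} (h1 : Lg a ↔ Lg a') (h2 : Lg b ↔ Lg b') (h : ip4 a b = ip4 a' b') :
    ∃ L, wd L a = a' ∧ wd L b = b' := by
  refine ⟨(can a' b').reverse ++ can a b, ?_, ?_⟩
  · rw [wd_append, (can_eq a b).1, show top a = top a' by simp only [top, h1], ← (can_eq a' b').1, wd_reverse]
  · rw [wd_append, (can_eq a b).2, h, show decide (Lg a) = decide (Lg a') by simp only [h1],
      show decide (Lg b) = decide (Lg b') by simp only [h2], ← (can_eq a' b').2, wd_reverse]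

theorem trans1 {a a' : R4} (h : Lg a ↔ Lg a') : ∃ L, wd L a = a' := by
  refine (ptrans h h ?_).imp fun _ h => h.1
  by_cases l : Lg a
  · rw [(lg_iff a).1 l, (lg_iff a').1 (h.1 l)]
  · rw [(sh_iff a).1 l, (sh_iff a').1 (mt h.2 l)]

end CfsgLib.SLF
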