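import Mathlib
import Cfsg.Agent.Lib.SLF.Rt

/-!
# The Steinberg relations of type `F₄` in characteristic two
-/

set_option autoImplicit false
set_option Elab.async false

namespace CfsgLib.SLF

open Cfsg.Lie CfsgLib.RGD CfsgLib.Stein CfsgLib.Semi CfsgLib.SLE CfsgLib.Weyl CfsgLib.Chev Subgroup

namespace BA4

theorem terms : ∀ r s : R4, s ≠ r → s ≠ r.rev →
    (0 ≤ ip4 r s ∧ normT 2 (chevF4.commTerms r s) = []) ∨
    (Cm r s (rf4 r s) ∧ normT 2 (chevF4.commTerms r s) = [((rf4 r s).1, 1, 1, 1)]) ∨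
    (Ls r s (rf4 r s) (rf4 s r) ∧
      normT 2 (chevF4.commTerms r s) = [((rf4 r s).1, 1, 1, 1), ((rf4 s r).1, 1, 1, 2)]) ∨
    (Ls s r (rf4 s r) (rf4 r s) ∧
      normT 2 (chevF4.commTerms r s) = [((rf4 s r).1, 1, 1, 1), ((rf4 r s).1, 1, 2, 1)]) := by
  decide +kernel

theorem pairing : ∀ d s : R4, chevF4.pairing d s = cv s d := by decide +kernel

theorem refl (d s : R4) : Chev.refl chevF4 d s = rf4 d s := by
  have : ∀ d s : R4, ∀ i < 4,
      chevF4.cartan i (rf4 d s) = chevF4.cartan i s - cv s d * chevF4.cartan i d := by decide +kernel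
  exact (eq_refl_of_cartan d.2 s.2 (rf4 d s).2 fun i hi => by rw [pairing]; exact this d s i hi).symm

theorem neg : ∀ r : R4, chevF4.neg r = r.rev.1 := by decide +kernel

theorem ip_self : ∀ r : R4, 0 < ip4 r r := by decide +kernel

theorem ex_cv : ∀ a b : R4, a ≠ b → b ≠ a.rev → ∃ d, cv b d = 0 ∧ (cv a d = 1 ∨ cv a d = 2) := by
  decide +kernel

theorem ex_cv1 : ∀ a : R4, ∃ d, cv a d = 1 := by decide +kernel

theorem cv_rev : ∀ s d : R4, cv s.rev d = -cv s d := by decide +kernel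

theorem cv_add {a b k : R4} (h : Ad a b k) (d : R4) : cv k d = cv a d + cv b d := by
  have e : ∀ s d : R4, Lg d → ip4 s d % 2 = 0 := by decide +kernel
  unfold cv
  split_ifs with l
  · have := e a d l
    rw [h.ip]; omega
  · exact h.ip d

theorem ls_ip {l b k m : R4} (h : Ls l b k m) : ip4 k m = 2 ∧ ip4 b k = 0 ∧ ip4 b m = 2 ∧ ip4 l k = 2 ∧ ip4 l m = 0 := by
  have e1 := (sh_iff b).1 h.2.1
  have e2 := (lg_iff l).1 h.1
  have e3 := h.ip.1
  have e4 : ip4 b k = 0 := by rw [h.2.2.1.ip', ip4_comm b l]; omega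
  have e5 : ip4 l k = 2 := by rw [h.2.2.1.ip']; omega
  refine ⟨?_, e4, ?_, e5, ?_⟩
  · rw [h.2.2.2.ip', (sh_iff k).1 h.ip.2.1, ip4_comm k b]; omega
  · rw [h.2.2.2.ip']; omega
  · rw [h.2.2.2.ip']; omega

theorem cm_ip {a b k : R4} (h : Cm a b k) : ip4 a b < 0 ∧ 0 < ip4 a k ∧ 0 < ip4 b k := by
  have e1 := h.ip
  have e2 := h.symm.ip
  have e3 := ip_self a
  have e4 := ip_self b
  rw [h.1.ip' a, h.1.ip' b]
  omega

variable {K : Type} [Field K] [CharP K 2] {G : Type*} [Group G]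

theorem word {y : ℕ → K → G} (h0 : ∀ r < 48, y r 0 = 1) (r s : R4) (t u : K) :
    wordG y (chevF4.commWord K r s t u) = wordG y ((normT 2 (chevF4.commTerms r s)).map (evalT t u)) := by
  rw [commWord_eq, CharTwo.neg_eq, wordG_normT (by simpa using CharTwo.two_eq_zero (R := K)) y _ _ _
    fun c hc => h0 _ (mem_commTerms_spec rtOKF4 r.2 s.2 hc).1]

theorem rel_iff {y : ℕ → K → G} : Rel12 chevF4 y ↔ Rel4 fun (r : R4) (c : K) => y r c := by
  refine ⟨fun hy => ?_, fun hy => ?_⟩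
  · have inv : ∀ (r : R4) c, (y r c)⁻¹ = y r c := fun r c => by rw [← hy.neg r.2, CharTwo.neg_eq]
    have key : ∀ r s : R4, s ≠ r → s ≠ r.rev → ∀ t u, y s u * y r t * (y s u)⁻¹ * (y r t)⁻¹ =
        wordG y ((normT 2 (chevF4.commTerms r s)).map (evalT t u)) := fun r s h1 h2 t u => by
      rw [← word (fun _ hr => hy.zero hr), ← hy.comm r r.2 s s.2 (fun e => h1 (Fin.ext e))
        (fun e => h2 (Fin.ext (e.trans (neg r)))), inv, inv]
    have ne : ∀ {a b : R4}, ip4 a b < 0 → a ≠ b := fun {a b} h e => by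
      have := ip_self a; rw [← e] at h; omega
    refine ⟨fun r t u => (hy.add r r.2 t u).symm, fun a b k h u v => ?_, fun l b k m h c v => ?_,
      fun a b h u v => ?_⟩
    · have h2 : a ≠ b.rev := fun e => by
        have := h.1; rw [Ad, e, wt_rev] at this
        have h1 := wt_pos k; have h2 := wt_pos k.rev; rw [wt_rev, Fin.val_rev] at h2; omega
      rw [key b a (ne (cm_ip h).1) h2]
      rcases terms b a (ne (cm_ip h).1) h2 with e | e | e | e
      · have := (cm_ip h.symm).1; omega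
      · rw [e.2, h.1.symm.uniq e.1.1]; simp [wordG, evalT, mul_comm]
      · exact absurd (h.2.1.2 e.1.1) e.1.2.1
      · exact absurd (h.2.1.1 e.1.1) e.1.2.1
    · have h1 : l ≠ b := fun e => h.2.1 (e ▸ h.1)
      have h2 : l ≠ b.rev := fun e => h.2.1 ((lg_rev b).1 (e ▸ h.1))
      rw [key b l h1 h2]
      rcases terms b l h1 h2 with e | e | e | e
      · have := h.ip.1; rw [ip4_comm] at this; omega
      · exact absurd (e.1.2.1.2 h.1) h.2.1
      · exact absurd e.1.1 h.2.1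
      · obtain rfl := h.2.2.1.uniq e.1.2.2.1
        obtain rfl := h.2.2.2.uniq e.1.2.2.2
        rw [e.2]; simp [wordG, evalT, mul_comm]
    · by_cases h1 : a = b
      · rw [h1, hy.add b b.2, hy.add b b.2, add_comm]
      have h2 : a ≠ b.rev := fun e => by
        have := ip_self b; rw [e, ip4_rev] at h; omega
      have := key b a h1 h2 v u
      rcases terms b a h1 h2 with e | e | e | e
      · rwa [e.2, List.map_nil, wordG_nil, mul_inv_eq_one, mul_inv_eq_iff_eq_mul] at this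
      · have := (cm_ip e.1).1; rw [ip4_comm] at this; omega
      · have := e.1.ip.1; rw [ip4_comm] at this; omega
      · have := e.1.ip.1; omega
  · have z : ∀ r < 48, y r 0 = 1 := fun r hr => by
      have := hy.add ⟨r, hr⟩ 0 0
      rw [add_zero] at this
      exact mul_eq_left.1 this.symm
    have inv : ∀ (r : R4) c, (y r c)⁻¹ = y r c := fun r c => inv_eq_of_mul_eq_one_right (by
      rw [← hy.add, CharTwo.add_self_eq_zero, z _ r.2])
    refine ⟨fun r hr t u => (hy.add ⟨r, hr⟩ t u).symm, fun r hr s hs h1 h2 t u => ?_⟩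
    lift r to R4 using hr
    lift s to R4 using hs
    rw [word z, show (y s u)⁻¹ * (y r t)⁻¹ * y s u * y r t = y s u * y r t * (y s u)⁻¹ * (y r t)⁻¹ by
      rw [inv, inv]]
    rcases terms r s (fun e => h1 (congrArg Fin.val e)) fun e => h2 ((congrArg Fin.val e).trans (neg r).symm)
      with e | e | e | e
    · rw [e.2, List.map_nil, wordG_nil, mul_inv_eq_one, mul_inv_eq_iff_eq_mul]
      exact (hy.com _ _ e.1 t u).symm
    · rw [e.2, hy.cm _ _ _ e.1.symm]; simp [wordG, evalT, mul_comm]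
    · have := hy.ls _ _ _ _ e.1 t u
      rw [hy.com (rf4 r s) (rf4 s r) (by rw [(ls_ip e.1).1]; norm_num)] at this
      rw [e.2, show y s u * y r t * (y s u)⁻¹ * (y r t)⁻¹ = (y r t * y s u * (y r t)⁻¹ * (y s u)⁻¹)⁻¹ by group, this,
        mul_inv_rev, inv, inv]
      simp [wordG, evalT]
    · rw [e.2, hy.ls _ _ _ _ e.1]; simp [wordG, evalT, mul_comm]

theorem rel_xG : Rel4 fun (r : R4) (c : K) => xG chevF4 K r c := rel_iff.1 (rel12_xG rtOKF4)

theorem n_conj (d s : R4) {c : K} (hc : c ≠ 0) (u : K) :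
    (gSys K rtOKF4 genOKF4).n d c * xG chevF4 K s u * ((gSys K rtOKF4 genOKF4).n d c)⁻¹ =
      xG chevF4 K (rf4 d s) (c ^ (-cv s d) * u) := by
  have e := nU_conj_xU (D := chevF4) d.2 s.2 hc u
  have e2 : ((eta chevF4 d s : ℤ) : K) = 1 := by
    rcases eta_eq (D := chevF4) d.2 s.2 with k | k <;> simp [k, CharTwo.neg_eq]
  rw [e2, one_mul, refl, pairing] at e
  exact Subtype.ext e

end BA4

end CfsgLib.SLF
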