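import Mathlib
import Cfsg.Agent.Lib.SLF.BasA

/-!
# The model: relations, Weyl group and torus
-/

set_option autoImplicit false
set_option linter.unusedSectionVars false

namespace CfsgLib.SLF

open Cfsg.Lie CfsgLib.RGD CfsgLib.Stein CfsgLib.Semi CfsgLib.SLE CfsgLib.UFP Subgroup
open scoped commutatorElement Pointwise

universe u

variable {F : Type} [Field F] [Finite F] [CharP F 2] {G : Type u} [Group G] [Finite G]
  {S : StSys ΦF4 F G}

variable (F) in
/-- the root elements of the model -/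
def gS4 : StSys ΦF4 F (chevF4.group F) := gSys F Weyl.rtOKF4 genOKF4

theorem gS4_x (r : R4) (c : F) : (gS4 F).x r c = xG chevF4 F r c := rfl

theorem gS4_grp : (gS4 F).grp = ⊤ := (cover_id Weyl.rtOKF4).sys_grp Weyl.rtOKF4 genOKF4

theorem gS4_amb : Amb (gS4 F) := ⟨MonoidHom.id _, Function.injective_id, fun _ _ => rfl⟩

namespace Amb

variable (A : Amb S)
include A

theorem ba_map : ∃ φ : chevF4.group F →* G, Function.Injective φ ∧ φ.range = S.grp ∧
    ∀ r c, φ ((gS4 F).x r c) = S.x r c := by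
  obtain ⟨φ, h1, h2⟩ := A
  refine ⟨φ, h1, ?_, h2⟩
  rw [MonoidHom.range_eq_map, ← gS4_grp]
  exact map_UU φ h2 _

theorem nd : S.Nondeg := by
  obtain ⟨φ, h1, -, h2⟩ := A.ba_map
  intro i
  obtain ⟨t, ht⟩ := (show (gS4 F).Nondeg from gSys_nondeg (K := F) Weyl.rtOKF4 genOKF4) i
  refine ⟨t, fun k => ht ?_⟩
  rw [← map_B φ h2, ← h2] at k
  exact (mem_map_iff_mem h1).1 k

theorem rel : Rel4 S.x := by
  obtain ⟨φ, -, h2⟩ := A
  have R := BA4.rel_xG (K := F)
  refine ⟨S.x_add, fun a b k h u v => ?_, fun l b k m h c v => ?_, fun a b h u v => ?_⟩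
  · simp only [← h2, ← map_inv, ← map_mul, R.cm a b k h]
  · simp only [← h2, ← map_inv, ← map_mul, R.ls l b k m h]
  · simp only [← h2, ← map_mul, R.com a b h]

theorem r3 : R3 S := by
  obtain ⟨φ, -, -, h2⟩ := A.ba_map
  exact ClSys.r3_map φ h2 (gSys_r3 _ _)

theorem simple : IsSimpleGroup S.grp := by
  obtain ⟨φ, h1, h3, -⟩ := A.ba_map
  have := isSimpleGroup_F4 (F := F)
  rw [← h3]
  exact (MonoidHom.ofInjective h1).symm.isSimpleGroup

theorem Z_triv : S.grp ⊓ CL S = ⊥ := by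
  obtain ⟨φ, h1, h3, h2⟩ := A.ba_map
  refine eq_bot_iff.2 fun z hz => ?_
  obtain ⟨g, rfl⟩ := h3.ge hz.1
  rw [eq_one_of_commute Weyl.rtOKF4 (g := g) fun r hr t => h1 ?_, map_one]
  · exact one_mem _
  · rw [map_mul, map_mul]
    have := hz.2 _ (S.x_mem_grp ⟨r, hr⟩ t)
    rw [← h2] at this
    exact this.symm

theorem equiv : Nonempty (S.grp ≃* chevF4.group F) := by
  obtain ⟨φ, h1, h3, -⟩ := A.ba_map
  rw [← h3]
  exact ⟨(MonoidHom.ofInjective h1).symm⟩

theorem x_sq (r : R4) (c : F) : S.x r c * S.x r c = 1 := by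
  rw [← S.x_add, CharTwo.add_self_eq_zero, S.x_zero]

theorem x_inv (r : R4) (c : F) : (S.x r c)⁻¹ = S.x r c := by
  exact inv_eq_of_mul_eq_one_right (A.x_sq r c)

theorem x_eq_one {r : R4} {c : F} : S.x r c = 1 ↔ c = 0 := by
  exact ⟨A.nd.eq_zero_of_x_eq_one, fun h => h ▸ S.x_zero r⟩

theorem x_inj {r s : R4} {c d : F} (hc : c ≠ 0) (h : S.x r c = S.x s d) : r = s ∧ c = d := by
  obtain rfl := A.nd.root_eq_of_x_eq hc h
  exact ⟨rfl, A.nd.x_injective r h⟩

theorem com {a b : R4} (h : 0 ≤ ip4 a b) (u v : F) : S.x a u * S.x b v = S.x b v * S.x a u := by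
  exact A.rel.com a b h u v

theorem conj_cm {a b k : R4} (h : Cm a b k) (u v : F) :
    S.x a u * S.x b v * (S.x a u)⁻¹ = S.x b v * S.x k (u * v) := by
  rw [A.com (a := b) (b := k) (BA4.cm_ip h).2.2.le, ← A.rel.cm a b k h, inv_mul_cancel_right]

theorem conj_ls {l b k m : R4} (h : Ls l b k m) (c v : F) :
    S.x l c * S.x b v * (S.x l c)⁻¹ = S.x b v * (S.x k (c * v) * S.x m (c * v ^ 2)) := by
  obtain ⟨-, h1, h2, -⟩ := BA4.ls_ip h
  rw [← mul_assoc, A.com (a := b) (b := k) h1.ge, mul_assoc (S.x k _), A.com (a := b) (b := m) (by omega), ← mul_assoc,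
    ← A.rel.ls l b k m h, inv_mul_cancel_right]

theorem conj_sl {l b k m : R4} (h : Ls l b k m) (c v : F) :
    S.x b v * S.x l c * (S.x b v)⁻¹ = S.x l c * (S.x k (c * v) * S.x m (c * v ^ 2)) := by
  obtain ⟨h0, -, -, h1, h2⟩ := BA4.ls_ip h
  have e := A.rel.ls l b k m h c v
  rw [← e, ← mul_assoc, ← mul_assoc, ← mul_assoc, A.x_sq, one_mul, A.x_inv l]

theorem n_eq (d : R4) : S.n d 1 = S.x d 1 * S.x d.rev 1 * S.x d 1 := by
  rw [StSys.n, neg4, inv_one, CharTwo.neg_eq]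

theorem n_conj (d s : R4) {c : F} (hc : c ≠ 0) (u : F) :
    S.n d c * S.x s u * (S.n d c)⁻¹ = S.x (rf4 d s) (c ^ (-cv s d) * u) := by
  obtain ⟨φ, -, -, h2⟩ := A.ba_map
  rw [← map_n φ h2, ← h2, ← h2, ← map_inv, ← map_mul, ← map_mul]
  exact congrArg φ (BA4.n_conj d s hc u)

theorem ex_n (d : R4) : Ex S (S.n d 1) (rf4 d) := by
  intro r c
  rw [A.n_conj d r one_ne_zero, one_zpow, one_mul]

theorem n_sq (d : R4) : S.n d 1 * S.n d 1 = 1 := by
  rw [mul_eq_one_iff_eq_inv, ← S.n_neg, CharTwo.neg_eq]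

theorem ex_nw (L : List R4) : Ex S (nw S L) (wd L) := by
  induction L with
  | nil => intro r c; simp [nw, wd]
  | cons d L ih =>
    intro r c
    rw [show nw S (d :: L) = S.n d 1 * nw S L by simp [nw], show wd (d :: L) r = rf4 d (wd L r) from rfl,
      ← A.ex_n d, ← ih r c]
    group

theorem h_conj (d s : R4) {c : F} (hc : c ≠ 0) (u : F) :
    S.h d c * S.x s u * (S.h d c)⁻¹ = S.x s (c ^ cv s d * u) := by
  have e : cv (rf4 d s) d = -cv s d := by
    have := (iso_wd [d]).cv s d.rev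
    have k : ∀ s d : R4, cv s d.rev = -cv s d := by decide +kernel
    rw [k s] at this
    rw [← this]
    show _ = cv (rf4 d s) (rf4 d d.rev)
    rw [← rf4_self, rf4_rf4]
  have e2 := A.ex_n d (rf4 d s) u
  rw [rf4_rf4] at e2
  rw [S.h_eq, ← e2, show ∀ a b y : G, a * b⁻¹ * (b * y * b⁻¹) * (a * b⁻¹)⁻¹ = a * y * a⁻¹ by
    intros; group, A.n_conj d _ hc, rf4_rf4, e, neg_neg]

/-- an element of `N` is a torus element times a word in the fundamental reflections -/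
theorem exists_nw {n : G} (hn : n ∈ S.N) :
    ∃ h ∈ S.H, ∃ L : List R4, (∀ d ∈ L, d ∈ [24, 25, 27, 33]) ∧ n = h * nw S L := by
  obtain ⟨a, ha, L, rfl⟩ := S.mem_N_iff.1 hn
  refine ⟨a, ha, L.map ΦF4.simple, fun d hd => ?_, by rw [nw, List.map_map]; rfl⟩
  obtain ⟨i, -, rfl⟩ := List.mem_map.1 hd
  obtain ⟨e0, e1, e2, e3⟩ := simple4
  fin_cases i <;> simp [e0, e1, e2, e3]

/-- the torus acts by characters of the root lattice -/
theorem H_conj {h : G} (hh : h ∈ S.H) : ∃ d : R4 → F, (∀ r, d r ≠ 0) ∧ (∀ r, d r.rev = (d r)⁻¹) ∧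
    (∀ a b k, Ad a b k → d k = d a * d b) ∧ ∀ r c, h * S.x r c * h⁻¹ = S.x r (d r * c) := by
  induction hh using closure_induction with
  | mem g hg =>
    obtain ⟨d, c, hc, rfl⟩ := hg
    exact ⟨fun r => c ^ cv r d, fun r => zpow_ne_zero _ hc, fun r => by simp only [BA4.cv_rev, zpow_neg],
      fun a b k h => by simp only [BA4.cv_add h, zpow_add₀ hc], fun r u => A.h_conj d r hc u⟩
  | one => exact ⟨fun _ => 1, by simp, by simp, by simp, by simp⟩
  | mul a b _ _ ha hb =>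
    obtain ⟨d, d1, d2, d3, d4⟩ := ha
    obtain ⟨e, e1, e2, e3, e4⟩ := hb
    refine ⟨fun r => d r * e r, fun r => mul_ne_zero (d1 r) (e1 r), fun r => by simp only [d2, e2, mul_inv],
      fun a b k h => by simp only [d3 a b k h, e3 a b k h]; ring, fun r c => ?_⟩
    rw [mul_assoc (d r), ← d4, ← e4]; group
  | inv a _ ha =>
    obtain ⟨d, d1, d2, d3, d4⟩ := ha
    refine ⟨fun r => (d r)⁻¹, fun r => inv_ne_zero (d1 r), fun r => by simp only [d2],
      fun a b k h => by simp only [d3 a b k h, mul_inv], fun r c => ?_⟩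
    have := d4 r ((d r)⁻¹ * c)
    rw [mul_inv_cancel_left₀ (d1 r)] at this
    rw [← this]; group

/-- two different, non-opposite roots can be scaled independently -/
theorem exists_H {a b : R4} (h1 : a ≠ b) (h2 : b ≠ a.rev) {c e : F} (hc : c ≠ 0) (he : e ≠ 0) :
    ∃ h ∈ S.H, (∀ u, h * S.x a u * h⁻¹ = S.x a (c * u)) ∧ ∀ u, h * S.x b u * h⁻¹ = S.x b (e * u) := by
  have key : ∀ {a b : R4}, a ≠ b → b ≠ a.rev → ∀ {c : F}, c ≠ 0 →
      ∃ h ∈ S.H, (∀ u, h * S.x a u * h⁻¹ = S.x a (c * u)) ∧ ∀ u, h * S.x b u * h⁻¹ = S.x b u := by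
    intro a b h1 h2 c hc
    obtain ⟨d, e1, e2 | e2⟩ := BA4.ex_cv a b h1 h2
    · exact ⟨_, S.h_mem_H d hc, fun u => by rw [A.h_conj d a hc, e2, zpow_one],
        fun u => by rw [A.h_conj d b hc, e1, zpow_zero, one_mul]⟩
    · obtain ⟨c, rfl⟩ := (bijective_frobenius F 2).2 c
      have hc' : c ≠ 0 := fun e => hc (by rw [e, map_zero])
      exact ⟨_, S.h_mem_H d hc', fun u => by rw [A.h_conj d a hc', e2, frobenius_def, zpow_ofNat],
        fun u => by rw [A.h_conj d b hc', e1, zpow_zero, one_mul]⟩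
  obtain ⟨g, hg, g1, g2⟩ := key h1 h2 hc
  obtain ⟨k, hk, k1, k2⟩ := key h1.symm (fun e => h2 (by rw [e, Fin.rev_rev])) he
  refine ⟨g * k, mul_mem hg hk, fun u => ?_, fun u => ?_⟩
  · rw [← g1, ← congrArg (fun y => g * y * g⁻¹) (k2 u)]; group
  · rw [← g2 (e * u), ← k1]; group

theorem H_pow {a : G} (ha : a ∈ S.H) : a ^ (Nat.card F - 1) = 1 := by
  obtain ⟨t, rfl⟩ := (A.r3.range_hHom (Finset.nodup_toList Finset.univ) (by simp)).ge ha
  rw [← map_pow, show t ^ (Nat.card F - 1) = 1 from funext fun i => ?_, map_one]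
  rw [Pi.pow_apply, ← Nat.card_units, pow_card_eq_one', Pi.one_apply]

theorem H_odd : Odd (Nat.card S.H) := by
  rw [← A.r3.range_hHom (Finset.nodup_toList Finset.univ) (by simp)]
  refine Odd.of_dvd_nat ?_ (card_range_dvd _)
  rw [Nat.card_fun, Nat.card_units]
  exact (BA.odd_q F).pow

theorem H_two (hq : Nat.card F = 2) : S.H = ⊥ := by
  exact eq_bot_iff.2 fun a ha => by simpa [hq] using A.H_pow ha

theorem exists_conj_x {r s : R4} (h : Lg r ↔ Lg s) {c : F} (hc : c ≠ 0) :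
    ∃ h ∈ S.H, ∃ L, wd L r = s ∧ h * nw S L * S.x r 1 * (h * nw S L)⁻¹ = S.x s c := by
  obtain ⟨L, rfl⟩ := trans1 h
  obtain ⟨d, hd⟩ := BA4.ex_cv1 (wd L r)
  refine ⟨_, S.h_mem_H d hc, L, rfl, ?_⟩
  have := A.h_conj d (wd L r) hc 1
  rw [hd, zpow_one, mul_one, ← A.ex_nw L] at this
  rw [← this]; group

end Amb

theorem nw_mem_N (L : List R4) : nw S L ∈ S.N := by
  exact list_prod_mem fun g hg => by
    obtain ⟨d, -, rfl⟩ := List.mem_map.1 hg
    exact S.n_one_mem_N d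

theorem nw_mem (L : List R4) : nw S L ∈ S.grp := by
  exact S.N_le_grp (nw_mem_N L)

theorem nw_mem_UU {T : Set R4} {L : List R4} (h : ∀ d ∈ L, d ∈ T ∧ d.rev ∈ T) : nw S L ∈ S.UU T := by
  exact list_prod_mem fun g hg => by
    obtain ⟨d, hd, rfl⟩ := List.mem_map.1 hg
    exact S.n_mem_UU (h d hd).1 (neg4 d ▸ (h d hd).2) 1

theorem h_mem_UU {T : Set R4} {d : R4} (h : d ∈ T) (h' : d.rev ∈ T) (c : F) : S.h d c ∈ S.UU T := by
  exact mul_mem (S.n_mem_UU h (neg4 d ▸ h') _) (S.n_mem_UU h (neg4 d ▸ h') _)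

theorem Ex.conj_mem {g : G} {w : R4 → R4} (h : Ex S g w) {T T' : Set R4} (hT : ∀ r ∈ T, w r ∈ T')
    {u : G} (hu : u ∈ S.UU T) : g * u * g⁻¹ ∈ S.UU T' := by
  exact (S.UU_le_iff (K := (S.UU T').comap (MulAut.conj g).toMonoidHom)).2
    (fun r hr c => (h r c).symm.subst (motive := (· ∈ S.UU T')) (S.x_mem_UU (hT r hr) _)) hu

theorem Amb.ex_nw_inv (A : Amb S) (L : List R4) : Ex S (nw S L)⁻¹ (wd L.reverse) := by
  intro r c
  have := A.ex_nw L (wd L.reverse r) c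
  rw [wd_reverse'] at this
  rw [← this]; group

end CfsgLib.SLF
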