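import Mathlib
import Cfsg.Agent.Lib.SLF.Bas
import Cfsg.Agent.Lib.SLE.AutF
import Cfsg.Agent.Lib.Stein.Center
import Cfsg.Agent.Lib.Core.Cores

/-!
# Systems from relations; duality
-/

set_option autoImplicit false
set_option linter.unusedSectionVars false

namespace CfsgLib.SLF

open Cfsg.Lie CfsgLib.RGD CfsgLib.Stein CfsgLib.Semi CfsgLib.SLE CfsgLib.UFP Subgroup
open scoped commutatorElement Pointwise

universe u

variable {F : Type} [Field F] [Finite F] [CharP F 2] {G : Type u} [Group G] [Finite G]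
  {S : StSys ΦF4 F G}

/-- a non-trivial family with the relations generates the Chevalley group -/
theorem kit {y : R4 → F → G} (hy : Rel4 y) (h : ∃ r c, y r c ≠ 1) :
    ∃ S : StSys ΦF4 F G, S.x = y ∧ Amb S := by
  let y' : ℕ → F → G := fun r t => if hr : r < 48 then y ⟨r, hr⟩ t else 1
  have e : ∀ (r : R4) t, y' r t = y r t := fun r t => dif_pos r.2
  obtain ⟨f, hf⟩ := exists_hom_cover Weyl.rtOKF4 (y := y') (BA4.rel_iff.2 (by simpa only [e] using hy))
  obtain ⟨θ, C⟩ := exists_cover_cover (K := F) Weyl.rtOKF4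
  have hZ := C.center_eq_bot Weyl.rtOKF4 genOKF4 (C.rel3 Weyl.rtOKF4 genOKF4)
    (fun k j => (([[2, 3, 2, 1], [3, 6, 4, 2], [4, 8, 6, 3], [2, 4, 3, 2]] : List (List ℤ)).getD k []).getD j 0)
    (by decide +kernel)
  obtain ⟨φ, hφ⟩ := C.exists_descend Weyl.rtOKF4 genOKF4 f fun z hz => by
    rw [hZ, mem_bot] at hz; rw [hz, map_one]
  have k : ∀ (r : R4) c, φ (xG chevF4 F r c) = y r c := fun r c => by
    rw [← C.map r r.2, hφ, hf r r.2, e]
  refine ⟨ClSys.mapSys (gS4 F) φ, funext fun r => funext (k r), φ, ?_, fun _ _ => rfl⟩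
  have := isSimpleGroup_F4 (F := F)
  rw [← MonoidHom.ker_eq_bot_iff]
  refine (Normal.eq_bot_or_eq_top inferInstance).resolve_right fun k1 => ?_
  obtain ⟨r, c, hc⟩ := h
  exact hc ((k r c).symm.trans (MonoidHom.mem_ker.1 (k1 ▸ mem_top _)))

theorem Rel4.map {K : Type} [CommRing K] {y : R4 → K → G} (hy : Rel4 y) {G' : Type*} [Group G']
    (f : G →* G') : Rel4 fun r c => f (y r c) := by
  exact ⟨fun r u v => by rw [hy.add, map_mul], fun a b r h u v => by rw [← hy.cm a b r h]; simp,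
    fun l b k m h c v => by rw [← map_mul f (y k _), ← hy.ls l b k m h]; simp,
    fun a b h u v => by rw [← map_mul, hy.com a b h, map_mul]⟩

theorem Rel4.of_map {K : Type} [CommRing K] {y : R4 → K → G} {G' : Type*} [Group G']
    (f : G →* G') (hf : Function.Injective f) (hy : Rel4 fun r c => f (y r c)) : Rel4 y := by
  exact ⟨fun r u v => hf (by rw [map_mul]; exact hy.add r u v), fun a b r h u v => hf (by
    rw [← hy.cm a b r h]; simp), fun l b k m h c v => hf (by rw [map_mul f (y k _), ← hy.ls l b k m h]; simp),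
    fun a b h u v => hf (by simpa using hy.com a b h u v)⟩

theorem rel4_xG : Rel4 fun (r : R4) (c : F) => xG chevF4 F r c := by
  exact BA4.rel_xG

omit [Finite F] in
/-- lifting the root elements through a central kernel of odd order -/
theorem Rel4.exists_lift {L X : Type*} [Group L] [Group X] (π : L →* X)
    (hs : Function.Surjective π) (hc : π.ker ≤ center L) (ho : Odd (Nat.card π.ker))
    {x : R4 → F → X} (hx : Rel4 x) : ∃ y : R4 → F → L, Rel4 y ∧ ∀ r c, π (y r c) = x r c := by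
  have pw : ∀ z : L, π z = 1 → z ^ Nat.card π.ker = 1 := fun z hz => by
    simpa using congrArg Subtype.val (pow_card_eq_one' (x := (⟨z, hz⟩ : π.ker)))
  obtain ⟨m, hm⟩ := ho
  have ex : ∀ a : X, a * a = 1 → ∃ b, b * b = 1 ∧ π b = a := fun a ha => by
    obtain ⟨b, rfl⟩ := hs a
    refine ⟨b ^ Nat.card π.ker, ?_, ?_⟩
    · rw [← (Commute.refl b).mul_pow, pw _ (by rw [map_mul, ha])]
    · rw [map_pow, hm, pow_succ, pow_mul, pow_two, ha, one_pow, one_mul]
  have un : ∀ b b' : L, b * b = 1 → b' * b' = 1 → π b = π b' → b = b' := fun b b' h h' e => by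
    have h1 : π (b⁻¹ * b') = 1 := by rw [map_mul, map_inv, e, inv_mul_cancel]
    have h2 := mem_center_iff.1 (hc h1) b
    have h3 : (b⁻¹ * b') * (b⁻¹ * b') = 1 := by
      have e1 : b' = b * (b⁻¹ * b') := by group
      generalize b⁻¹ * b' = z at e1 h2
      rw [e1, mul_assoc, ← mul_assoc z, ← h2, ← mul_assoc, ← mul_assoc, h, one_mul] at h'
      exact h'
    have h4 := pw _ h1
    rw [hm, pow_succ, pow_mul, pow_two, h3, one_pow, one_mul] at h4
    exact inv_mul_eq_one.1 h4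
  have xs : ∀ r c, x r c * x r c = 1 := fun r c => by
    have := hx.add r 0 0
    rw [add_zero, left_eq_mul] at this
    rw [← hx.add, CharTwo.add_self_eq_zero, this]
  choose y h1 h2 using fun r c => ex _ (xs r c)
  have cj : ∀ a b : L, b * b = 1 → a * b * a⁻¹ * (a * b * a⁻¹) = 1 := fun a b h => by
    rw [conj_mul, h]; simp
  have cm : ∀ a b u v, 0 ≤ ip4 a b → y a u * y b v = y b v * y a u :=
    fun a b u v h => mul_inv_eq_iff_eq_mul.1 (un _ _ (cj _ _ (h1 _ _)) (h1 _ _) (by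
      rw [map_mul, map_mul, map_inv, h2, h2, hx.com a b h, mul_inv_cancel_right]))
  have sq : ∀ a b : L, a * a = 1 → b * b = 1 → a * b = b * a → a * b * (a * b) = 1 :=
    fun a b ha hb h => by rw [mul_assoc, ← mul_assoc b, ← h, mul_assoc, hb, mul_one, ha]
  refine ⟨y, ⟨fun r u v => un _ _ (h1 _ _) (sq _ _ (h1 _ _) (h1 _ _) (cm _ _ _ _ (BA4.ip_self r).le))
    (by rw [map_mul, h2, h2, h2, hx.add]), fun a b r h u v => ?_, fun l b k m h c v => ?_,
    fun a b h u v => cm _ _ _ _ h⟩, h2⟩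
  · rw [mul_inv_eq_iff_eq_mul]
    refine un _ _ (cj _ _ (h1 _ _)) (sq _ _ (h1 _ _) (h1 _ _) (cm _ _ _ _ (BA4.cm_ip h).2.2.le).symm) ?_
    rw [map_mul, map_mul, map_mul, map_inv, h2, h2, h2, ← hx.cm a b r h, inv_mul_cancel_right]
  · obtain ⟨e0, e1, e2, -⟩ := BA4.ls_ip h
    rw [mul_inv_eq_iff_eq_mul]
    refine un _ _ (cj _ _ (h1 _ _)) (sq _ _ (sq _ _ (h1 _ _) (h1 _ _) (cm _ _ _ _ (by omega))) (h1 _ _) ?_) ?_
    · rw [mul_assoc, ← cm b m _ _ (by omega), ← mul_assoc, ← cm b k _ _ (by omega), mul_assoc]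
    · rw [map_mul, map_mul, map_mul, map_mul, map_inv, h2, h2, h2, h2, ← hx.ls l b k m h, inv_mul_cancel_right]

/-- the root elements lift to a central extension with kernel of odd order -/
theorem exists_sys {L : Subgroup G} (hL : Cfsg.IsQuasisimple L)
    (e : (L ⧸ Cfsg.oddCore L) ≃* chevF4.group F) : ∃ S : StSys ΦF4 F G, Amb S ∧ S.grp = L := by
  set π := e.toMonoidHom.comp (QuotientGroup.mk' (Cfsg.oddCore L)) with hπ
  have hs : Function.Surjective π := e.surjective.comp (QuotientGroup.mk'_surjective _)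
  have hk : π.ker = Cfsg.oddCore L := by
    rw [hπ, ← MonoidHom.comap_ker, (MonoidHom.ker_eq_bot_iff _).2 e.injective]
    exact QuotientGroup.ker_mk' _
  have hn : xG chevF4 F (47 : R4) 1 ≠ 1 := fun k => one_ne_zero ((gS4_amb (F := F)).x_eq_one.1 k)
  have hc : π.ker ≤ center L := by
    have := hL.2
    have := hL.1
    rcases ((inferInstance : π.ker.Normal).map _ (QuotientGroup.mk'_surjective (center L))).eq_bot_or_eq_top
      with k | k
    · rwa [Subgroup.map_eq_bot_iff, QuotientGroup.ker_mk'] at k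
    · exfalso
      have k1 : π.ker ⊔ center L = ⊤ := by
        rw [← QuotientGroup.ker_mk' (center L), ← comap_map_eq, k, comap_top]
      have k2 : commutator L ≤ π.ker := by
        rw [_root_.commutator_def, ← k1, commutator_le]
        intro a ha b hb
        rw [← SetLike.mem_coe, mul_normal] at ha hb
        obtain ⟨a, ha, z, hz, rfl⟩ := ha
        obtain ⟨b, hb, w, hw, rfl⟩ := hb
        have hz' : π z ∈ center (chevF4.group F) := mem_center_iff.2 fun g => by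
          obtain ⟨g, rfl⟩ := hs g
          rw [← map_mul, ← map_mul, mem_center_iff.1 hz]
        rw [MonoidHom.mem_ker, map_commutatorElement, map_mul, map_mul, show π a = 1 from ha,
          show π b = 1 from hb, one_mul, one_mul,
          commutatorElement_eq_one_iff_mul_comm, mem_center_iff.1 hz']
      obtain ⟨b, hb⟩ := hs (xG chevF4 F (47 : R4) 1)
      exact hn (hb ▸ k2 (hL.1.commutator_eq_top ▸ mem_top b))
  obtain ⟨y, hy, k⟩ := (rel4_xG (F := F)).exists_lift π hs hc (hk ▸ Core.odd_card_oddCore L)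
  obtain ⟨S, e1, A⟩ := kit (hy.map L.subtype) ⟨47, 1, fun k1 => hn (by
    rw [← k, show y 47 1 = 1 from Subtype.ext k1, map_one])⟩
  refine ⟨S, A, ?_⟩
  rw [StSys.grp, ← UUx_eq, e1, ← map_UUx y _ L.subtype _ fun _ _ _ => rfl]
  suffices UUx y Set.univ = ⊤ by rw [this, ← MonoidHom.range_eq_map, range_subtype]
  have k1 : UUx y Set.univ ⊔ π.ker = ⊤ := by
    rw [← comap_map_eq, map_UUx y _ π _ fun r _ c => k r c,
      show UUx (fun (r : R4) (c : F) => xG chevF4 F r c) Set.univ = ⊤ from UUx_xG_eq_top, comap_top]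
  rw [eq_top_iff, ← hL.1.commutator_eq_top, _root_.commutator_def, ← k1, commutator_le]
  intro a ha b hb
  rw [← SetLike.mem_coe, mul_normal] at ha hb
  obtain ⟨a, ha, z, hz, rfl⟩ := ha
  obtain ⟨b, hb, w, hw, rfl⟩ := hb
  have h1 := mem_center_iff.1 (hc hz)
  have h2 := mem_center_iff.1 (hc hw)
  have : ⁅a * z, b * w⁆ = ⁅a, b⁆ := by
    simp only [commutatorElement_def, mul_inv_rev]
    calc a * z * (b * w) * (z⁻¹ * a⁻¹) * (w⁻¹ * b⁻¹)
        = a * (z * (b * w)) * z⁻¹ * (a⁻¹ * w⁻¹) * b⁻¹ := by group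
      _ = a * b * (w * a⁻¹) * w⁻¹ * b⁻¹ := by rw [← h1]; group
      _ = _ := by rw [← h2]; group
  rw [this, commutatorElement_def]
  exact mul_mem (mul_mem (mul_mem ha hb) (inv_mem ha)) (inv_mem hb)

theorem Amb.cj (A : Amb S) (g : G) : Amb (cj S g) := by
  obtain ⟨φ, h1, h2⟩ := A
  exact ⟨(MulAut.conj g).toMonoidHom.comp φ, (MulAut.conj g).injective.comp h1, fun r c => by
    rw [MonoidHom.comp_apply, h2]; rfl⟩

theorem Amb.exists_du (A : Amb S) : ∃ S' : StSys ΦF4 F G, Du 1 S S' ∧ Amb S' := by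
  obtain ⟨φ, h1, h2⟩ := A
  obtain ⟨α, hα⟩ := exists_graphF4 (K := F) fun x => (bijective_frobenius F 2).2 x
  refine ⟨ClSys.mapSys (gS4 F) (φ.comp α.toMonoidHom), fun r c => ?_,
    φ.comp α.toMonoidHom, h1.comp α.injective, fun _ _ => rfl⟩
  show φ (α (xG chevF4 F r c)) = _
  rw [hα r r.2, ← ρ_val, ← ex_eq, h2]; rfl

namespace Du

variable {σ : F ≃+* F} {S' : StSys ΦF4 F G} (h : Du σ S S')
include h

omit h in
theorem surj (σ : F ≃+* F) (r : R4) (c : F) : ∃ d, σ (d ^ ex r) = c := by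
  obtain ⟨c, rfl⟩ := σ.surjective c
  unfold ex
  split_ifs
  · exact ⟨c, by rw [pow_one]⟩
  · obtain ⟨d, rfl⟩ := (bijective_frobenius F 2).2 c
    exact ⟨d, rfl⟩

theorem symm : ∃ σ', Du σ' S' S := by
  refine ⟨(frobeniusEquiv F 2).symm.trans σ.symm, fun r c => ?_⟩
  have e : ∀ r : R4, ex r * ex (ρ r) = 2 := by decide +kernel
  rw [h, ρ_ρ, ← map_pow, ← pow_mul, e, RingEquiv.trans_apply, RingEquiv.apply_symm_apply,
    show c ^ 2 = frobeniusEquiv F 2 c from rfl, RingEquiv.symm_apply_apply]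

theorem UU (T : Set R4) : S'.UU T = S.UU {r | ρ r ∈ T} := by
  refine le_antisymm (S'.UU_le_iff.2 fun r hr c => ?_) (S.UU_le_iff.2 fun r hr c => ?_)
  · rw [h]; exact S.x_mem_UU (by simpa [ρ_ρ] using hr) _
  · obtain ⟨d, rfl⟩ := surj σ (ρ r) c
    have := h (ρ r) d
    rw [ρ_ρ] at this
    rw [← this]; exact S'.x_mem_UU (Ψ := T) hr _

theorem grp : S'.grp = S.grp := by
  exact h.UU _

theorem U : S'.U = S.U := by
  rw [StSys.U, h.UU, StSys.U]; congr 1; ext r; simp only [Set.mem_setOf_eq, pos4, ρ_pos]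

theorem X (r : R4) : S'.X r = S.X (ρ r) := by
  rw [StSys.X, h.UU, StSys.X]; congr 1; ext s
  exact ⟨fun e => by rw [← Set.mem_singleton_iff.1 e, ρ_ρ]; rfl, fun e => by
    rw [Set.mem_singleton_iff.1 e, Set.mem_setOf_eq, ρ_ρ]; rfl⟩

theorem Y4 (r : R4) : Y4 S' r = Y4 S (ρ r) := by
  have e : ∀ r s : R4, 0 ≤ ip4 (ρ s) r ↔ 0 ≤ ip4 s (ρ r) := by decide +kernel
  rw [SLF.Y4, h.UU, SLF.Y4]; congr 1; ext s; exact e r s

theorem Q4 (r : R4) : Q4 S' r = Q4 S (ρ r) := by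
  have e : ∀ r s : R4, 1 ≤ ip4 (ρ s) r ↔ 1 ≤ ip4 s (ρ r) := by decide +kernel
  rw [SLF.Q4, h.UU, SLF.Q4]; congr 1; ext s; exact e r s

theorem V4 (r : R4) : V4 S' r = V4 S (ρ r) := by
  have e : ∀ r s : R4, (ρ s = r ∨ (ip4 (ρ s) r = 2 ∧ ¬ (Lg (ρ s) ↔ Lg r))) ↔
      (s = ρ r ∨ (ip4 s (ρ r) = 2 ∧ ¬ (Lg s ↔ Lg (ρ r)))) := by decide +kernel
  rw [SLF.V4, h.UU, SLF.V4]; congr 1; ext s; exact e r s

theorem Yo (r : R4) : Yo S' r = Yo S (ρ r) := by
  rw [SLF.Yo, h.UU, SLF.Yo]; congr 1; ext s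
  have := yr_ρ r (ρ s)
  rw [ρ_ρ] at this
  exact this.symm

theorem x_one (r : R4) : S'.x r 1 = S.x (ρ r) 1 := by
  rw [h, one_pow, map_one]

theorem exists_x (r : R4) (c : F) : ∃ d, S.x (ρ r) c = S'.x r d := by
  obtain ⟨d, rfl⟩ := surj σ r c
  exact ⟨d, (h r d).symm⟩

theorem CL : CL S' = CL S := by rw [SLE.CL, h.grp]

theorem NL : NL S' = NL S := by rw [SLE.NL, h.grp]

theorem sit {t : G} (A : Amb S') (hS : Sit S t) : Sit S' t := by
  exact ⟨A, hS.t2, hS.t1, h.CL ▸ hS.tC, h.NL ▸ hS.CN, h.CL ▸ hS.cyc⟩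

theorem two (h2 : Two S) : Two S' := by
  rw [SLE.Two, h.CL]; exact h2

theorem co {t g : G} : CO S' t g ↔ CO S t g := by
  rw [CO, h.CL]; rfl

theorem isHat {t b : G} (r : R4) : IsHat S' t r b ↔ IsHat S t (ρ r) b := by
  refine and_congr_right fun _ => and_congr ⟨fun ⟨c, h1, h2⟩ => ⟨_, h.Yo r ▸ h1, h r c ▸ h2⟩, fun ⟨c, h1, h2⟩ => ?_⟩
    ⟨fun k c => ?_, fun k c => h r c ▸ k _⟩
  · obtain ⟨d, e⟩ := h.exists_x r c
    exact ⟨d, h.Yo r ▸ h1, e ▸ h2⟩
  · obtain ⟨d, e⟩ := h.exists_x r c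
    exact e ▸ k d

theorem h2 {t : G} {p : R4 → Prop} {Z : R4 → Subgroup G} (A : Amb S') (H : H2 S t p Z) :
    H2 S' t (fun r => p (ρ r)) fun r => Z (ρ r) := by
  have e : ∀ a b : R4, 0 < ip4 a b → 0 < ip4 (ρ a) (ρ b) := by decide +kernel
  refine ⟨⟨h.sit A H.toSit, h.two H.two, fun r hr b => (H.mem _ hr b).trans (h.isHat r).symm, fun r hr c => ?_,
    fun r hr b hb k => h.X r ▸ H.ker _ hr b hb k, fun r hr b hb => h.co.2 (H.co _ hr b hb),
    fun a b k ha hc g hg u => ?_⟩, fun a b ha hb k1 k2 => H.com _ _ ha hb ?_ (e a b k2),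
    fun a b k ha hc => H.cz _ _ _ ha (cm_ρ a b k hc)⟩
  · rw [h]; exact H.surj _ hr _
  · rw [h]; exact H.cx _ _ _ ha (cm_ρ a b k hc) g hg _
  · rw [lg_ρ, lg_ρ, k1]

theorem hl {t : G} {κ : F} {Z : R4 → Subgroup G} (A : Amb S) (H : HS S' t κ Z) :
    HL S t (σ κ) fun r => Z (ρ r) := by
  obtain ⟨σ', h'⟩ := h.symm
  have H' := h'.h2 A H.toH2
  rw [show (fun r => ¬ Lg (ρ r)) = Lg from funext fun r => propext (by rw [lg_ρ, not_not])] at H'
  have o : ∀ {a l k}, Md a l k → Ot (ρ a) (ρ l) (ρ k) := fun {a l k} m => (ot_ρ _ _ _).2 (by rwa [ρ_ρ, ρ_ρ, ρ_ρ])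
  have e1 : ∀ {l}, Lg l → ∀ c, S'.x (ρ l) (σ.symm c) = S.x l (c ^ 2) := fun {l} hl c => by
    rw [h, ρ_ρ, ex, if_neg (by rwa [lg_ρ, not_not]), map_pow, RingEquiv.apply_symm_apply]
  have e2 : ∀ {k}, ¬ Lg k → ∀ c, S'.x (ρ k) c = S.x k (σ c) := fun {k} hk c => by
    rw [h, ρ_ρ, ex, if_pos (by rwa [lg_ρ]), pow_one]
  refine ⟨H', fun a l k m g hg c hc u => ?_, fun a l k m g hg g' hg' => ?_⟩
  · have := H.mv _ _ _ (o m) g hg (σ.symm c) (by rwa [e1 m.2.1]) (σ.symm u)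
    rwa [e1 m.1, e2 m.2.2.2, map_mul, map_mul, RingEquiv.apply_symm_apply, RingEquiv.apply_symm_apply] at this
  · obtain ⟨e, he⟩ := H.ort _ _ _ (o m) g hg g' hg'
    exact ⟨σ e, by rw [he, e2 m.2.2.2, map_mul]⟩

theorem h0 {t : G} {Z : R4 → Subgroup G} (A : Amb S') (H : H0 S t Z) : H0 S' t fun r => Z (ρ r) := by
  have e : ∀ a b : R4, 0 ≤ ip4 a b → 0 ≤ ip4 (ρ a) (ρ b) := by decide +kernel
  exact ⟨h.h2 A H.toH2, fun r => h.Y4 r ▸ H.cY _, fun a b k => H.com0 _ _ (e a b k)⟩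

end Du

end CfsgLib.SLF
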