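import Mathlib
import Cfsg.Agent.Lib.SLF.Kit
import Cfsg.Agent.Lib.ChevAut.Main
import Cfsg.Agent.Lib.ChevAut.SymCert

/-!
# Automorphisms of the model
-/

set_option autoImplicit false
set_option linter.unusedSectionVars false

namespace CfsgLib.SLF

open Cfsg.Lie CfsgLib.RGD CfsgLib.Stein CfsgLib.Semi CfsgLib.SLE CfsgLib.ChevAut Subgroup

universe u

variable {F : Type} [Field F] [Finite F] [CharP F 2] {G : Type u} [Group G] [Finite G]
  {S : StSys ΦF4 F G}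

/-- the fundamental roots can be scaled independently -/
theorem Amb.exists_H4 (A : Amb S) {a b c d : F} (ha : a ≠ 0) (hb : b ≠ 0) (hc : c ≠ 0) (hd : d ≠ 0) :
    ∃ h ∈ S.H, ∃ χ : R4 → F, (∀ r, χ r.rev = (χ r)⁻¹) ∧ (∀ r u, h * S.x r u * h⁻¹ = S.x r (χ r * u)) ∧
      χ 33 = a ∧ χ 27 = b ∧ χ 25 = c ∧ χ 24 = d := by
  have h1 := mul_ne_zero hd hc
  have h2 := mul_ne_zero hb ha
  refine ⟨S.h 47 (d * c) * S.h 46 c * S.h 40 b * S.h 44 (b * a), mul_mem (mul_mem (mul_mem (S.h_mem_H _ h1)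
    (S.h_mem_H _ hc)) (S.h_mem_H _ hb)) (S.h_mem_H _ h2),
    fun r => (d * c) ^ cv r 47 * (c ^ cv r 46 * (b ^ cv r 40 * (b * a) ^ cv r 44)),
    fun r => by simp only [BA4.cv_rev, zpow_neg, mul_inv], fun r u => ?_, ?_⟩
  · simp only [mul_assoc _ _ u]
    rw [← A.h_conj _ _ h1, ← A.h_conj _ _ hc, ← A.h_conj _ _ hb, ← A.h_conj _ _ h2]; group
  · have e : (cv 33 47 = 0 ∧ cv 33 46 = 0 ∧ cv 33 40 = -1 ∧ cv 33 44 = 1) ∧
        (cv 27 47 = 0 ∧ cv 27 46 = 0 ∧ cv 27 40 = 1 ∧ cv 27 44 = 0) ∧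
        (cv 25 47 = 0 ∧ cv 25 46 = 1 ∧ cv 25 40 = 0 ∧ cv 25 44 = 0) ∧
        (cv 24 47 = 1 ∧ cv 24 46 = -1 ∧ cv 24 40 = 0 ∧ cv 24 44 = 0) := by decide +kernel
    simp only [e, zpow_zero, zpow_one, zpow_neg, one_mul, mul_one, true_and]
    exact ⟨inv_mul_cancel_left₀ hb a, mul_inv_cancel_right₀ hc d⟩

namespace AU4

theorem simple (i : Fin chevF4.rank) : ∃ r : R4, chevF4.simple i = r.1 ∧ chevF4.neg (chevF4.simple i) = r.rev.1 ∧
    ((i.1 = 0 ∧ r = 33) ∨ (i.1 = 1 ∧ r = 27) ∨ (i.1 = 2 ∧ r = 25) ∨ (i.1 = 3 ∧ r = 24)) := by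
  revert i; decide +kernel

theorem diag {χ : ℕ → Fˣ} (hχ : chevF4.IsRootCharacter χ) : ∃ h, diagAut hχ = MulAut.conj h := by
  obtain ⟨h, -, d, h1, h2, h3⟩ := (gS4_amb (F := F)).exists_H4 (χ 33).ne_zero (χ 27).ne_zero (χ 25).ne_zero
    (χ 24).ne_zero
  have k : ∀ i : Fin chevF4.rank, ∃ r : R4, chevF4.simple i = r.1 ∧ chevF4.neg (chevF4.simple i) = r.rev.1 ∧
      d r = χ r.1 := fun i => by
    obtain ⟨r, e1, e2, e3⟩ := simple i
    refine ⟨r, e1, e2, ?_⟩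
    rcases e3 with ⟨-, rfl⟩ | ⟨-, rfl⟩ | ⟨-, rfl⟩ | ⟨-, rfl⟩
    exacts [h3.1, h3.2.1, h3.2.2.1, h3.2.2.2]
  refine ⟨h, MulEquiv.toMonoidHom_injective (hom_ext_simple Weyl.rtOKF4 (fun i t => ?_) fun i t => ?_)⟩
  · obtain ⟨r, e1, -, e3⟩ := k i
    rw [e1]
    exact (diagAut_xG hχ _ t).trans (by rw [← e3]; exact (h2 r t).symm)
  · obtain ⟨r, e1, e2, e3⟩ := k i
    have := hχ.1 _ r.2
    rw [← e1, e2, e1] at this
    rw [e2]
    refine (diagAut_xG hχ _ t).trans ?_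
    rw [this, Units.val_inv_eq_inv_val, ← e3, ← h1]
    exact (h2 r.rev t).symm

theorem graph {g : MulAut (chevF4.group F)} (hg : chevF4.IsGraphAut g) :
    g = 1 ∨ ∀ (r : R4) c, g (xG chevF4 F r c) = xG chevF4 F (ρ r) (c ^ ex r) := by
  obtain ⟨π, hπ, e⟩ := isGraphAut_iff.1 hg
  rw [ringChar.eq F 2] at e
  have k : ∀ π : Equiv.Perm (Fin 4), (∀ i j : Fin 4, i ≠ j → chevF4.bonds (π i) (π j) = chevF4.bonds i j) →
      (∀ i, (π i).1 = i) ∨ ∀ i, (π i).1 = 3 - i := by decide +kernel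
  rcases (show (∀ i : Fin chevF4.rank, (π i).1 = i) ∨ ∀ i : Fin chevF4.rank, (π i).1 = 3 - i from k π hπ) with k | k
  · refine .inl (MulEquiv.toMonoidHom_injective (hom_ext_simple Weyl.rtOKF4 (fun i t => ?_) fun i t => ?_))
    · exact (e i t).1.trans (by rw [k i]; simp [ChevalleyDatum.graphExp])
    · exact (e i t).2.trans (by rw [k i]; simp [ChevalleyDatum.graphExp])
  · obtain ⟨α, hα⟩ := exists_graphF4 (K := F) fun x => (bijective_frobenius F 2).2 x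
    have k2 : ∀ i : Fin chevF4.rank, chevF4.simple i < chevF4.nroots ∧ chevF4.neg (chevF4.simple i) < chevF4.nroots ∧
        rhoF4 (chevF4.simple i) = chevF4.simple (3 - i) ∧
        rhoF4 (chevF4.neg (chevF4.simple i)) = chevF4.neg (chevF4.simple (3 - i)) ∧
        expF4 (chevF4.simple i) = chevF4.graphExp 2 i (3 - i) ∧
        expF4 (chevF4.neg (chevF4.simple i)) = chevF4.graphExp 2 i (3 - i) := by decide +kernel
    obtain rfl : g = α := by
      refine MulEquiv.toMonoidHom_injective (hom_ext_simple Weyl.rtOKF4 (fun i t => ?_) fun i t => ?_)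
      · obtain ⟨h1, -, h3, -, h5, -⟩ := k2 i
        exact (e i t).1.trans (by rw [k i, ← h3, ← h5]; exact (hα _ h1 t).symm)
      · obtain ⟨-, h2, -, h4, -, h6⟩ := k2 i
        exact (e i t).2.trans (by rw [k i, ← h4, ← h6]; exact (hα _ h2 t).symm)
    exact .inr fun r c => by rw [hα r r.2, ρ_val, ex_eq]

theorem model (α : MulAut (chevF4.group F)) : ∃ (g : chevF4.group F) (σ : F ≃+* F),
    (∀ (r : R4) c, g * α (xG chevF4 F r c) * g⁻¹ = xG chevF4 F r (σ c)) ∨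
      ∀ (r : R4) c, g * α (xG chevF4 F r c) * g⁻¹ = xG chevF4 F (ρ r) (σ (c ^ ex r)) := by
  obtain ⟨x, d, g, f, ⟨χ, hχ, hd⟩, hg, hf, rfl⟩ := exists_decomposition Weyl.rtOKF4 symOK_F4 α
  obtain rfl : d = diagAut hχ := MulEquiv.ext fun g => Subtype.ext (Units.ext (hd g))
  obtain ⟨σ, rfl⟩ := isFieldAut_iff'.1 hf
  obtain ⟨h, e⟩ := diag hχ
  refine ⟨(x * h)⁻¹, σ, (graph hg).imp (fun k r c => ?_) fun k r c => ?_⟩
  · simp only [e, k, MulAut.mul_apply, groupEquiv_xG', MulAut.conj_apply, MulAut.one_apply]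
    group
  · simp only [e, k, MulAut.mul_apply, groupEquiv_xG', MulAut.conj_apply, map_pow]
    group

theorem mem_frob (σ : F ≃+* F) : σ ∈ zpowers (frobeniusEquiv F 2) := mem_of_fix_fixed _ fun x hx => by
  have h : x ^ 2 = x := hx ⟨_, mem_zpowers _⟩
  by_cases e : x = 0
  · rw [e, map_zero]
  · rw [mul_left_cancel₀ e ((pow_two _).symm.trans (h.trans (mul_one _).symm)), map_one]

/-- the permutation of the root elements induced by a field automorphism -/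
def pS : (F ≃+* F) →* Equiv.Perm (R4 × F) where
  toFun σ := (Equiv.refl _).prodCongr σ.toEquiv
  map_one' := rfl
  map_mul' _ _ := rfl

variable (F) in
/-- the permutation of the root elements induced by the graph automorphism -/
noncomputable def pG : Equiv.Perm (R4 × F) where
  toFun p := (ρ p.1, p.2 ^ ex p.1)
  invFun p := (ρ p.1, (frobeniusEquiv F 2).symm (p.2 ^ ex p.1))
  left_inv p := by
    have e : ∀ r : R4, ex r * ex (ρ r) = 2 := by decide +kernel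
    simp only [ρ_ρ, ← pow_mul, e]
    exact Prod.ext rfl ((frobeniusEquiv F 2).symm_apply_apply p.2)
  right_inv p := by
    have e : ∀ r : R4, ex r * ex (ρ r) = 2 := by decide +kernel
    simp only [ρ_ρ, ← map_pow, ← pow_mul, e]
    exact Prod.ext rfl ((frobeniusEquiv F 2).symm_apply_apply p.2)

theorem pS_apply (σ : F ≃+* F) (p : R4 × F) : pS σ p = (p.1, σ p.2) := rfl

theorem pG_apply (p : R4 × F) : pG F p = (ρ p.1, p.2 ^ ex p.1) := rfl

theorem pG_sq : pG F ^ 2 = pS (frobeniusEquiv F 2) := by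
  have e : ∀ r : R4, ex r * ex (ρ r) = 2 := by decide +kernel
  ext1 p
  rw [sq, Equiv.Perm.mul_apply, pG_apply, pG_apply, pS_apply, ρ_ρ, ← pow_mul, e]
  rfl

theorem pS_mem (σ : F ≃+* F) : pS σ ∈ zpowers (pG F) := by
  obtain ⟨k, rfl⟩ := mem_frob σ
  simp only [map_zpow, ← pG_sq]
  exact zpow_mem (pow_mem (mem_zpowers _) 2) k

theorem mem_pG {π : Equiv.Perm (R4 × F)} (h : π ∈ zpowers (pG F)) : ∃ σ, π = pS σ ∨ π = pS σ * pG F := by
  obtain ⟨k, rfl⟩ := h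
  refine ⟨frobeniusEquiv F 2 ^ (k / 2), ?_⟩
  rw [map_zpow, ← pG_sq, ← zpow_natCast, ← zpow_mul, ← zpow_add_one]
  rcases Int.emod_two_eq_zero_or_one k with e | e
  · exact .inl (congrArg _ (by push_cast; omega))
  · exact .inr (congrArg _ (by push_cast; omega))

theorem card_pG : Nat.card (zpowers (pG F)) = 2 * Nat.card (F ≃+* F) := by
  have inj : Function.Injective (pS (F := F)) := fun σ τ e => RingEquiv.ext fun c =>
    congrArg Prod.snd (DFunLike.congr_fun e ((0 : R4), c))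
  have ne : ∀ σ τ : F ≃+* F, pS σ ≠ pS τ * pG F := fun σ τ e =>
    absurd (congrArg Prod.fst (DFunLike.congr_fun e ((47 : R4), 0))) (show (47 : R4) ≠ ρ 47 by decide)
  have := finite_aut (F := F)
  rw [two_mul, ← Nat.card_sum]
  refine (Nat.card_eq_of_bijective (Sum.elim (fun σ => ⟨_, pS_mem σ⟩)
    fun σ => ⟨_, mul_mem (pS_mem σ) (mem_zpowers _)⟩) ⟨?_, fun π => ?_⟩).symm
  · rintro (σ | σ) (τ | τ) e <;> have := congrArg Subtype.val e
    exacts [congrArg _ (inj this), absurd this (ne _ _), absurd this.symm (ne _ _),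
      congrArg _ (inj (mul_right_cancel this))]
  · obtain ⟨σ, e | e⟩ := mem_pG π.2
    exacts [⟨.inl σ, Subtype.ext e.symm⟩, ⟨.inr σ, Subtype.ext e.symm⟩]

/-- `g` permutes the root elements by `π` -/
def Ind (S : StSys ΦF4 F G) (g : G) (π : Equiv.Perm (R4 × F)) : Prop :=
  ∀ p : R4 × F, g * S.x p.1 p.2 * g⁻¹ = S.x (π p).1 (π p).2

theorem Ind.mul {g g' : G} {π π' : Equiv.Perm (R4 × F)} (h : Ind S g π) (h' : Ind S g' π') :
    Ind S (g * g') (π * π') := fun p => by rw [Equiv.Perm.mul_apply, ← h, ← h']; group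

theorem Ind.inv {g : G} {π : Equiv.Perm (R4 × F)} (h : Ind S g π) : Ind S g⁻¹ π⁻¹ := fun p => by
  obtain ⟨p, rfl⟩ := π.surjective p
  rw [← h, Equiv.Perm.coe_inv, Equiv.symm_apply_apply]; group

theorem ind_pS {g : G} {σ : F ≃+* F} : Ind S g (pS σ) ↔ Std S g σ :=
  ⟨fun h r c => h (r, c), fun h p => h p.1 p.2⟩

theorem ind_pG {g : G} {σ : F ≃+* F} : Ind S g (pS σ * pG F) ↔ StG S g σ :=
  ⟨fun h r c => h (r, c), fun h p => h p.1 p.2⟩

end AU4

theorem Amb.aut0 (A : Amb S) {g : G} (hg : g ∈ NL S) :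
    ∃ l ∈ S.grp, ∃ σ, Std S (l * g) σ ∨ StG S (l * g) σ := by
  obtain ⟨φ, h1, h3, h2⟩ := A.ba_map
  obtain ⟨e, he⟩ : ∃ e : chevF4.group F ≃* S.grp, ∀ x, (e x : G) = φ x :=
    ⟨(MonoidHom.ofInjective h1).trans (MulEquiv.subgroupCongr h3), fun _ => rfl⟩
  obtain ⟨l, σ, k⟩ := AU4.model ((e.trans (S.grp.normalizerMonoidHom ⟨g, hg⟩)).trans e.symm)
  have key : ∀ (r s : R4) (c d : F), l * ((e.trans (S.grp.normalizerMonoidHom ⟨g, hg⟩)).trans e.symm)
      (xG chevF4 F r c) * l⁻¹ = xG chevF4 F s d → φ l * g * S.x r c * (φ l * g)⁻¹ = S.x s d := fun r s c d h => by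
    rw [← h2, ← h2, gS4_x, gS4_x, ← h, map_mul, map_mul, map_inv, ← he (MulEquiv.trans _ _ _), MulEquiv.trans_apply,
      MulEquiv.apply_symm_apply, MulEquiv.trans_apply, ← he (xG _ _ _ _)]
    show _ = φ l * (g * _ * g⁻¹) * _
    group
  exact ⟨φ l, h3.le ⟨l, rfl⟩, σ, k.imp (fun k r c => key _ _ _ _ (k r c)) fun k r c => key _ _ _ _ (k r c)⟩

end CfsgLib.SLF
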