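import Mathlib
import Cfsg.Agent.Lib.SLF.Bas

/-!
# Coefficients
-/

set_option autoImplicit false
set_option linter.unusedSectionVars false
set_option linter.unusedVariables false

namespace CfsgLib.SLF

open Cfsg.Lie CfsgLib.RGD CfsgLib.Stein CfsgLib.Semi CfsgLib.SLE CfsgLib.UFP Subgroup
open scoped commutatorElement Pointwise

universe u

variable {F : Type} [Field F] [Finite F] [CharP F 2] {G : Type u} [Group G] [Finite G]
  {S : StSys ΦF4 F G}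

/-- `[X_r, X_a]` has a component in `X_k`, `k = r + a` -/
def St (r a k : R4) : Prop := Ad r a k ∧ ¬ Ot r a k

instance decSt (r a k : R4) : Decidable (St r a k) := inferInstanceAs (Decidable (_ ∧ _))

/-- a fast test for `Cz` -/
def CzL (K : List R4) (a b : R4) : Prop := 0 ≤ ip4 a b ∨
  (a.1 + b.1 ≠ 47 ∧ rf4 a b ∈ K ∧ rf4 b a ∈ K)

instance decCzL (K : List R4) (a b : R4) : Decidable (CzL K a b) := inferInstanceAs (Decidable (_ ∨ _))

/-- `U_T / U_T'` is elementary abelian -/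
structure Lay4 (T T' : Set R4) : Prop where
  pos : ∀ r ∈ T, 24 ≤ r.1
  sub : T' ⊆ T
  cz : ∀ a ∈ T, ∀ b ∈ T, Cz T' a b

theorem cf_tab : ∀ a b : R4, 0 ≤ ip4 a b ∨ a.1 + b.1 = 47 ∨ (Cm a b (rf4 a b) ∧ rf4 b a = rf4 a b) ∨
    Ls a b (rf4 a b) (rf4 b a) ∨ Ls b a (rf4 b a) (rf4 a b) := by decide +kernel

theorem cf_tab0 : ∀ a b : R4, 0 < ip4 a a ∧ (a.1 + b.1 = 47 → ip4 a b < 0) := by decide +kernel

theorem cf_ot : ∀ a b : R4, 0 ≤ ip4 a b → ∀ k, Ad a b k → Ot a b k := by decide +kernel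

theorem cf_posL : posL4.Pairwise (· < ·) ∧ ∀ r : R4, r ∈ posL4 ↔ 24 ≤ r.1 := by decide +kernel

theorem Cm.neg {a b k : R4} (h : Cm a b k) : ip4 a b < 0 := by
  have := h.ip
  have := (cf_tab0 a a).1
  omega

theorem Ls.neg {a b k m : R4} (h : Ls a b k m) : ip4 a b < 0 := by rw [h.ip.1]; decide

theorem Ls.neg' {a b k m : R4} (h : Ls a b k m) : ip4 b a < 0 := by rw [ip4_comm]; exact h.neg

theorem cz_iff {K : Set R4} {a b : R4} : Cz K a b ↔ 0 ≤ ip4 a b ∨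
    (a.1 + b.1 ≠ 47 ∧ rf4 a b ∈ K ∧ rf4 b a ∈ K) := by
  constructor
  · rintro ⟨h0, h1, h2, h3⟩
    rcases cf_tab a b with e | e | e | e | e
    · exact .inl e
    · exact absurd e h0
    · exact .inr ⟨h0, h1 _ e.1, e.2 ▸ h1 _ e.1⟩
    · exact .inr ⟨h0, h2 _ _ e⟩
    · exact .inr ⟨h0, (h3 _ _ e).symm⟩
  · rintro (h | ⟨h0, h1, h2⟩)
    · exact ⟨fun e => absurd ((cf_tab0 a b).2 e) (not_lt.2 h), fun k e => absurd e.neg (not_lt.2 h),
        fun k m e => absurd e.neg (not_lt.2 h), fun k m e => absurd e.neg' (not_lt.2 h)⟩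
    refine ⟨h0, fun k e => ?_, fun k m e => ?_, fun k m e => ?_⟩
    · rcases cf_tab a b with f | f | f | f | f
      · exact absurd e.neg (not_lt.2 f)
      · exact absurd f h0
      · exact f.1.1.uniq e.1 ▸ h1
      · exact absurd (e.2.1.1 f.1) f.2.1
      · exact absurd (e.2.1.2 f.1) f.2.1
    · rcases cf_tab a b with f | f | f | f | f
      · exact absurd e.neg (not_lt.2 f)
      · exact absurd f h0
      · exact absurd (f.1.2.1.1 e.1) e.2.1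
      · obtain rfl := e.2.2.1.uniq f.2.2.1
        obtain rfl := e.2.2.2.uniq f.2.2.2
        exact ⟨h1, h2⟩
      · exact absurd e.1 f.2.1
    · rcases cf_tab a b with f | f | f | f | f
      · exact absurd e.neg' (not_lt.2 f)
      · exact absurd f h0
      · exact absurd (f.1.2.1.2 e.1) e.2.1
      · exact absurd e.1 f.2.1
      · obtain rfl := e.2.2.1.uniq f.2.2.1
        obtain rfl := e.2.2.2.uniq f.2.2.2
        exact ⟨h2, h1⟩

theorem CzL.cz {K : List R4} {a b : R4} (h : CzL K a b) : Cz {r | r ∈ K} a b := cz_iff.2 h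

theorem cl_of {T : Set R4} (h : ∀ a ∈ T, ∀ b ∈ T, Cz T a b) : Cl T :=
  ⟨fun a ha b hb => (h a ha b hb).2.1, fun a ha b hb => (h a ha b hb).2.2.1⟩

theorem cl_L {T : List R4} (h : ∀ a ∈ T, ∀ b ∈ T, CzL T a b) : Cl {r | r ∈ T} := cl_of fun a ha b hb => (h a ha b hb).cz

theorem lay_L {T T' : List R4} (h : (∀ r ∈ T, 24 ≤ r.1) ∧ (∀ r ∈ T', r ∈ T) ∧ ∀ a ∈ T, ∀ b ∈ T, CzL T' a b) :
    Lay4 {r | r ∈ T} {r | r ∈ T'} := ⟨h.1, h.2.1, fun a ha b hb => (h.2.2 a ha b hb).cz⟩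

theorem U_eq_Ug : S.U = Ug S 24 := congrArg S.UU (Set.ext pos4)

theorem Ug_top : Ug S 48 = ⊥ := by
  rw [← S.UU_empty]
  exact congrArg S.UU (Set.ext fun r => ⟨fun h => absurd r.2 (not_lt.2 h), False.elim⟩)

theorem Cz.mono {K K' : Set R4} {a b : R4} (h : Cz K a b) (e : K ⊆ K') : Cz K' a b :=
  ⟨h.1, fun k f => e (h.2.1 k f), fun k m f => (h.2.2.1 k m f).imp (@e _) (@e _),
    fun k m f => (h.2.2.2 k m f).imp (@e _) (@e _)⟩

theorem cz_pos {K : Set R4} {a b : R4} (ha : 24 ≤ a.1) (hb : 24 ≤ b.1) (h : ∀ k, wt a + wt b ≤ wt k → k ∈ K) :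
    Cz K a b := by
  have := (wt_pos a).2 ha
  have := (wt_pos b).2 hb
  refine ⟨by omega, fun k e => h k (Eq.le e.1), fun k m e => ?_, fun k m e => ?_⟩ <;>
  · have e1 : _ = _ := e.2.2.1
    have e2 : _ = _ := e.2.2.2
    exact ⟨h k (by omega), h m (by omega)⟩

theorem cz_lt {a b : R4} (ha : 24 ≤ a.1) (hb : 24 ≤ b.1) {n : ℕ} (h : n ≤ b.1 + 1) : Cz {r | n ≤ r.1} a b :=
  cz_pos ha hb fun k e => by
    have := (wt_pos a).2 ha
    have : b.1 < k.1 := (wt_lt b k).1 (by omega)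
    show n ≤ k.1
    omega

theorem cl_Ug {n : ℕ} (hn : 24 ≤ n) : Cl {r : R4 | n ≤ r.1} :=
  cl_of fun _ ha _ hb => cz_lt (hn.trans ha) (hn.trans hb) (Nat.le_succ_of_le hb)

theorem Cl.cz {T : Set R4} (hT : Cl T) {a b : R4} (ha : a ∈ T) (hb : b ∈ T) (h : a.1 + b.1 ≠ 47) : Cz T a b :=
  ⟨h, hT.1 a ha b hb, hT.2 a ha b hb, hT.2 b hb a ha⟩

theorem Cz.inter {K K' : Set R4} {a b : R4} (h : Cz K a b) (h' : Cz K' a b) : Cz (K ∩ K') a b :=
  ⟨h.1, fun k f => ⟨h.2.1 k f, h'.2.1 k f⟩,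
    fun k m f => ⟨⟨(h.2.2.1 k m f).1, (h'.2.2.1 k m f).1⟩, (h.2.2.1 k m f).2, (h'.2.2.1 k m f).2⟩,
    fun k m f => ⟨⟨(h.2.2.2 k m f).1, (h'.2.2.2 k m f).1⟩, (h.2.2.2 k m f).2, (h'.2.2.2 k m f).2⟩⟩

theorem Ug_eq_wt (r : R4) : Ug S r = S.UU {s | wt r ≤ wt s} :=
  congrArg S.UU (Set.ext fun s => by
    simp only [Set.mem_ofPred_eq, ← not_lt, wt_lt, Fin.lt_def])

theorem Ug_mono {m n : ℕ} (h : m ≤ n) : Ug S n ≤ Ug S m := S.UU_mono fun _ hr => h.trans hr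

theorem Ug_le_U {n : ℕ} (h : 24 ≤ n) : Ug S n ≤ S.U := U_eq_Ug (S := S) ▸ Ug_mono h

theorem UU_le_U4 {T : Set R4} (hp : ∀ r ∈ T, 24 ≤ r.1) : S.UU T ≤ S.U := S.UU_le_U fun r hr => (pos4 r).2 (hp r hr)

theorem x_mem_U4 {r : R4} (hr : 24 ≤ r.1) (c : F) : S.x r c ∈ S.U := S.x_mem_U ((pos4 r).2 hr) c

theorem xprod_update {L : List R4} (hL : L.Pairwise (· < ·)) {r : R4} (hr : r ∈ L) {c : R4 → F}
    (hc : ∀ s, s ≤ r → c s = 0) (d : F) : S.xprod L (Function.update c r d) = S.x r d * S.xprod L c := by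
  induction L with
  | nil => exact absurd hr List.not_mem_nil
  | cons s L ih =>
    rw [List.pairwise_cons] at hL
    rw [S.xprod_cons, S.xprod_cons]
    rcases List.mem_cons.1 hr with rfl | hr
    · rw [Function.update_self, hc r le_rfl, S.x_zero, one_mul,
        S.xprod_congr fun s hs => Function.update_of_ne (hL.1 s hs).ne' _ _]
    · rw [Function.update_of_ne (hL.1 r hr).ne, hc s (hL.1 r hr).le, S.x_zero, one_mul, one_mul, ih hL.2 hr]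

theorem Ex.xprod {g : G} {w w' : R4 → R4} (h : Ex S g w) (hw : ∀ r, w' (w r) = r) (L : List R4) (c : R4 → F) :
    g * S.xprod L c * g⁻¹ = S.xprod (L.map w) fun s => c (w' s) := by
  induction L with
  | nil => simp [S.xprod_nil]
  | cons s L ih => rw [List.map_cons, S.xprod_cons, S.xprod_cons, ← conj_mul, ih, h, hw]

theorem cf_neg (u : G) {r : R4} (hr : r.1 < 24) : cf4 S u r = 0 := by
  unfold cf4
  split_ifs with h
  · exact h.choose_spec.1 r hr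
  · rfl

namespace Amb

variable (A : Amb S) {T T' K : Set R4}
include A

theorem comm_x {a b : R4} (h : Cz K a b) (c d : F) :
    S.x a c * S.x b d * (S.x a c)⁻¹ * (S.x b d)⁻¹ ∈ S.UU K := by
  rcases cf_tab a b with e | e | e | e | e
  · rw [A.com e]; simp
  · exact absurd e h.1
  · rw [A.rel.cm _ _ _ e.1]; exact S.x_mem_UU (h.2.1 _ e.1) _
  · rw [A.rel.ls _ _ _ _ e]
    exact mul_mem (S.x_mem_UU (h.2.2.1 _ _ e).1 _) (S.x_mem_UU (h.2.2.1 _ _ e).2 _)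
  · rw [← inv_mem_iff, show (S.x a c * S.x b d * (S.x a c)⁻¹ * (S.x b d)⁻¹)⁻¹ =
      S.x b d * S.x a c * (S.x b d)⁻¹ * (S.x a c)⁻¹ by group, A.rel.ls _ _ _ _ e]
    exact mul_mem (S.x_mem_UU (h.2.2.2 _ _ e).1 _) (S.x_mem_UU (h.2.2.2 _ _ e).2 _)

theorem commute_UU (h : ∀ a ∈ T, ∀ b ∈ T', 0 ≤ ip4 a b) {u v : G} (hu : u ∈ S.UU T) (hv : v ∈ S.UU T') :
    u * v = v * u := by
  refine (S.UU_le_iff (K := centralizer {u})).2 (fun b hb d => mem_centralizer_singleton_iff.2 ?_) hv u rfl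
  exact (S.UU_le_iff (K := centralizer {S.x b d})).2
    (fun a ha c => mem_centralizer_singleton_iff.2 (A.com (h a ha b hb) c d)) hu _ rfl

theorem norm_UU (h : ∀ a ∈ T, ∀ b ∈ K, Cz K a b) : S.UU T ≤ normalizer (S.UU K : Set G) := by
  refine S.UU_le_iff.2 fun a ha c => mem_normalizer_fintype fun u hu => ?_
  refine (S.UU_le_iff (K := (S.UU K).comap (MulAut.conj (S.x a c)).toMonoidHom)).2 (fun b hb d => ?_) hu
  have := mul_mem (A.comm_x (h a ha b hb) c d) (S.x_mem_UU hb d)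
  rwa [inv_mul_cancel_right] at this

theorem norm_UL {L L' : List R4} (h : ∀ a ∈ L, ∀ b ∈ L', CzL L' a b) :
    UL S L ≤ normalizer (UL S L' : Set G) := A.norm_UU fun a ha b hb => (h a ha b hb).cz

theorem comm_UU (h : ∀ a ∈ T, ∀ b ∈ T', Cz K a b) (h1 : S.UU T ≤ normalizer (S.UU K : Set G))
    (h2 : S.UU T' ≤ normalizer (S.UU K : Set G)) {u v : G} (hu : u ∈ S.UU T) (hv : v ∈ S.UU T') :
    u * v * u⁻¹ * v⁻¹ ∈ S.UU K := by
  refine S.UU_induction (p := fun u => u * v * u⁻¹ * v⁻¹ ∈ S.UU K) (by simp) (fun a ha c g hg ih => ?_) hu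
  have k : S.x a c * v * (S.x a c)⁻¹ * v⁻¹ ∈ S.UU K := by
    refine S.UU_induction (p := fun v => S.x a c * v * (S.x a c)⁻¹ * v⁻¹ ∈ S.UU K) (by simp)
      (fun b hb d g hg ih => ?_) hv
    convert mul_mem ih (UFP.conj_mem (h2 hg) (A.comm_x (h a ha b hb) c d)) using 1
    group
  convert mul_mem (UFP.conj_mem (h1 hg) k) ih using 1
  group

theorem U_norm_Ug (n : ℕ) (hn : 24 ≤ n) : S.U ≤ normalizer (Ug S n : Set G) :=
  A.norm_UU fun a ha _ hb => cz_lt ((pos4 a).1 ha) (hn.trans hb) (Nat.le_succ_of_le hb)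

theorem comm_Ug {n : ℕ} (hn : 24 ≤ n) {u v : G} (hu : u ∈ S.U) (hv : v ∈ Ug S n) :
    u * v * u⁻¹ * v⁻¹ ∈ Ug S (n + 1) :=
  A.comm_UU (fun a ha _ hb => cz_lt ((pos4 a).1 ha) (hn.trans hb) (Nat.succ_le_succ hb))
    (A.U_norm_Ug _ (by omega)) ((Ug_le_U hn).trans (A.U_norm_Ug _ (by omega))) hu hv

theorem comm_wt {m n : ℤ} (hm : 0 < m) (hn : 0 < n) {u v : G} (hu : u ∈ S.UU {r | m ≤ wt r})
    (hv : v ∈ S.UU {r | n ≤ wt r}) : u * v * u⁻¹ * v⁻¹ ∈ S.UU {r | m + n ≤ wt r} := by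
  have p : ∀ {l : ℤ}, 0 < l → ∀ r ∈ {r | l ≤ wt r}, 24 ≤ r.1 := fun hl r hr => (wt_pos r).1 (hl.trans_le hr)
  have k : ∀ {l : ℤ}, 0 < l → S.UU {r | l ≤ wt r} ≤ normalizer (S.UU {r | m + n ≤ wt r} : Set G) := fun hl =>
    A.norm_UU fun a ha b hb => cz_pos (p hl a ha) (p (add_pos hm hn) b hb) fun k e => by
      have h1 := hl.trans_le ha
      have h2 : m + n ≤ wt b := hb
      show m + n ≤ wt k
      omega
  exact A.comm_UU (fun a ha b hb => cz_pos (p hm a ha) (p hn b hb) fun k e => (add_le_add ha hb).trans e)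
    (k hm) (k hn) hu hv

theorem exists_x_mul (hT : Cl T) (hp : ∀ r ∈ T, 24 ≤ r.1) {r : R4} (hr : r ∈ T) (h : ∀ s ∈ T, r ≤ s) {u : G}
    (hu : u ∈ S.UU T) : ∃ c, (S.x r c)⁻¹ * u ∈ S.UU (T ∩ {s | r.1 + 1 ≤ s.1}) := by
  have hn : S.UU T ≤ normalizer (S.UU (T ∩ {s | r.1 + 1 ≤ s.1}) : Set G) := A.norm_UU fun a ha b hb =>
    (hT.cz ha hb.1 (by have := hp a ha; have := hp b hb.1; omega)).inter
      (cz_lt (hp a ha) (hp b hb.1) (Nat.le_succ_of_le hb.2))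
  refine S.UU_induction (p := fun u => ∃ c, (S.x r c)⁻¹ * u ∈ S.UU (T ∩ {s | r.1 + 1 ≤ s.1}))
    ⟨0, by simp [S.x_zero]⟩ ?_ hu
  rintro s hs d g - ⟨c, hc⟩
  rcases (h s hs).eq_or_lt with rfl | e
  · refine ⟨c + d, ?_⟩
    convert UFP.conj_mem' (hn (S.x_mem_UU hr d)) hc using 1
    rw [S.x_add]; group
  · exact ⟨c, by rw [← mul_assoc]; exact mul_mem hc (S.x_mem_UU (by exact ⟨hs, e⟩) d)⟩

theorem exists_xprod4 {L : List R4} (hL : L.Pairwise (· < ·)) : ∀ {T : Set R4}, Cl T → (∀ r ∈ T, 24 ≤ r.1) →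
    (∀ r ∈ T, r ∈ L) → ∀ {u : G}, u ∈ S.UU T → ∃ c : R4 → F, (∀ r, r ∉ T → c r = 0) ∧ S.xprod L c = u := by
  induction L with
  | nil =>
    intro T _ _ h u hu
    rw [Set.eq_empty_of_forall_notMem fun r hr => List.not_mem_nil (h r hr), S.UU_empty, mem_bot] at hu
    exact ⟨0, fun _ _ => rfl, hu.symm⟩
  | cons r L ih =>
    intro T hT hp h u hu
    have hL' := List.pairwise_cons.1 hL
    by_cases hr : r ∈ T
    · obtain ⟨c, hc⟩ := A.exists_x_mul hT hp hr (fun s hs => (List.mem_cons.1 (h s hs)).elim Eq.ge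
        fun e => (hL'.1 s e).le) hu
      obtain ⟨t, h1, h2⟩ := ih hL'.2 (cl_of fun a ha b hb =>
        (hT.cz ha.1 hb.1 (by have := hp a ha.1; have := hp b hb.1; omega)).inter
          (cz_lt (hp a ha.1) (hp b hb.1) (Nat.le_succ_of_le hb.2))) (fun s hs => hp s hs.1)
        (fun s hs => (List.mem_cons.1 (h s hs.1)).resolve_left (ne_of_gt hs.2)) hc
      refine ⟨Function.update t r c, fun s hs => ?_, ?_⟩
      · rw [Function.update_of_ne (by rintro rfl; exact hs hr), h1 s fun e => hs e.1]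
      · rw [S.xprod_cons, Function.update_self,
          S.xprod_congr fun s hs => Function.update_of_ne (hL'.1 s hs).ne' _ _, h2, mul_inv_cancel_left]
    · obtain ⟨t, h1, h2⟩ := ih hL'.2 hT hp
        (fun s hs => (List.mem_cons.1 (h s hs)).resolve_left (by rintro rfl; exact hr hs)) hu
      exact ⟨t, h1, by rw [S.xprod_cons, h1 r hr, S.x_zero, one_mul, h2]⟩

theorem xprod_cf0 {u : G} (hu : u ∈ S.U) : S.xprod posL4 (cf4 S u) = u := by
  have h : ∃ c : R4 → F, (∀ r : R4, r.1 < 24 → c r = 0) ∧ S.xprod posL4 c = u :=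
    (A.exists_xprod4 cf_posL.1 (cl_Ug le_rfl) (fun _ h => h) (fun r => (cf_posL.2 r).2) ((U_eq_Ug (S := S)).le hu)).imp
      fun c h => ⟨fun r hr => h.1 r (not_le.2 hr), h.2⟩
  rw [cf4, dif_pos h]
  exact h.choose_spec.2

theorem cf_xprod_pos {t : R4 → F} (h : ∀ r : R4, r.1 < 24 → t r = 0) : cf4 S (S.xprod posL4 t) = t :=
  funext fun r => by
    have p : ∀ r ∈ posL4, ΦF4.Pos r := fun r hr => (pos4 r).2 ((cf_posL.2 r).1 hr)
    by_cases hr : 24 ≤ r.1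
    · exact A.nd.xprod_inj (cf_posL.1.imp ne_of_lt) p (A.xprod_cf0 (S.xprod_mem_UU p t)) r ((cf_posL.2 r).2 hr)
    · rw [cf_neg _ (not_le.1 hr), h r (not_le.1 hr)]

theorem cf_lead0 {r : R4} (hr : 24 ≤ r.1) {c : F} {u : G} (hu : (S.x r c)⁻¹ * u ∈ Ug S (r + 1)) :
    cf4 S u r = c := by
  obtain ⟨t, h1, h2⟩ := A.exists_xprod4 cf_posL.1 (cl_Ug (n := r + 1) (by omega)) (fun s hs => hr.trans (Nat.le_of_succ_le hs))
    (fun s hs => (cf_posL.2 s).2 (hr.trans (Nat.le_of_succ_le hs))) hu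
  have h3 := xprod_update (S := S) cf_posL.1 ((cf_posL.2 r).2 hr) (fun s hs => h1 s (not_le.2 (Nat.lt_succ_of_le hs))) c
  rw [h2, mul_inv_cancel_left] at h3
  rw [← h3, A.cf_xprod_pos fun s hs => ?_, Function.update_self]
  rw [Function.update_of_ne (by rintro rfl; omega), h1 s fun e => by have : r.1 + 1 ≤ s.1 := e; omega]

theorem peel {r : R4} (hr : 24 ≤ r.1) {u : G} (hu : u ∈ Ug S r) :
    (S.x r (cf4 S u r))⁻¹ * u ∈ Ug S (r + 1) := by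
  obtain ⟨c, hc⟩ := A.exists_x_mul (cl_Ug hr) (fun _ h => hr.trans h) (r := r) (le_refl r.1) (fun _ h => h) hu
  have h1 := S.UU_mono Set.inter_subset_right hc
  rwa [A.cf_lead0 hr h1]

theorem cf_lead {r : R4} (hr : 24 ≤ r.1) {c : F} {u : G} (hu : (S.x r c)⁻¹ * u ∈ Ug S (r + 1)) :
    cf4 S u r = c := A.cf_lead0 hr hu

theorem xprod_cf {u : G} (hu : u ∈ S.U) : S.xprod posL4 (cf4 S u) = u := A.xprod_cf0 hu

theorem cf_one (r : R4) : cf4 S 1 r = 0 := by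
  rw [← S.xprod_zero posL4, A.cf_xprod_pos fun _ _ => rfl]

theorem cf_x {r : R4} (hr : 24 ≤ r.1) (c : F) : cf4 S (S.x r c) = Pi.single r c := by
  have := S.xprod_single (cf_posL.1.imp ne_of_lt) ((cf_posL.2 r).2 hr) c
  rw [← this, A.cf_xprod_pos fun s hs => by simp [show s ≠ r by rintro rfl; omega]]
  congr
  exact Subsingleton.elim _ _

theorem cf_ext {u v : G} (hu : u ∈ S.U) (hv : v ∈ S.U) (h : ∀ r, cf4 S u r = cf4 S v r) : u = v := by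
  rw [← A.xprod_cf hu, ← A.xprod_cf hv, funext h]

theorem mem_of_cf {u : G} (hu : u ∈ S.U) (h : ∀ r, r ∉ T → cf4 S u r = 0) : u ∈ S.UU T := A.xprod_cf hu ▸ S.xprod_mem_UU' fun r _ => h r

theorem cf_eq_zero (hT : Cl T) (hp : ∀ r ∈ T, 24 ≤ r.1) {u : G} (hu : u ∈ S.UU T) {r : R4} (hr : r ∉ T) :
    cf4 S u r = 0 := by
  obtain ⟨t, ht, rfl⟩ := A.exists_xprod4 cf_posL.1 hT hp (fun r hr => (cf_posL.2 r).2 (hp r hr)) hu
  rw [A.cf_xprod_pos fun r h => ht r fun h' => absurd (hp r h') (not_le.2 h), ht r hr]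

theorem UU_inf (hT : Cl T) (hp : ∀ r ∈ T, 24 ≤ r.1) (hT' : Cl T') (hp' : ∀ r ∈ T', 24 ≤ r.1) :
    S.UU T ⊓ S.UU T' = S.UU (T ∩ T') :=
  le_antisymm (fun _ hu => A.mem_of_cf (UU_le_U4 hp hu.1) fun _ hr => (not_and_or.1 hr).elim
    (A.cf_eq_zero hT hp hu.1) (A.cf_eq_zero hT' hp' hu.2))
    (le_inf (S.UU_mono Set.inter_subset_left) (S.UU_mono Set.inter_subset_right))

theorem card_UL {L : List R4} (h : L.Nodup ∧ (∀ r ∈ L, 24 ≤ r.1) ∧ ∀ a ∈ L, ∀ b ∈ L, CzL L a b) :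
    Nat.card (UL S L) = Nat.card F ^ L.length := by
  have hU : UL S L ≤ S.U := UU_le_U4 h.2.1
  rw [Nat.card_congr (Equiv.ofBijective (fun (u : UL S L) (r : {r // r ∈ L}) => cf4 S u r) ⟨fun u v e =>
    Subtype.ext (A.cf_ext (hU u.2) (hU v.2) fun r => ?_), fun c => ?_⟩), Nat.card_fun,
    Nat.card_eq_fintype_card (α := {r // r ∈ L}), Fintype.card_of_subtype L.toFinset (by simp),
    List.toFinset_card_of_nodup h.1]
  · by_cases hr : r ∈ L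
    · exact congrFun e ⟨r, hr⟩
    · rw [A.cf_eq_zero (cl_L h.2.2) h.2.1 u.2 hr, A.cf_eq_zero (cl_L h.2.2) h.2.1 v.2 hr]
  · refine ⟨⟨S.xprod posL4 fun r => if hr : r ∈ L then c ⟨r, hr⟩ else 0,
      S.xprod_mem_UU' fun r _ hr => dif_neg hr⟩, funext fun r => ?_⟩
    simp only
    rw [A.cf_xprod_pos fun r hr => dif_neg fun e => absurd (h.2.1 r e) (not_le.2 hr), dif_pos r.2]

/-- an element of `U` which is mapped into `U` by a Weyl element -/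
theorem mem_of_ex {n u : G} {w : R4 → R4} (hw : Iso4 w) (hn : Ex S n w) (hu : u ∈ S.U)
    (h : n * u * n⁻¹ ∈ S.U) : u ∈ S.UU {r | 24 ≤ r.1 ∧ 24 ≤ (w r).1} := by
  have key : ∀ {T T' : Set R4}, (∀ r ∈ T, w r ∈ T') → ∀ {u}, u ∈ S.UU T → n * u * n⁻¹ ∈ S.UU T' :=
    fun hT _ => hn.conj_mem hT
  obtain ⟨a, ha, b, hb, rfl⟩ := S.exists_mul_of_subset_union (Ψ₁ := {r | ΦF4.Pos (w r)}) (Ψ₂ := {r | ΦF4.Neg (w r)})
    ΦF4.closed_pos (fun _ h => h) (fun r _ => ΦF4.pos_or_neg (w r)) hu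
  rw [← conj_mul, mul_mem_cancel_left (show _ ∈ S.U from key (T' := {r | ΦF4.Pos r}) (fun _ h => h.2) ha)] at h
  have h1 := A.nd.eq_one_of_mem_B_of_mem_V (S.U_le_B h) (key (T' := {r | ΦF4.Neg r}) (fun _ h => h.2) hb)
  rw [conj_eq_one_iff.1 h1, mul_one]
  exact S.UU_mono (fun r hr => by exact ⟨(pos4 _).1 hr.1, (pos4 _).1 hr.2⟩) ha

omit A in
theorem lay_cl (h : Lay4 T T') : Cl T := cl_of fun a ha b hb => (h.cz a ha b hb).mono h.sub

omit A in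
theorem lay_cl' (h : Lay4 T T') : Cl T' := cl_of fun a ha b hb => h.cz a (h.sub ha) b (h.sub hb)

theorem lay_norm (h : Lay4 T T') : S.UU T ≤ normalizer (S.UU T' : Set G) :=
  A.norm_UU fun a ha b hb => h.cz a ha b (h.sub hb)

theorem lay_comm (h : Lay4 T T') {u v : G} (hu : u ∈ S.UU T) (hv : v ∈ S.UU T) : u * v * u⁻¹ * v⁻¹ ∈ S.UU T' :=
  A.comm_UU h.cz (A.lay_norm h) (A.lay_norm h) hu hv

theorem xprod_add (h : Lay4 T T') {t t' : R4 → F} (ht : ∀ r, r ∉ T → t r = 0) (ht' : ∀ r, r ∉ T → t' r = 0)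
    (L : List R4) : (S.xprod L t * S.xprod L t')⁻¹ * S.xprod L (t + t') ∈ S.UU T' := by
  induction L with
  | nil => simp [S.xprod_nil]
  | cons r L ih =>
    have h1 : S.x r (t' r) ∈ S.UU T := by
      simpa [StSys.xprod] using S.xprod_mem_UU' (L := [r]) fun r _ => ht' r
    convert mul_mem (UFP.conj_mem' (A.lay_norm h (S.xprod_mem_UU' (L := L) fun r _ => ht' r))
      (A.lay_comm h (inv_mem h1) (inv_mem (S.xprod_mem_UU' (L := L) fun r _ => ht r)))) ih using 1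
    simp only [S.xprod_cons, Pi.add_apply, S.x_add]
    group

theorem cf_x_self {r : R4} (hr : 24 ≤ r.1) (c : F) : cf4 S (S.x r c) r = c := by simp [A.cf_x hr]

theorem cf_x_ne {r s : R4} (hr : 24 ≤ r.1) (h : s ≠ r) (c : F) : cf4 S (S.x r c) s = 0 := by simp [A.cf_x hr, h]

theorem cf_congr0 (h : Lay4 T T') {u v : G} (hu : u ∈ S.UU T) (e : u⁻¹ * v ∈ S.UU T') {r : R4}
    (hr : r ∉ T') : cf4 S u r = cf4 S v r := by
  have hv : v ∈ S.UU T := by simpa using mul_mem hu (S.UU_mono h.sub e)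
  have k : ∀ {u}, u ∈ S.UU T → ∀ r, r ∉ T → cf4 S u r = 0 := fun hu _ => A.cf_eq_zero (lay_cl h) h.pos hu
  have h1 := A.xprod_add h (k hu) (t' := cf4 S u + cf4 S v) (fun r hr => by simp [k hu r hr, k hv r hr]) posL4
  rw [← add_assoc, show cf4 S u + cf4 S u = 0 from funext fun _ => CharTwo.add_self_eq_zero _, zero_add,
    A.xprod_cf (UU_le_U4 h.pos hu), A.xprod_cf (UU_le_U4 h.pos hv), mul_inv_rev, mul_assoc, mul_mem_cancel_right e,
    inv_mem_iff] at h1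
  have h2 := A.cf_eq_zero (lay_cl' h) (fun r hr => h.pos r (h.sub hr)) h1 hr
  rw [A.cf_xprod_pos fun r hr => by simp [cf_neg _ hr]] at h2
  exact CharTwo.add_eq_zero.1 h2

theorem cf_mul (h : Lay4 T T') {u v : G} (hu : u ∈ S.UU T) (hv : v ∈ S.UU T) {r : R4} (hr : r ∉ T') :
    cf4 S (u * v) r = cf4 S u r + cf4 S v r := by
  have k : ∀ {u}, u ∈ S.UU T → ∀ r, r ∉ T → cf4 S u r = 0 := fun hu _ => A.cf_eq_zero (lay_cl h) h.pos hu
  have h1 := A.xprod_add h (k hu) (k hv) posL4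
  rw [A.xprod_cf (UU_le_U4 h.pos hu), A.xprod_cf (UU_le_U4 h.pos hv)] at h1
  rw [A.cf_congr0 h (mul_mem hu hv) h1 hr, A.cf_xprod_pos fun r hr => by simp [cf_neg _ hr], Pi.add_apply]

theorem cf_inv (h : Lay4 T T') {u : G} (hu : u ∈ S.UU T) {r : R4} (hr : r ∉ T') :
    cf4 S u⁻¹ r = cf4 S u r := by
  rw [← CharTwo.add_eq_zero, ← A.cf_mul h (inv_mem hu) hu hr, inv_mul_cancel, A.cf_one]

theorem cf_congr (h : Lay4 T T') {u v : G} (hu : u ∈ S.UU T) (e : u⁻¹ * v ∈ S.UU T') {r : R4}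
    (hr : r ∉ T') : cf4 S u r = cf4 S v r := A.cf_congr0 h hu e hr

theorem mul_inv_mem (h : Lay4 T T') {u v : G} (hu : u ∈ S.UU T) (hv : v ∈ S.UU T)
    (e : ∀ r ∈ T, r ∉ T' → cf4 S u r = cf4 S v r) : u * v⁻¹ ∈ S.UU T' := by
  refine A.mem_of_cf (UU_le_U4 h.pos (mul_mem hu (inv_mem hv))) fun r hr => ?_
  by_cases h1 : r ∈ T
  · rw [A.cf_mul h hu (inv_mem hv) hr, A.cf_inv h hv hr, e r h1 hr, CharTwo.add_self_eq_zero]
  · exact A.cf_eq_zero (lay_cl h) h.pos (mul_mem hu (inv_mem hv)) h1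

theorem cf_xprod (h : Lay4 T T') {L : List R4} (hL : L.Nodup) (hT : ∀ r ∈ L, r ∈ T) (c : R4 → F)
    {r : R4} (hr : r ∉ T') : cf4 S (S.xprod L c) r = if r ∈ L then c r else 0 := by
  induction L with
  | nil => simp [S.xprod_nil, A.cf_one]
  | cons s L ih =>
    rw [List.nodup_cons] at hL
    rw [List.forall_mem_cons] at hT
    rw [S.xprod_cons, A.cf_mul h (S.x_mem_UU hT.1 _) (S.xprod_mem_UU hT.2 c) hr, ih hL.2 hT.2]
    by_cases e : r = s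
    · rw [e, A.cf_x_self (h.pos s hT.1), if_neg hL.1, add_zero, if_pos List.mem_cons_self]
    · rw [A.cf_x_ne (h.pos s hT.1) e, zero_add]; simp [e]

theorem eq_of_add {f g : G → F} (hf : ∀ u ∈ S.UU T, ∀ v ∈ S.UU T, f (u * v) = f u + f v)
    (hg : ∀ u ∈ S.UU T, ∀ v ∈ S.UU T, g (u * v) = g u + g v) (h : ∀ r ∈ T, ∀ c, f (S.x r c) = g (S.x r c))
    {u : G} (hu : u ∈ S.UU T) : f u = g u := by
  have k : ∀ {f : G → F}, (∀ u ∈ S.UU T, ∀ v ∈ S.UU T, f (u * v) = f u + f v) → f 1 = 0 := fun hf => by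
    simpa using hf 1 (one_mem _) 1 (one_mem _)
  exact S.UU_induction (p := fun u => f u = g u) (by rw [k hf, k hg]) (fun r hr c u hu ih => by
    rw [hf u hu _ (S.x_mem_UU hr c), hg u hu _ (S.x_mem_UU hr c), ih, h r hr]) hu

/-- the leading term of a commutator -/
theorem cf_comm {r a k : R4} (hr : 24 ≤ r.1) (ha : 24 ≤ a.1) (h : St r a k) {u : G} (hu : u ∈ Ug S r) (d : F) :
    (S.x k (cf4 S u r * d))⁻¹ * (u * S.x a d * u⁻¹ * (S.x a d)⁻¹) ∈ Ug S (k + 1) := by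
  have hk := h.1.lt ha
  have hk' : 24 ≤ k.1 := hr.trans hk.le
  have N := A.U_norm_Ug (k + 1) (by omega)
  have h1 := A.peel hr hu
  generalize cf4 S u r = c at *
  obtain ⟨v, rfl⟩ : ∃ v, u = S.x r c * v := ⟨_, (mul_inv_cancel_left _ _).symm⟩
  rw [inv_mul_cancel_left] at h1
  have e0 : wt r + wt a = wt k := h.1
  have h2 : v * S.x a d * v⁻¹ * (S.x a d)⁻¹ ∈ Ug S (k + 1) := by
    have e1 : {s | wt r + 1 + wt a ≤ wt s} ⊆ {s : R4 | k.1 + 1 ≤ s.1} := fun s hs => by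
      have : wt r + 1 + wt a ≤ wt s := hs
      exact (wt_lt k s).1 (by omega)
    have e2 : {s : R4 | r.1 + 1 ≤ s.1} ⊆ {s | wt r + 1 ≤ wt s} := fun s hs => (wt_lt r s).2 hs
    exact S.UU_mono e1 (A.comm_wt (by have := (wt_pos r).2 hr; omega) ((wt_pos a).2 ha) (S.UU_mono e2 h1)
      (S.x_mem_UU (Ψ := {s | wt a ≤ wt s}) (le_refl (wt a)) d))
  have h3 : (S.x k (c * d))⁻¹ * (S.x r c * S.x a d * (S.x r c)⁻¹ * (S.x a d)⁻¹) ∈ Ug S (k + 1) := by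
    rcases cf_tab r a with e | e | e | e | e
    · exact absurd (cf_ot r a e k h.1) h.2
    · omega
    · rw [A.rel.cm _ _ _ e.1, h.1.uniq e.1.1]; simp
    · rw [A.rel.ls _ _ _ _ e, ← h.1.uniq e.2.2.1, inv_mul_cancel_left]
      exact S.x_mem_UU (h.1.uniq e.2.2.1 ▸ e.2.2.2.lt ha) _
    · have e1 := h.1.symm.uniq e.2.2.1
      rw [show S.x r c * S.x a d * (S.x r c)⁻¹ * (S.x a d)⁻¹ =
        (S.x a d * S.x r c * (S.x a d)⁻¹ * (S.x r c)⁻¹)⁻¹ by group, A.rel.ls _ _ _ _ e, ← e1, mul_inv_rev,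
        ← mul_assoc, mul_comm d c]
      nth_rw 1 [A.x_inv k]
      exact UFP.conj_mem (N (x_mem_U4 hk' _)) (inv_mem (S.x_mem_UU (e1 ▸ e.2.2.2.lt hr) _))
  convert mul_mem (UFP.conj_mem' (N (x_mem_U4 hk' (c * d))) (UFP.conj_mem (N (x_mem_U4 hr c)) h2)) h3 using 1
  group

omit A in
/-- induction on the leading root -/
theorem ind_Ug {P : G → Prop} (h1 : P 1) (h : ∀ r : R4, 24 ≤ r.1 → ∀ u ∈ Ug S r, (∀ v ∈ Ug S (r + 1), P v) → P u)
    {u : G} (hu : u ∈ S.U) : P u := by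
  have key : ∀ m ≤ 24, ∀ u ∈ Ug S (48 - m), P u := fun m => by
    induction m with
    | zero => intro _ u hu; rw [Ug_top, mem_bot] at hu; exact hu ▸ h1
    | succ m ih =>
      intro hm u hu
      exact h ⟨48 - (m + 1), by omega⟩ (by simp only; omega) u hu fun v hv =>
        ih (by omega) v (Ug_mono (by simp only; omega) hv)
  exact key 24 le_rfl u (U_eq_Ug (S := S) ▸ hu)

omit A in
theorem exists_st {r a : R4} (hr : 24 ≤ r.1) (ha : 24 ≤ a.1) (h : ip4 r a < 0) : ∃ k, St r a k := by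
  have k : ∀ k, Ad r a k → ∃ k, St r a k := fun k e => ⟨k, e, fun f => h.ne f.ip⟩
  rcases cf_tab r a with e | e | e | e | e
  · omega
  · omega
  exacts [k _ e.1.1, k _ e.2.2.1, k _ e.2.2.1.symm]

/-- elimination modulo a normal subgroup `U_K` of `U` -/
theorem elim {Z : Set R4} (hK : ∀ a, 24 ≤ a.1 → ∀ b ∈ K, Cz K a b) (hK' : ∀ r ∈ K, 24 ≤ r.1)
    (hT : ∀ r ∈ T, 24 ≤ r.1) (h1 : ∀ r ∈ Z, ∀ a ∈ T, Cz K r a)
    (h2 : ∀ r, 24 ≤ r.1 → r ∉ Z → ∃ a ∈ T, ∃ k, k ∉ K ∧ St r a k) {u : G} (hu : u ∈ S.U)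
    (h : ∀ a ∈ T, u * S.x a 1 * u⁻¹ * (S.x a 1)⁻¹ ∈ S.UU K) : u ∈ S.UU Z := by
  have N : S.U ≤ normalizer (S.UU K : Set G) := A.norm_UU fun a ha => hK a ((pos4 a).1 ha)
  revert h
  refine ind_Ug (P := fun u => (∀ a ∈ T, u * S.x a 1 * u⁻¹ * (S.x a 1)⁻¹ ∈ S.UU K) → u ∈ S.UU Z)
    (fun _ => one_mem _) (fun r hr u hu ih h => ?_) hu
  have h3 := A.peel hr hu
  by_cases hZ : r ∈ Z
  · rw [← mul_mem_cancel_left (inv_mem (S.x_mem_UU hZ (cf4 S u r)))]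
    refine ih _ h3 fun a ha => ?_
    convert UFP.conj_mem' (N (x_mem_U4 hr (cf4 S u r)))
      (mul_mem (h a ha) (inv_mem (A.comm_x (h1 r hZ a ha) (cf4 S u r) 1))) using 1
    group
  · obtain ⟨a, ha, k, hk, e⟩ := h2 r hr hZ
    have h4 := A.cf_lead (hr.trans (e.1.lt (hT a ha)).le) (A.cf_comm hr (hT a ha) e hu 1)
    rw [A.cf_eq_zero (cl_of fun a ha => hK a (hK' a ha)) hK' (h a ha) hk, mul_one] at h4
    rw [← h4, S.x_zero, inv_one, one_mul] at h3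
    exact ih u h3 h

/-- elimination, list form -/
theorem elimL {T Z K : List R4} (hc : (∀ a : R4, 24 ≤ a.1 → ∀ b ∈ K, CzL K a b) ∧ (∀ r ∈ K, 24 ≤ r.1) ∧
    (∀ r ∈ T, 24 ≤ r.1) ∧ (∀ r ∈ Z, ∀ a ∈ T, CzL K r a) ∧
    ∀ r : R4, 24 ≤ r.1 → r ∉ Z → ∃ a ∈ T, ip4 r a < 0 ∧ ∀ k, Ad r a k → k ∉ K) {u : G} (hu : u ∈ S.U)
    (h : ∀ a ∈ T, u * S.x a 1 * u⁻¹ * (S.x a 1)⁻¹ ∈ UL S K) : u ∈ UL S Z := by
  refine A.elim (fun a ha b hb => (hc.1 a ha b hb).cz) hc.2.1 hc.2.2.1 (fun r hr a ha => (hc.2.2.2.1 r hr a ha).cz)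
    (fun r hr hZ => ?_) hu h
  obtain ⟨a, ha, e, hk⟩ := hc.2.2.2.2 r hr hZ
  obtain ⟨k, f⟩ := exists_st hr (hc.2.2.1 a ha) e
  exact ⟨a, ha, k, hk k f.1, f⟩

/-- commuting root elements in a half space are independent -/
theorem xprod_inj' {L : List R4} (hL : L.Nodup) {W : List R4} (h : ∀ r ∈ L, 24 ≤ (wd W r).1)
    {c c' : R4 → F} (e : S.xprod L c = S.xprod L c') : ∀ r ∈ L, c r = c' r := by
  intro r hr
  have e1 := congrArg (fun g => nw S W * g * (nw S W)⁻¹) e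
  simp only [(A.ex_nw W).xprod (wd_reverse W)] at e1
  simpa only [wd_reverse] using A.nd.xprod_inj (hL.map (iso_wd W).inj) (fun s hs => by
    obtain ⟨r, hr, rfl⟩ := List.mem_map.1 hs
    exact (pos4 _).2 (h r hr)) e1 _ (List.mem_map_of_mem hr)

theorem two_eq_one {a b : R4} (h1 : a ≠ b) (h2 : b ≠ a.rev) {c d : F} (e : S.x a c * S.x b d = 1) :
    c = 0 ∧ d = 0 := by
  have hc : c = 0 := by_contra fun hc => h1 (A.x_inj hc ((eq_inv_of_mul_eq_one_left e).trans (A.x_inv b d))).1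
  rw [hc, S.x_zero, one_mul, A.x_eq_one] at e
  exact ⟨hc, e⟩

theorem three_eq_one {l b k m : R4} (h : Ls l b k m) {c d e : F} (h1 : S.x b c * S.x k d * S.x m e = 1) :
    c = 0 ∧ d = 0 ∧ e = 0 := by
  have h0 : Ls 25 27 28 30 := by decide +kernel
  obtain ⟨W, e1, e2⟩ := ptrans (iff_of_true h.1 h0.1) (iff_of_false h.2.1 h0.2.1) (h.ip.1.trans h0.ip.1.symm)
  have h2 := (iso_wd W).ls h
  rw [e1, e2] at h2
  have e3 := h2.2.2.1.uniq h0.2.2.1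
  rw [e3] at h2
  have e4 := h2.2.2.2.uniq h0.2.2.2
  have h3 := congrArg (fun g => nw S W * g * (nw S W)⁻¹) h1
  simp only [← conj_mul, A.ex_nw W _ _, e2, e3, e4] at h3
  have h4 := A.nd.xprod_inj (L := [27, 28, 30]) (by decide) (fun r hr => (pos4 r).2 (by revert r; decide))
    (t := fun r => if r = 27 then c else if r = 28 then d else e) (t' := fun _ => 0)
    (by rw [S.xprod_zero]; simpa [StSys.xprod, mul_assoc] using h3)
  exact ⟨by simpa using h4 27 (by decide), by simpa using h4 28 (by decide), by simpa using h4 30 (by decide)⟩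

/-- the commutator map of the field case is linear -/
theorem linf {n : ℕ} (hn : 24 ≤ n) {r : R4} (hr : 24 ≤ r.1) {w : G} (hw : w ∈ S.U)
    (h : w * S.x r 1 * w⁻¹ * (S.x r 1)⁻¹ ∈ Ug S n) (a : F) : w * S.x r a * w⁻¹ * (S.x r a)⁻¹ ∈ Ug S n := by
  have N := A.U_norm_Ug n hn
  revert h
  refine ind_Ug (P := fun w => w * S.x r 1 * w⁻¹ * (S.x r 1)⁻¹ ∈ Ug S n → w * S.x r a * w⁻¹ * (S.x r a)⁻¹ ∈ Ug S n)
    (fun _ => by simp) (fun s hs u hu ih h => ?_) hw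
  have h3 := A.peel hs hu
  by_cases e : 0 ≤ ip4 s r
  · generalize cf4 S u s = c at h3
    obtain ⟨v, rfl⟩ : ∃ v, u = S.x s c * v := ⟨_, (mul_inv_cancel_left _ _).symm⟩
    rw [inv_mul_cancel_left] at h3
    have k : ∀ b, S.x s c * v * S.x r b * (S.x s c * v)⁻¹ * (S.x r b)⁻¹ =
        S.x s c * (v * S.x r b * v⁻¹ * (S.x r b)⁻¹) * (S.x s c)⁻¹ := fun b => by
      calc _ = S.x s c * (v * S.x r b * v⁻¹) * (S.x r b * S.x s c)⁻¹ := by group
        _ = _ := by rw [← A.com e]; group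
    rw [k] at h ⊢
    exact UFP.conj_mem (N (x_mem_U4 hs c)) (ih v h3 ((mem_normalizer_iff.1 (N (x_mem_U4 hs c)) _).2 h))
  obtain ⟨k, f⟩ := exists_st hs hr (not_le.1 e)
  by_cases hk : n ≤ k.1
  · have e0 : wt s + wt r = wt k := f.1
    have h4 := A.comm_wt ((wt_pos s).2 hs) ((wt_pos r).2 hr) ((Ug_eq_wt (S := S) s).le hu)
      (S.x_mem_UU (Ψ := {s | wt r ≤ wt s}) (le_refl (wt r)) a)
    rw [e0, ← Ug_eq_wt] at h4
    exact Ug_mono hk h4
  · have h4 := A.cf_lead (hs.trans (f.1.lt hr).le) (A.cf_comm hs hr f hu 1)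
    rw [A.cf_eq_zero (cl_Ug hn) (fun _ h => hn.trans h) h hk, mul_one] at h4
    rw [← h4, S.x_zero, inv_one, one_mul] at h3
    exact ih u h3 h

end Amb

end CfsgLib.SLF
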