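import Mathlib
import Cfsg.Agent.Lib.SLF.Kit
import Cfsg.Agent.Lib.SLF.Cf
import Cfsg.Agent.Lib.Core.Commutator
import Cfsg.Agent.Lib.Transfer.Thompson

/-!
# Sylow subgroups, perfect subgroups
-/

set_option autoImplicit false
set_option linter.unusedSectionVars false

namespace CfsgLib.SLF

open Cfsg.Lie CfsgLib.RGD CfsgLib.Stein CfsgLib.Semi CfsgLib.SLE CfsgLib.UFP Subgroup
open scoped commutatorElement Pointwise

universe u

variable {F : Type} [Field F] [Finite F] [CharP F 2] {G : Type u} [Group G] [Finite G]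
  {S : StSys ΦF4 F G}

/-- `k` is a sum of two roots of `T` of its length -/
def SyG1 (T : Set R4) (k : R4) : Prop := ∃ a, a ∈ T ∧ rf4 a k ∈ T ∧ Cm a (rf4 a k) k

instance decSyG1 (T : Set R4) [DecidablePred (· ∈ T)] (k : R4) : Decidable (SyG1 T k) :=
  inferInstanceAs (Decidable (∃ _, _))

/-- `X_k` lies in the derived group of `U_T` -/
def SyG2 (T : Set R4) (k : R4) : Prop := SyG1 T k ∨ ∃ l, l ∈ T ∧ Lg l ∧ ∃ b, b ∈ T ∧
  (Ls l b k (rf4 b l) ∧ SyG1 T (rf4 b l) ∨ Ls l b (rf4 l b) k ∧ SyG1 T (rf4 l b))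

instance decSyG2 (T : Set R4) [DecidablePred (· ∈ T)] (k : R4) : Decidable (SyG2 T k) :=
  inferInstanceAs (Decidable (_ ∨ _))

theorem Ex.smul_UU {g : G} {w : R4 → R4} (h : Ex S g w) (hw : Function.Surjective w) {T T' : Set R4}
    (e : ∀ r, w r ∈ T' ↔ r ∈ T) : MulAut.conj g • S.UU T = S.UU T' := by
  refine le_antisymm (map_le_iff_le_comap.2 fun u hu => h.conj_mem (fun r hr => (e r).2 hr) hu)
    (S.UU_le_iff.2 (hw.forall.2 fun r hr c => ?_))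
  rw [← h]
  exact smul_mem_pointwise_smul _ (MulAut.conj g) _ (S.x_mem_UU ((e r).1 hr) c)

theorem U_eq_UL : S.U = UL S posL4 :=
  U_eq_Ug.trans (congrArg S.UU (Set.ext (show ∀ r : R4, 24 ≤ r.1 ↔ r ∈ posL4 by decide +kernel)))

namespace Amb

variable (A : Amb S)
include A

theorem le_der {T K : Set R4} {H : Subgroup G} (hH : S.UU T ≤ H) (h : ∀ k, k ∈ K → SyG2 T k) :
    S.UU K ≤ ⁅H, H⁆ := by
  have m : ∀ {a b}, a ∈ T → b ∈ T → ∀ u v, S.x a u * S.x b v * (S.x a u)⁻¹ * (S.x b v)⁻¹ ∈ ⁅H, H⁆ :=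
    fun ha hb u v => commutator_mem_commutator (hH (S.x_mem_UU ha u)) (hH (S.x_mem_UU hb v))
  have k1 : ∀ k, SyG1 T k → ∀ c, S.x k c ∈ ⁅H, H⁆ := fun k ⟨a, ha, hb, e⟩ c => by
    simpa only [A.rel.cm _ _ _ e, mul_one] using m ha hb c 1
  refine S.UU_le_iff.2 fun k hk c => ?_
  obtain e | ⟨l, hl, -, b, hb, ⟨e, g⟩ | ⟨e, g⟩⟩ := h k hk
  · exact k1 k e c
  · simpa only [A.rel.ls _ _ _ _ e, mul_one, mul_mem_cancel_right (k1 _ g _)] using m hl hb c 1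
  · simpa only [A.rel.ls _ _ _ _ e, one_pow, mul_one, mul_mem_cancel_left (k1 _ g _)] using m hl hb c 1

theorem pf_UU {T : Set R4} (h : ∀ k, k ∈ T → SyG2 T k) : Pf (S.UU T) :=
  ⟨A.le_der le_rfl h, S.UU_le_iff.2 fun d hd c => subset_closure ⟨S.x_mem_UU hd c, A.x_sq d c⟩⟩

theorem der_eq {T K : List R4} (h1 : ∀ a ∈ T, ∀ b ∈ T, CzL K a b) (h2 : ∀ a ∈ T, ∀ b ∈ K, CzL K a b)
    (h3 : ∀ k, k ∈ K → SyG2 {r | r ∈ T} k) : ⁅UL S T, UL S T⁆ = UL S K :=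
  le_antisymm (commutator_le.2 fun _ hu _ hv => A.comm_UU (fun a ha b hb => (h1 a ha b hb).cz)
    (A.norm_UL h2) (A.norm_UL h2) hu hv) (A.le_der le_rfl h3)

theorem UU_le_cen (a b : R4) (u v : F) :
    S.UU {r | 0 ≤ ip4 r a ∧ 0 ≤ ip4 r b} ≤ S.grp ⊓ centralizer {S.x a u * S.x b v} :=
  le_inf (S.UU_le_grp _) (S.UU_le_iff.2 fun _ hr c => mem_centralizer_singleton_iff.2
    (Commute.mul_right (A.com hr.1 c u) (A.com hr.2 c v)))

theorem eq_one {g : G} (h1 : g ∈ S.grp) (h2 : g ∈ CL S) : g = 1 :=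
  mem_bot.1 (A.Z_triv.le ⟨h1, h2⟩)

theorem pg_U : IsPGroup 2 S.U := St.isPGroup_U A.nd 2

theorem card_U : Nat.card S.U = Nat.card F ^ 24 := by
  rw [U_eq_UL]
  exact A.card_UL (by decide +kernel)

theorem odd_relIndex : Odd (S.U.relIndex S.grp) := by
  rw [← StSys.P_univ, ← Nat.not_even_iff_odd, even_iff_two_dvd]
  exact St.not_dvd_relIndex_U A.nd 2 A.H_odd.not_two_dvd_nat _

theorem syl_U : Tech.IsSylowIn 2 S.U S.grp := ⟨S.U_le_grp, A.pg_U, A.odd_relIndex.not_two_dvd_nat⟩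

theorem le_U {P : Subgroup G} (hP : IsPGroup 2 P) (h1 : P ≤ S.grp) (h2 : S.U ≤ P) : P ≤ S.U :=
  (A.syl_U.eq_of_le hP h2 h1).le

theorem exists_conj_U {P : Subgroup G} (hP : IsPGroup 2 P) (h1 : P ≤ S.grp) :
    ∃ l ∈ S.grp, ∀ p ∈ P, l * p * l⁻¹ ∈ S.U :=
  (A.syl_U.exists_cj_le hP h1).imp fun _ h => ⟨h.1, Tech.cj_le_iff.1 h.2⟩

theorem eq_cj_U {P : Subgroup G} (hP : IsPGroup 2 P) (h1 : P ≤ S.grp)
    (h2 : Nat.card F ^ 24 ≤ Nat.card P) : ∃ l ∈ S.grp, P = (SLE.cj S l).U := by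
  obtain ⟨l, hl, e⟩ := A.syl_U.exists_cj_eq (A.syl_U.of_card_le hP h1 (A.card_U ▸ h2))
  refine ⟨l, hl, ext fun x => ?_⟩
  rw [← e, Tech.mem_cj]
  exact mem_cj_UU.symm

theorem mem_U_of_norm {g : G} (hg : g ∈ S.grp) (hp : IsPGroup 2 (zpowers g))
    (h : g ∈ normalizer (S.U : Set G)) : g ∈ S.U :=
  A.le_U (hp.to_sup_of_normal_right' A.pg_U (zpowers_le.2 h))
    (sup_le (zpowers_le.2 hg) S.U_le_grp) le_sup_right (mem_sup_left (mem_zpowers g))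

theorem exists_norm_U {P : Subgroup G} (hP : IsPGroup 2 P) (h : P ≤ NL S) :
    ∃ l ∈ S.grp, ∀ p ∈ P, l * p * l⁻¹ ∈ normalizer (S.U : Set G) := by
  have cg : ∀ {g l : G}, g ∈ NL S → l ∈ S.grp → g * l * g⁻¹ ∈ S.grp := fun hg hl => (mem_normalizer_iff.1 hg _).1 hl
  obtain ⟨T, hT⟩ := (hP.comap_subtype (K := NL S)).exists_le_sylow
  obtain ⟨T', hT'⟩ := (A.pg_U.comap_subtype (K := NL S)).exists_le_sylow
  obtain ⟨k, hk⟩ := MulAction.exists_smul_eq (NL S) T T'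
  have hU : ∀ u ∈ S.U, u ∈ T'.1.map (NL S).subtype := fun u hu =>
    ⟨⟨u, le_normalizer (S.U_le_grp hu)⟩, hT' hu, rfl⟩
  have h1 : T'.1.map (NL S).subtype ⊓ S.grp ≤ S.U :=
    A.le_U (T'.2.map _).to_inf_left inf_le_right (le_inf hU S.U_le_grp)
  have h2 : T'.1.map (NL S).subtype ≤ normalizer (S.U : Set G) := fun t ht =>
    mem_normalizer_fintype fun u hu => h1 (mem_inf.2 ⟨mul_mem (mul_mem ht (hU u hu)) (inv_mem ht),
      cg (map_subtype_le _ ht) (S.U_le_grp hu)⟩)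
  obtain ⟨l, hl, h3⟩ := A.exists_conj_U (A.pg_U.map (MulAut.conj (k : G)⁻¹).toMonoidHom)
    (by rintro _ ⟨u, hu, rfl⟩; exact cg (inv_mem k.2) (S.U_le_grp hu))
  have h4 : l * (k : G)⁻¹ ∈ normalizer (S.U : Set G) := mem_normalizer_fintype fun u hu => by
    have := h3 _ ⟨u, hu, rfl⟩
    simpa [mul_assoc] using this
  refine ⟨l, hl, fun p hp => ?_⟩
  have h5 : (k : G) * p * (k : G)⁻¹ ∈ T'.1.map (NL S).subtype := by
    refine ⟨k * ⟨p, h hp⟩ * k⁻¹, ?_, rfl⟩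
    rw [← hk]
    exact smul_mem_pointwise_smul (⟨p, h hp⟩ : NL S) (MulAut.conj k) T.1 (hT hp)
  have := mul_mem (mul_mem h4 (h2 h5)) (inv_mem h4)
  simpa [mul_assoc] using this

theorem exists_norm_cj {P : Subgroup G} (hP : IsPGroup 2 P) (h : P ≤ NL S) :
    ∃ l ∈ S.grp, P ≤ normalizer ((SLE.cj S l).U : Set G) := by
  obtain ⟨l, hl, h1⟩ := A.exists_norm_U hP h
  refine ⟨l⁻¹, inv_mem hl, fun p hp => mem_normalizer_fintype fun u hu => ?_⟩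
  have := (mem_normalizer_iff.1 (h1 p hp) _).1 (mem_cj_UU.1 hu)
  exact mem_cj_UU.2 (by simpa [mul_assoc, StSys.U] using this)

theorem U_le_Y47 : S.U ≤ Y4 S 47 :=
  U_eq_Ug.le.trans (S.UU_mono (show ∀ r : R4, 24 ≤ r.1 → 0 ≤ ip4 r 47 by decide +kernel))

theorem U_le_Y44 : S.U ≤ Y4 S 44 :=
  U_eq_Ug.le.trans (S.UU_mono (show ∀ r : R4, 24 ≤ r.1 → 0 ≤ ip4 r 44 by decide +kernel))

theorem Q44_eq : Q4 S 44 = Ug S 33 :=
  congrArg S.UU (Set.ext (show ∀ r : R4, 1 ≤ ip4 r 44 ↔ 33 ≤ r.1 by decide +kernel))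

theorem V44_eq : V4 S 44 = Ug S 41 :=
  congrArg S.UU (Set.ext (show ∀ r : R4, (r = 44 ∨ (ip4 r 44 = 2 ∧ ¬ (Lg r ↔ Lg 44))) ↔ 41 ≤ r.1 by decide +kernel))

theorem Q47_eq : Q4 S 47 = UL S [24, 26, 29, 31, 32, 36, 38, 39, 40, 42, 43, 44, 45, 46, 47] :=
  congrArg S.UU (Set.ext (show ∀ r : R4, 1 ≤ ip4 r 47 ↔
    r ∈ [24, 26, 29, 31, 32, 36, 38, 39, 40, 42, 43, 44, 45, 46, 47] by decide +kernel))

theorem V47_eq : V4 S 47 = UL S [29, 36, 38, 39, 40, 44, 47] :=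
  congrArg S.UU (Set.ext (show ∀ r : R4, (r = 47 ∨ (ip4 r 47 = 2 ∧ ¬ (Lg r ↔ Lg 47))) ↔
    r ∈ [29, 36, 38, 39, 40, 44, 47] by decide +kernel))

theorem V_le_Q (r : R4) : V4 S r ≤ Q4 S r :=
  S.UU_mono ((show ∀ r s : R4, (s = r ∨ (ip4 s r = 2 ∧ ¬ (Lg s ↔ Lg r))) → 1 ≤ ip4 s r by decide +kernel) r)

theorem Q_le_Yo (r : R4) : Q4 S r ≤ Yo S r := S.UU_mono fun _ h => Or.inl h

theorem Yo_le_Y (r : R4) : Yo S r ≤ Y4 S r := S.UU_mono fun _ h => Or.elim h le_of_lt fun h => h.1.ge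

theorem Y_le_cent (r : R4) : Y4 S r ≤ centralizer (S.X r : Set G) := fun _ hu _ hv =>
  (A.commute_UU (fun _ h _ e => (Set.mem_singleton_iff.1 e).symm ▸ h) hu hv).symm

theorem Q_le_cent (r : R4) : Q4 S r ≤ centralizer (V4 S r : Set G) := fun _ hu _ hv =>
  (A.commute_UU ((show ∀ r a : R4, 1 ≤ ip4 a r → ∀ s, (s = r ∨ (ip4 s r = 2 ∧ ¬ (Lg s ↔ Lg r))) → 0 ≤ ip4 a s by
    decide +kernel) r) hu hv).symm

theorem Y_norm_Q (r : R4) : Y4 S r ≤ normalizer (Q4 S r : Set G) :=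
  A.norm_UU fun a ha b hb => cz_iff.2 ((show ∀ r b : R4, 1 ≤ ip4 b r → ∀ a, 0 ≤ ip4 a r → 0 ≤ ip4 a b ∨
    (a.1 + b.1 ≠ 47 ∧ 1 ≤ ip4 (rf4 a b) r ∧ 1 ≤ ip4 (rf4 b a) r) by decide +kernel) r b hb a ha)

theorem Y_norm_V (r : R4) : Y4 S r ≤ normalizer (V4 S r : Set G) := by
  have : ∀ r : R4, ∀ T : Set R4, T = {s | s = r ∨ (ip4 s r = 2 ∧ ¬ (Lg s ↔ Lg r))} → ∀ b ∈ T, ∀ a, 0 ≤ ip4 a r →
      0 ≤ ip4 a b ∨ (a.1 + b.1 ≠ 47 ∧ rf4 a b ∈ T ∧ rf4 b a ∈ T) := by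
    simp only [forall_eq, Set.mem_setOf_eq]
    decide +kernel
  exact A.norm_UU fun a ha b hb => cz_iff.2 (this r _ rfl b hb a ha)

theorem comm_Q (r : R4) {u v : G} (hu : u ∈ Q4 S r) (hv : v ∈ Q4 S r) : u * v * u⁻¹ * v⁻¹ ∈ S.X r :=
  have k : Q4 S r ≤ normalizer (S.X r : Set G) := (A.Q_le_Yo r).trans ((A.Yo_le_Y r).trans
    ((A.Y_le_cent r).trans (centralizer_le_normalizer _)))
  A.comm_UU (fun a ha b hb => cz_iff.2 ((show ∀ r a : R4, 1 ≤ ip4 a r → ∀ b, 1 ≤ ip4 b r → 0 ≤ ip4 a b ∨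
    (a.1 + b.1 ≠ 47 ∧ rf4 a b = r ∧ rf4 b a = r) by decide +kernel) r a ha b hb)) k k hu hv

theorem sq_Q (r : R4) {u : G} (hu : u ∈ Q4 S r) : u * u ∈ S.X r := by
  refine S.UU_induction (p := fun u => u * u ∈ S.X r) (mul_mem (one_mem _) (one_mem _)) (fun s hs c g hg ih => ?_) hu
  rw [show g * S.x s c * (g * S.x s c) = g * g * (g⁻¹ * S.x s c * g⁻¹⁻¹ * (S.x s c)⁻¹) * (S.x s c * S.x s c) by group,
    A.x_sq, mul_one]
  exact mul_mem ih (A.comm_Q r (inv_mem hg) (S.x_mem_UU hs c))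

theorem pg_Q (r : R4) : IsPGroup 2 (Q4 S r) := fun u => ⟨2, Subtype.ext (by
  obtain ⟨c, e⟩ := S.mem_X_iff.1 (A.sq_Q r u.2)
  rw [show 2 ^ 2 = 2 * 2 from rfl, pow_mul, pow_two, pow_two, coe_mul, coe_mul, e, A.x_sq, coe_one])⟩

theorem conj_nw (L : List R4) (r : R4) : MulAut.conj (nw S L) • S.X r = S.X (wd L r) ∧
    MulAut.conj (nw S L) • Q4 S r = Q4 S (wd L r) ∧ MulAut.conj (nw S L) • V4 S r = V4 S (wd L r) ∧
    MulAut.conj (nw S L) • Y4 S r = Y4 S (wd L r) ∧ MulAut.conj (nw S L) • Yo S r = Yo S (wd L r) :=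
  have h := iso_wd L
  have k := @Ex.smul_UU _ _ _ _ _ _ _ _ _ _ (A.ex_nw L) h.surj
  ⟨k fun _ => h.inj.eq_iff, k fun s => by simp only [Set.mem_setOf_eq, h _ _],
    k fun s => by simp only [Set.mem_setOf_eq, h _ _, h.inj.eq_iff, h.lg],
    k fun s => by simp only [Set.mem_setOf_eq, h _ _], k fun s => h.yr r s⟩

theorem pf_grp : Pf S.grp := A.pf_UU (by decide +kernel)

theorem pf_Y (r : R4) : Pf (Y4 S r) := by
  obtain ⟨L, e⟩ := trans1 (show Lg (top r) ↔ Lg r by revert r; decide +kernel)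
  rw [← e, ← (A.conj_nw L _).2.2.2.1]
  refine Pf.conj ?_ _
  unfold top
  split_ifs
  · exact A.pf_UU (by decide +kernel)
  · exact A.pf_UU (by decide +kernel)

theorem pf_one : Pf (closure (Set.range fun r => S.x r 1)) := by
  refine ⟨(closure_le _).2 ?_, closure_mono ?_⟩
  · rintro _ ⟨k, rfl⟩
    obtain ⟨a, -, -, e⟩ := (show ∀ k, SyG1 Set.univ k by decide +kernel) k
    simpa only [commutatorElement_def, A.rel.cm _ _ _ e, mul_one, SetLike.mem_coe] using commutator_mem_commutator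
      (subset_closure (k := Set.range fun r => S.x r 1) ⟨a, rfl⟩)
      (subset_closure (k := Set.range fun r => S.x r 1) ⟨rf4 a k, rfl⟩)
  · rintro _ ⟨k, rfl⟩
    exact ⟨subset_closure ⟨k, rfl⟩, A.x_sq k 1⟩

theorem der_U : S.UU {r | 24 ≤ r.1 ∧ r ∉ [24, 25, 27, 28, 30, 33]} ≤ ⁅S.U, S.U⁆ :=
  A.le_der U_eq_Ug.ge (by decide +kernel)

theorem der_Rm : ⁅UL S lRm, UL S lRm⁆ = UL S lE :=
  A.der_eq (by decide +kernel) (by decide +kernel) (by decide +kernel)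

theorem der_Rd : ⁅UL S lRd, UL S lRd⁆ = UL S [39, 40, 44, 45, 46, 47] :=
  A.der_eq (by decide +kernel) (by decide +kernel) (by decide +kernel)

theorem Rm_le : UL S lRm ≤ ⁅S.grp ⊓ centralizer {ic S}, S.grp ⊓ centralizer {ic S}⁆ :=
  A.le_der (A.UU_le_cen _ _ 1 1) (by decide +kernel)

theorem Rd_le : UL S lRd ≤ ⁅S.grp ⊓ centralizer {id4 S}, S.grp ⊓ centralizer {id4 S}⁆ :=
  A.le_der (A.UU_le_cen _ _ 1 1) (by decide +kernel)

theorem der_P2 (hq : Nat.card F = 2) : ⁅UL S (33 :: lY2), UL S (33 :: lY2)⁆ = UL S lY2 := by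
  have _ := hq
  have k : UL S [33] ≤ normalizer (UL S lY2 : Set G) := A.norm_UL (by decide +kernel)
  have k' : UL S (33 :: lY2) ≤ normalizer (UL S lY2 : Set G) := S.UU_le_iff.2 fun r hr c =>
    (List.mem_cons.1 hr).elim (fun e => k (S.x_mem_UU (List.mem_singleton.2 e) c))
      fun e => le_normalizer (S.x_mem_UU e c)
  refine le_antisymm (Core.commutator_closure_left_le (fun _ h => k' (subset_closure h)) ?_)
    (A.le_der le_rfl (by decide +kernel))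
  rintro _ ⟨r, hr, c, rfl⟩ v hv
  rcases List.mem_cons.1 hr with e | e
  · exact A.comm_UU (fun a ha b hb => CzL.cz ((show ∀ a ∈ [33], ∀ b ∈ 33 :: lY2, CzL lY2 a b by decide +kernel)
      a ha b hb)) k k' (S.x_mem_UU (List.mem_singleton.2 e) c) hv
  · rw [commutatorElement_def, mul_assoc, mul_assoc, ← mul_assoc v]
    exact mul_mem (S.x_mem_UU e c) ((mem_normalizer_iff.1 (k' hv) _).1 (inv_mem (S.x_mem_UU e c)))

end Amb

namespace Sit

variable {t : G} (h : Sit S t)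
include h

theorem cj (g : G) : Sit (cj S g) (g * t * g⁻¹) := by
  refine ⟨h.amb.cj g, by rw [conj_mul, h.t2]; group, fun e => h.t1 (by simpa using e),
    mem_cj_CL.2 (by simpa [mul_assoc] using h.tC), fun x hx => mem_cj_NL.2 (h.CN ?_), fun P h1 h2 => ?_⟩
  · rw [mem_centralizer_singleton_iff] at hx ⊢
    rw [show g⁻¹ * x * g * t = g⁻¹ * (x * (g * t * g⁻¹)) * g by group, hx]
    group
  · obtain ⟨P, rfl⟩ := BA.exists_map (MulAut.conj g) P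
    have e := P.equivMapOfInjective (MulAut.conj g).toMonoidHom (MulAut.conj g).injective
    exact e.isCyclic.1 (h.cyc P (BA.le_CL (MulAut.conj g) (fun _ _ => rfl) h1) (h2.of_equiv e.symm))

theorem t_not_mem : t ∉ S.grp := fun e => h.t1 (h.amb.eq_one e h.tC)

theorem com {l : G} (hl : l ∈ S.grp) : l * t = t * l := h.tC l hl

theorem eq_of_two {P : Subgroup G} (hP : IsPGroup 2 P) {a b : G} (ha : a ∈ P) (hb : b ∈ P)
    (ha' : a ∈ CL S) (hb' : b ∈ CL S) (a2 : a * a = 1) (b2 : b * b = 1) (a1 : a ≠ 1) (b1 : b ≠ 1) :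
    a = b :=
  Transfer.eq_of_orderOf_eq_two_of_isCyclic (h.cyc (P ⊓ CL S) inf_le_right hP.to_inf_left) ⟨ha, ha'⟩ ⟨hb, hb'⟩
    (orderOf_eq_prime ((pow_two a).trans a2) a1) (orderOf_eq_prime ((pow_two b).trans b2) b1)

theorem pg_sup {c : G} (hc : IsPGroup 2 (zpowers c)) (ct : c * t = t * c) :
    IsPGroup 2 (zpowers t ⊔ zpowers c : Subgroup G) :=
  (UFP.pgroup_zpowers_of_sq h.t2).to_sup_of_normal_left' hc (zpowers_le.2 (centralizer_le_normalizer _ (by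
    rw [zpowers_eq_closure, centralizer_closure]
    exact mem_centralizer_singleton_iff.2 ct)))

theorem eq_t {c : G} (hc : c ∈ CL S) (c2 : c * c = 1) (ct : c * t = t * c) : c = 1 ∨ c = t :=
  or_iff_not_imp_left.2 fun c1 => h.eq_of_two (h.pg_sup (UFP.pgroup_zpowers_of_sq c2) ct)
    (mem_sup_right (mem_zpowers c)) (mem_sup_left (mem_zpowers t)) hc h.tC c2 h.t2 c1 h.t1

theorem two_of (hs : ∀ c ∈ CL S, c * c ≠ t) : Two S := fun P h1 h2 => by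
  obtain ⟨T, hT, ht⟩ := Tech.exists_isSylowIn_ge (UFP.pgroup_zpowers_of_sq h.t2) (zpowers_le.2 h.tC)
  refine (hT.card_le h2 h1).trans ?_
  obtain ⟨g, rfl⟩ := Frob.exists_zpowers_eq_of_isCyclic (h.cyc T hT.le hT.pgroup)
  obtain ⟨k, hk⟩ := Tech.isPGroup_zpowers_iff.1 hT.pgroup
  rw [Nat.card_zpowers, hk]
  match k with
  | 0 => norm_num
  | 1 => norm_num
  | k + 2 =>
    have m : ∀ n : ℕ, g ^ n ∈ zpowers g := fun n => pow_mem (mem_zpowers g) n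
    refine absurd (h.eq_of_two hT.pgroup (mul_mem (m _) (m _)) (ht (mem_zpowers t))
      (hT.le (mul_mem (m _) (m _))) h.tC ?_ h.t2 ?_ h.t1) (hs (g ^ 2 ^ k) (hT.le (m _)))
    · rw [← pow_add, ← pow_add, ← pow_orderOf_eq_one g, hk]
      congr 1
      ring
    · rw [← pow_add]
      exact pow_ne_one_of_lt_orderOf (by positivity) (by have := Nat.two_pow_pos k; rw [hk, pow_add]; omega)

theorem odd_or (h2 : Two S) {c : G} (hc : c ∈ CL S) (ct : c * t = t * c) :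
    Odd (orderOf c) ∨ Odd (orderOf (c * t)) := by
  obtain ⟨m, hm, hp⟩ := UFP.exists_two_pow c
  have h1 := h.pg_sup hp (Commute.pow_left ct m)
  have h3 : zpowers t = zpowers t ⊔ zpowers (c ^ m) := eq_of_le_of_card_ge le_sup_left (by
    rw [Nat.card_zpowers, orderOf_eq_prime ((pow_two t).trans h.t2) h.t1]
    exact h2 _ (sup_le (zpowers_le.2 h.tC) (zpowers_le.2 (pow_mem hc m))) h1)
  obtain ⟨k, hk⟩ := mem_zpowers_iff.1 (h3.ge (mem_sup_right (mem_zpowers _)))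
  have h4 : c ^ m * c ^ m = 1 := by rw [← hk, ← Commute.mul_zpow rfl, h.t2, one_zpow]
  refine (h.eq_t (pow_mem hc m) h4 (Commute.pow_left ct m)).imp
    (fun e => hm.of_dvd_nat (orderOf_dvd_of_pow_eq_one e)) fun e => hm.of_dvd_nat (orderOf_dvd_of_pow_eq_one ?_)
  obtain ⟨j, rfl⟩ := hm
  rw [Commute.mul_pow ct, e, pow_succ, pow_mul, pow_two, h.t2, one_pow, one_mul, h.t2]

/-- an element of `C(t)` which is `x k`, `x ∈ L`, `k ∈ C(L)` -/
theorem split (h2 : Two S) {g x k : G} (hx : x ∈ S.grp) (hk : k ∈ CL S) (e : g = x * k) (ht : g * t = t * g) :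
    ∃ o ∈ CL S, o * t = t * o ∧ Odd (orderOf o) ∧ (g = x * o ∨ g = x * o * t) := by
  have kt : k * t = t * k := mul_left_cancel (a := x) (by rw [← mul_assoc, ← e, ht, e, ← mul_assoc, ← h.com hx, mul_assoc])
  rcases h.odd_or h2 hk kt with o | o
  · exact ⟨k, hk, kt, o, .inl e⟩
  · exact ⟨k * t, mul_mem hk h.tC, by rw [← mul_assoc, kt], o, .inr (by
      rw [mul_assoc, mul_assoc, h.t2, mul_one, e])⟩

end Sit

end CfsgLib.SLF
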