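import Mathlib
import Cfsg.Agent.Lib.SLF.Syl
import Cfsg.Agent.Lib.ChevInv.CentF4
import Cfsg.Agent.Lib.ChevInv.DataA

/-!
# Bruhat decomposition: centralisers and classes
-/

set_option autoImplicit false
set_option linter.unusedSectionVars false

namespace CfsgLib.SLF

open Cfsg.Lie CfsgLib.RGD CfsgLib.Stein CfsgLib.Semi CfsgLib.SLE CfsgLib.UFP Subgroup
open scoped commutatorElement Pointwise

universe u

variable {F : Type} [Field F] [Finite F] [CharP F 2] {G : Type u} [Group G] [Finite G]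
  {S : StSys ΦF4 F G}

namespace Amb

variable (A : Amb S)
include A

omit A in
theorem bru_sub (T : Set R4) :
    (UUx (fun (r : R4) (c : F) => xG chevF4 F r c) T).map (chevF4.group F).subtype =
      (Chev.stSys Weyl.rtOKF4 F).UU T :=
  map_UUx _ (Chev.stSys Weyl.rtOKF4 F).x _ T fun _ _ _ => rfl

theorem bru_tr : ∃ φ : chevF4.group F →* G, Function.Injective φ ∧
    (∀ (r : R4) c, φ (xG chevF4 F r c) = S.x r c) ∧ (∀ g, g ∈ S.grp ↔ ∃ y, φ y = g) ∧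
    ∀ (T : Set R4) (y : chevF4.group F), y.1 ∈ (Chev.stSys Weyl.rtOKF4 F).UU T → φ y ∈ S.UU T := by
  obtain ⟨φ, h1, h2⟩ := A
  have k : ∀ T : Set R4, (UUx (fun (r : R4) (c : F) => xG chevF4 F r c) T).map φ = S.UU T :=
    fun T => map_UUx _ S.x _ T fun r _ c => h2 r c
  have k2 : ∀ (T : Set R4) (y : chevF4.group F), y.1 ∈ (Chev.stSys Weyl.rtOKF4 F).UU T → φ y ∈ S.UU T := by
    intro T y hy
    rw [← bru_sub] at hy
    obtain ⟨z, hz, e⟩ := hy
    rw [← k, ← Subtype.ext e]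
    exact mem_map_of_mem _ hz
  refine ⟨φ, h1, h2, fun g => ⟨fun hg => ?_, ?_⟩, k2⟩
  · obtain ⟨y, -, e⟩ := (k Set.univ).ge hg
    exact ⟨y, e⟩
  · rintro ⟨y, rfl⟩
    exact k2 Set.univ y ((Chev.stSys_grp Weyl.rtOKF4).ge y.2)

theorem bru_cent {L : List R4} {T T' : Set R4}
    (h : chevF4.group F ⊓ centralizer {ChevInv.wd chevF4 F (L.map Fin.val)} ≤ (Chev.stSys Weyl.rtOKF4 F).UU T)
    (hT : T ⊆ T') : S.grp ⊓ centralizer {S.xprod L fun _ => 1} ≤ S.UU T' := by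
  obtain ⟨φ, h1, h2, h3, h4⟩ := A.bru_tr
  intro g hg
  obtain ⟨hg, hc⟩ := mem_inf.1 hg
  obtain ⟨z, rfl⟩ := (h3 g).1 hg
  refine S.UU_mono hT (h4 T z (h (mem_inf.2 ⟨z.2, ?_⟩)))
  have e1 : φ (L.map fun r : R4 => xG chevF4 F r 1).prod = S.xprod L fun _ => 1 := by
    simp only [map_list_prod, List.map_map, StSys.xprod, Function.comp_def, h2]
  have e2 : ((L.map fun r : R4 => xG chevF4 F r 1).prod).1 = ChevInv.wd chevF4 F (L.map Fin.val) := by
    rw [← coe_subtype, map_list_prod]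
    simp only [List.map_map, ChevInv.wd, Function.comp_def, coe_subtype, xG_val]
  rw [mem_centralizer_singleton_iff, ← e1, ← map_mul, ← map_mul] at hc
  rw [mem_centralizer_singleton_iff, ← e2]
  exact congrArg Subtype.val (h1 hc)

theorem bru_Y (r : R4) (c : F) : Y4 S r ≤ centralizer {S.x r c} :=
  (A.Y_le_cent r).trans (centralizer_le (Set.singleton_subset_iff.2 (S.x_mem_X _ _)))

theorem bru_top (r : R4) : S.U ≤ Y4 S (top r) := by
  unfold top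
  split_ifs
  exacts [A.U_le_Y47, A.U_le_Y44]

omit A in
theorem bru_lg_top : ∀ r : R4, Lg (top r) ↔ Lg r := by decide +kernel

theorem bru_cent1 {r : R4} {i : Fin 4} (h0 : ΦF4.wt i r = 1 ∧ (∀ j, j ≠ i → ΦF4.wt j r = 0) ∧
    (∀ s : R4, 24 ≤ s.1 → 0 ≤ ip4 s r) ∧ ∀ j, j ≠ i → 0 ≤ ip4 (ΦF4.neg (ΦF4.simple j)) r) :
    S.grp ⊓ centralizer {S.x r 1} ≤ Y4 S r := by
  obtain ⟨φ, h1, h2, -, -⟩ := A.bru_tr
  have k := ChevAut.centralizer_x (Twist.sharp_stSys Weyl.rtOKF4 F) (r := r) h0.1 h0.2.1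
    (fun s hs t u => congrArg Subtype.val (h1 (a₁ := xG chevF4 F r t * xG chevF4 F s.1 u)
      (a₂ := xG chevF4 F s.1 u * xG chevF4 F r t) (by
        rw [map_mul, map_mul, h2, h2 s]
        exact (A.com (h0.2.2.1 s ((pos4 s).1 hs)) _ _).symm))) (Ψ := {s | ∃ j, j ≠ i ∧ s = ΦF4.neg (ΦF4.simple j)})
    fun _ => Iff.rfl
  rw [Chev.stSys_grp, StSys.U, ← StSys.UU_union] at k
  have := A.bru_cent (L := [r]) (T' := {s | 0 ≤ ip4 s r}) (by
    rw [show ChevInv.wd chevF4 F ([r].map Fin.val) = _ from mul_one _]; exact k.le) (by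
    rintro s (hs | ⟨j, hj, rfl⟩)
    exacts [h0.2.2.1 s ((pos4 s).1 hs), h0.2.2.2 j hj])
  simpa [StSys.xprod, Y4] using this

omit A in
theorem bru_H {h u : G} (hh : h ∈ S.H) {T : Set R4} (hu : u ∈ S.UU T) : h * u * h⁻¹ ∈ S.UU T :=
  S.H_conj_mem_UU hh hu

omit A in
theorem bru_conj {g l l₀ : G} (hg : g ∈ S.grp) (e : g * l * g⁻¹ = l₀) :
    (S.grp ⊓ centralizer {l₀}).map (MulAut.conj g⁻¹).toMonoidHom ≤ S.grp ⊓ centralizer {l} := by
  rintro _ ⟨y, hy, rfl⟩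
  obtain ⟨h1, h2⟩ := mem_inf.1 hy
  refine mem_inf.2 ⟨mul_mem (mul_mem (inv_mem hg) h1) (inv_mem (inv_mem hg)), ?_⟩
  rw [mem_centralizer_singleton_iff] at h2 ⊢
  show g⁻¹ * y * g⁻¹⁻¹ * l = l * (g⁻¹ * y * g⁻¹⁻¹)
  rw [show g⁻¹ * y * g⁻¹⁻¹ * l = g⁻¹ * (y * (g * l * g⁻¹)) * g by group, e, h2, ← e]
  group

omit A in
theorem bru_conj' {g l l₀ y : G} (hg : g ∈ S.grp) (e : g * l₀ * g⁻¹ = l) (hy : y ∈ S.grp ⊓ centralizer {l}) :
    g⁻¹ * y * g ∈ S.grp ⊓ centralizer {l₀} := by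
  simpa using bru_conj hg e (mem_map_of_mem _ hy)

theorem bruhat {l : G} (hl : l ∈ S.grp) : ∃ u ∈ S.U, ∃ h ∈ S.H, ∃ L : List R4,
    (∀ d ∈ L, d ∈ [24, 25, 27, 33]) ∧ ∃ u' ∈ S.U, l = u * (h * nw S L) * u' := by
  obtain ⟨u, hu, n, hn, w, -, -, u', hu', rfl⟩ := A.nd.exists_bruhat hl
  obtain ⟨h, hh, L, hL, rfl⟩ := A.exists_nw hn
  exact ⟨u, hu, h, hh, L, hL, u', S.UU_le_U (fun _ h => h.1) hu', rfl⟩

theorem cent_x (r : R4) {c : F} (hc : c ≠ 0) : S.grp ⊓ centralizer {S.x r c} = Y4 S r := by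
  refine le_antisymm (fun g hg => ?_) (le_inf (S.UU_le_grp _) (A.bru_Y r c))
  obtain ⟨h, hh, L, e, e'⟩ := A.exists_conj_x (bru_lg_top r) hc
  have k : S.grp ⊓ centralizer {S.x (top r) 1} ≤ Y4 S (top r) := by
    unfold top
    split_ifs
    · exact A.bru_cent1 (i := 3) (by decide +kernel)
    · exact A.bru_cent1 (i := 0) (by decide +kernel)
  have h1 := k (bru_conj' (mul_mem (S.H_le_grp hh) (nw_mem L)) e' hg)
  have h2 := bru_H hh ((A.ex_nw L).conj_mem (T' := {s | 0 ≤ ip4 s r}) (fun s hs => by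
    show 0 ≤ ip4 (wd L s) r
    rw [← e, iso_wd]; exact hs) h1)
  simpa [mul_assoc, Y4] using h2

/-- a conjugate of a root element inside `U` -/
theorem src {l : G} (hl : l ∈ S.grp) {r : R4} {c : F} (hc : c ≠ 0) (h : l * S.x r c * l⁻¹ ∈ S.U) :
    ∃ v ∈ S.U, ∃ b : R4, 24 ≤ b.1 ∧ (Lg b ↔ Lg r) ∧ ∃ e, e ≠ 0 ∧ l * S.x r c * l⁻¹ = v * S.x b e * v⁻¹ := by
  obtain ⟨a, ha, L, -, e⟩ := A.exists_conj_x (bru_lg_top r) hc
  obtain ⟨u, hu, a', ha', L', -, u', hu', e'⟩ := A.bruhat (mul_mem hl (mul_mem (S.H_le_grp ha) (nw_mem L)))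
  obtain ⟨d, hd, -, -, hx⟩ := A.H_conj ha'
  have e1 := mem_centralizer_singleton_iff.1 (A.bru_Y _ 1 (A.bru_top r hu'))
  have e2 : l * S.x r c * l⁻¹ = u * S.x (wd L' (top r)) (d (wd L' (top r)) * 1) * u⁻¹ := by
    rw [← hx, ← A.ex_nw, ← e, show l * (a * nw S L * S.x (top r) 1 * (a * nw S L)⁻¹) * l⁻¹ =
      l * (a * nw S L) * S.x (top r) 1 * (l * (a * nw S L))⁻¹ by group, e', mul_assoc _ u', e1]
    group
  have h0 := mul_ne_zero (hd (wd L' (top r))) (one_ne_zero (α := F))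
  refine ⟨u, hu, _, (pos4 _).1 (A.nd.pos_of_x_mem_B h0 (S.U_le_B ?_)),
    ((iso_wd L').lg _).trans (bru_lg_top r), _, h0, e2⟩
  rwa [e2, mul_mem_cancel_right (inv_mem hu), mul_mem_cancel_left hu] at h

theorem lg_of_conj {l : G} (hl : l ∈ S.grp) {r s : R4} {c e : F} (hc : c ≠ 0)
    (h : l * S.x r c * l⁻¹ = S.x s e) : Lg r ↔ Lg s := by
  have he : e ≠ 0 := fun e0 => hc (A.x_eq_one.1 (by
    rwa [e0, S.x_zero, conj_eq_one_iff] at h))
  obtain ⟨a, ha, L, -, e1⟩ := A.exists_conj_x (bru_lg_top s) he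
  have e2 : (a * nw S L)⁻¹ * l * S.x r c * ((a * nw S L)⁻¹ * l)⁻¹ = S.x (top s) 1 := by
    rw [show (a * nw S L)⁻¹ * l * S.x r c * ((a * nw S L)⁻¹ * l)⁻¹ =
      (a * nw S L)⁻¹ * (l * S.x r c * l⁻¹) * (a * nw S L) by group, h, ← e1]
    group
  obtain ⟨v, hv, b, -, hb, d, hd, e3⟩ := A.src (mul_mem (inv_mem (mul_mem (S.H_le_grp ha) (nw_mem L))) hl) hc
    (by rw [e2]; exact x_mem_U4 (by unfold top; split_ifs <;> decide) 1)
  have e4 := mem_centralizer_singleton_iff.1 (A.bru_Y _ 1 (A.bru_top s (inv_mem hv)))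
  have e5 : S.x b d = S.x (top s) 1 := by
    rw [← mul_inv_cancel_right (S.x (top s) 1) v⁻¹, ← e4, ← e2, e3]
    group
  rw [← hb, (A.x_inj hd e5).1, bru_lg_top]

theorem bru_le_c {T : Set R4} {a b : R4} (h : ∀ r ∈ T, 0 ≤ ip4 r a ∧ 0 ≤ ip4 r b) (u v : F) :
    S.UU T ≤ S.grp ⊓ centralizer {S.x a u * S.x b v} :=
  le_inf (S.UU_le_grp _) (S.UU_le_iff.2 fun r hr c => mem_centralizer_singleton_iff.2 (by
    rw [← mul_assoc, A.com (h r hr).1, mul_assoc, A.com (h r hr).2, mul_assoc]))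

theorem cent_ic {u v : F} (hu : u ≠ 0) (hv : v ≠ 0) :
    S.grp ⊓ centralizer {S.x 47 u * S.x 44 v} = UL S (20 :: 22 :: posL4) := by
  refine le_antisymm (fun g hg => ?_) (A.bru_le_c (by decide +kernel) u v)
  obtain ⟨h, hh, e1, e2⟩ := A.exists_H (a := 47) (b := 44) (by decide) (by decide) hu hv
  have k := A.bru_cent (L := [47, 44]) (T' := {r | r ∈ 20 :: 22 :: posL4}) ChevInv.centF4_mixed.le
    (by
      show ∀ r : R4, r ∈ (List.finRange 48).filter _ → r ∈ 20 :: 22 :: posL4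
      decide +kernel)
  have h1 := k (bru_conj' (S.H_le_grp hh) (l := S.x 47 u * S.x 44 v) (by
    simp only [StSys.xprod, List.map, List.prod_cons, List.prod_nil, mul_one]
    rw [← conj_mul, e1, e2, mul_one, mul_one]) hg)
  simpa only [mul_assoc, mul_inv_cancel_left, mul_inv_cancel, mul_one] using bru_H hh h1

theorem cent_id : S.grp ⊓ centralizer {id4 S} = UL S (14 :: 23 :: 24 :: 33 :: lRd) := by
  refine le_antisymm ?_ (A.bru_le_c (by decide +kernel) 1 1)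
  simpa only [StSys.xprod, List.map, List.prod_cons, List.prod_nil, mul_one] using A.bru_cent (L := [39, 45]) (T' := {r | r ∈ 14 :: 23 :: 24 :: 33 :: lRd})
    ChevInv.centF4_pair.le (by
      show ∀ r : R4, r ∈ (List.finRange 48).filter _ → r ∈ 14 :: 23 :: 24 :: 33 :: lRd
      decide +kernel)

theorem dc {l : G} (hl : l ∈ S.grp) (l2 : l * l = 1) (l1 : l ≠ 1) : ∃ g ∈ S.grp,
    g * l * g⁻¹ = S.x 47 1 ∨ g * l * g⁻¹ = S.x 44 1 ∨ g * l * g⁻¹ = ic S ∨ g * l * g⁻¹ = id4 S := by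
  obtain ⟨φ, h1, h2, h3, -⟩ := A.bru_tr
  obtain ⟨z, rfl⟩ := (h3 l).1 hl
  have := Fintype.ofFinite F
  obtain ⟨g, hg, y, hy, e⟩ := (ChevInv.classesF4 F).2 z.1 z.2 (by
    rw [orderOf_coe]
    exact orderOf_eq_prime (h1 (by rw [pow_two, map_mul, l2, map_one])) fun e => l1 (by rw [e, map_one]))
  refine ⟨φ ⟨g, hg⟩, (h3 _).2 ⟨_, rfl⟩, ?_⟩
  rw [← map_inv, ← map_mul, ← map_mul]
  simp only [List.mem_cons, List.not_mem_nil, or_false] at hy
  rcases hy with rfl | rfl | rfl | rfl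
  · exact .inl (by rw [← h2]; exact congrArg φ (Subtype.ext (e.trans (mul_one _))))
  · exact .inr (.inl (by rw [← h2]; exact congrArg φ (Subtype.ext (e.trans (mul_one _)))))
  · exact .inr (.inr (.inl (by
      rw [ic, ← h2, ← h2, ← map_mul]; exact congrArg φ (Subtype.ext (e.trans (congrArg _ (mul_one _)))))))
  · exact .inr (.inr (.inr (by
      rw [id4, ← h2, ← h2, ← map_mul]; exact congrArg φ (Subtype.ext (e.trans (congrArg _ (mul_one _)))))))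

theorem bru_U_le : S.U ≤ S.grp ⊓ centralizer {S.x 47 1} ∧ S.U ≤ S.grp ⊓ centralizer {S.x 44 1} ∧
    S.U ≤ S.grp ⊓ centralizer {ic S} :=
  ⟨le_inf S.U_le_grp (A.U_le_Y47.trans (A.bru_Y _ _)), le_inf S.U_le_grp (A.U_le_Y44.trans (A.bru_Y _ _)), by
    rw [U_eq_Ug]; exact A.bru_le_c (by decide +kernel) 1 1⟩

theorem dd {l : G} (hl : l ∈ S.grp) (l2 : l * l = 1) :
    l ∈ ⁅⁅S.grp ⊓ centralizer {l}, S.grp ⊓ centralizer {l}⁆, ⁅S.grp ⊓ centralizer {l}, S.grp ⊓ centralizer {l}⁆⁆ := by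
  by_cases l1 : l = 1
  · rw [l1]; exact one_mem _
  obtain ⟨g, hg, e⟩ := A.dc hl l2 l1
  have k : ∀ a b k : R4, Cm a b k → (24 ≤ a.1 ∧ a ∉ [24, 25, 27, 28, 30, 33]) →
      (24 ≤ b.1 ∧ b ∉ [24, 25, 27, 28, 30, 33]) → ∀ C, S.U ≤ C → S.x k 1 ∈ ⁅⁅C, C⁆, ⁅C, C⁆⁆ := by
    intro a b k h ha hb C hC
    have h1 := A.der_U.trans (commutator_mono hC hC)
    rw [← mul_one (1 : F), ← A.rel.cm a b k h]
    exact commutator_mem_commutator (h1 (S.x_mem_UU ha 1)) (h1 (S.x_mem_UU hb 1))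
  have k1 := k 26 45 47 (by decide +kernel) (by decide) (by decide)
  have k2 := k 34 39 44 (by decide +kernel) (by decide) (by decide)
  have h1 : ∀ l₀, g * l * g⁻¹ = l₀ → l₀ ∈ ⁅⁅S.grp ⊓ centralizer {l₀}, S.grp ⊓ centralizer {l₀}⁆,
      ⁅S.grp ⊓ centralizer {l₀}, S.grp ⊓ centralizer {l₀}⁆⁆ → l ∈ ⁅⁅S.grp ⊓ centralizer {l},
      S.grp ⊓ centralizer {l}⁆, ⁅S.grp ⊓ centralizer {l}, S.grp ⊓ centralizer {l}⁆⁆ := by
    intro l₀ e h
    have h2 := mem_map_of_mem (MulAut.conj g⁻¹).toMonoidHom h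
    have h3 := commutator_mono (bru_conj hg e) (bru_conj hg e)
    rw [map_commutator, map_commutator] at h2
    have h4 := commutator_mono h3 h3 h2
    rw [← e] at h4
    simpa [mul_assoc] using h4
  rcases e with e | e | e | e
  · exact h1 _ e (k1 _ A.bru_U_le.1)
  · exact h1 _ e (k2 _ A.bru_U_le.2.1)
  · exact h1 _ e (mul_mem (k1 _ A.bru_U_le.2.2) (k2 _ A.bru_U_le.2.2))
  · refine h1 _ e (commutator_mono A.Rd_le A.Rd_le ?_)
    rw [A.der_Rd]
    exact mul_mem (S.x_mem_UU (by decide) 1) (S.x_mem_UU (by decide) 1)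

theorem lb {l : G} (hl : l ∈ S.grp) (l2 : l * l = 1) :
    ∃ P ≤ S.grp ⊓ centralizer {l}, IsPGroup 2 P ∧ Nat.card F ^ 20 ≤ Nat.card P := by
  have hU : Nat.card F ^ 20 ≤ Nat.card S.U := by
    rw [A.card_U]; exact Nat.pow_le_pow_right Nat.card_pos (by norm_num)
  by_cases l1 : l = 1
  · exact ⟨S.U, le_inf S.U_le_grp fun u _ => mem_centralizer_singleton_iff.2 (by simp [l1]), A.pg_U, hU⟩
  obtain ⟨g, hg, e⟩ := A.dc hl l2 l1
  have h1 : ∀ l₀, g * l * g⁻¹ = l₀ → ∀ P ≤ S.grp ⊓ centralizer {l₀}, P ≤ S.U → Nat.card F ^ 20 ≤ Nat.card P →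
      ∃ P ≤ S.grp ⊓ centralizer {l}, IsPGroup 2 P ∧ Nat.card F ^ 20 ≤ Nat.card P := fun l₀ e P h1 h2 h3 =>
    ⟨_, (map_mono h1).trans (bru_conj hg e), (A.pg_U.to_le h2).map _, by
      rwa [card_map_of_injective (MulAut.conj g⁻¹).injective]⟩
  rcases e with e | e | e | e
  · exact h1 _ e _ A.bru_U_le.1 le_rfl hU
  · exact h1 _ e _ A.bru_U_le.2.1 le_rfl hU
  · exact h1 _ e _ A.bru_U_le.2.2 le_rfl hU
  · exact h1 _ e (UL S (24 :: 33 :: lRd)) (A.bru_le_c (by decide +kernel) 1 1) (UU_le_U4 (by decide +kernel))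
      (A.card_UL (L := 24 :: 33 :: lRd) (by decide +kernel)).ge

theorem stab (hq : Nat.card F = 2) {y : G} (hy : y ∈ Y4 S 44)
    (h : y * S.x 40 1 * y⁻¹ * (S.x 40 1)⁻¹ ∈ V4 S 44) : y ∈ UL S (33 :: lY2) := by
  have hU : S.U ≤ UL S (33 :: lY2) := by
    rw [U_eq_Ug]; exact S.UU_mono (by show ∀ r : R4, 24 ≤ r.1 → r ∈ 33 :: lY2; decide +kernel)
  have hN := A.U_norm_Ug 41 (by norm_num)
  have hc : ∀ v ∈ S.U, v * S.x 40 1 * v⁻¹ * (S.x 40 1)⁻¹ ∈ Ug S 41 := fun v hv =>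
    A.comm_Ug (n := 40) (by norm_num) hv (S.x_mem_UU (Ψ := {r | 40 ≤ r.1}) (le_refl 40) 1)
  obtain ⟨u, hu, n, hn, w, hw, ha, u', hu', rfl⟩ := A.nd.exists_bruhat (S.UU_le_grp _ hy)
  replace hu' : u' ∈ S.U := S.UU_le_U (fun _ h => h.1) hu'
  refine mul_mem (mul_mem (hU hu) ?_) (hU hu')
  rw [mul_mem_cancel_right (A.U_le_Y44 hu'), mul_mem_cancel_left (A.U_le_Y44 hu)] at hy
  rw [A.V44_eq] at h
  obtain ⟨l, hl, e⟩ := ha.exists_conj_x 44
  have h1 : w 44 = 44 := (A.x_inj one_ne_zero (by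
    rw [← e, mem_centralizer_singleton_iff.1 (A.bru_Y 44 1 hy), mul_inv_cancel_right])).1.symm
  have h2 : ∀ v ∈ Ug S 41, n * v * n⁻¹ ∈ Ug S 41 := fun v hv => by
    rw [← A.V44_eq] at hv ⊢
    exact (mem_normalizer_iff.1 (A.Y_norm_V 44 hy) v).1 hv
  obtain ⟨l', hl', e'⟩ := ha.exists_conj_x 40
  have h3 : (S.x 40 1)⁻¹ * S.x (w 40) (l' * 1) ∈ Ug S 41 := by
    have k1 := (mem_normalizer_iff''.1 (hN hu) _).1 h
    have k2 := h2 _ (hc u' hu')
    have k3 := hc u⁻¹ (inv_mem hu)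
    have k4 := (mem_normalizer_iff''.1 (hN (x_mem_U4 (r := 40) (by decide) 1)) _).1
      (mul_mem (mul_mem (inv_mem k2) k1) k3)
    rw [← e']
    convert k4 using 1
    group
  have h4 : w 40 = 40 := by
    have k1 := A.cf_lead (r := 40) (by decide) h3
    have k2 : S.x (w 40) (l' * 1) ∈ S.U := by
      simpa using mul_mem (x_mem_U4 (S := S) (r := 40) (by decide) 1) (Ug_le_U (by norm_num) h3)
    by_contra k3
    rw [A.cf_x_ne ((pos4 _).1 (A.nd.pos_of_x_mem_B (mul_ne_zero hl' one_ne_zero) (S.U_le_B k2))) (Ne.symm k3)] at k1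
    exact zero_ne_one k1
  obtain ⟨a, ha', L, hL, rfl⟩ := S.mem_NJ_iff.1 (A.nd.mem_NJ_of_acts hn
    (ChevInv.mem_WJ_of_apply_eq₂ (J := {j | j = 2 ∨ j = 3}) 2 1 (by decide +kernel) (by decide +kernel) hw h1 h4) ha)
  rw [A.H_two hq, mem_bot] at ha'
  rw [ha', one_mul]
  refine list_prod_mem fun g hg => ?_
  obtain ⟨j, hj, rfl⟩ := List.mem_map.1 hg
  rcases hL j hj with rfl | rfl <;> exact S.n_mem_UU (by decide +kernel) (by decide +kernel) 1

theorem bru_o2 {P : Subgroup G} (hP : IsPGroup 2 P) (h1 : P ≤ S.grp) (hU : S.U ≤ normalizer (P : Set G))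
    {L : List R4} (hL : nw S L ∈ normalizer (P : Set G)) {T : Set R4}
    (hT : ∀ r : R4, 24 ≤ r.1 → 24 ≤ (wd L r).1 → r ∈ T) : P ≤ S.UU T := fun p hp => by
  have k : P ≤ S.U := le_sup_left.trans
    (A.le_U (hP.to_sup_of_normal_left' A.pg_U hU) (sup_le h1 S.U_le_grp) le_sup_right)
  exact S.UU_mono (fun r h => hT r h.1 h.2)
    (A.mem_of_ex (iso_wd L) (A.ex_nw L) (k hp) (k ((mem_normalizer_iff.1 hL p).1 hp)))

theorem o2_Y (r : R4) {P : Subgroup G} (hP : IsPGroup 2 P) (h1 : P ≤ S.grp)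
    (h2 : Y4 S r ≤ normalizer (P : Set G)) : P ≤ Q4 S r := by
  obtain ⟨L, e⟩ := trans1 (bru_lg_top r)
  have k : ∀ {T T' : Set R4}, (∀ s ∈ T, wd L s ∈ T') → ∀ y ∈ S.UU T, nw S L * y * (nw S L)⁻¹ ∈ S.UU T' :=
    fun h _ hy => (A.ex_nw L).conj_mem h hy
  have k1 : Y4 S (top r) ≤ normalizer (P.comap (MulAut.conj (nw S L)).toMonoidHom : Set G) := fun y hy => by
    have := mem_normalizer_iff.1 (h2 (k (T' := {s | 0 ≤ ip4 s r}) (fun s hs => by
      show 0 ≤ ip4 (wd L s) r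
      rw [← e, iso_wd]; exact hs) y hy))
    refine mem_normalizer_iff.2 fun x => (this _).trans (iff_of_eq (congrArg (· ∈ P) ?_))
    show nw S L * y * (nw S L)⁻¹ * (nw S L * x * (nw S L)⁻¹) * (nw S L * y * (nw S L)⁻¹)⁻¹ =
      nw S L * (y * x * y⁻¹) * (nw S L)⁻¹
    group
  have k2 : P.comap (MulAut.conj (nw S L)).toMonoidHom ≤ Q4 S (top r) := by
    have k3 := hP.comap_of_injective (MulAut.conj (nw S L)).toMonoidHom (MulAut.conj (nw S L)).injective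
    have k4 : P.comap (MulAut.conj (nw S L)).toMonoidHom ≤ S.grp := fun x hx => by
      have : nw S L * x * (nw S L)⁻¹ ∈ S.grp := h1 hx
      rwa [mul_mem_cancel_right (inv_mem (nw_mem L)), mul_mem_cancel_left (nw_mem L)] at this
    have k5 := (A.bru_top r).trans k1
    revert k1
    unfold top
    split_ifs
    · exact fun k1 => A.bru_o2 k3 k4 k5 (L := [25, 30, 41]) (k1 (nw_mem_UU (by decide +kernel))) (by decide +kernel)
    · exact fun k1 => A.bru_o2 k3 k4 k5 (L := [24, 27, 32]) (k1 (nw_mem_UU (by decide +kernel))) (by decide +kernel)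
  intro p hp
  have := k (T' := {s | 1 ≤ ip4 s r}) (fun s hs => by
    show 1 ≤ ip4 (wd L s) r
    rw [← e, iso_wd]; exact hs) ((nw S L)⁻¹ * p * nw S L) (k2 (by simpa [mul_assoc] using hp))
  simpa [mul_assoc, Q4] using this

theorem o2_Y2 {P : Subgroup G} (h1 : P ≤ S.U ⊓ UL S lY2) (h2 : UL S lY2 ≤ normalizer (P : Set G)) :
    P ≤ UL S lR2 := by
  intro p hp
  have k1 := A.mem_of_ex (iso_wd [26]) (A.ex_nw [26]) (h1 hp).1
    (h1 ((mem_normalizer_iff.1 (h2 (nw_mem_UU (L := [26]) (by decide +kernel))) p).1 hp)).1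
  have k2 : p ∈ UL S (24 :: 25 :: 26 :: lR2) := A.elimL (T := [40]) (K := [])
    (by refine ⟨?_, ?_, ?_, ?_, ?_⟩ <;> decide +kernel) (h1 hp).1 (by
    intro a ha
    rw [List.mem_singleton.1 ha, A.commute_UU (T := {r | r ∈ lY2}) (T' := {r | r ∈ [40]}) (by
      show ∀ a ∈ lY2, ∀ b ∈ [40], 0 ≤ ip4 a b
      decide +kernel) (mem_inf.1 (h1 hp)).2 (S.x_mem_UU (List.mem_singleton_self _) 1)]
    simp only [mul_inv_cancel_right, mul_inv_cancel, one_mem])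
  have k3 : p ∈ UL S (33 :: lR2) := S.UU_mono (by
    show ∀ r : R4, 24 ≤ r.1 ∧ 24 ≤ (wd [26] r).1 → r ∈ 33 :: lR2
    decide +kernel) k1
  have k4 := mem_inf.2 ⟨k2, k3⟩
  rw [A.UU_inf (cl_L (by decide +kernel)) (by decide +kernel) (cl_L (by decide +kernel)) (by decide +kernel)] at k4
  exact S.UU_mono (by
    show ∀ r : R4, r ∈ 24 :: 25 :: 26 :: lR2 ∧ r ∈ 33 :: lR2 → r ∈ lR2
    decide +kernel) k4

theorem o2_c {P : Subgroup G} (hP : IsPGroup 2 P) (h1 : P ≤ S.grp)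
    (h2 : S.grp ⊓ centralizer {ic S} ≤ normalizer (P : Set G)) : P ≤ UL S lRm := by
  rw [A.cent_ic one_ne_zero one_ne_zero] at h2
  refine A.bru_o2 hP h1 (le_trans ?_ h2) (L := [25, 27, 25, 27]) (h2 (nw_mem_UU (by decide +kernel))) (by decide +kernel)
  rw [U_eq_Ug]; exact S.UU_mono (by show ∀ r : R4, 24 ≤ r.1 → r ∈ 20 :: 22 :: posL4; decide +kernel)

theorem bru_d (a b c e : F) : S.x 25 a * (S.x 26 b * (S.x 27 c * S.x 34 e)) * id4 S *
    (S.x 25 a * (S.x 26 b * (S.x 27 c * S.x 34 e)))⁻¹ =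
    id4 S * (S.x 40 c * (S.x 44 e * (S.x 46 a * S.x 47 b))) := by
  have f1 : ∀ a b : R4, 0 ≤ ip4 a b → ∀ u v, MulAut.conj (S.x a u) (S.x b v) = S.x b v := fun a b h u v => by
    rw [MulAut.conj_apply, A.com h, mul_inv_cancel_right]
  have f2 : ∀ a b k : R4, Cm a b k → ∀ u v, MulAut.conj (S.x a u) (S.x b v) = S.x b v * S.x k (u * v) :=
    fun a b k h u v => A.conj_cm h u v
  have f3 : ∀ b : R4, 0 ≤ ip4 b 45 → ∀ u v (g : G), S.x b u * (S.x 45 v * g) = S.x 45 v * (S.x b u * g) :=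
    fun b h u v g => by rw [← mul_assoc, A.com h, mul_assoc]
  rw [← MulAut.conj_apply]
  simp only [map_mul, MulAut.mul_apply, mul_one, mul_assoc, f2 34 39 44 (by decide +kernel), f1 34 45 (by decide +kernel),
    f2 27 39 40 (by decide +kernel), f1 27 44 (by decide +kernel), f1 27 45 (by decide +kernel),
    f1 26 39 (by decide +kernel), f1 26 40 (by decide +kernel), f1 26 44 (by decide +kernel),
    f2 26 45 47 (by decide +kernel), f1 25 39 (by decide +kernel), f1 25 40 (by decide +kernel),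
    f1 25 44 (by decide +kernel), f2 25 45 46 (by decide +kernel), f1 25 47 (by decide +kernel),
    f3 40 (by decide +kernel), f3 44 (by decide +kernel)]

theorem o2_d {P : Subgroup G} (hP : IsPGroup 2 P) (h1 : P ≤ S.grp ⊓ centralizer {id4 S})
    (h2 : S.grp ⊓ centralizer {id4 S} ≤ normalizer (P : Set G)) : P ≤ UL S lRd := by
  have hC := A.cent_id
  have hR : S.grp ⊓ centralizer {id4 S} ≤ normalizer (UL S (25 :: 26 :: 27 :: 34 :: lRd) : Set G) := by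
    rw [hC]; exact A.norm_UL (by decide +kernel)
  have hRU : UL S (25 :: 26 :: 27 :: 34 :: lRd) ≤ S.U := UU_le_U4 (by decide +kernel)
  have hN := (le_inf h2 hR).trans (normalizer_inf_normalizer_le_normalizer_sup _ _)
  have k : P ⊔ UL S (25 :: 26 :: 27 :: 34 :: lRd) ≤ UL S (25 :: 26 :: 27 :: 34 :: lRd) := by
    refine A.bru_o2 (hP.to_sup_of_normal_right' (A.pg_U.to_le hRU) (h1.trans hR))
      (sup_le (h1.trans inf_le_left) (S.UU_le_grp _)) ?_ (L := [24, 33])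
      (hN (hC.ge (nw_mem_UU (by decide +kernel)))) (by decide +kernel)
    rw [U_eq_Ug]
    refine S.UU_le_iff.2 fun r hr c => ?_
    have : ∀ r : R4, 24 ≤ r.1 → r ∈ 14 :: 23 :: 24 :: 33 :: lRd ∨ r ∈ 25 :: 26 :: 27 :: 34 :: lRd := by
      decide +kernel
    rcases this r hr with h | h
    · exact hN (hC.ge (S.x_mem_UU h c))
    · exact le_normalizer (mem_sup_right (S.x_mem_UU h c))
  intro p hp
  have hL : Lay4 {r | r ∈ 25 :: 26 :: 27 :: 34 :: lRd} {r | r ∈ lRd} := lay_L (by decide +kernel)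
  have hT : ∀ r ∈ [25, 26, 27, 34], r ∈ {r : R4 | r ∈ 25 :: 26 :: 27 :: 34 :: lRd} := by decide +kernel
  have k1 := A.mul_inv_mem hL (k (mem_sup_left hp)) (v := S.xprod [25, 26, 27, 34] (cf4 S p))
    (list_prod_mem fun g hg => by
      obtain ⟨r, hr, rfl⟩ := List.mem_map.1 hg
      exact S.x_mem_UU (hT r hr) _) fun r hr hr' => by
      rw [A.cf_xprod hL (by decide) hT _ hr', if_pos]
      revert r
      show ∀ r : R4, r ∈ 25 :: 26 :: 27 :: 34 :: lRd → r ∉ lRd → r ∈ [25, 26, 27, 34]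
      decide +kernel
  have k2 : S.xprod [25, 26, 27, 34] (cf4 S p) ∈ S.grp ⊓ centralizer {id4 S} := by
    have := hC.ge (S.UU_mono (by
      show ∀ r : R4, r ∈ lRd → r ∈ 14 :: 23 :: 24 :: 33 :: lRd
      decide +kernel) k1)
    rwa [mul_mem_cancel_left (h1 hp), inv_mem_iff] at this
  have k3 := A.bru_d (cf4 S p 25) (cf4 S p 26) (cf4 S p 27) (cf4 S p 34)
  have k4 := mem_centralizer_singleton_iff.1 k2.2
  simp only [StSys.xprod, List.map, List.prod_cons, List.prod_nil, mul_one] at k1 k4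
  rw [k4, mul_inv_cancel_right, left_eq_mul] at k3
  have k5 := A.xprod_inj' (L := [40, 44, 46, 47]) (W := []) (by decide) (by decide) (c' := fun _ => 0)
    (c := fun r => cf4 S p (if r = 40 then 27 else if r = 44 then 34 else if r = 46 then 25 else 26)) (by
      simpa [StSys.xprod, S.x_zero] using k3)
  simp only [List.forall_mem_cons] at k5
  simpa only [show cf4 S p 27 = 0 from k5.1, show cf4 S p 34 = 0 from k5.2.1, show cf4 S p 25 = 0 from k5.2.2.1,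
    show cf4 S p 26 = 0 from k5.2.2.2.1, S.x_zero, mul_one, inv_one] using k1

theorem norm_Rm : S.grp ⊓ centralizer {ic S} ≤ normalizer (UL S lRm : Set G) := by
  rw [A.cent_ic one_ne_zero one_ne_zero]
  exact A.norm_UL (by decide +kernel)

theorem norm_Rd : S.grp ⊓ centralizer {id4 S} ≤ normalizer (UL S lRd : Set G) := by
  rw [A.cent_id]
  exact A.norm_UL (by decide +kernel)

theorem cls_Z {u v : F} (hu : u ≠ 0) (hv : v ≠ 0) : ∃ h ∈ S.H, h * ic S * h⁻¹ = S.x 47 u * S.x 44 v := by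
  obtain ⟨h, hh, e1, e2⟩ := A.exists_H (a := 47) (b := 44) (by decide) (by decide) hu hv
  exact ⟨h, hh, by rw [← conj_mul, e1, e2, mul_one, mul_one]⟩

theorem bru_mv {k a b : R4} (h : Cm k a b ∧ rf4 k a = b ∧ 0 ≤ ip4 k b) (u v : F) :
    ∃ g ∈ S.UU {k, k.rev}, ∃ v', g * (S.x a u * S.x b v) * g⁻¹ = S.x b v' := by
  by_cases hu : u = 0
  · exact ⟨1, one_mem _, v, by simp [hu, S.x_zero]⟩
  refine ⟨S.n k 1 * S.x k (v / u), mul_mem (S.n_mem_UU (by simp) (by simp [neg4]) 1) (S.x_mem_UU (by simp) _), u, ?_⟩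
  rw [show S.x b u = _ from h.2.1 ▸ (A.ex_n k a u).symm, show S.n k 1 * S.x k (v / u) * (S.x a u * S.x b v) * (S.n k 1 * S.x k (v / u))⁻¹ =
    S.n k 1 * (S.x k (v / u) * S.x a u * (S.x k (v / u))⁻¹ * (S.x k (v / u) * S.x b v * (S.x k (v / u))⁻¹)) *
      (S.n k 1)⁻¹ by group, A.conj_cm h.1, A.com h.2.2, div_mul_cancel₀ _ hu, mul_inv_cancel_right, mul_assoc _ (S.x b v),
    A.x_sq, mul_one]

theorem bru_fx {k b : R4} (h : ip4 k b = 0) {g : G} (hg : g ∈ S.UU {k, k.rev}) (v : F) :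
    g * S.x b v * g⁻¹ = S.x b v := by
  rw [A.commute_UU (T' := {b}) (by
    rintro _ (rfl | rfl) _ rfl
    · exact h.ge
    · rw [ip4_rev, h]; rfl) hg (S.x_mem_X b v), mul_inv_cancel_right]

theorem cls_W0 {w : G} (hw : w ∈ UL S [40, 44, 45, 46, 47]) (h1 : w ≠ 1) : ∃ g ∈ S.grp,
    g * w * g⁻¹ = S.x 47 1 ∨ g * w * g⁻¹ = S.x 44 1 ∨ g * w * g⁻¹ = ic S := by
  classical
  obtain ⟨c, -, rfl⟩ := A.exists_xprod4 (L := [40, 44, 45, 46, 47]) (by decide) (cl_L (by decide +kernel))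
    (by decide +kernel) (fun _ h => h) hw
  obtain ⟨g1, m1, b, e1⟩ := A.bru_mv (k := 33) (a := 40) (b := 44) (by decide +kernel) (c 40) (c 44)
  obtain ⟨g2, m2, d, e2⟩ := A.bru_mv (k := 25) (a := 45) (b := 46) (by decide +kernel) (c 45) (c 46)
  obtain ⟨g3, m3, a, e3⟩ := A.bru_mv (k := 24) (a := 46) (b := 47) (by decide +kernel) d (c 47)
  have e : g3 * g2 * g1 * S.xprod [40, 44, 45, 46, 47] c * (g3 * g2 * g1)⁻¹ = S.x 47 a * S.x 44 b := by
    have f1 := A.bru_fx (b := 45) (by decide +kernel) m1 (c 45)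
    have f2 := A.bru_fx (b := 46) (by decide +kernel) m1 (c 46)
    have f3 := A.bru_fx (b := 47) (by decide +kernel) m1 (c 47)
    have f4 := A.bru_fx (b := 44) (by decide +kernel) m2 b
    have f5 := A.bru_fx (b := 47) (by decide +kernel) m2 (c 47)
    have f6 := A.bru_fx (b := 44) (by decide +kernel) m3 b
    rw [← MulAut.conj_apply] at e1 e2 e3 f1 f2 f3 f4 f5 f6 ⊢
    rw [show S.xprod [40, 44, 45, 46, 47] c =
      S.x 40 (c 40) * S.x 44 (c 44) * (S.x 45 (c 45) * S.x 46 (c 46) * S.x 47 (c 47)) by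
        simp only [StSys.xprod, List.map, List.prod_cons, List.prod_nil, mul_one, mul_assoc],
      map_mul MulAut.conj, map_mul MulAut.conj, MulAut.mul_apply, MulAut.mul_apply, map_mul (MulAut.conj g1), e1, map_mul (MulAut.conj g1),
      map_mul (MulAut.conj g1), f1, f2, f3, map_mul (MulAut.conj g2), map_mul (MulAut.conj g2), f4, e2, f5,
      map_mul (MulAut.conj g3), f6, e3, A.com (by decide +kernel)]
  have hg : g3 * g2 * g1 ∈ S.grp := mul_mem (mul_mem (S.UU_le_grp _ m3) (S.UU_le_grp _ m2)) (S.UU_le_grp _ m1)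
  obtain ⟨h, hh, f1, f2⟩ := A.exists_H (a := 47) (b := 44) (by decide) (by decide)
    (c := if a = 0 then 1 else a⁻¹) (e := if b = 0 then 1 else b⁻¹) (by split_ifs <;> simp [*]) (by split_ifs <;> simp [*])
  refine ⟨h * (g3 * g2 * g1), mul_mem (S.H_le_grp hh) hg, ?_⟩
  rw [show ∀ g x : G, h * g * x * (h * g)⁻¹ = h * (g * x * g⁻¹) * h⁻¹ from fun g x => by group, e, ← conj_mul, f1, f2]
  by_cases ha : a = 0 <;> by_cases hb : b = 0
  · rw [ha, hb, S.x_zero, S.x_zero, mul_one, conj_eq_one_iff] at e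
    exact absurd e h1
  all_goals simp [ha, hb, S.x_zero]

theorem cls_d {w : G} (hw : w ∈ UL S [40, 44, 46, 47]) : ∃ g ∈ S.grp, g * id4 S * g⁻¹ = id4 S * w := by
  obtain ⟨c, -, rfl⟩ := A.exists_xprod4 (L := [40, 44, 46, 47]) (by decide) (cl_L (by decide +kernel))
    (by decide +kernel) (fun _ h => h) hw
  refine ⟨_, mul_mem (S.x_mem_grp _ _) (mul_mem (S.x_mem_grp _ _) (mul_mem (S.x_mem_grp _ _) (S.x_mem_grp _ _))),
    (A.bru_d (c 46) (c 47) (c 40) (c 44)).trans ?_⟩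
  simp only [StSys.xprod, List.map, List.prod_cons, List.prod_nil, mul_one]

end Amb

end CfsgLib.SLF
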