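import Mathlib
import Cfsg.Agent.Lib.SLF.Syl
import Cfsg.Agent.Lib.SLF.Bru
import Cfsg.Agent.Lib.SLE.Aut
import Cfsg.Agent.Lib.SLF.AutA

/-!
# Automorphisms
-/

set_option autoImplicit false
set_option linter.unusedSectionVars false

namespace CfsgLib.SLF

open Cfsg.Lie CfsgLib.RGD CfsgLib.Stein CfsgLib.Semi CfsgLib.SLE CfsgLib.UFP Subgroup
open scoped commutatorElement Pointwise

universe u

variable {F : Type} [Field F] [Finite F] [CharP F 2] {G : Type u} [Group G] [Finite G]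
  {S : StSys ΦF4 F G}

theorem Std.conj_mem {g : G} {σ : F ≃+* F} (h : Std S g σ) {T : Set R4} {u : G} (hu : u ∈ S.UU T) :
    g * u * g⁻¹ ∈ S.UU T :=
  (S.UU_le_iff (K := (S.UU T).comap (MulAut.conj g).toMonoidHom)).2
    (fun r hr c => (h r c).symm.subst (motive := (· ∈ S.UU T)) (S.x_mem_UU hr _)) hu

theorem StG.conj_mem {g : G} {σ : F ≃+* F} (h : StG S g σ) {T T' : Set R4} (hT : ∀ r ∈ T, ρ r ∈ T') {u : G}
    (hu : u ∈ S.UU T) : g * u * g⁻¹ ∈ S.UU T' :=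
  (S.UU_le_iff (K := (S.UU T').comap (MulAut.conj g).toMonoidHom)).2
    (fun r hr c => (h r c).symm.subst (motive := (· ∈ S.UU T')) (S.x_mem_UU (hT r hr) _)) hu

theorem StG.du {g : G} {σ : F ≃+* F} (h : StG S g σ) : Du σ S (cj S g) := h

theorem Std.mem_NL {g : G} {σ : F ≃+* F} (h : Std S g σ) : g ∈ NL S := by
  exact mem_normalizer_fintype fun _ hn => h.conj_mem (T := Set.univ) hn

theorem StG.mem_NL {g : G} {σ : F ≃+* F} (h : StG S g σ) : g ∈ NL S := by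
  exact mem_normalizer_fintype fun _ hn => h.conj_mem (T := Set.univ) (T' := Set.univ) (fun _ _ => trivial) hn

theorem Std.mul {g g' : G} {σ σ' : F ≃+* F} (h : Std S g σ) (h' : Std S g' σ') : Std S (g * g') (σ * σ') := by
  exact AU4.ind_pS.1 (map_mul AU4.pS σ σ' ▸ (AU4.ind_pS.2 h).mul (AU4.ind_pS.2 h'))

theorem Std.inv {g : G} {σ : F ≃+* F} (h : Std S g σ) : Std S g⁻¹ σ⁻¹ := by
  exact AU4.ind_pS.1 (map_inv AU4.pS σ ▸ (AU4.ind_pS.2 h).inv)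

theorem std_one_iff {g : G} : Std S g 1 ↔ g ∈ CL S := by
  exact ⟨fun h => aa_mem_CL h, fun h r c => by
    rw [← aa_CL_comm h (S.x_mem_grp r c), mul_inv_cancel_right]; rfl⟩

theorem Std.norm {g : G} {σ : F ≃+* F} (h : Std S g σ) (T : Set R4) : g ∈ normalizer (S.UU T : Set G) := by
  exact mem_normalizer_fintype fun _ hn => h.conj_mem hn

theorem StG.norm {g : G} {σ : F ≃+* F} (h : StG S g σ) {T : Set R4} (hT : ∀ r ∈ T, ρ r ∈ T) :
    g ∈ normalizer (S.UU T : Set G) := by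
  exact mem_normalizer_fintype fun _ hn => h.conj_mem hT hn

theorem Std.conj_h {g : G} {σ : F ≃+* F} (h : Std S g σ) (r : R4) {c : F} (hc : c ≠ 0) :
    g * S.h r c * g⁻¹ = S.h r (σ c) := by
  have e : ∀ c, g * S.n r c * g⁻¹ = S.n r (σ c) := fun c => by
    rw [StSys.n, StSys.n, ← map_inv₀, ← map_neg, ← h, ← h]; group
  rw [StSys.h, StSys.h, ← conj_mul, e, e, map_neg, map_one]

theorem mem_N0 {g : G} : g ∈ N0 S ↔ ∃ l ∈ S.grp, ∃ c ∈ CL S, g = l * c := by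
  exact ⟨aa_exists_mul, fun ⟨l, hl, c, hc, e⟩ => e ▸ mul_mem (mem_sup_left hl) (mem_sup_right hc)⟩

theorem N0_le : N0 S ≤ NL S := by
  exact sup_le aa_grp_le aa_CL_le

theorem norm_N0 : NL S ≤ normalizer (N0 S : Set G) := by
  intro a ha
  refine mem_normalizer_fintype fun n hn => ?_
  obtain ⟨l, hl, c, hc, rfl⟩ := mem_N0.1 hn
  exact mem_N0.2 ⟨_, aa_conj_grp ha hl, _, aa_conj_CL ha hc, by group⟩

theorem mem_cj_N0 {g x : G} : x ∈ N0 (cj S g) ↔ g⁻¹ * x * g ∈ N0 S := by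
  rw [mem_N0, mem_N0]
  refine ⟨fun ⟨l, hl, c, hc, e⟩ => ⟨_, mem_cj_UU.1 hl, _, mem_cj_CL.1 hc, by rw [e]; group⟩,
    fun ⟨l, hl, c, hc, e⟩ => ⟨g * l * g⁻¹, mem_cj_UU.2 (by simpa [mul_assoc, StSys.grp] using hl), g * c * g⁻¹,
      mem_cj_CL.2 (by simpa [mul_assoc] using hc), ?_⟩⟩
  rw [conj_mul, ← e]; group

namespace Amb

variable (A : Amb S) {g : G}
include A

theorem aut (hg : g ∈ NL S) : ∃ l ∈ S.grp, ∃ σ, Std S (l * g) σ ∨ StG S (l * g) σ := by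
  exact A.aut0 hg

omit A in
theorem au_pos : ∀ r ∈ {r | ΦF4.Pos r}, ρ r ∈ {r | ΦF4.Pos r} := fun r hr =>
  (pos4 _).2 ((ρ_pos r).2 ((pos4 r).1 hr))

theorem aut_B (hg : g ∈ NL S) (hU : g ∈ normalizer (S.U : Set G)) :
    ∃ u ∈ S.U, ∃ h ∈ S.H, ∃ σ, Std S (h * u * g) σ ∨ StG S (h * u * g) σ := by
  obtain ⟨l, hl, σ, h⟩ := A.aut hg
  have h1 : l * g ∈ normalizer (S.U : Set G) := h.elim (·.norm _) (·.norm au_pos)
  have hB : l ∈ S.B := by
    rw [← A.nd.normalizer_U]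
    exact ⟨by simpa using mul_mem h1 (inv_mem hU), hl⟩
  obtain ⟨a, ha, u, hu, rfl⟩ := S.mem_B_iff'.1 hB
  exact ⟨u, hu, a, ha, σ, h⟩

theorem au_47 (hg : g ∈ N0 S) (hU : g ∈ normalizer (S.U : Set G)) :
    ∃ d, ∀ c, g * S.x 47 c * g⁻¹ = S.x 47 (d * c) := by
  obtain ⟨l, hl, k, hk, rfl⟩ := mem_N0.1 hg
  have hB : l ∈ S.B := by
    rw [← A.nd.normalizer_U]
    exact ⟨by simpa using mul_mem hU (inv_mem ((std_one_iff.2 hk).norm _)), hl⟩
  obtain ⟨a, ha, u, hu, rfl⟩ := S.mem_B_iff'.1 hB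
  obtain ⟨d, -, -, -, hd⟩ := A.H_conj ha
  refine ⟨d 47, fun c => ?_⟩
  have e1 := aa_CL_comm hk (S.x_mem_grp 47 c)
  have e2 : S.x 47 c * u = u * S.x 47 c := A.Y_le_cent 47 (A.U_le_Y47 hu) _ (S.x_mem_X 47 c)
  rw [← hd, mul_assoc _ k, ← e1, ← mul_assoc, mul_assoc a, ← e2]; group

theorem std_N0 {σ : F ≃+* F} (h : Std S g σ) (hg : g ∈ N0 S) : σ = 1 := by
  obtain ⟨d, hd⟩ := A.au_47 hg (h.norm _)
  have e : ∀ c, σ c = d * c := fun c => A.nd.x_injective 47 ((h 47 c).symm.trans (hd c))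
  have := e 1
  rw [map_one, mul_one] at this
  ext c
  rw [e, ← this, one_mul]; rfl

theorem stG_N0 {σ : F ≃+* F} (h : StG S g σ) : g ∉ N0 S := by
  intro hg
  obtain ⟨d, hd⟩ := A.au_47 hg (h.norm au_pos)
  exact absurd (A.x_inj (by simp) ((h 47 1).symm.trans (hd 1))).1 (by decide)

/-- the outer automorphism group is cyclic of order `2 n` -/
theorem out : ∃ f : NL S →* Multiplicative (ZMod (2 * Nat.card (F ≃+* F))), ∀ x, f x = 1 ↔ (x : G) ∈ N0 S := by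
  have ex : ∀ x : NL S, ∃ π : zpowers (AU4.pG F), ∃ l ∈ S.grp, AU4.Ind S (l * x) π := fun x => by
    obtain ⟨l, hl, σ, h | h⟩ := A.aut x.2
    exacts [⟨⟨_, AU4.pS_mem σ⟩, l, hl, AU4.ind_pS.2 h⟩,
      ⟨⟨_, mul_mem (AU4.pS_mem σ) (mem_zpowers _)⟩, l, hl, AU4.ind_pG.2 h⟩]
  have un : ∀ (g : G) (π : zpowers (AU4.pG F)), AU4.Ind S g π → (g ∈ N0 S ↔ π = 1) := fun g π h => by
    refine ⟨fun hg => ?_, fun e => mem_sup_right (std_one_iff.1 (AU4.ind_pS.1 (by rw [e] at h; exact h)))⟩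
    obtain ⟨σ, e | e⟩ := AU4.mem_pG π.2 <;> rw [e] at h
    · exact Subtype.ext (by rw [e, A.std_N0 (AU4.ind_pS.1 h) hg, map_one]; rfl)
    · exact absurd hg (A.stG_N0 (AU4.ind_pG.1 h))
  choose p l hl hp using ex
  have hm : ∀ x y, p (x * y) = p x * p y := fun x y => by
    refine mul_inv_eq_one.1 ((un _ _ ((hp (x * y)).mul ((hp x).mul (hp y)).inv)).1 (mem_sup_left ?_))
    rw [show l (x * y) * ↑(x * y) * (l x * x * (l y * y))⁻¹ = l (x * y) * (x * (l y)⁻¹ * (x : G)⁻¹) * (l x)⁻¹ by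
      rw [coe_mul]; group]
    exact mul_mem (mul_mem (hl _) (aa_conj_grp x.2 (inv_mem (hl _)))) (inv_mem (hl _))
  have e := (zmodCyclicMulEquiv (inferInstance : IsCyclic (zpowers (AU4.pG F)))).symm
  rw [AU4.card_pG] at e
  refine ⟨e.toMonoidHom.comp (MonoidHom.mk' p hm), fun x => ?_⟩
  rw [← mul_mem_cancel_left (mem_sup_left (T := CL S) (hl x)), un _ _ (hp x)]
  exact e.map_eq_one_iff

theorem comm_mem_N0 {a b : G} (ha : a ∈ NL S) (hb : b ∈ NL S) : a * b * a⁻¹ * b⁻¹ ∈ N0 S := by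
  obtain ⟨f, hf⟩ := A.out
  refine (hf (⟨a, ha⟩ * ⟨b, hb⟩ * ⟨a, ha⟩⁻¹ * ⟨b, hb⟩⁻¹)).1 ?_
  rw [map_mul, map_mul, map_mul, map_inv, map_inv, mul_comm (f ⟨a, ha⟩)]; group

omit A in
theorem au_two {C : Type*} [Group C] [Finite C] [IsCyclic C] {a b : C} (h1 : a * a = 1) (h2 : b * b = 1) :
    a = 1 ∨ b = 1 ∨ a = b := by
  classical
  have := Fintype.ofFinite C
  by_contra! h
  have e := IsCyclic.card_pow_eq_one_le (α := C) (n := 2) two_pos
  refine absurd e (not_le.2 (Finset.two_lt_card_iff.2 ⟨1, a, b, by simp, ?_, ?_, h.1.symm, h.2.1.symm, h.2.2⟩))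
  · simpa [pow_two] using h1
  · simpa [pow_two] using h2

omit A in
theorem au_ne : NeZero (2 * Nat.card (F ≃+* F)) :=
  have := finite_aut (F := F)
  ⟨mul_ne_zero two_ne_zero Nat.card_pos.ne'⟩

omit A in
theorem au_card {C : Type*} [Group C] {f : NL S →* C} (hf : ∀ x, f x = 1 ↔ (x : G) ∈ N0 S) {P : Subgroup G}
    (h : P ≤ NL S) : Nat.card P = Nat.card (f.comp (inclusion h)).range * Nat.card (P ⊓ N0 S : Subgroup G) := by
  rw [card_eq_card_quotient_mul_card_subgroup (f.comp (inclusion h)).ker,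
    Nat.card_congr (QuotientGroup.quotientKerEquivRange _).toEquiv,
    show (f.comp (inclusion h)).ker = (P ⊓ N0 S).subgroupOf P from Subgroup.ext fun x => by
      rw [MonoidHom.mem_ker, MonoidHom.comp_apply, hf, mem_subgroupOf, mem_inf]; simp,
    Nat.card_congr (subgroupOfEquivOfLe inf_le_left).toEquiv]

theorem one_of_three {a b : G} (ha : a ∈ NL S) (hb : b ∈ NL S) (a2 : a * a ∈ N0 S) (b2 : b * b ∈ N0 S) :
    a ∈ N0 S ∨ b ∈ N0 S ∨ a * b ∈ N0 S := by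
  obtain ⟨f, hf⟩ := A.out
  have := au_ne (F := F)
  have h1 : f ⟨a, ha⟩ * f ⟨a, ha⟩ = 1 := by rw [← map_mul, hf]; exact a2
  have h2 : f ⟨b, hb⟩ * f ⟨b, hb⟩ = 1 := by rw [← map_mul, hf]; exact b2
  refine (au_two h1 h2).imp (hf _).1 (Or.imp (hf _).1 fun e => (hf (⟨a, ha⟩ * ⟨b, hb⟩)).1 ?_)
  rw [map_mul, e, h2]

theorem card_le_N0 {P : Subgroup G} (h : P ≤ NL S) :
    Nat.card P ≤ Nat.card F * Nat.card (P ⊓ N0 S : Subgroup G) := by
  obtain ⟨f, hf⟩ := A.out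
  have := au_ne (F := F)
  rw [au_card hf h]
  refine Nat.mul_le_mul_right _ ((card_le_card_group _).trans ?_)
  rw [Nat.card_congr Multiplicative.toAdd, Nat.card_zmod, card_aut (F := F)]
  exact Nat.mul_le_pow (a := 2) (by decide) _

/-- a subgroup generated by involutions has at most two cosets of `L C(L)` -/
theorem card_le_two {P : Subgroup G} (h : P ≤ NL S) (h2 : P ≤ closure {g | g ∈ P ∧ g * g = 1}) :
    Nat.card P ≤ 2 * Nat.card (P ⊓ N0 S : Subgroup G) := by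
  obtain ⟨f, hf⟩ := A.out
  have := au_ne (F := F)
  rw [au_card hf h]
  refine Nat.mul_le_mul_right _ ?_
  have k : ∀ x ∈ (f.comp (inclusion h)).range, x * x = 1 := by
    rintro _ ⟨⟨x, hx⟩, rfl⟩
    have : ∀ y ∈ closure {g | g ∈ P ∧ g * g = 1}, ∃ hy : y ∈ NL S, f ⟨y, hy⟩ * f ⟨y, hy⟩ = 1 := fun y hy => by
      induction hy using closure_induction with
      | mem g hg => exact ⟨h hg.1, by rw [← map_mul, hf, coe_mul, hg.2]; exact one_mem _⟩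
      | one => exact ⟨one_mem _, by rw [← map_mul, hf]; simp⟩
      | mul a b _ _ ha hb =>
        obtain ⟨ha, e1⟩ := ha
        obtain ⟨hb, e2⟩ := hb
        exact ⟨mul_mem ha hb, by
          rw [show (⟨a * b, _⟩ : NL S) = ⟨a, ha⟩ * ⟨b, hb⟩ from rfl, map_mul, mul_mul_mul_comm, e1, e2, mul_one]⟩
      | inv a _ ha =>
        obtain ⟨ha, e1⟩ := ha
        exact ⟨inv_mem ha, by
          rw [show (⟨a⁻¹, _⟩ : NL S) = ⟨a, ha⟩⁻¹ from rfl, map_inv, ← mul_inv, e1, inv_one]⟩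
    exact (this x (h2 hx)).2
  obtain ⟨a, ha⟩ := (inferInstance : IsCyclic (f.comp (inclusion h)).range).exists_generator
  rw [← orderOf_eq_card_of_forall_mem_zpowers ha]
  exact orderOf_le_of_pow_eq_one two_pos (Subtype.ext ((sq _).trans (k _ a.2)))

theorem au_uniq {l l' c c' : G} (hl : l ∈ S.grp) (hl' : l' ∈ S.grp) (hc : c ∈ CL S) (hc' : c' ∈ CL S)
    (e : l * c = l' * c') : l = l' ∧ c = c' := by
  have e1 : l'⁻¹ * l = c' * c⁻¹ := by
    rw [inv_mul_eq_iff_eq_mul, ← mul_assoc, ← e, mul_inv_cancel_right]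
  obtain rfl := inv_mul_eq_one.1 (A.eq_one (mul_mem (inv_mem hl') hl) (e1 ▸ mul_mem hc' (inv_mem hc)))
  exact ⟨rfl, mul_left_cancel e⟩

/-- the projection of `L C(L)` onto `L` -/
theorem proj : ∃ π : N0 S →* G, (∀ x, π x ∈ S.grp) ∧ (∀ x, (π x)⁻¹ * x ∈ CL S) ∧
    ∀ (x : N0 S) (n : G), n ∈ NL S → n * x = x * n → n * π x = π x * n := by
  choose l hl c hc e using fun x : N0 S => mem_N0.1 x.2
  refine ⟨MonoidHom.mk' l fun x y => (A.au_uniq (hl _) (mul_mem (hl x) (hl y)) (hc (x * y))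
    (mul_mem (hc x) (hc y)) ?_).1,
    hl, fun x => ?_, fun x n hn h => mul_inv_eq_iff_eq_mul.1
      (A.au_uniq (aa_conj_grp hn (hl x)) (hl x) (aa_conj_CL hn (hc x)) (hc x) ?_).1⟩
  · rw [← e, coe_mul, e x, e y, (show Commute (l y) (c x) from aa_CL_comm (hc x) (hl y)).symm.mul_mul_mul_comm]
  · show (l x)⁻¹ * x ∈ _
    rw [e x, inv_mul_cancel_left]; exact hc x
  · rw [conj_mul, ← e, h, mul_inv_cancel_right]

theorem au_pow {l c : G} (hl : l ∈ S.grp) (hc : c ∈ CL S) {n : ℕ} (h : (l * c) ^ n = 1) : l ^ n = 1 ∧ c ^ n = 1 := by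
  rw [(show Commute l c from aa_CL_comm hc hl).mul_pow, ← mul_one (1 : G)] at h
  exact A.au_uniq (pow_mem hl n) (one_mem _) (pow_mem hc n) (one_mem _) h

theorem inv_split (hg : g ∈ N0 S) (g2 : g * g = 1) :
    ∃ l ∈ S.grp, ∃ c ∈ CL S, g = l * c ∧ l * l = 1 ∧ c * c = 1 := by
  obtain ⟨l, hl, c, hc, rfl⟩ := mem_N0.1 hg
  exact ⟨l, hl, c, hc, rfl, by simpa only [sq] using A.au_pow hl hc (n := 2) (by rwa [sq])⟩

theorem mem_grp (hW : Odd (Nat.card (CL S))) (hg : g ∈ N0 S) (hp : IsPGroup 2 (zpowers g)) : g ∈ S.grp := by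
  obtain ⟨l, hl, c, hc, rfl⟩ := mem_N0.1 hg
  obtain ⟨k, hk⟩ := Core.isPGroup_zpowers_iff.1 hp
  obtain ⟨m, hm⟩ := au_exists_pow (A.au_pow hl hc hk).2 hW
  rw [orderOf_dvd_iff_pow_eq_one.1 (orderOf_dvd_natCard _ hc), one_pow] at hm
  rwa [← hm, mul_one]

theorem mem_of_dd (hc : ∀ P ≤ CL S, IsPGroup 2 P → IsCyclic P) (h : g ∈ ⁅⁅NL S, NL S⁆, ⁅NL S, NL S⁆⁆)
    (g2 : g * g = 1) : g ∈ S.grp := by
  obtain ⟨O, hO, ho, hcm⟩ := au_odd_comm (CL S) hc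
  have h0 : ⁅NL S, NL S⁆ ≤ N0 S := commutator_le.2 fun _ ha _ hb => A.comm_mem_N0 ha hb
  have h2 : ⁅N0 S, N0 S⁆ ≤ S.grp ⊔ O := commutator_le.2 fun a ha b hb => by
    obtain ⟨l, hl, c, hc, rfl⟩ := aa_exists_mul ha
    obtain ⟨l', hl', c', hc', rfl⟩ := aa_exists_mul hb
    have k1 : Commute l c := aa_CL_comm hc hl
    have k2 : Commute l' c := aa_CL_comm hc hl'
    have k3 : Commute l c' := aa_CL_comm hc' hl
    have k4 : Commute l' c' := aa_CL_comm hc' hl'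
    have e : ⁅l * c, l' * c'⁆ = l * l' * l⁻¹ * l'⁻¹ * (c * c' * c⁻¹ * c'⁻¹) := by
      rw [commutatorElement_def, k1.mul_inv, k4.mul_inv, k2.symm.mul_mul_mul_comm,
        ((k1.symm.mul_left k3.symm).inv_right).mul_mul_mul_comm,
        (((k2.symm.mul_left k4.symm).mul_left k2.symm.inv_left).inv_right).mul_mul_mul_comm]
    rw [e]
    exact mul_mem (mem_sup_left (mul_mem (mul_mem (mul_mem hl hl') (inv_mem hl)) (inv_mem hl')))
      (mem_sup_right (hcm c hc c' hc'))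
  obtain ⟨l, hl, o, hoO, rfl⟩ :=
    (Core.mem_sup_of_le_normalizer_left (hO.trans aa_CL_le)).1 (h2 (commutator_mono h0 h0 h))
  obtain ⟨m, hm⟩ := au_exists_pow (k := 1) (A.au_pow hl (hO hoO) (by rwa [pow_one, sq])).2 (ho o hoO)
  rw [pow_orderOf_eq_one, one_pow] at hm
  rwa [← hm, mul_one]

theorem pf_le (hc : ∀ P ≤ CL S, IsPGroup 2 P → IsCyclic P) {M : Subgroup G} (hM : Pf M) (h : M ≤ NL S) :
    M ≤ S.grp := by
  have h1 : M ≤ ⁅NL S, NL S⁆ := hM.1.trans (commutator_mono h h)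
  exact hM.2.trans ((closure_le _).2 fun g hg => A.mem_of_dd hc (commutator_mono h1 h1 (hM.1 hg.1)) hg.2)

/-- an automorphism which keeps a class of root elements is not of graph type -/
theorem std_of_conj (hg : g ∈ NL S) {r s : R4} (hrs : Lg r ↔ Lg s) {c e : F} (hc : c ≠ 0)
    (h : g * S.x r c * g⁻¹ = S.x s e) : ∃ l ∈ S.grp, ∃ σ, Std S (l * g) σ := by
  obtain ⟨l, hl, σ, k | k⟩ := A.aut hg
  · exact ⟨l, hl, σ, k⟩
  have := A.lg_of_conj (inv_mem hl) (r := ρ r) (s := s) (c := σ (c ^ ex r)) (e := e) (by simp [hc])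
    (by rw [← k, ← h]; group)
  rw [lg_ρ, hrs] at this
  exact absurd this not_iff_self

theorem au_conj {l : G} (hl : l ∈ S.grp) {r s : R4} {c e : F} (hc : c ≠ 0)
    (h : l * S.x r c * l⁻¹ = S.x s e) : (∀ x ∈ S.X r, l * x * l⁻¹ ∈ S.X s) ∧
      (∀ x ∈ Q4 S r, l * x * l⁻¹ ∈ Q4 S s) ∧ (∀ x ∈ V4 S r, l * x * l⁻¹ ∈ V4 S s) ∧
      ∀ x ∈ Y4 S r, l * x * l⁻¹ ∈ Y4 S s := by
  have he : e ≠ 0 := by
    rintro rfl
    rw [S.x_zero, mul_inv_eq_one, mul_eq_left, A.x_eq_one] at h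
    exact hc h
  obtain ⟨L, rfl⟩ := trans1 (A.lg_of_conj hl hc h)
  obtain ⟨d, hd⟩ := BA4.ex_cv1 (wd L r)
  have h0 := div_ne_zero he hc
  have e1 := A.h_conj d (wd L r) h0 c
  rw [hd, zpow_one, div_mul_cancel₀ _ hc, ← A.ex_nw L] at e1
  have hH := S.h_mem_H d h0
  generalize S.h d (e / c) = a at e1 hH
  have hy : l * (a * nw S L)⁻¹ ∈ Y4 S (wd L r) := by
    rw [← A.cent_x _ he]
    refine mem_inf.2 ⟨mul_mem hl (inv_mem (mul_mem (S.H_le_grp hH) (nw_mem L))),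
      mem_centralizer_singleton_iff.2 ?_⟩
    rw [← mul_inv_eq_iff_eq_mul]
    nth_rw 2 [← h]
    rw [← e1]; group
  have key : ∀ T T' : Set R4, MulAut.conj (nw S L) • S.UU T = S.UU T' →
      Y4 S (wd L r) ≤ normalizer (S.UU T' : Set G) → ∀ x ∈ S.UU T, l * x * l⁻¹ ∈ S.UU T' := by
    intro T T' h2 h3 x hx
    have := (mem_normalizer_iff.1 (h3 hy) _).1 (S.H_conj_mem_UU hH (h2 ▸ smul_mem_pointwise_smul _ _ _ hx))
    simpa [mul_assoc] using this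
  obtain ⟨k1, k2, k3, k4, -⟩ := A.conj_nw L r
  exact ⟨key _ _ k1 ((A.Y_le_cent _).trans (centralizer_le_normalizer _)), key _ _ k2 (A.Y_norm_Q _),
    key _ _ k3 (A.Y_norm_V _), key _ _ k4 le_normalizer⟩

theorem norm_of_conj_x (hg : g ∈ NL S) {r s : R4} {c e : F} (hc : c ≠ 0)
    (h : g * S.x r c * g⁻¹ = S.x s e) : (∀ x ∈ S.X r, g * x * g⁻¹ ∈ S.X s) ∧
      (∀ x ∈ Q4 S r, g * x * g⁻¹ ∈ Q4 S s) ∧ (∀ x ∈ V4 S r, g * x * g⁻¹ ∈ V4 S s) ∧
      ∀ x ∈ Y4 S r, g * x * g⁻¹ ∈ Y4 S s := by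
  obtain ⟨l, hl, σ, k | k⟩ := A.aut hg
  · obtain ⟨k1, k2, k3, k4⟩ := A.au_conj (inv_mem hl) (r := r) (s := s) (c := σ c) (e := e) (by simp [hc])
      (by rw [← k, ← h]; group)
    have key : ∀ {T T' : Set R4}, (∀ x ∈ S.UU T, l⁻¹ * x * l⁻¹⁻¹ ∈ S.UU T') → ∀ x ∈ S.UU T, g * x * g⁻¹ ∈ S.UU T' :=
      fun h1 x hx => by simpa [mul_assoc] using h1 _ (k.conj_mem hx)
    exact ⟨key k1, key k2, key k3, key k4⟩
  · obtain ⟨k1, k2, k3, k4⟩ := A.au_conj (inv_mem hl) (r := ρ r) (s := s) (c := σ (c ^ ex r)) (e := e)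
      (by simp [hc]) (by rw [← k, ← h]; group)
    have key : ∀ {T T' : Set R4} {K : Subgroup G}, (SLE.cj S (l * g)).UU T = K → (∀ x ∈ K, l⁻¹ * x * l⁻¹⁻¹ ∈ S.UU T') →
        ∀ x ∈ S.UU T, g * x * g⁻¹ ∈ S.UU T' := fun e h1 x hx => by
      simpa [mul_assoc] using h1 (l * g * x * (l * g)⁻¹) (e ▸ mem_cj_UU.2 (by simpa [mul_assoc] using hx))
    exact ⟨key (k.du.X r) k1, key (k.du.Q4 r) k2, key (k.du.V4 r) k3, key (k.du.Y4 r) k4⟩

theorem norm_of_cent_x (hg : g ∈ NL S) {r : R4} {c : F} (hc : c ≠ 0) (h : g * S.x r c = S.x r c * g) :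
    g ∈ normalizer (S.X r : Set G) ∧ g ∈ normalizer (Q4 S r : Set G) ∧
      g ∈ normalizer (V4 S r : Set G) ∧ g ∈ normalizer (Y4 S r : Set G) := by
  obtain ⟨h1, h2, h3, h4⟩ := A.norm_of_conj_x hg hc (mul_inv_eq_iff_eq_mul.2 h)
  exact ⟨mem_normalizer_fintype h1, mem_normalizer_fintype h2, mem_normalizer_fintype h3, mem_normalizer_fintype h4⟩

theorem card_le (h2 : Two S) {P : Subgroup G} (hP : IsPGroup 2 P) (h : P ≤ NL S) :
    Nat.card P ≤ 2 * Nat.card F ^ 25 := by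
  have hN : NL S ≤ normalizer (CL S : Set G) := Core.normalizer_le_normalizer_centralizer _
  have h0 : P ⊓ N0 S ≤ S.grp ⊔ CL S := inf_le_right
  have e1 := Core.card_sup_mul_card_inf_of_le_normalizer ((inf_le_left (b := N0 S)).trans (h.trans hN))
  have e2 := Core.card_sup_dvd_of_le_normalizer (aa_grp_le.trans hN)
  have e3 := card_dvd_of_le (sup_le h0 le_sup_right)
  have e4 : Nat.card (P ⊓ N0 S : Subgroup G) ∣
      Nat.card (P ⊓ N0 S ⊓ CL S : Subgroup G) * Nat.card S.U * S.U.relIndex S.grp := by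
    refine Nat.dvd_of_mul_dvd_mul_right (Nat.card_pos (α := CL S)) ?_
    rw [← e1, mul_assoc _ (Nat.card S.U), Core.card_mul_relIndex_of_le S.U_le_grp, mul_assoc,
      mul_comm]
    exact Nat.mul_dvd_mul_left _ (e3.trans e2)
  have e5 := Nat.le_of_dvd (Nat.mul_pos Nat.card_pos Nat.card_pos)
    ((Core.isPGroup_coprime_card hP.to_inf_left
      (Nat.coprime_two_right.2 A.odd_relIndex)).dvd_of_dvd_mul_right e4)
  have e6 := h2 (P ⊓ N0 S ⊓ CL S) inf_le_right hP.to_inf_left.to_inf_left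
  calc _ ≤ Nat.card F * (2 * Nat.card S.U) :=
        (A.card_le_N0 h).trans (Nat.mul_le_mul_left _ (e5.trans (Nat.mul_le_mul_right _ e6)))
    _ = _ := by rw [A.card_U]; ring

end Amb

end CfsgLib.SLF
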