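import Mathlib
import Cfsg.Agent.Lib.SLF.Aut

/-!
# Centralisers: the general lemma and computations in `U`
-/

set_option autoImplicit false
set_option linter.unusedSectionVars false

namespace CfsgLib.SLF

open Cfsg.Lie CfsgLib.RGD CfsgLib.Stein CfsgLib.Semi CfsgLib.SLE CfsgLib.UFP Subgroup
open scoped commutatorElement Pointwise

universe u

variable {F : Type} [Field F] [Finite F] [CharP F 2] {G : Type u} [Group G] [Finite G]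
  {S : StSys ΦF4 F G}

/-- an ideal of positive roots in which every fundamental root is a difference -/
def Idl4 (T : List R4) : Prop := (∀ r ∈ T, 24 ≤ r.1) ∧ (∀ r ∈ T, ∀ a : R4, 24 ≤ a.1 → ∀ k, Ad r a k → k ∈ T) ∧
  ∀ i ∈ ([24, 25, 27, 33] : List R4), ∃ a ∈ T, ∃ k ∈ T, Ad a i k

instance decIdl4 (T : List R4) : Decidable (Idl4 T) :=
  @instDecidableAnd _ _ inferInstance (@instDecidableAnd _ _ inferInstance inferInstance)

theorem ca_cz {T : Set R4} (h1 : ∀ r ∈ T, 24 ≤ r.1) (h2 : ∀ r ∈ T, ∀ a : R4, 24 ≤ a.1 → ∀ k, Ad r a k → k ∈ T)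
    {a b : R4} (ha : 24 ≤ a.1) (hb : b ∈ T) {n : ℕ} (hn : n ≤ b.1 + 1) : Cz {s | s ∈ T ∧ n ≤ s.1} a b := by
  have k0 : ∀ r ∈ T, ∀ a : R4, 24 ≤ a.1 → ∀ k, Ad r a k → n ≤ r.1 + 1 → k ∈ T ∧ n ≤ k.1 := fun r hr a ha k e l =>
    ⟨h2 r hr a ha k e, l.trans (e.lt ha)⟩
  have := h1 b hb
  refine ⟨by omega, fun k e => k0 b hb a ha k e.1.symm hn, fun k m e => ?_, fun k m e => ?_⟩
  · have k1 := k0 b hb a ha k e.2.2.1.symm hn
    exact ⟨k1, k0 k k1.1 b this m e.2.2.2 (Nat.le_succ_of_le k1.2)⟩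
  · have k1 := k0 b hb a ha k e.2.2.1 hn
    exact ⟨k1, k0 k k1.1 a ha m e.2.2.2 (Nat.le_succ_of_le k1.2)⟩

theorem ca_triv {w : R4 → R4} (hw : Iso4 w) {d : R4 → F} (h1 : ∀ r, d r.rev = (d r)⁻¹)
    (h2 : ∀ a b k, Ad a b k → d k = d a * d b) (h : ∀ i ∈ ([24, 25, 27, 33] : List R4), w i = i ∧ d i = 1)
    (r : R4) : w r = r ∧ d r = 1 := by
  have k0 : ∀ r : R4, 24 ≤ r.1 → r ∈ ([24, 25, 27, 33] : List R4) ∨
      ∃ i ∈ ([24, 25, 27, 33] : List R4), ∃ b : R4, 24 ≤ b.1 ∧ b < r ∧ Ad i b r := by decide +kernel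
  have k1 : ∀ r : R4, 24 ≤ r.1 → w r = r ∧ d r = 1 := fun r => by
    induction r using WellFoundedLT.induction with
    | ind r ih =>
      intro hr
      rcases k0 r hr with k | ⟨i, hi, b, hb, l, e⟩
      · exact h r k
      · have := hw.ad e
        rw [(h i hi).1, (ih b l hb).1] at this
        exact ⟨this.uniq e, by rw [h2 _ _ _ e, (h i hi).2, (ih b l hb).2, one_mul]⟩
  by_cases hr : 24 ≤ r.1
  · exact k1 r hr
  · have := k1 r.rev (by rw [Fin.val_rev]; omega)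
    rw [hw.rev, h1, inv_eq_one] at this
    exact ⟨Fin.rev_injective this.1, this.2⟩

theorem ca_comm {u g x : G} (h1 : u * g * x = x * (u * g)) (h2 : g * x = x * g) : u * x * u⁻¹ * x⁻¹ = 1 := by
  rw [mul_assoc, h2, ← mul_assoc, ← mul_assoc] at h1
  rw [mul_right_cancel h1]; group

theorem Std.ca_one {g : G} {σ : F ≃+* F} (h : Std S g σ) (r : R4) : g * S.x r 1 = S.x r 1 * g := by
  rw [← mul_inv_eq_iff_eq_mul, h, map_one]

/-- the test of `elimL` -/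
def ElC (T Z K : List R4) : Prop := (∀ a : R4, 24 ≤ a.1 → ∀ b ∈ K, CzL K a b) ∧ (∀ r ∈ K, 24 ≤ r.1) ∧
    (∀ r ∈ T, 24 ≤ r.1) ∧ (∀ r ∈ Z, ∀ a ∈ T, CzL K r a) ∧
    ∀ r : R4, 24 ≤ r.1 → r ∉ Z → ∃ a ∈ T, ip4 r a < 0 ∧ ∀ k, Ad r a k → k ∉ K

instance decElC (T Z K : List R4) : Decidable (ElC T Z K) :=
  @instDecidableAnd _ _ inferInstance (@instDecidableAnd _ _ inferInstance (@instDecidableAnd _ _ inferInstance
    (@instDecidableAnd _ _ inferInstance inferInstance)))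

/-- the test of `ca_cut` -/
def CutC (Z : List R4) (d : R4) (Z' : List R4) : Prop := (∀ r ∈ Z, 24 ≤ r.1 ∧ 24 ≤ (rf4 d r).1) ∧
  (∀ a ∈ Z, ∀ b ∈ Z, 0 ≤ ip4 a b) ∧ ∀ r ∈ Z, rf4 d r ∈ Z → rf4 d r ∈ Z'

instance decCutC (Z : List R4) (d : R4) (Z' : List R4) : Decidable (CutC Z d Z') :=
  @instDecidableAnd _ _ inferInstance (@instDecidableAnd _ _ inferInstance inferInstance)

namespace Amb

variable (A : Amb S) {g : G}
include A

theorem ca_lead {r s : R4} (hr : 24 ≤ r.1) {c e : F} (hc : c ≠ 0) (h : (S.x r c)⁻¹ * S.x s e ∈ Ug S (r + 1)) :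
    s = r ∧ e = c := by
  have h1 : S.x s e ∈ S.U := by
    simpa using mul_mem (S.x_mem_U ((pos4 r).2 hr) c)
      (S.UU_le_U (fun k (hk : r.1 + 1 ≤ k.1) => (pos4 k).2 (by omega)) h)
  have h2 := A.cf_lead hr h
  have he : e ≠ 0 := by rintro rfl; rw [S.x_zero, A.cf_one] at h2; exact hc h2.symm
  rw [A.cf_x ((pos4 s).1 (A.nd.pos_of_x_mem_B he (S.U_le_B h1)))] at h2
  by_cases k : r = s
  · subst k; exact ⟨rfl, by simpa using h2⟩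
  · exact absurd (by simpa [k] using h2.symm) hc

theorem ca_main {T : Set R4} (h1 : ∀ r ∈ T, 24 ≤ r.1)
    (h2 : ∀ r ∈ T, ∀ a : R4, 24 ≤ a.1 → ∀ k, Ad r a k → k ∈ T) {m : ℕ}
    (h3 : ∀ i ∈ ([24, 25, 27, 33] : List R4), (i ∈ T ∧ i.1 < m) ∨ ∃ a ∈ T, ∃ k ∈ T, k.1 < m ∧ Ad a i k)
    {l : G} (hl : l ∈ S.grp) {σ : F ≃+* F} (hδ : Std S (l * g) σ)
    (h4 : ∀ x ∈ S.UU {s | s ∈ T ∧ m ≤ s.1}, g * x * g⁻¹ ∈ S.UU {s | s ∈ T ∧ m ≤ s.1})
    (h5 : ∀ r ∈ T, r.1 < m → (S.x r 1)⁻¹ * (g * S.x r 1 * g⁻¹) ∈ S.UU {s | s ∈ T ∧ r.1 + 1 ≤ s.1}) :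
    ∃ u ∈ S.U, Std S (u * g) σ := by
  obtain ⟨u, hu, h, hh, L, -, u', hu', e⟩ := A.bruhat (inv_mem hl)
  obtain ⟨d, d0, d1, d2, d3⟩ := A.H_conj hh
  have hv : (l * g)⁻¹ * u' * (l * g)⁻¹⁻¹ ∈ S.U := (mem_normalizer_iff.1 (hδ.inv.norm _) u').1 hu'
  have hε : ∀ r c, h * nw S L * (l * g) * S.x r c * (h * nw S L * (l * g))⁻¹ =
      S.x (wd L r) (d (wd L r) * σ c) := fun r c => by rw [← d3, ← A.ex_nw L, ← hδ]; group
  have eg : g = u * (h * nw S L * (l * g)) * ((l * g)⁻¹ * u' * (l * g)⁻¹⁻¹) := by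
    calc g = l⁻¹ * (l * g) := by group
      _ = _ := by rw [e]; group
  generalize (l * g)⁻¹ * u' * (l * g)⁻¹⁻¹ = v at hv eg
  generalize h * nw S L * (l * g) = ε at hε eg
  have hU : S.U = S.UU {r | 24 ≤ r.1} := U_eq_Ug
  have nU : ∀ n : ℕ, S.UU {r | 24 ≤ r.1} ≤ normalizer (S.UU {s | s ∈ T ∧ n ≤ s.1} : Set G) := fun n =>
    A.norm_UU fun a ha b hb => ca_cz h1 h2 ha hb.1 (Nat.le_succ_of_le hb.2)
  have cU : ∀ n : ℕ, ∀ y ∈ S.U, ∀ x ∈ S.UU {s | s ∈ T ∧ n ≤ s.1}, y * x * y⁻¹ ∈ S.UU {s | s ∈ T ∧ n ≤ s.1} :=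
    fun n y hy x hx => (mem_normalizer_iff.1 (nU n (hU.le hy)) x).1 hx
  have cX : ∀ r ∈ T, ∀ y ∈ S.U, (S.x r 1)⁻¹ * (y * S.x r 1 * y⁻¹) ∈ S.UU {s | s ∈ T ∧ r.1 + 1 ≤ s.1} :=
    fun r hr y hy => by
      have x1 : S.x r 1 ∈ S.U := S.x_mem_U ((pos4 r).2 (h1 r hr)) 1
      have x2 : S.UU {r} ≤ S.UU {r | 24 ≤ r.1} := S.UU_mono fun s hs => by
        obtain rfl : s = r := hs
        exact h1 s hr
      have := cU (r.1 + 1) _ (inv_mem x1) _ (A.comm_UU (T := {r | 24 ≤ r.1}) (T' := {r}) (fun a ha b hb => by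
        obtain rfl : b = r := hb
        exact ca_cz h1 h2 ha hr le_rfl) (nU _) (x2.trans (nU _)) (hU.le hy) (S.x_mem_UU (Set.mem_singleton _) 1))
      convert this using 1
      group
  have step : ∀ r ∈ T, r.1 < m → (∀ x ∈ S.UU {s | s ∈ T ∧ r.1 + 1 ≤ s.1},
      ε * x * ε⁻¹ ∈ S.UU {s | s ∈ T ∧ r.1 + 1 ≤ s.1}) → wd L r = r ∧ d r = 1 := fun r hr l k => by
    have := mul_mem (mul_mem (cX r hr _ (inv_mem hu)) (cU _ _ (inv_mem hu) _ (h5 r hr l)))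
      (inv_mem (k _ (cX r hr v hv)))
    have e1 : (S.x r 1)⁻¹ * (u⁻¹ * S.x r 1 * u⁻¹⁻¹) * (u⁻¹ * ((S.x r 1)⁻¹ * (g * S.x r 1 * g⁻¹)) * u⁻¹⁻¹) *
        (ε * ((S.x r 1)⁻¹ * (v * S.x r 1 * v⁻¹)) * ε⁻¹)⁻¹ = (S.x r 1)⁻¹ * (ε * S.x r 1 * ε⁻¹) := by
      rw [eg]; group
    rw [e1, hε, map_one, mul_one] at this
    obtain ⟨k1, k2⟩ := A.ca_lead (h1 r hr) one_ne_zero (S.UU_mono (fun s hs => hs.2) this)
    exact ⟨k1, by rwa [k1] at k2⟩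
  have ind : ∀ n ≤ m, ∀ x ∈ S.UU {s | s ∈ T ∧ n ≤ s.1}, ε * x * ε⁻¹ ∈ S.UU {s | s ∈ T ∧ n ≤ s.1} := by
    intro n hn
    induction hn using Nat.decreasingInduction with
    | self =>
      intro x hx
      have := cU m _ (inv_mem hu) _ (h4 _ (cU m _ (inv_mem hv) x hx))
      rw [eg] at this
      simpa [mul_assoc] using this
    | of_succ n hn ih =>
      refine fun x hx => (S.UU_le_iff (K := comap (MulAut.conj ε).toMonoidHom
        (S.UU {s | s ∈ T ∧ n ≤ s.1}))).2 (fun s hs c => ?_) hx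
      change ε * S.x s c * ε⁻¹ ∈ S.UU _
      rcases hs.2.eq_or_lt with k | k
      · rw [hε, (step s hs.1 (k.symm.trans_lt hn) (by rw [← k]; exact ih)).1]; exact S.x_mem_UU hs _
      · exact S.UU_mono (fun s hs => by exact ⟨hs.1, Nat.le_of_succ_le hs.2⟩)
          (ih _ (S.x_mem_UU (by exact ⟨hs.1, k⟩) c))
  have fix := fun r hr l => step r hr l (ind _ l)
  have ps : ∀ i ∈ ([24, 25, 27, 33] : List R4), 24 ≤ i.1 := by decide
  have all := ca_triv (iso_wd L) d1 d2 fun i hi => by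
    rcases h3 i hi with k | ⟨a, ha, k, hk, l, e⟩
    · exact fix i k.1 k.2
    have ka := fix a ha (lt_trans (e.lt (ps i hi)) l)
    have kk := fix k hk l
    have := (iso_wd L).ad e
    rw [ka.1, kk.1] at this
    refine ⟨wt_inj (add_left_cancel (Eq.trans this (Eq.symm e))), ?_⟩
    have := d2 _ _ _ e
    rwa [ka.2, kk.2, one_mul, eq_comm] at this
  have hs : Std S ε σ := fun r c => by rw [hε, (all r).1, (all r).2, one_mul]
  refine ⟨(u * (ε * v * ε⁻¹))⁻¹, inv_mem (mul_mem hu ((mem_normalizer_iff.1 (hs.norm _) v).1 hv)), ?_⟩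
  rwa [show (u * (ε * v * ε⁻¹))⁻¹ * g = ε by rw [eg]; group]

theorem ca_cut {Z Z' : List R4} {d : R4} (hc : CutC Z d Z') {u : G} (hu : u ∈ UL S Z)
    (h1 : u * S.x d 1 = S.x d 1 * u) (h2 : u * S.x d.rev 1 = S.x d.rev 1 * u) : u ∈ UL S Z' := by
  have h3 : Commute u (S.n d 1) := A.n_eq d ▸ ((show Commute u _ from h1).mul_right h2).mul_right h1
  have h4 := (A.ex_n d).conj_mem (T' := {r | r ∈ Z.map (rf4 d)}) (fun r hr => List.mem_map_of_mem hr) hu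
  rw [← h3.eq, mul_inv_cancel_right] at h4
  have h5 := (A.UU_inf (cl_L fun a ha b hb => .inl (hc.2.1 a ha b hb)) (fun r hr => (hc.1 r hr).1)
    (cl_L (T := Z.map (rf4 d)) fun a ha b hb => .inl (by
      obtain ⟨a, ha', rfl⟩ := List.mem_map.1 ha
      obtain ⟨b, hb', rfl⟩ := List.mem_map.1 hb
      rw [rf4_ip]; exact hc.2.1 a ha' b hb')) fun r hr => by
      obtain ⟨a, ha, rfl⟩ := List.mem_map.1 hr
      exact (hc.1 a ha).2).le ⟨hu, h4⟩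
  refine S.UU_mono (fun r hr => ?_) h5
  obtain ⟨a, ha, rfl⟩ := List.mem_map.1 hr.2
  exact hc.2.2 a ha hr.1

theorem ca_elim {T Z : List R4} (hc : ElC T Z []) {u : G} (hu : u ∈ S.U)
    (h : ∀ a ∈ T, u * S.x a 1 * u⁻¹ * (S.x a 1)⁻¹ = 1) : u ∈ UL S Z :=
  A.elimL hc hu fun a ha => h a ha ▸ one_mem _

theorem cenU1 {T : List R4} (hT : Idl4 T) (hg : g ∈ NL S) (h : ∀ r ∈ T, g * S.x r 1 = S.x r 1 * g) :
    ∃ u ∈ S.U, ∃ σ, Std S (u * g) σ := by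
  obtain ⟨a, ha, -⟩ := hT.2.2 24 (by simp)
  obtain ⟨l, hl, σ, hδ⟩ := A.std_of_conj hg Iff.rfl one_ne_zero (mul_inv_eq_of_eq_mul (h a ha))
  obtain ⟨u, hu, k⟩ := A.ca_main (T := {r | r ∈ T}) (m := 48) hT.1 hT.2.1 (fun i hi => by
    obtain ⟨a, ha, k, hk, e⟩ := hT.2.2 i hi
    exact .inr ⟨a, ha, k, hk, k.2, e⟩) hl hδ (fun x hx => by
      rw [show x = 1 from mem_bot.1 (Ug_top.le (S.UU_mono (fun s hs => hs.2) hx))]; simp)
    fun r hr _ => by rw [h r hr]; simp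
  exact ⟨u, hu, σ, k⟩

theorem cenU {T : List R4} (hT : Idl4 T) (hg : g ∈ NL S) (h : ∀ r ∈ T, ∀ c, g * S.x r c = S.x r c * g) :
    ∃ u ∈ S.U, ∃ k ∈ CL S, g = u * k := by
  obtain ⟨u, hu, σ, hs⟩ := A.cenU1 hT hg fun r hr => h r hr 1
  obtain ⟨r, hr, -⟩ := hT.2.2 24 (by simp)
  have p := hT.1 r hr
  obtain rfl : σ = 1 := RingEquiv.ext fun c => by
    by_cases hc : c = 0
    · rw [hc, map_zero, map_zero]
    have x1 : S.x r c ∈ S.U := S.x_mem_U ((pos4 r).2 p) c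
    have := (mem_normalizer_iff.1 (A.U_norm_Ug _ (Nat.le_succ_of_le p) (inv_mem x1)) _).1
      (A.comm_Ug p hu (S.x_mem_UU (Ψ := {s | r.1 ≤ s.1}) (le_refl r.1) c))
    refine (A.ca_lead p hc (s := r) ?_).2
    rw [← hs, mul_assoc u, h r hr]
    simpa [mul_assoc] using this
  exact ⟨u⁻¹, inv_mem hu, _, std_one_iff.1 hs, (inv_mul_cancel_left _ _).symm⟩

theorem cen_V {y : G} (hy : y ∈ Y4 S 44) (h : ∀ v ∈ Q4 S 44, y * v * y⁻¹ * v⁻¹ ∈ V4 S 44) : y ∈ Q4 S 44 := by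
  have hl : y ∈ S.grp := S.UU_le_grp _ hy
  have e : ∀ n : ℕ, 33 ≤ n → S.UU {s | s ∈ {r : R4 | 33 ≤ r.1} ∧ n ≤ s.1} = Ug S n := fun n hn =>
    congrArg S.UU (Set.ext fun s => ⟨fun k => k.2, fun k => ⟨hn.trans k, k⟩⟩)
  have k0 : ∀ i ∈ ([24, 25, 27, 33] : List R4), (33 ≤ i.1 ∧ i.1 < 41) ∨
      ∃ a : R4, 33 ≤ a.1 ∧ ∃ k : R4, 33 ≤ k.1 ∧ k.1 < 41 ∧ Ad a i k := by decide +kernel
  have k1 : ∀ r ∈ ([33, 34, 35, 36, 37, 38, 39, 40, 41, 42, 43, 44, 45, 46, 47] : List R4), 1 ≤ ip4 r 44 := by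
    decide +kernel
  have k2 : ∀ r : R4, 41 ≤ r.1 → r ∈ ([41, 42, 43, 44, 45, 46, 47] : List R4) := by decide +kernel
  have k3 : ∀ r ∈ ([33, 34, 35, 36, 37, 38, 39, 40] : List R4), 33 ≤ r.1 := by decide
  have hQ : ∀ r : R4, 33 ≤ r.1 → S.x r 1 ∈ Q4 S 44 := fun r hr => A.Q44_eq.ge (S.x_mem_UU hr 1)
  have k4 : ∀ r : R4, 33 ≤ r.1 → ∀ a : R4, 24 ≤ a.1 → ∀ k, Ad r a k → 33 ≤ k.1 :=
    fun r hr a ha k e => hr.trans (Fin.lt_def.1 (e.lt ha)).le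
  obtain ⟨u, hu, k⟩ := A.ca_main (g := y) (T := {r | 33 ≤ r.1}) (m := 41) (σ := 1)
    (fun r (hr : 33 ≤ r.1) => by omega) k4 k0 (inv_mem hl)
    (std_one_iff.2 (by rw [inv_mul_cancel]; exact one_mem _))
    (fun x => by rw [e 41 (by decide), ← A.V44_eq]; exact (mem_normalizer_iff.1 (A.Y_norm_V 44 hy) x).1)
    fun r hr l => by
      have := (mem_normalizer_iff.1 (A.Y_norm_V 44 (A.Yo_le_Y _ (A.Q_le_Yo _ (inv_mem (hQ r hr))))) _).1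
        (h _ (hQ r hr))
      rw [A.V44_eq] at this
      rw [e _ (Nat.le_succ_of_le hr)]
      convert S.UU_mono (Ψ' := {s | r.1 + 1 ≤ s.1}) (fun s (hs : 41 ≤ s.1) => Nat.le_trans l hs) this using 1
      group
  have hy' : y ∈ S.U := by
    rw [eq_inv_of_mul_eq_one_right (A.eq_one (mul_mem (S.U_le_grp hu) hl) (std_one_iff.1 k))]
    exact inv_mem hu
  rw [A.V44_eq] at h
  exact S.UU_mono k1 (A.elimL (show ElC _ _ _ by decide +kernel) hy' fun a ha =>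
    S.UU_mono k2 (h _ (hQ a (k3 a ha))))

theorem center_U {u : G} (hu : u ∈ S.U) (h : u ∈ centralizer (S.U : Set G)) : u ∈ UL S [44, 47] :=
  A.ca_elim (T := posL4) (by decide +kernel) hu fun a ha => by
    rw [← h _ (S.x_mem_U ((pos4 a).2 (by revert a; decide)) 1)]; group

theorem cen_Z2 {u : G} (hu : u ∈ S.U) (h : ∀ v ∈ S.U, u * v * u⁻¹ * v⁻¹ ∈ UL S [44, 47]) :
    u ∈ UL S [40, 44, 46, 47] :=
  A.elimL (T := posL4) (show ElC _ _ _ by decide +kernel) hu fun a ha =>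
    h _ (S.x_mem_U ((pos4 a).2 (by revert a; decide)) 1)

theorem cen_A0 {u : G} (hu : u ∈ S.U) (h : u ∈ centralizer ((⁅S.U, S.U⁆ : Subgroup G) : Set G)) :
    u ∈ UL S [40, 44, 46, 47] :=
  A.ca_elim (T := [26, 29, 31, 32, 34, 35, 36, 37, 38, 39, 40, 41, 42, 43, 44, 45, 46, 47]) (by decide +kernel) hu
    fun a ha => by rw [← h _ (A.der_U (S.x_mem_UU (by revert a; decide) 1))]; group

theorem cen_Y2 {u : G} (hu : u ∈ S.U) (h : u ∈ centralizer (UL S lY2 : Set G)) : u ∈ UL S [40, 44] :=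
  have k : ∀ a ∈ lY2, u * S.x a 1 = S.x a 1 * u := fun _ ha => (h _ (S.x_mem_UU ha 1)).symm
  A.ca_cut (Z := [40, 44, 47]) (d := 24) (by decide +kernel)
    (A.ca_elim (T := 24 :: 25 :: 26 :: lR2) (by decide +kernel) hu fun a ha => by
      rw [k a (by revert a; decide)]; group) (k _ (by decide)) (k _ (by decide))

theorem cen_Q1 (hg : g ∈ NL S) (h : ∀ r, 1 ≤ ip4 r 47 → g * S.x r 1 = S.x r 1 * g) :
    ∃ u ∈ V4 S 47, ∃ σ, Std S (u * g) σ := by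
  have k : ∀ r ∈ ([24, 26, 29, 31, 32, 36, 38, 39, 40, 42, 43, 44, 45, 46, 47] : List R4), 1 ≤ ip4 r 47 := by
    decide +kernel
  obtain ⟨u, hu, σ, hs⟩ := A.cenU1 (by decide +kernel) hg fun r hr => h r (k r hr)
  exact ⟨u, A.V47_eq ▸ A.ca_elim (by decide +kernel) hu fun r hr => ca_comm (hs.ca_one r) (h r (k r hr)), σ, hs⟩

theorem cen_R1 (hg : g ∈ NL S) (h : ∀ r : R4, 25 ≤ r.1 → g * S.x r 1 = S.x r 1 * g) :
    ∃ u ∈ UL S [44, 46, 47], ∃ σ, Std S (u * g) σ := by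
  have k : ∀ r ∈ posL4.tail, 25 ≤ r.1 := by decide
  obtain ⟨u, hu, σ, hs⟩ := A.cenU1 (by decide +kernel) hg fun r hr => h r (k r hr)
  exact ⟨u, A.ca_elim (by decide +kernel) hu fun r hr => ca_comm (hs.ca_one r) (h r (k r hr)), σ, hs⟩

theorem mem_pair {a b : R4} (h : 0 ≤ ip4 a b) {w : G} : w ∈ UL S [a, b] ↔ ∃ c e, w = S.x a c * S.x b e := by
  refine ⟨fun hw => S.UU_induction (p := fun w => ∃ c e, w = S.x a c * S.x b e)
    ⟨0, 0, by simp [S.x_zero]⟩ ?_ hw, ?_⟩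
  · rintro r hr t g - ⟨c, e, rfl⟩
    rcases List.mem_pair.1 hr with rfl | rfl
    · exact ⟨c + t, e, by rw [mul_assoc, ← A.com h, S.x_add, mul_assoc]⟩
    · exact ⟨c, e + t, by rw [S.x_add, mul_assoc]⟩
  · rintro ⟨c, e, rfl⟩
    exact mul_mem (S.x_mem_UU (by simp) c) (S.x_mem_UU (by simp) e)

end Amb

end CfsgLib.SLF
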