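import Mathlib
import Cfsg.Agent.Lib.SLF.CenA

/-!
# Centralisers of the subgroups used for the hats
-/

set_option autoImplicit false
set_option linter.unusedSectionVars false

namespace CfsgLib.SLF

open Cfsg.Lie CfsgLib.RGD CfsgLib.Stein CfsgLib.Semi CfsgLib.SLE CfsgLib.UFP Subgroup
open scoped commutatorElement Pointwise

universe u

variable {F : Type} [Field F] [Finite F] [CharP F 2] {G : Type u} [Group G] [Finite G]
  {S : StSys ΦF4 F G}

/-- `g ∈ U_Z C(L)` -/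
def CnD (S : StSys ΦF4 F G) (g : G) (Z : List R4) : Prop := ∃ u ∈ UL S Z, ∃ k ∈ CL S, g = u * k

/-- the cuts by reflections -/
def CnL (p : R4 → Prop) : List R4 → List (R4 × List R4) → Prop
  | _, [] => True
  | Z, (d, Z') :: D => p d ∧ p d.rev ∧ CutC Z d Z' ∧ CnL p Z' D

instance decCnL (p : R4 → Prop) [DecidablePred p] : ∀ Z D, Decidable (CnL p Z D)
  | _, [] => isTrue trivial
  | _, (_, Z') :: D => @instDecidableAnd _ _ inferInstance (@instDecidableAnd _ _ inferInstance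
      (@instDecidableAnd _ _ inferInstance (decCnL p Z' D)))

/-- the certificate -/
def CnC (p : R4 → Prop) [DecidablePred p] (T Z : List R4) (D : List (R4 × List R4)) : Prop :=
  Idl4 T ∧ (∀ s ∈ T, p s) ∧ ElC (posL4.filter p) Z [] ∧ CnL p Z D

instance decCnC (p : R4 → Prop) [DecidablePred p] (T Z : List R4) (D : List (R4 × List R4)) :
    Decidable (CnC p T Z D) :=
  @instDecidableAnd _ _ inferInstance (@instDecidableAnd _ _ inferInstance
    (@instDecidableAnd _ _ inferInstance inferInstance))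

theorem cn_com {g u k : G} (hk : k ∈ CL S) (e : g = u * k) {s : R4} (h : g * S.x s 1 = S.x s 1 * g) :
    u * S.x s 1 = S.x s 1 * u := by
  rw [e, mul_assoc, ← hk _ (S.x_mem_grp s 1), ← mul_assoc, ← mul_assoc] at h
  exact mul_right_cancel h

namespace Amb

variable (A : Amb S) {g : G} (hg : g ∈ NL S)
include A

theorem cn_cut {p : R4 → Prop} (h : ∀ s, p s → g * S.x s 1 = S.x s 1 * g) :
    ∀ (D : List (R4 × List R4)) (Z : List R4), CnL p Z D → CnD S g Z → CnD S g ((D.map Prod.snd).getLastD Z)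
  | [], _, _, k => k
  | (d, Z') :: D, Z, ⟨h1, h2, h3, h4⟩, ⟨u, hu, k, hk, e⟩ => by
    rw [List.map_cons, List.getLastD_cons]
    exact cn_cut h D Z' h4 ⟨u, A.ca_cut h3 hu (cn_com hk e (h _ h1)) (cn_com hk e (h _ h2)), k, hk, e⟩

theorem CnD.pair {a b : R4} (h : 0 ≤ ip4 a b) (k : CnD S g [a, b]) :
    ∃ c e, ∃ k ∈ CL S, g = S.x a c * S.x b e * k := by
  obtain ⟨u, hu, k, hk, rfl⟩ := k
  obtain ⟨c, e, rfl⟩ := (A.mem_pair h).1 hu
  exact ⟨c, e, k, hk, rfl⟩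

omit A in
theorem CnD.one {a : R4} (k : CnD S g [a]) : ∃ c, ∃ k ∈ CL S, g = S.x a c * k := by
  obtain ⟨u, hu, k, hk, rfl⟩ := k
  obtain ⟨c, rfl⟩ := S.mem_X_iff.1 (S.UU_mono (fun r hr => List.mem_singleton.1 hr) hu)
  exact ⟨c, k, hk, rfl⟩

include hg

theorem cn_main {p : R4 → Prop} [DecidablePred p] {T Z : List R4} {D : List (R4 × List R4)}
    (hc : CnC p T Z D) (L : List R4) (h : ∀ s, p s → ∀ c, g * S.x (wd L s) c = S.x (wd L s) c * g) :
    CnD S g (((D.map Prod.snd).getLastD Z).map (wd L)) := by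
  have hn := nw_mem (S := S) L
  have h' : ∀ s, p s → ∀ c, (nw S L)⁻¹ * g * nw S L * S.x s c = S.x s c * ((nw S L)⁻¹ * g * nw S L) :=
    fun s hs c => by
      have := h s hs c
      rw [← A.ex_nw L] at this
      calc _ = (nw S L)⁻¹ * (g * (nw S L * S.x s c * (nw S L)⁻¹)) * nw S L := by group
        _ = _ := by rw [this]; group
  obtain ⟨u, hu, k, hk, e⟩ := A.cenU hc.1 (mul_mem (mul_mem (inv_mem (le_normalizer hn)) hg) (le_normalizer hn))
    fun r hr => h' r (hc.2.1 r hr)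
  obtain ⟨u, hu, k, hk, e⟩ := A.cn_cut (fun s hs => h' s hs 1) D Z hc.2.2.2 ⟨u, A.ca_elim hc.2.2.1 hu fun a ha => by
    rw [cn_com hk e (h' a (of_decide_eq_true (List.mem_filter.1 ha).2) 1)]; group, k, hk, e⟩
  refine ⟨_, (A.ex_nw L).conj_mem (fun r hr => List.mem_map_of_mem hr) hu, k, hk, ?_⟩
  rw [mul_assoc, hk _ (inv_mem hn), ← mul_assoc, mul_assoc _ u, ← e]; group

theorem cen_Q (r : R4) (h : g ∈ centralizer (Q4 S r : Set G)) : ∃ v ∈ V4 S r, ∃ k ∈ CL S, g = v * k := by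
  have key : ∀ (r₀ : R4) (T Z : List R4), (Lg r₀ ↔ Lg r) → CnC (fun s => 1 ≤ ip4 s r₀) T Z [] →
      (∀ s ∈ Z, s = r₀ ∨ (ip4 s r₀ = 2 ∧ ¬ (Lg s ↔ Lg r₀))) → ∃ v ∈ V4 S r, ∃ k ∈ CL S, g = v * k := by
    intro r₀ T Z e hc hZ
    obtain ⟨L, rfl⟩ := trans1 e
    obtain ⟨u, hu, k⟩ := A.cn_main hg hc L fun s hs c =>
      (h _ (S.x_mem_UU (by rwa [Set.mem_ofPred, iso_wd L]) c)).symm
    refine ⟨u, S.UU_mono (fun s hs => ?_) hu, k⟩
    obtain ⟨s, hs', rfl⟩ := List.mem_map.1 hs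
    rw [Set.mem_ofPred, iso_wd L, (iso_wd L).lg, (iso_wd L).lg]
    exact (hZ s hs').imp_left (congrArg _)
  by_cases l : Lg r
  · exact key 47 [24, 26, 29, 31, 32, 36, 38, 39, 40, 42, 43, 44, 45, 46, 47] [29, 36, 38, 39, 40, 44, 47]
      (iff_of_true (by decide +kernel) l) (by decide +kernel) (by decide +kernel)
  · exact key 44 [33, 34, 35, 36, 37, 38, 39, 40, 41, 42, 43, 44, 45, 46, 47] [41, 42, 43, 44, 45, 46, 47]
      (iff_of_false (by decide +kernel) l) (by decide +kernel) (by decide +kernel)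

theorem cen_Yo (r : R4) (h : g ∈ centralizer (Yo S r : Set G)) : ∃ c, ∃ k ∈ CL S, g = S.x r c * k := by
  have key : ∀ (r₀ d : R4) (T : List R4), (Lg r₀ ↔ Lg r) → CnC (Yr r₀) T [44, 47] [(d, [r₀])] →
      ∃ c, ∃ k ∈ CL S, g = S.x r c * k := by
    intro r₀ d T e hc
    obtain ⟨L, rfl⟩ := trans1 e
    exact CnD.one (A.cn_main hg hc L fun s hs c => (h _ (S.x_mem_UU (((iso_wd L).yr _ _).2 hs) c)).symm)
  by_cases l : Lg r
  · exact key 47 33 [24, 26, 29, 31, 32, 36, 38, 39, 40, 42, 43, 44, 45, 46, 47]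
      (iff_of_true (by decide +kernel) l) (by decide +kernel)
  · exact key 44 24 [33, 34, 35, 36, 37, 38, 39, 40, 41, 42, 43, 44, 45, 46, 47]
      (iff_of_false (by decide +kernel) l) (by decide +kernel)

theorem cen_Y (r : R4) (h : g ∈ centralizer (Y4 S r : Set G)) : ∃ c, ∃ k ∈ CL S, g = S.x r c * k :=
  A.cen_Yo hg r (centralizer_le (A.Yo_le_Y r) h)

theorem cen_Y2o {a r : R4} (ha : ¬ Lg a) (hr : ¬ Lg r) (har : ip4 a r = 1)
    (h : ∀ s, Yr a s → Yr r s → ∀ c, g * S.x s c = S.x s c * g) :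
    ∃ c e, ∃ k ∈ CL S, g = S.x a c * S.x r e * k := by
  obtain ⟨L, rfl, rfl⟩ := ptrans (a := 40) (b := 44) (iff_of_false (by decide +kernel) ha)
    (iff_of_false (by decide +kernel) hr) (har.symm ▸ by decide +kernel)
  exact CnD.pair A (by omega) (A.cn_main hg (p := fun s => Yr 40 s ∧ Yr 44 s)
    (T := [30, 31, 32, 37, 38, 39, 40, 41, 42, 43, 44, 45, 46, 47]) (Z := [39, 40, 44, 47])
    (D := [(24, [39, 40, 44]), (25, [40, 44])]) (by decide +kernel) L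
    fun s hs => h _ (((iso_wd L).yr _ _).2 hs.1) (((iso_wd L).yr _ _).2 hs.2))

theorem cen_QA {a b r : R4} (ha : ¬ Lg a) (hr : Cm a b r) (h : g ∈ centralizer (Q4 S r : Set G))
    (h' : ∀ s, Lg s → ip4 s a = 0 → ip4 s b = 0 → ∀ c, g * S.x s c = S.x s c * g) :
    ∃ c, ∃ k ∈ CL S, g = S.x r c * k := by
  have e := hr.ip
  rw [(sh_iff a).1 ha] at e
  obtain ⟨L, rfl, rfl⟩ := ptrans (a := 40) (b := 33) (iff_of_false (by decide +kernel) ha)
    (iff_of_false (by decide +kernel) (mt hr.2.1.2 ha)) ((by decide +kernel : ip4 40 33 = -1).trans (by omega))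
  obtain rfl := ((iso_wd L).ad (by decide +kernel : Ad 40 33 44)).uniq hr.1
  exact CnD.one (A.cn_main hg (p := fun s => 1 ≤ ip4 s 44 ∨ Lg s ∧ ip4 s 40 = 0 ∧ ip4 s 33 = 0)
    (T := [33, 34, 35, 36, 37, 38, 39, 40, 41, 42, 43, 44, 45, 46, 47]) (Z := [43, 44, 47])
    (D := [(24, [43, 44]), (25, [44])]) (by decide +kernel) L fun s hs c => hs.elim
      (fun k => (h _ (S.x_mem_UU (by rwa [Set.mem_ofPred, iso_wd L]) c)).symm)
      fun k => h' _ (((iso_wd L).lg s).2 k.1) ((iso_wd L _ _).trans k.2.1) ((iso_wd L _ _).trans k.2.2) c)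

theorem cen_QD {b k m : R4} (hm : Ot b k m) (h : g ∈ centralizer (Q4 S m : Set G))
    (h' : ∀ s, Lg s → ip4 s b = 0 → ip4 s k = 0 → ∀ c, g * S.x s c = S.x s c * g) :
    ∃ c d e, ∃ z ∈ CL S, g = S.x b c * S.x k d * S.x m e * z := by
  obtain ⟨L, rfl, rfl⟩ := ptrans (a := 44) (b := 29) (iff_of_false (by decide +kernel) hm.1)
    (iff_of_false (by decide +kernel) hm.2.1) (hm.ip.symm ▸ by decide +kernel)
  obtain rfl := ((iso_wd L).ad (by decide +kernel : Ad 44 29 47)).uniq hm.2.2.1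
  obtain ⟨u, hu, z, hz, rfl⟩ := A.cn_main hg (p := fun s => 1 ≤ ip4 s 47 ∨ Lg s ∧ ip4 s 44 = 0 ∧ ip4 s 29 = 0)
    (T := [24, 26, 29, 31, 32, 36, 38, 39, 40, 42, 43, 44, 45, 46, 47]) (Z := [29, 39, 40, 44, 47])
    (D := [(25, [29, 40, 44, 47]), (30, [44, 29, 47])]) (by decide +kernel) L fun s hs c => hs.elim
      (fun k => (h _ (S.x_mem_UU (by rwa [Set.mem_ofPred, iso_wd L]) c)).symm)
      fun k => h' _ (((iso_wd L).lg s).2 k.1) ((iso_wd L _ _).trans k.2.1) ((iso_wd L _ _).trans k.2.2) c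
  have c1 := A.com (a := wd L 44) (b := wd L 29) hm.ip.ge
  have c2 := A.com (a := wd L 44) (b := wd L 47) (by rw [iso_wd L]; decide +kernel)
  have c3 := A.com (a := wd L 29) (b := wd L 47) (by rw [iso_wd L]; decide +kernel)
  obtain ⟨c, d, e, rfl⟩ := S.UU_induction
    (p := fun w => ∃ c d e, w = S.x (wd L 44) c * S.x (wd L 29) d * S.x (wd L 47) e)
    ⟨0, 0, 0, by simp [S.x_zero]⟩ (by
      rintro r hr t _ - ⟨c, d, e, rfl⟩
      have : r = wd L 44 ∨ r = wd L 29 ∨ r = wd L 47 := by simpa using hr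
      rcases this with rfl | rfl | rfl
      · exact ⟨c + t, d, e, by rw [mul_assoc, ← c2, ← mul_assoc, mul_assoc _ (S.x _ d), ← c1, S.x_add, ← mul_assoc]⟩
      · exact ⟨c, d + t, e, by rw [mul_assoc, ← c3, S.x_add]; group⟩
      · exact ⟨c, d, e + t, by rw [S.x_add]; group⟩) hu
  exact ⟨c, d, e, z, hz, rfl⟩

theorem cen_LS {l b : R4} (hl : Lg l) (hb : ¬ Lg b) (hlb : ip4 l b = 2)
    (h : ∀ s, Yr l s → Yr b s → ∀ c, g * S.x s c = S.x s c * g) :
    ∃ c e, ∃ k ∈ CL S, g = S.x l c * S.x b e * k := by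
  obtain ⟨L, rfl, rfl⟩ := ptrans (a := 47) (b := 44) (iff_of_true (by decide +kernel) hl)
    (iff_of_false (by decide +kernel) hb) (hlb.symm ▸ by decide +kernel)
  exact CnD.pair A (by omega) (A.cn_main hg (p := fun s => Yr 47 s ∧ Yr 44 s)
    (T := [31, 32, 36, 38, 39, 40, 42, 43, 44, 45, 46, 47]) (Z := [47, 44]) (D := []) (by decide +kernel) L
    fun s hs => h _ (((iso_wd L).yr _ _).2 hs.1) (((iso_wd L).yr _ _).2 hs.2))

theorem cen_LS0 {l b : R4} (hl : Lg l) (hb : ¬ Lg b) (hlb : ip4 l b = 0)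
    (h : ∀ s, 0 ≤ ip4 s l → 0 ≤ ip4 s b → ∀ c, g * S.x s c = S.x s c * g) :
    ∃ c e, ∃ k ∈ CL S, g = S.x l c * S.x b e * k := by
  obtain ⟨L, rfl, rfl⟩ := ptrans (a := 32) (b := 44) (iff_of_true (by decide +kernel) hl)
    (iff_of_false (by decide +kernel) hb) (hlb.symm ▸ by decide +kernel)
  exact CnD.pair A (by omega) (A.cn_main hg (p := fun s => 0 ≤ ip4 s 32 ∧ 0 ≤ ip4 s 44)
    (T := [32, 39, 40, 43, 44, 45, 46, 47]) (Z := [32, 40, 44, 47])
    (D := [(24, [32, 40, 44]), (27, [32, 44])]) (by decide +kernel) L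
    fun s hs => h _ ((iso_wd L _ _).symm ▸ hs.1) ((iso_wd L _ _).symm ▸ hs.2))

end Amb

end CfsgLib.SLF
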