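import Mathlib
import Cfsg.Agent.Lib.SLF.Aut
import Cfsg.Agent.Lib.RF4.F4m
import Cfsg.Agent.Lib.SLE.SemiA

/-!
# Outer involutions
-/

set_option autoImplicit false
set_option linter.unusedSectionVars false

namespace CfsgLib.SLF

open Cfsg.Lie CfsgLib.RGD CfsgLib.Stein CfsgLib.Semi CfsgLib.SLE CfsgLib.UFP Subgroup
open scoped commutatorElement Pointwise

universe u

variable {F : Type} [Field F] [Finite F] [CharP F 2] {G : Type u} [Group G] [Finite G]
  {S : StSys ΦF4 F G}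

/-- the last `i` pairs of positive roots swapped by the graph symmetry -/
def ouT (i : ℕ) : List R4 :=
  ([25, 27, 28, 30, 24, 33, 26, 34, 31, 35, 29, 41, 36, 42, 32, 37, 38, 43, 39, 45, 40, 46, 44, 47] :
    List R4).drop (24 - 2 * i)

set_option synthInstance.maxSize 1024 in
theorem ouT_lay : ∀ i < 12, (∀ r ∈ ouT (i + 1), 24 ≤ r.1) ∧ (∀ r ∈ ouT i, r ∈ ouT (i + 1)) ∧
    ∀ a ∈ ouT (i + 1), ∀ b ∈ ouT (i + 1), CzL (ouT i) a b := by decide +kernel

set_option synthInstance.maxSize 1024 in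
theorem ouT_cen : ∀ i < 12, ∀ a ∈ posL4, ∀ b ∈ ouT (i + 1), CzL (ouT i) a b := by decide +kernel

set_option synthInstance.maxSize 1024 in
theorem ouT_norm : ∀ i < 13, ∀ a ∈ posL4, ∀ b ∈ ouT i, CzL (ouT i) a b := by decide +kernel

theorem ouT_ρ : ∀ i < 13, ∀ r ∈ ouT i, ρ r ∈ ouT i := by decide +kernel

theorem ouT_nd : ∀ i < 13, (ouT i).Nodup := by decide +kernel

theorem ouT_top : ∀ r : R4, r ∈ ouT 12 ↔ r ∈ posL4 := by decide +kernel

theorem ou_pg {g : G} {k : ℕ} (h : g ^ 2 ^ k = 1) : IsPGroup 2 (zpowers g) := by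
  rintro ⟨_, n, rfl⟩
  refine ⟨k, Subtype.ext ?_⟩
  show (g ^ n) ^ 2 ^ k = 1
  rw [← zpow_natCast, ← zpow_mul, mul_comm, zpow_mul, zpow_natCast, h, one_zpow]

theorem ou_conj_L {g l : G} (hg : g ∈ NL S) (hl : l ∈ S.grp) : g * l * g⁻¹ ∈ S.grp :=
  (mem_normalizer_iff.1 hg l).1 hl

theorem ou_conj {s l : G} (hs : s ∈ NL S) (s2 : s * s = 1) (ho : s ∉ N0 S) (hl : l ∈ S.grp) :
    l * s * l⁻¹ ∈ NL S ∧ l * s * l⁻¹ * (l * s * l⁻¹) = 1 ∧ l * s * l⁻¹ ∉ N0 S := by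
  have hl' : l ∈ NL S := le_normalizer hl
  refine ⟨mul_mem (mul_mem hl' hs) (inv_mem hl'), ?_, fun h => ho ?_⟩
  · rw [show l * s * l⁻¹ * (l * s * l⁻¹) = l * (s * s) * l⁻¹ by group, s2]; group
  · exact (mem_normalizer_iff.1 (norm_N0 hl') s).2 h

namespace Amb

variable (A : Amb S) {s : G}
include A

theorem ou_norm {i : ℕ} (hi : i ≤ 12) : S.U ≤ normalizer (UL S (ouT i) : Set G) := by
  rw [U_eq_UL]; exact A.norm_UL (ouT_norm i (by omega))

theorem ou_cen {i : ℕ} (hi : i < 12) {u x : G} (hu : u ∈ S.U) (hx : x ∈ UL S (ouT (i + 1))) :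
    u * x * u⁻¹ * x⁻¹ ∈ UL S (ouT i) := by
  have h1 := A.ou_norm hi.le
  refine A.comm_UU (T := {r | r ∈ posL4}) (fun a ha b hb => (ouT_cen i hi a ha b hb).cz) ?_ ?_ ?_ hx
  · exact U_eq_UL.ge.trans h1
  · exact (UU_le_U4 (ouT_lay i hi).1).trans h1
  · exact U_eq_UL.le hu

theorem ou_chain {u : G} (hu : u ∈ S.U) {π : R4 → R4} {f : R4 → F → F} (ππ : ∀ r, π (π r) = r)
    (hπ : ∀ i < 13, ∀ r ∈ ouT i, π r ∈ ouT i)
    (hg : ∀ r c, u * s * S.x r c * (u * s)⁻¹ = S.x (π r) (f r c))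
    (fa : ∀ r c e, f r (c + e) = f r c + f r e)
    (hf : ∀ c : R4 → F, ∃ w : R4 → F, ∀ r : R4, 24 ≤ r.1 → f (π r) (c (π r)) = c r →
      w r + f (π r) (w (π r)) = c r) : Chain s S.U 12 fun i => UL S (ouT i) := by
  have f0 : ∀ r, f r 0 = 0 := fun r => by
    have := fa r 0 0
    rw [add_zero] at this
    exact left_eq_add.1 this
  have tn : ∀ i ≤ 12, s ∈ normalizer (UL S (ouT i) : Set G) := fun i hi => by
    have h1 : u * s ∈ normalizer (UL S (ouT i) : Set G) := by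
      refine mem_normalizer_fintype fun x hx => ?_
      exact (S.UU_le_iff (K := (UL S (ouT i)).comap (MulAut.conj (u * s)).toMonoidHom)).2
        (fun r hr c => (hg r c).symm.subst (motive := (· ∈ UL S (ouT i)))
          (S.x_mem_UU (hπ i (by omega) r hr) _)) hx
    have := mul_mem (inv_mem (A.ou_norm hi hu)) h1
    rwa [inv_mul_cancel_left] at this
  have cj : ∀ i ≤ 12, ∀ x ∈ UL S (ouT i), s * x * s⁻¹ ∈ UL S (ouT i) := fun i hi x hx =>
    (mem_normalizer_iff.1 (tn i hi) x).1 hx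
  have key : ∀ i < 12, ∀ r, r ∉ ouT i → ∀ x ∈ UL S (ouT (i + 1)),
      cf4 S (s * x * s⁻¹) (π r) = f r (cf4 S x r) := by
    intro i hi r hr x hx
    have L := lay_L (ouT_lay i hi)
    have hr' : π r ∉ ouT i := fun h => hr (ππ r ▸ hπ i (by omega) _ h)
    refine A.eq_of_add (f := fun x => cf4 S (s * x * s⁻¹) (π r)) (g := fun x => f r (cf4 S x r))
      (fun a ha b hb => ?_) (fun a ha b hb => ?_) (fun k hk c => ?_) hx
    · rw [show s * (a * b) * s⁻¹ = s * a * s⁻¹ * (s * b * s⁻¹) by group]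
      exact A.cf_mul L (cj _ hi a ha) (cj _ hi b hb) hr'
    · rw [A.cf_mul L ha hb hr, fa]
    · have hk' : π k ∈ ouT (i + 1) := hπ _ (by omega) k hk
      have m : S.x (π k) (f k c) ∈ UL S (ouT (i + 1)) := S.x_mem_UU hk' _
      have e : (S.x (π k) (f k c))⁻¹ * (s * S.x k c * s⁻¹) ∈ UL S (ouT i) := by
        have := inv_mem (A.ou_cen hi (inv_mem hu) (inv_mem m))
        rw [← hg] at this ⊢
        convert this using 1
        group
      show cf4 S (s * S.x k c * s⁻¹) (π r) = f r (cf4 S (S.x k c) r)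
      rw [← A.cf_congr L m e hr']
      by_cases h : r = k
      · subst h
        rw [A.cf_x_self (L.pos _ hk'), A.cf_x_self (L.pos _ hk)]
      · rw [A.cf_x_ne (L.pos _ hk') (fun e => h (by rw [← ππ r, e, ππ])), A.cf_x_ne (L.pos _ hk) h, f0]
  refine ⟨?_, ?_, fun i hi => S.UU_mono (ouT_lay i hi).2.1, tn, fun i hi u hu x hx => A.ou_cen hi hu hx,
    fun i hi x hx => ?_, fun i hi x hx h => ?_⟩
  · rw [eq_bot_iff]
    exact S.UU_le_iff.2 fun r hr => absurd hr List.not_mem_nil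
  · rw [U_eq_UL]
    exact le_antisymm (S.UU_mono fun r hr => (ouT_top r).1 hr) (S.UU_mono fun r hr => (ouT_top r).2 hr)
  · have L := lay_L (ouT_lay i hi)
    have := A.mul_inv_mem L hx (inv_mem hx) fun r _ hr => (A.cf_inv L hx hr).symm
    rwa [inv_inv] at this
  · have L := lay_L (ouT_lay i hi)
    obtain ⟨w, hw⟩ := hf (cf4 S x)
    have hy : S.xprod (ouT (i + 1)) w ∈ UL S (ouT (i + 1)) := S.xprod_mem_UU (fun r hr => hr) w
    have cy : ∀ r ∈ ouT (i + 1), r ∉ ouT i → cf4 S (S.xprod (ouT (i + 1)) w) r = w r := fun r h1 h2 => by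
      rw [A.cf_xprod L (ouT_nd _ (by omega)) (fun r hr => hr) w h2, if_pos h1]
    refine ⟨_, hy, ?_⟩
    rw [← mul_assoc]
    refine A.mul_inv_mem L (mul_mem hx (cj _ hi _ hy)) hy fun r h1 h2 => ?_
    have h2' : π r ∉ ouT i := fun h => h2 (ππ r ▸ hπ i (by omega) _ h)
    have h1' : π r ∈ ouT (i + 1) := hπ _ (by omega) _ h1
    have k1 := key i hi _ h2' _ hy
    have k2 := key i hi _ h2' _ hx
    rw [ππ] at k1 k2
    have k3 : cf4 S (s * x * s⁻¹) r = cf4 S x r := by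
      have e : x⁻¹ * (s * x * s⁻¹) ∈ UL S (ouT i) := by
        have := (mem_normalizer_iff.1 (A.lay_norm L (inv_mem hx)) _).1 h
        convert this using 1
        group
      exact (A.cf_congr L hx e h2).symm
    rw [A.cf_mul L hx (cj _ hi _ hy) h2, k1, cy _ h1' h2', cy _ h1 h2, ← hw r (L.pos _ h1) (k2 ▸ k3),
      add_assoc, CharTwo.add_self_eq_zero, add_zero]

theorem ou_chain' (hs : s ∈ NL S) {v k : G} (hv : v ∈ S.U) (hk : k ∈ CL S) (s2 : s * s = v * k) (ho : s ∉ N0 S)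
    (hU : s ∈ normalizer (S.U : Set G)) : ∃ k M, Chain s S.U k M := by
  obtain ⟨u, hu, h, hh, σ, hσ⟩ := A.aut_B hs hU
  obtain ⟨d, -, -, -, hd⟩ := A.H_conj (inv_mem hh)
  have e : ∀ r c, u * s * S.x r c * (u * s)⁻¹ = h⁻¹ * (h * u * s * S.x r c * (h * u * s)⁻¹) * h⁻¹⁻¹ :=
    fun r c => by group
  rcases hσ with hσ | hσ
  · have hg : ∀ r c, u * s * S.x r c * (u * s)⁻¹ = S.x r (d r * σ c) := fun r c => by rw [e, hσ, hd]
    have σ1 : σ ≠ 1 := by
      rintro rfl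
      refine ho (mem_N0.2 ⟨(h * u)⁻¹, inv_mem (mul_mem (S.H_le_grp hh) (S.U_le_grp hu)), _,
        std_one_iff.1 hσ, by group⟩)
    have g2 : u * (s * u * s⁻¹) * v ∈ S.U := mul_mem (mul_mem hu ((mem_normalizer_iff.1 hU u).1 hu)) hv
    have g3 : u * s * (u * s) = u * (s * u * s⁻¹) * v * k := by rw [mul_assoc _ v, ← s2]; group
    have dd : ∀ r : R4, 24 ≤ r.1 → ∀ c, d r * σ (d r * σ c) = c := by
      intro r hr c
      have m : S.x r c ∈ Ug S r := S.x_mem_UU (show r.1 ≤ r.1 from le_rfl) c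
      have h1 := inv_mem (A.comm_Ug hr g2 (inv_mem m))
      have h2 : (S.x r c)⁻¹ * S.x r (d r * σ (d r * σ c)) ∈ Ug S (r + 1) := by
        have e1 : k * S.x r c * k⁻¹ = S.x r c := std_one_iff.2 hk r c
        rw [← hg, ← hg, show u * s * (u * s * S.x r c * (u * s)⁻¹) * (u * s)⁻¹ =
          u * s * (u * s) * S.x r c * (u * s * (u * s))⁻¹ by group, g3]
        generalize u * (s * u * s⁻¹) * v = y at h1
        rw [show y * k * S.x r c * (y * k)⁻¹ = y * (k * S.x r c * k⁻¹) * y⁻¹ by group, e1]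
        convert h1 using 1
        group
      exact (A.cf_x_self hr _).symm.trans (A.cf_lead hr h2)
    have d1 : ∀ r : R4, 24 ≤ r.1 → d r * σ (d r) = 1 := fun r hr => by simpa using dd r hr 1
    have σ2 : σ * σ = 1 := by
      ext c
      have := dd 47 (by decide) c
      rwa [map_mul, ← mul_assoc, d1 47 (by decide), one_mul] at this
    obtain ⟨q₀, -, -, -, -, -, -, h7⟩ := aut_two σ2 σ1
    refine ⟨_, _, A.ou_chain hu (π := id) (f := fun r c => d r * σ c) (fun _ => rfl) (fun _ _ _ h => h) hg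
      (fun r c e => by rw [map_add, mul_add]) fun c => ?_⟩
    have : ∀ r : R4, ∃ a, 24 ≤ r.1 → d r * σ (c r) = c r → a + d r * σ a = c r := fun r => by
      by_cases h : 24 ≤ r.1 ∧ d r * σ (c r) = c r
      · obtain ⟨a, ha⟩ := (h7 _ (d1 r h.1)).2 _ h.2
        exact ⟨a, fun _ _ => ha.symm⟩
      · exact ⟨0, fun h1 h2 => absurd ⟨h1, h2⟩ h⟩
    choose w hw using this
    exact ⟨w, hw⟩
  · have hg : ∀ r c, u * s * S.x r c * (u * s)⁻¹ = S.x (ρ r) (d (ρ r) * σ (c ^ ex r)) :=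
      fun r c => by rw [e, hσ, hd]
    refine ⟨_, _, A.ou_chain hu (π := ρ) (f := fun r c => d (ρ r) * σ (c ^ ex r)) ρ_ρ ouT_ρ hg
      (fun r c e => ?_) fun c => ⟨fun r => if Lg r then c r else 0, fun r _ h => ?_⟩⟩
    · unfold ex
      split_ifs
      · simp only [pow_one, map_add, mul_add]
      · rw [CharTwo.add_sq, map_add, mul_add]
    · by_cases hr : Lg r
      · have : ¬ Lg (ρ r) := fun h => (lg_ρ r).1 h hr
        simp only [if_pos hr, if_neg this, ex]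
        simp
      · simp only [if_neg hr, if_pos ((lg_ρ r).2 hr), zero_add]
        exact h

/-- an outer involution normalising `U` acts freely on the factors of a central series -/
theorem chain (hs : s ∈ NL S) (s2 : s * s = 1) (ho : s ∉ N0 S) (hU : s ∈ normalizer (S.U : Set G)) :
    ∃ k M, Chain s S.U k M := by
  exact A.ou_chain' hs (one_mem _) (one_mem _) (s2.trans (mul_one 1).symm) ho hU

theorem sb_U (hs : s ∈ NL S) (s2 : s * s = 1) (ho : s ∉ N0 S) (hU : s ∈ normalizer (S.U : Set G)) :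
    Nat.card (S.U ⊓ centralizer {s} : Subgroup G) ≤ Nat.card F ^ 12 := by
  obtain ⟨k, M, c⟩ := A.chain hs s2 ho hU
  have := sm_chain_card s2 c
  rw [A.card_U, show 24 = 12 * 2 by norm_num, pow_mul] at this
  exact (Nat.pow_left_injective two_ne_zero this).le

theorem sb (hs : s ∈ NL S) (s2 : s * s = 1) (ho : s ∉ N0 S) {P : Subgroup G} (hP : IsPGroup 2 P)
    (h : P ≤ S.grp ⊓ centralizer {s}) : Nat.card P ≤ Nat.card F ^ 12 := by
  have cs : ∀ p ∈ P, s * p = p * s := fun p hp => (h hp).2 s rfl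
  have hn : zpowers s ≤ normalizer (P : Set G) := zpowers_le.2 <| mem_normalizer_fintype fun p hp => by
    rwa [cs p hp, mul_inv_cancel_right]
  have hQ : IsPGroup 2 (P ⊔ zpowers s : Subgroup G) :=
    hP.to_sup_of_normal_left' (ou_pg (k := 1) (by rw [pow_one, pow_two, s2])) hn
  obtain ⟨l, hl, hN⟩ := A.exists_norm_U hQ (sup_le (fun p hp => le_normalizer (h hp).1) (zpowers_le.2 hs))
  obtain ⟨a1, a2, a3⟩ := ou_conj hs s2 ho hl
  refine le_trans ?_ (A.sb_U a1 a2 a3 (hN s (mem_sup_right (mem_zpowers s))))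
  have m : ∀ p ∈ P, l * p * l⁻¹ ∈ (S.U ⊓ centralizer {l * s * l⁻¹} : Subgroup G) := fun p hp => by
    obtain ⟨k, hk⟩ := hP ⟨p, hp⟩
    have hk' : p ^ 2 ^ k = 1 := congrArg Subtype.val hk
    refine ⟨A.mem_U_of_norm (mul_mem (mul_mem hl (h hp).1) (inv_mem hl))
      (ou_pg (k := k) (by rw [conj_pow, hk']; group)) (hN p (mem_sup_left hp)), ?_⟩
    rintro _ rfl
    rw [show l * s * l⁻¹ * (l * p * l⁻¹) = l * (s * p) * l⁻¹ by group, cs p hp]
    group
  refine Nat.card_le_card_of_injective (fun p : P => (⟨l * p * l⁻¹, m p p.2⟩ :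
    (S.U ⊓ centralizer {l * s * l⁻¹} : Subgroup G))) fun p q e => Subtype.ext ?_
  simpa using congrArg Subtype.val e

theorem out_conj (hs : s ∈ NL S) (s2 : s * s = 1) (ho : s ∉ N0 S) {e : G} (he : e ∈ S.grp)
    (h : s * e * (s * e) = 1) : ∃ l ∈ S.grp, l * s * l⁻¹ = s * e := by
  obtain ⟨l, hl, hN⟩ := A.exists_norm_U (ou_pg (k := 1) (by rw [pow_one, pow_two, s2])) (zpowers_le.2 hs)
  obtain ⟨l', hl', hN'⟩ := A.exists_norm_U (ou_pg (k := 1) (by rw [pow_one, pow_two, h]))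
    (zpowers_le.2 (mul_mem hs (le_normalizer he)))
  have n1 := hN _ (mem_zpowers _)
  have n2 := hN' _ (mem_zpowers _)
  obtain ⟨a1, a2, a3⟩ := ou_conj hs s2 ho hl
  have b2 : l' * (s * e) * l'⁻¹ * (l' * (s * e) * l'⁻¹) = 1 := by
    rw [show l' * (s * e) * l'⁻¹ * (l' * (s * e) * l'⁻¹) = l' * (s * e * (s * e)) * l'⁻¹ by group, h]
    group
  have bL : l' * (s * e) * l'⁻¹ * (l * s * l⁻¹) ∈ S.grp := by
    have := mul_mem (mul_mem hl' (ou_conj_L hs (mul_mem (mul_mem he (inv_mem hl')) hl))) (inv_mem hl)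
    rw [inv_eq_of_mul_eq_one_right s2] at this
    convert this using 1
    group
  obtain ⟨k, M, c⟩ := A.chain a1 a2 a3 n1
  generalize hs' : l * s * l⁻¹ = s' at *
  generalize hs'' : l' * (s * e) * l'⁻¹ = s'' at *
  obtain ⟨a, m, ⟨j, rfl⟩, hm⟩ := Nat.exists_eq_two_pow_mul_odd (orderOf_pos (s'' * s')).ne'
  have hx : (s'' * s') ^ (2 * j + 1) ∈ S.U :=
    A.mem_U_of_norm (pow_mem bL _) (ou_pg (k := a) (by
      rw [← pow_mul, mul_comm (2 * j + 1), ← hm, pow_orderOf_eq_one])) (pow_mem (mul_mem n2 n1) _)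
  have i1 : s' * (s'' * s')⁻¹ * s'⁻¹ = s'' * s' := by
    rw [mul_inv_rev, inv_eq_of_mul_eq_one_right a2, inv_eq_of_mul_eq_one_right b2, ← mul_assoc, a2, one_mul]
  have i2 : (s'' * s') ^ (2 * j + 1) * s' = (s'' * s') ^ j * s'' * ((s'' * s') ^ j)⁻¹ := by
    have i3 : s' * ((s'' * s') ^ j)⁻¹ * s'⁻¹ = (s'' * s') ^ j := by rw [← inv_pow, ← conj_pow, i1]
    have i4 : s'' = s'' * s' * s' := by rw [mul_assoc, a2, mul_one]
    calc (s'' * s') ^ (2 * j + 1) * s' = (s'' * s') ^ j * (s'' * s') * (s'' * s') ^ j * s' := by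
          rw [← pow_succ, ← pow_add]; congr 2; ring
      _ = (s'' * s') ^ j * (s'' * s') * (s' * ((s'' * s') ^ j)⁻¹ * s'⁻¹) * s' := by rw [i3]
      _ = (s'' * s') ^ j * (s'' * s' * s') * ((s'' * s') ^ j)⁻¹ := by
          generalize (s'' * s') ^ j = y; group
      _ = _ := by rw [← i4]
  obtain ⟨u, hu, eu⟩ := c.conj a2 hx (by
    rw [i2]
    generalize (s'' * s') ^ j = y
    rw [show y * s'' * y⁻¹ * (y * s'' * y⁻¹) = y * (s'' * s'') * y⁻¹ by group, b2]; group)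
  rw [i2] at eu
  have yL := pow_mem bL j
  generalize (s'' * s') ^ j = y at *
  refine ⟨l'⁻¹ * y⁻¹ * u * l, mul_mem (mul_mem (mul_mem (inv_mem hl') (inv_mem yL)) (S.U_le_grp hu)) hl, ?_⟩
  calc _ = l'⁻¹ * y⁻¹ * (u * (l * s * l⁻¹) * u⁻¹) * y * l' := by group
    _ = l'⁻¹ * (l' * (s * e) * l'⁻¹) * l' := by rw [hs', ← eu, hs'']; group
    _ = _ := by group

/-- an element of the coset `L s` whose square acts as a field automorphism is conjugate to `s` -/
theorem ou_sq (hs : s ∈ NL S) (s2 : s * s = 1) (ho : s ∉ N0 S) {l : G} (hl : l ∈ S.grp) {τ : F ≃+* F}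
    (h : Std S (l * s * (l * s)) τ) : ∃ k ∈ S.grp, k * s * k⁻¹ = l * s := by
  have m : l * s * (l * s) ∈ S.grp := by
    have := mul_mem hl (ou_conj_L hs hl)
    rwa [inv_eq_of_mul_eq_one_right s2, ← mul_assoc, ← mul_assoc, mul_assoc (l * s)] at this
  obtain rfl := A.std_N0 h (mem_sup_left m)
  have e := A.eq_one m (std_one_iff.1 h)
  have e' : l * s = s * (s⁻¹ * l * s⁻¹⁻¹) := by group
  rw [e'] at e ⊢
  exact A.out_conj hs s2 ho (ou_conj_L (inv_mem hs) hl) e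

theorem four (hs : s ∈ NL S) (s2 : s * s = 1) (ho : s ∉ N0 S) : ∃ a ∈ S.grp, ∃ b ∈ S.grp,
    a * a = 1 ∧ b * b = 1 ∧ a ≠ 1 ∧ b ≠ 1 ∧ a ≠ b ∧ a * b = b * a ∧ a * s = s * a ∧ b * s = s * b := by
  obtain ⟨l, hl, σ, hσ⟩ := A.aut hs
  have c1 := A.com (a := 47) (b := 44) (by decide) 1 1
  have c2 := A.com (a := 46) (b := 40) (by decide) 1 1
  have key : (∃ k ∈ S.grp, k * s * k⁻¹ = l * s) ∧
      l * s * (S.x 47 1 * S.x 44 1) * (l * s)⁻¹ = S.x 47 1 * S.x 44 1 ∧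
      l * s * (S.x 46 1 * S.x 40 1) * (l * s)⁻¹ = S.x 46 1 * S.x 40 1 := by
    simp only [← conj_mul]
    rcases hσ with hσ | hσ
    · exact ⟨A.ou_sq hs s2 ho hl (hσ.mul hσ), by rw [hσ, hσ, map_one], by rw [hσ, hσ, map_one]⟩
    · refine ⟨A.ou_sq hs s2 ho hl (τ := σ * σ * frobeniusEquiv F 2) fun r c => ?_, ?_, ?_⟩
      · rw [show l * s * (l * s) * S.x r c * (l * s * (l * s))⁻¹ =
          l * s * (l * s * S.x r c * (l * s)⁻¹) * (l * s)⁻¹ by group, hσ, hσ, ρ_ρ, ← map_pow, ← pow_mul]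
        have : ex r * ex (ρ r) = 2 := by revert r; decide +kernel
        rw [this]
        rfl
      · rw [hσ, hσ, one_pow, one_pow, map_one, c1]
        rfl
      · rw [hσ, hσ, one_pow, one_pow, map_one, c2]
        rfl
  obtain ⟨⟨k, hk, e⟩, k1, k2⟩ := key
  have a2 : S.x 47 1 * S.x 44 1 * (S.x 47 1 * S.x 44 1) = 1 := by
    conv_lhs => rw [c1]; arg 2; rw [← c1]
    rw [mul_assoc, ← mul_assoc (S.x 47 1), A.x_sq, one_mul, A.x_sq]
  have b2 : S.x 46 1 * S.x 40 1 * (S.x 46 1 * S.x 40 1) = 1 := by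
    conv_lhs => rw [c2]; arg 2; rw [← c2]
    rw [mul_assoc, ← mul_assoc (S.x 46 1), A.x_sq, one_mul, A.x_sq]
  have a1 : S.x 47 1 * S.x 44 1 ≠ 1 := fun h => one_ne_zero (A.two_eq_one (by decide) (by decide) h).1
  have b1 : S.x 46 1 * S.x 40 1 ≠ 1 := fun h => one_ne_zero (A.two_eq_one (by decide) (by decide) h).1
  have ab : S.x 47 1 * S.x 44 1 ≠ S.x 46 1 * S.x 40 1 := fun h => by
    have h1 : cf4 S (S.x 46 1 * S.x 40 1) 40 = 1 := A.cf_lead (by decide) (by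
      rw [c2, inv_mul_cancel_left]; exact S.x_mem_UU (by decide) _)
    have h2 : cf4 S (S.x 47 1 * S.x 44 1) 40 = 0 :=
      A.cf_eq_zero (cl_Ug (n := 44) (by decide)) (fun r hr => le_trans (by decide) hr)
        (mul_mem (S.x_mem_UU (by decide) _) (S.x_mem_UU (by decide) _)) (by decide)
    rw [h, h1] at h2
    exact one_ne_zero h2
  have cab : S.x 47 1 * S.x 44 1 * (S.x 46 1 * S.x 40 1) = S.x 46 1 * S.x 40 1 * (S.x 47 1 * S.x 44 1) := by
    have hh : ∀ a ∈ ([47, 44] : List R4), ∀ b ∈ ([46, 40] : List R4), 0 ≤ ip4 a b := by decide +kernel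
    exact A.commute_UU (T := {r | r ∈ [47, 44]}) (T' := {r | r ∈ [46, 40]}) hh
      (mul_mem (S.x_mem_UU (by decide) _) (S.x_mem_UU (by decide) _))
      (mul_mem (S.x_mem_UU (by decide) _) (S.x_mem_UU (by decide) _))
  have mA : S.x 47 1 * S.x 44 1 ∈ S.grp := mul_mem (S.x_mem_grp _ _) (S.x_mem_grp _ _)
  have mB : S.x 46 1 * S.x 40 1 ∈ S.grp := mul_mem (S.x_mem_grp _ _) (S.x_mem_grp _ _)
  generalize S.x 47 1 * S.x 44 1 = a at *
  generalize S.x 46 1 * S.x 40 1 = b at *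
  rw [← e] at k1 k2
  have cm : ∀ z, k * s * k⁻¹ * z * (k * s * k⁻¹)⁻¹ = z → k⁻¹ * z * k * s = s * (k⁻¹ * z * k) := fun z hz => by
    conv_lhs => rw [← hz]
    group
  have sq : ∀ z, z * z = 1 → k⁻¹ * z * k * (k⁻¹ * z * k) = 1 := fun z hz => by
    rw [show k⁻¹ * z * k * (k⁻¹ * z * k) = k⁻¹ * (z * z) * k by group, hz]; group
  have ne : ∀ z, z ≠ 1 → k⁻¹ * z * k ≠ 1 := fun z hz h => hz (by
    rw [show z = k * (k⁻¹ * z * k) * k⁻¹ by group, h]; group)
  refine ⟨k⁻¹ * a * k, mul_mem (mul_mem (inv_mem hk) mA) hk, k⁻¹ * b * k,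
    mul_mem (mul_mem (inv_mem hk) mB) hk, sq a a2, sq b b2, ne a a1, ne b b1,
    by simpa using ab, ?_, cm a k1, cm b k2⟩
  rw [show k⁻¹ * a * k * (k⁻¹ * b * k) = k⁻¹ * (a * b) * k by group, cab]
  group

theorem inner_of_card (hs : s ∈ NL S) (s2 : s * s = 1) {P : Subgroup G} (hP : IsPGroup 2 P)
    (h1 : P ≤ NL S ⊓ centralizer {s}) (h2 : P ⊓ CL S = ⊥) (hc : Nat.card F ^ 14 ≤ Nat.card P) : s ∈ N0 S := by
  by_contra ho
  obtain ⟨π, p1, p2, p3⟩ := A.proj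
  let f : (P ⊓ N0 S : Subgroup G) →* G := π.comp (inclusion inf_le_right)
  have inj : Function.Injective f := (injective_iff_map_eq_one f).2 fun x hx => by
    have := p2 (inclusion inf_le_right x)
    rw [show π (inclusion inf_le_right x) = 1 from hx, inv_one, one_mul] at this
    have h3 : (x : G) ∈ P ⊓ CL S := ⟨x.2.1, this⟩
    rw [h2] at h3
    exact Subtype.ext h3
  have hQ : IsPGroup 2 f.range := (hP.to_le inf_le_left).of_surjective f.rangeRestrict f.rangeRestrict_surjective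
  have b := A.sb hs s2 ho hQ (by
    rintro _ ⟨x, rfl⟩
    refine ⟨p1 _, ?_⟩
    rintro _ rfl
    exact p3 _ _ hs ((h1 x.2.1).2 _ rfl))
  rw [← Nat.card_congr (MonoidHom.ofInjective inj).toEquiv] at b
  have b' := hc.trans ((A.card_le_N0 (h1.trans inf_le_left)).trans (Nat.mul_le_mul_left _ b))
  rw [← pow_succ'] at b'
  have := (Nat.pow_le_pow_iff_right Finite.one_lt_card).1 b'
  omega

/-- an outer involution of field type is conjugate to a standard one -/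
theorem exists_std (hs : s ∈ NL S) (s2 : s * s = 1) (ho : s ∉ N0 S) {l : G} (hl : l ∈ S.grp) {σ : F ≃+* F}
    (h : Std S (l * s) σ) : ∃ k ∈ S.grp, Std S (k * s * k⁻¹) σ := by
  obtain ⟨k, hk, e⟩ := A.ou_sq hs s2 ho hl (h.mul h)
  exact ⟨k, hk, e ▸ h⟩

end Amb

end CfsgLib.SLF
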