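import Mathlib
import Cfsg.Agent.Lib.SLF.Out

/-!
# Fusion: conjugates of `t` in `C(t)`
-/

set_option autoImplicit false
set_option linter.unusedSectionVars false

namespace CfsgLib.SLF

open Cfsg.Lie CfsgLib.RGD CfsgLib.Stein CfsgLib.Semi CfsgLib.SLE CfsgLib.UFP Subgroup
open scoped commutatorElement Pointwise

universe u

variable {F : Type} [Field F] [Finite F] [CharP F 2] {G : Type u} [Group G] [Finite G]
  {S : StSys ΦF4 F G}

namespace Sit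

variable {t : G} (h : Sit S t)
include h

theorem mem_NL {s : G} (hc : s * t = t * s) : s ∈ NL S := h.CN (mem_centralizer_singleton_iff.2 hc)

theorem fa_sq {s : G} (hc : IsConj t s) : s * s = 1 := by
  obtain ⟨g, rfl⟩ := isConj_iff.1 hc
  exact (h.cj g).t2

theorem fa_l2 {l : G} (hl : l ∈ S.grp) (e : IsConj t (t * l)) : l * l = 1 := by
  have := h.fa_sq e
  rwa [mul_assoc, ← mul_assoc l, h.com hl, ← mul_assoc, ← mul_assoc, h.t2, one_mul] at this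

theorem fa_NL {g l x : G} (e : g * t * g⁻¹ = t * l) (h1 : x * t = t * x) (h2 : x * l = l * x) :
    x ∈ NL (SLE.cj S g) := (h.cj g).mem_NL (by rw [e, ← mul_assoc, h1, mul_assoc, h2, mul_assoc])

/-- `t` is not conjugate to an element of `L` -/
theorem nz {l : G} (hl : l ∈ S.grp) : ¬ IsConj t l := by
  intro e
  have l2 := h.fa_sq e
  obtain ⟨g, rfl⟩ := isConj_iff.1 e
  have h' := h.cj g
  have k : S.grp ⊓ centralizer {g * t * g⁻¹} ≤ NL (SLE.cj S g) := inf_le_right.trans h'.CN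
  exact h'.t_not_mem (h'.amb.mem_of_dd h'.cyc
    (commutator_mono (commutator_mono k k) (commutator_mono k k) (h.amb.dd hl l2)) l2)

theorem conj_iff {l y : G} (hl : l ∈ S.grp) : IsConj t (t * (l * y * l⁻¹)) ↔ IsConj t (t * y) := by
  have : IsConj (t * y) (t * (l * y * l⁻¹)) := isConj_iff.2 ⟨l, by rw [← mul_assoc, h.com hl]; group⟩
  exact ⟨fun e => e.trans this.symm, fun e => e.trans this⟩

theorem fa_inner {s : G} (hc : IsConj t s) (hs : s ≠ t) (hst : s * t = t * s) (h0 : s ∈ N0 S) :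
    ∃ l ∈ S.grp, l ≠ 1 ∧ l * l = 1 ∧ IsConj t (t * l) := by
  obtain ⟨l, hl, c, hC, rfl, l2, c2⟩ := h.amb.inv_split h0 (h.fa_sq hc)
  have ct : c * t = t * c := mul_left_cancel (a := l) (by
    rw [← mul_assoc, hst, ← mul_assoc, ← h.com hl, mul_assoc])
  rcases h.eq_t hC c2 ct with rfl | rfl
  · exact absurd (by rwa [mul_one] at hc) (h.nz hl)
  · exact ⟨l, hl, fun e => hs (by rw [e, one_mul]), l2, h.com hl ▸ hc⟩

theorem exists_inner {s : G} (hc : IsConj t s) (hs : s ≠ t) (hst : s * t = t * s) :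
    ∃ l ∈ S.grp, l ≠ 1 ∧ l * l = 1 ∧ IsConj t (t * l) := by
  by_cases h0 : s ∈ N0 S
  · exact h.fa_inner hc hs hst h0
  have s2 := h.fa_sq hc
  have hN := h.mem_NL hst
  obtain ⟨g, rfl⟩ := isConj_iff.1 hc
  have h' := h.cj g
  have key : ∀ e ∈ S.grp, e * e = 1 → e ≠ 1 → e * (g * t * g⁻¹) = g * t * g⁻¹ * e → e ∈ N0 (SLE.cj S g) →
      ∃ l ∈ S.grp, l ≠ 1 ∧ l * l = 1 ∧ IsConj t (t * l) := fun e he e2 e1 es e0 => by
    obtain ⟨l, -, hl⟩ := h.amb.out_conj hN s2 h0 he (by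
      rw [mul_assoc, ← mul_assoc e, es, ← mul_assoc, ← mul_assoc, s2, one_mul, e2])
    refine h.fa_inner (s := g⁻¹ * (g * t * g⁻¹ * e) * g) (isConj_iff.2 ⟨g⁻¹ * l * g, by rw [← hl]; group⟩)
      (fun k => e1 ?_) ?_ (mem_cj_N0.1 (mul_mem (mem_sup_right h'.tC) e0))
    · calc e = (g * t * g⁻¹)⁻¹ * (g * (g⁻¹ * (g * t * g⁻¹ * e) * g) * g⁻¹) := by group
        _ = 1 := by rw [k]; group
    · calc _ = g⁻¹ * (g * t * g⁻¹ * (e * (g * t * g⁻¹))) * g := by group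
        _ = _ := by rw [es]; group
  obtain ⟨a, ha, b, hb, a2, b2, a1, b1, ab, cab, as, bs⟩ := h.amb.four hN s2 h0
  rcases h'.amb.one_of_three (h'.mem_NL as) (h'.mem_NL bs) (a2 ▸ one_mem _) (b2 ▸ one_mem _) with k | k | k
  · exact key a ha a2 a1 as k
  · exact key b hb b2 b1 bs k
  · refine key _ (mul_mem ha hb) ?_ (fun e => ab ?_) (by rw [mul_assoc, bs, ← mul_assoc, as, mul_assoc]) k
    · rw [mul_assoc, ← mul_assoc b, ← cab, mul_assoc, b2, mul_one, a2]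
    · rw [eq_inv_of_mul_eq_one_left e, inv_eq_of_mul_eq_one_right b2]

theorem inf_CL {g : G} {P : Subgroup G} (hP : IsPGroup 2 P) (h1 : P ≤ S.grp ⊓ centralizer {g * t * g⁻¹}) :
    P ⊓ CL (SLE.cj S g) = ⊥ := by
  by_contra k
  obtain ⟨c, hc, c2⟩ := Tech.exists_involution_of_pgroup hP.to_inf_left k
  rcases (h.cj g).eq_t hc.2 (by rw [← sq, ← c2, pow_orderOf_eq_one])
    (mem_centralizer_singleton_iff.1 (h1 hc.1).2) with e | e
  · rw [e, orderOf_one] at c2; exact absurd c2 (by decide)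
  · exact h.nz (h1 hc.1).1 (isConj_iff.2 ⟨g, e.symm⟩)

theorem inn {g l : G} (hl : l ∈ S.grp) (e : g * t * g⁻¹ = t * l) : l ∈ (SLE.cj S g).grp := by
  have h' := h.cj g
  have l2 := h.fa_l2 hl (isConj_iff.2 ⟨g, e⟩)
  obtain ⟨P, h1, hP, h2⟩ := h.amb.lb hl l2
  have ts : t * (g * t * g⁻¹) = g * t * g⁻¹ * t := by rw [e, mul_assoc, h.com hl]
  have k : P ≤ S.grp ⊓ centralizer {g * t * g⁻¹} := fun x hx => ⟨(h1 hx).1, mem_centralizer_singleton_iff.2 (by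
    rw [e, ← mul_assoc, h.com (h1 hx).1, mul_assoc, mem_centralizer_singleton_iff.1 (h1 hx).2, mul_assoc])⟩
  obtain ⟨l', hl', c, hc, e1, -, c2⟩ := h'.amb.inv_split (h'.amb.inner_of_card (h'.mem_NL ts) h.t2 hP
    (fun x hx => ⟨h'.CN (k hx).2, mem_centralizer_singleton_iff.2 (h.com (h1 hx).1)⟩) (h.inf_CL hP k)
    ((Nat.pow_le_pow_right Nat.card_pos (by norm_num)).trans h2)) h.t2
  have ct : c * (g * t * g⁻¹) = g * t * g⁻¹ * c := mul_left_cancel (a := l') (by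
    rw [← mul_assoc, ← e1, ts, ← mul_assoc, h'.com hl', mul_assoc _ l', ← e1])
  rcases h'.eq_t hc c2 ct with k1 | k1
  · rw [k1, mul_one] at e1
    exact absurd (isConj_iff.2 ⟨g⁻¹, by group⟩) (h'.nz (e1 ▸ hl'))
  · rw [k1, e, ← h.com hl, ← mul_assoc, right_eq_mul] at e1
    exact eq_inv_of_mul_eq_one_right e1 ▸ inv_mem hl'

/-- the class of `l` in `L_s` -/
theorem swap {g l y : G} (hl : l ∈ S.grp) (e : g * t * g⁻¹ = t * l) {k : G} (hk : k ∈ (SLE.cj S g).grp)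
    (hy : l = k * (g * y * g⁻¹) * k⁻¹) :
    IsConj t (t * y) ∧ k * g * t * (k * g)⁻¹ = t * l ∧ k * g * y * (k * g)⁻¹ = l := by
  have l2 := h.fa_l2 hl (isConj_iff.2 ⟨g, e⟩)
  have e1 : k * g * t * (k * g)⁻¹ = t * l := by
    rw [← e, show k * g * t * (k * g)⁻¹ = k * (g * t * g⁻¹) * k⁻¹ by group, (h.cj g).com hk, mul_inv_cancel_right]
  have e2 : k * g * y * (k * g)⁻¹ = l := by rw [hy]; group
  exact ⟨(isConj_iff.2 ⟨k * g, by rw [← conj_mul, e1, e2, mul_assoc, l2, mul_one]⟩ : IsConj (t * y) t).symm, e1, e2⟩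

theorem norm_der {g l : G} (hl : l ∈ S.grp) (e : g * t * g⁻¹ = t * l) (gl : g * l * g⁻¹ = l) {R : Subgroup G}
    (hR : IsPGroup 2 R) (h1 : R ≤ ⁅S.grp ⊓ centralizer {l}, S.grp ⊓ centralizer {l}⁆)
    (h2 : S.grp ⊓ centralizer {l} ≤ normalizer (R : Set G))
    (h3 : ∀ P ≤ S.grp ⊓ centralizer {l}, IsPGroup 2 P → S.grp ⊓ centralizer {l} ≤ normalizer (P : Set G) → P ≤ R) :
    g ∈ normalizer ((⁅R, R⁆ : Subgroup G) : Set G) ∧
      (∀ r ∈ R, ∃ r' ∈ R, (g * r * g⁻¹)⁻¹ * r' ∈ CL (SLE.cj S g)) ∧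
      ∀ r' ∈ R, ∃ r ∈ R, (g * r * g⁻¹)⁻¹ * r' ∈ CL (SLE.cj S g) := by
  have h' := h.cj g
  have l2 := h.fa_l2 hl (isConj_iff.2 ⟨g, e⟩)
  set C := S.grp ⊓ centralizer {l} with hC
  have mC : ∀ x, x ∈ C ↔ x ∈ S.grp ∧ x * l = l * x := fun x => by rw [hC, mem_inf, mem_centralizer_singleton_iff]
  have RC : R ≤ C := h1.trans (commutator_le.2 fun a ha b hb =>
    mul_mem (mul_mem (mul_mem ha hb) (inv_mem ha)) (inv_mem hb))
  have CN : C ≤ NL (SLE.cj S g) := fun x hx => h.fa_NL e (h.com hx.1) ((mC x).1 hx).2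
  have cjl : ∀ {x y : G}, y * l = l * y → x * l = l * x → x * y * x⁻¹ * l = l * (x * y * x⁻¹) := fun hy hx =>
    ((show Commute _ l from hx).mul_left hy).mul_left (show Commute _ l from hx).inv_left
  have gl' : g * l = l * g := mul_inv_eq_iff_eq_mul.1 gl
  have DR : ∀ x, x * t = t * x → x * l = l * x → ∀ r ∈ R, x * r * x⁻¹ ∈ R := fun x xt xl r hr => by
    have xC : ∀ {x : G}, x * t = t * x → x * l = l * x → ∀ c ∈ C, x * c * x⁻¹ ∈ C := fun xt xl c hc =>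
      (mC _).2 ⟨aa_conj_grp (h.mem_NL xt) hc.1, cjl ((mC c).1 hc).2 xl⟩
    refine h3 (R.map (MulAut.conj x).toMonoidHom) ?_ (hR.map _) (fun c hc => mem_normalizer_fintype ?_) ⟨r, hr, rfl⟩
    · rintro _ ⟨r, hr, rfl⟩; exact xC xt xl r (RC hr)
    · rintro _ ⟨r, hr, rfl⟩
      exact ⟨_, (mem_normalizer_iff.1 (h2 (xC (Commute.inv_left xt) (Commute.inv_left xl) c hc)) r).1 hr, by
        simp [mul_assoc]⟩
  have R0 : R ≤ N0 (SLE.cj S g) := h1.trans (commutator_le.2 fun a ha b hb => h'.amb.comm_mem_N0 (CN ha) (CN hb))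
  obtain ⟨π, p1, p2, p3⟩ := h'.amb.proj
  obtain ⟨ψ, hψ⟩ : ∃ ψ : R →* G, ∀ r, ψ r = π (inclusion R0 r) := ⟨π.comp (inclusion R0), fun _ => rfl⟩
  have q1 : ∀ r, ψ r ∈ (SLE.cj S g).grp := fun r => hψ r ▸ p1 _
  have q2 : ∀ r, (ψ r)⁻¹ * r ∈ CL (SLE.cj S g) := fun r => hψ r ▸ p2 _
  have q3 : ∀ r, ψ r * l = l * ψ r := fun r => hψ r ▸
    (p3 _ l (CN ((mC l).2 ⟨hl, rfl⟩)) ((mC _).1 (RC r.2)).2.symm).symm
  have inj : Function.Injective ψ := (injective_iff_map_eq_one _).2 fun r hr => by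
    have := q2 r
    rw [hr, inv_one, one_mul] at this
    exact Subtype.ext ((h.inf_CL hR fun x hx => ⟨(RC hx).1, mem_centralizer_singleton_iff.2 (by
      rw [e, ← mul_assoc, h.com (RC hx).1, mul_assoc, ((mC x).1 (RC hx)).2, mul_assoc])⟩).le ⟨r.2, this⟩)
  have hP : ((MulAut.conj g⁻¹).toMonoidHom.comp ψ).range = R := by
    refine eq_of_le_of_card_ge (h3 _ ?_ (hR.of_surjective _ (MonoidHom.rangeRestrict_surjective _))
      fun c hc => mem_normalizer_fintype ?_) (Nat.card_congr (MonoidHom.ofInjective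
        ((MulAut.conj g⁻¹).injective.comp inj)).toEquiv).le
    · rintro _ ⟨r, rfl⟩
      exact (mC _).2 ⟨by simpa [StSys.grp] using mem_cj_UU.1 (q1 r), cjl (q3 r) (Commute.inv_left gl')⟩
    · rintro _ ⟨r, rfl⟩
      have k1 : g * c * g⁻¹ ∈ (SLE.cj S g).grp := mem_cj_UU.2 (by simpa [mul_assoc, StSys.grp] using hc.1)
      have k2 := cjl ((mC c).1 hc).2 gl'
      have k3 : g * c * g⁻¹ * t = t * (g * c * g⁻¹) := mul_right_cancel (b := l) (by
        rw [mul_assoc _ t, ← e, h'.com k1, e, mul_assoc, mul_assoc t, k2])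
      refine ⟨⟨_, DR _ k3 k2 r r.2⟩, ?_⟩
      have := (h'.amb.au_uniq (q1 ⟨_, DR _ k3 k2 r r.2⟩) (mul_mem (mul_mem k1 (q1 r)) (inv_mem k1))
        (q2 ⟨_, DR _ k3 k2 r r.2⟩) (q2 r) (by
        rw [mul_assoc _ (g * c * g⁻¹)⁻¹, aa_CL_comm (q2 r) (inv_mem k1), mul_inv_cancel_left]; group)).1
      rw [MonoidHom.comp_apply, this]
      simp [mul_assoc]
  have r1 : ∀ r ∈ R, ∃ r' : R, g * r * g⁻¹ = ψ r' := fun r hr => by
    obtain ⟨r', e'⟩ := hP.ge hr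
    exact ⟨r', by rw [← e']; simp [mul_assoc]⟩
  refine ⟨mem_normalizer_fintype fun x hx => ?_, fun r hr => ?_, fun r' hr' => ?_⟩
  · let χ : R →* G := MonoidHom.mk' (fun r => (ψ r)⁻¹ * r) fun a b => by
      rw [map_mul, coe_mul, mul_inv_rev, ← mul_assoc ((ψ a)⁻¹ * a), ← aa_CL_comm (q2 a) (inv_mem (q1 b))]; group
    have hc := (h'.cyc χ.range (by rintro _ ⟨r, rfl⟩; exact q2 r)
      (hR.of_surjective _ (MonoidHom.rangeRestrict_surjective _))).isMulCommutative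
    refine (map_le_iff_le_comap.1 (?_ : (⁅R, R⁆ : Subgroup G).map (MulAut.conj g).toMonoidHom ≤ ⁅R, R⁆)) hx
    rw [map_commutator, commutator_le]
    rintro _ ⟨a, ha, rfl⟩ _ ⟨b, hb, rfl⟩
    obtain ⟨a', ea⟩ := r1 a ha
    obtain ⟨b', eb⟩ := r1 b hb
    have k0 : Commute (χ a') (χ b') := congrArg Subtype.val (hc.is_comm.comm (⟨_, a', rfl⟩ : χ.range) ⟨_, b', rfl⟩)
    have k1 : Commute (ψ a') (χ a') := aa_CL_comm (q2 a') (q1 a')
    have k2 : Commute (ψ b') (χ a') := aa_CL_comm (q2 a') (q1 b')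
    have k3 : Commute (ψ a') (χ b') := aa_CL_comm (q2 b') (q1 a')
    have k4 : Commute (ψ b') (χ b') := aa_CL_comm (q2 b') (q1 b')
    have e : ⁅ψ a' * χ a', ψ b' * χ b'⁆ = ⁅ψ a', ψ b'⁆ * ⁅χ a', χ b'⁆ := by
      rw [commutatorElement_def, k1.mul_inv, k4.mul_inv, k2.symm.mul_mul_mul_comm,
        ((k1.symm.mul_left k3.symm).inv_right).mul_mul_mul_comm,
        (((k2.symm.mul_left k4.symm).mul_left k2.symm.inv_left).inv_right).mul_mul_mul_comm]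
      rfl
    rw [k0.commutator_eq, mul_one, show ψ a' * χ a' = a' from mul_inv_cancel_left _ _,
      show ψ b' * χ b' = b' from mul_inv_cancel_left _ _, ← ea, ← eb] at e
    exact e ▸ commutator_mem_commutator a'.2 b'.2
  · obtain ⟨r', e'⟩ := r1 r hr
    exact ⟨r', r'.2, e' ▸ q2 r'⟩
  · refine ⟨_, hP.le ⟨⟨r', hr'⟩, rfl⟩, ?_⟩
    simpa [mul_assoc] using q2 ⟨r', hr'⟩

end Sit

end CfsgLib.SLF
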