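import Mathlib
import Cfsg.Agent.Lib.SLF.CenA
import Cfsg.Agent.Lib.SLF.Bru

/-!
# The two root groups in the centre of `U`
-/

set_option autoImplicit false
set_option linter.unusedSectionVars false

namespace CfsgLib.SLF

open Cfsg.Lie CfsgLib.RGD CfsgLib.Stein CfsgLib.Semi CfsgLib.SLE CfsgLib.UFP Subgroup
open scoped commutatorElement Pointwise

universe u

variable {F : Type} [Field F] [Finite F] [CharP F 2] {G : Type u} [Group G] [Finite G]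
  {S : StSys ΦF4 F G}

namespace PM

/-- the hypothesis of `lay_L` -/
def Ly (T T' : List R4) : Prop :=
  (∀ r ∈ T, 24 ≤ r.1) ∧ (∀ r ∈ T', r ∈ T) ∧ ∀ a ∈ T, ∀ b ∈ T, CzL T' a b

instance decLy (T T' : List R4) : Decidable (Ly T T') := inferInstanceAs (Decidable (_ ∧ _))

/-- only the coefficient at `r` contributes to the commutator with `X_s` -/
def Pt (L R : List R4) (k r : R4) : Prop :=
  Ly L (L.erase r) ∧ ∃ s ∈ R, Cm r s k ∧ ∀ a ∈ L.erase r, 0 ≤ ip4 a s ∧ 0 ≤ ip4 a k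

instance decPt (L R : List R4) (k r : R4) : Decidable (Pt L R k r) := inferInstanceAs (Decidable (_ ∧ _))

def Cj (M R : List R4) (j : R4) : Prop := ∀ a ∈ M, ∀ b ∈ R, CzL [j] a b

instance decCj (M R : List R4) (j : R4) : Decidable (Cj M R j) := inferInstanceAs (Decidable (∀ a ∈ M, _))

/-- `[U_M, U_R] ≤ X_j`, and `[e, U_R] ⊇ X_k` for `e ∈ U_L \ U_M` -/
abbrev Crt (L M R : List R4) (j k : R4) : Prop :=
  (Cj M R j ∧ Cj M [j] j ∧ Cj R [j] j) ∧ Ly L M ∧ ∀ r ∈ L, r ∉ M → Pt L R k r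

abbrev lV : List R4 := [41, 42, 43, 44, 45, 46, 47]

/-- the conjugate of `x_r(1)` by `x_s(1)` -/
def mv (s r : R4) : List R4 := if Cm s r (rf4 s r) then [r, rf4 s r] else
  if Ls r s (rf4 r s) (rf4 s r) then [r, rf4 r s, rf4 s r] else [r]

def nf (l : List R4) : List R4 := lV.filter fun r => l.count r % 2 = 1

def mu (l : List R4) : ℕ := (if 47 ∈ l then 0 else 99) + 2 * (l.filter (· ∈ [42, 43, 45, 46])).length + l.count 41

def st (l : List R4) (s : R4) : List R4 :=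
  if mu (nf (l.flatMap (mv s))) < mu l then nf (l.flatMap (mv s)) else l

abbrev Gd (s : R4) : Prop := 0 ≤ ip4 s 44 ∧ ∀ r ∈ lV, (∀ k ∈ mv s r, k ∈ lV) ∧
  (¬ Cm s r (rf4 s r) → ¬ Ls r s (rf4 r s) (rf4 s r) → 0 ≤ ip4 s r)

/-- the quadratic form on `V'` -/
def qq {R : Type} [Semiring R] (e : R4 → R) : R := e 44 + e 41 * e 47 + e 42 * e 46 + e 43 * e 45

theorem tab : ∀ l ∈ lV.sublists, l ≠ [] → l ≠ [44] → [24, 26, 31, 32, 29, 23, 21, 16, 15, 18].foldl st l =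
    if qq (fun r => (l.count r : ZMod 2)) = 0 then [47] else [47, 44].reverse := by decide +kernel

theorem qq_cub (v a b c : R4 → F) : qq v + qq (v + a) + qq (v + b) + qq (v + c) + qq (v + a + b) +
    qq (v + a + c) + qq (v + b + c) + qq (v + a + b + c) = 0 := by
  have h := CharTwo.two_eq_zero (R := F)
  simp only [qq, Pi.add_apply]
  grind

theorem layV : Lay4 {r | r ∈ lV} {r | r ∈ ([] : List R4)} := lay_L (by decide +kernel)

theorem nf_sub (l : List R4) : ∀ r ∈ nf l, r ∈ lV := fun _ h => List.mem_of_mem_filter h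

/-- the product of the `x_r(1)` -/
abbrev P (S : StSys ΦF4 F G) (l : List R4) : G := S.xprod l fun _ => 1

theorem UL_one (k : R4) : UL S [k] = S.X k := congrArg S.UU (Set.ext fun _ => List.mem_singleton)

variable (A : Amb S) {g : G}
include A

theorem crt {L M R : List R4} {j k : R4} (h : Crt L M R j k) :
    (∀ e ∈ UL S M, ∀ r ∈ UL S R, e * r * e⁻¹ * r⁻¹ ∈ S.X j) ∧
    ∀ e ∈ UL S L, e ∉ UL S M → ∀ c, ∃ r ∈ UL S R, e * r * e⁻¹ * r⁻¹ = S.x k c := by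
  obtain ⟨⟨h1, h2, h3⟩, h4, h5⟩ := h
  refine ⟨fun e he r hr => UL_one (S := S) j ▸ A.comm_UU (fun a ha b hb => (h1 a ha b hb).cz) (A.norm_UL h2)
    (A.norm_UL h3) he hr, fun e he hn c => ?_⟩
  obtain ⟨r, hr, hM, h0⟩ : ∃ r ∈ L, r ∉ M ∧ cf4 S e r ≠ 0 := by
    by_contra! k
    exact hn (by simpa using A.mul_inv_mem (lay_L h4) he (one_mem _) fun r a b => (k r a b).trans (A.cf_one r).symm)
  obtain ⟨h6, s, hs, h8, h9⟩ := h5 r hr hM
  have m := A.mul_inv_mem (lay_L h6) he (S.x_mem_UU hr (cf4 S e r)) fun a ha hb => by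
    obtain rfl : a = r := by_contra fun n => hb ((List.mem_erase_of_ne n).2 ha)
    rw [A.cf_x (h6.1 a hr), Pi.single_eq_same]
  refine ⟨_, S.x_mem_UU hs ((cf4 S e r)⁻¹ * c), ?_⟩
  have k1 : ∀ b, (∀ a ∈ L.erase r, 0 ≤ ip4 a b) → ∀ d, Commute (e * (S.x r (cf4 S e r))⁻¹) (S.x b d) := fun b k d =>
    A.commute_UU (T' := {b}) (fun a ha _ e => e ▸ k a ha) m (S.x_mem_X b d)
  have k2 := A.rel.cm _ _ _ h8 (cf4 S e r) ((cf4 S e r)⁻¹ * c)
  rw [mul_inv_cancel_left₀ h0] at k2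
  have k3 := (k1 k (fun a ha => (h9 a ha).2) c).eq
  have k4 := (k1 s (fun a ha => (h9 a ha).1) ((cf4 S e r)⁻¹ * c)).eq
  generalize S.x r (cf4 S e r) = x, S.x s ((cf4 S e r)⁻¹ * c) = y at *
  calc _ = e * x⁻¹ * (x * y * x⁻¹ * y⁻¹) * (e * x⁻¹)⁻¹ * (e * x⁻¹ * y * (e * x⁻¹)⁻¹ * y⁻¹) := by group
    _ = _ := by rw [k2, k3, k4]; group

theorem card_X (k : R4) (hk : 24 ≤ k.1) (g : G) : Nat.card (MulAut.conj g • S.X k : Subgroup G) = Nat.card F := by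
  rw [← Nat.card_congr (equivSMul (MulAut.conj g) (S.X k)).toEquiv, ← UL_one, A.card_UL, List.length_singleton, pow_one]
  revert k
  decide +kernel

theorem nmem {r s : R4} (h : r ≠ s) : S.x r 1 ∉ S.X s := fun k =>
  h (A.x_inj one_ne_zero (S.mem_X_iff.1 k).choose_spec).1

theorem key {L M Ms R : List R4} (h1 : Crt L M R 47 44) (h2 : Crt L Ms R 44 47)
    (h3 : 46 ∈ M ∧ 40 ∈ Ms ∧ 24 ∈ R ∧ 33 ∈ R) (hg : ∀ e ∈ UL S L, g * e * g⁻¹ ∈ UL S L)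
    (h : ∀ r ∈ UL S R, ∃ r' ∈ UL S R, ∀ e ∈ UL S L, g * r * g⁻¹ * e * (g * r * g⁻¹)⁻¹ = r' * e * r'⁻¹)
    (h' : ∀ r' ∈ UL S R, ∃ r ∈ UL S R, ∀ e ∈ UL S L, g * r * g⁻¹ * e * (g * r * g⁻¹)⁻¹ = r' * e * r'⁻¹) :
    (MulAut.conj g • S.X 47 = S.X 47 ∧ MulAut.conj g • S.X 44 = S.X 44 ∧
      ∀ v ∈ UL S M, g * v * g⁻¹ ∈ UL S M) ∨
    (MulAut.conj g • S.X 47 = S.X 44 ∧ MulAut.conj g • S.X 44 = S.X 47 ∧
      ∀ v ∈ UL S M, g * v * g⁻¹ ∈ UL S Ms) := by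
  obtain ⟨a1, a2⟩ := crt A h1
  obtain ⟨b1, b2⟩ := crt A h2
  have q : ∀ e ∈ UL S L, ∀ r r', (∀ e ∈ UL S L, g * r * g⁻¹ * e * (g * r * g⁻¹)⁻¹ = r' * e * r'⁻¹) →
      g * (e * r * e⁻¹ * r⁻¹) * g⁻¹ = g * e * g⁻¹ * r' * (g * e * g⁻¹)⁻¹ * r'⁻¹ := fun e he r r' k => by
    rw [mul_assoc _ r', mul_assoc _ (r' * _), ← k _ (inv_mem (hg e he))]
    group
  have up : ∀ e ∈ UL S L, ∀ j, (∀ r ∈ UL S R, e * r * e⁻¹ * r⁻¹ ∈ S.X j) → ∀ r' ∈ UL S R,
      g * e * g⁻¹ * r' * (g * e * g⁻¹)⁻¹ * r'⁻¹ ∈ MulAut.conj g • S.X j := fun e he j k r' hr => by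
    obtain ⟨r, hr, k'⟩ := h' r' hr
    rw [← q e he r r' k']
    exact smul_mem_pointwise_smul _ (MulAut.conj g) _ (k r hr)
  have c47 := card_X A 47 (by decide) 1
  have c44 := card_X A 44 (by decide) 1
  rw [map_one, one_smul] at c47 c44
  have cl : ∀ a s j, a ∈ L → s ∈ R → Cm a s j → 24 ≤ j.1 → (∀ r ∈ UL S R, S.x a 1 * r * (S.x a 1)⁻¹ * r⁻¹ ∈ S.X j) →
      MulAut.conj g • S.X j = S.X 47 ∨ MulAut.conj g • S.X j = S.X 44 := fun a s j ha hs e hj k => by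
    have m := S.x_mem_UU (Ψ := {r | r ∈ L}) ha 1
    by_cases y : g * S.x a 1 * g⁻¹ ∈ UL S M
    · refine .inl (eq_of_le_of_card_ge ?_ (by rw [c47, card_X A j hj]))
      rintro _ ⟨z, hz, rfl⟩
      obtain ⟨c, rfl⟩ := S.mem_X_iff.1 hz
      obtain ⟨r', hr, k'⟩ := h _ (S.x_mem_UU hs c)
      have := q _ m _ _ k'
      rw [A.rel.cm _ _ _ e, one_mul] at this
      exact this.symm.subst (motive := (· ∈ S.X 47)) (a1 _ y r' hr)
    · refine .inr (eq_of_le_of_card_ge (S.UU_le_iff.2 ?_) ((card_X A j hj g).trans c44.symm).le).symm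
      rintro _ rfl c
      obtain ⟨r', hr, k'⟩ := a2 _ (hg _ m) y c
      exact k' ▸ up _ m j k r' hr
  have k1 := cl 46 24 47 (h1.2.1.2.1 _ h3.1) h3.2.2.1 (by decide +kernel) (by decide) (a1 _ (S.x_mem_UU h3.1 1))
  have k2 := cl 40 33 44 (h2.2.1.2.1 _ h3.2.1) h3.2.2.2 (by decide +kernel) (by decide) (b1 _ (S.x_mem_UU h3.2.1 1))
  have ne : MulAut.conj g • S.X 47 ≠ MulAut.conj g • S.X 44 := fun e =>
    nmem A (by decide) ((MulAction.injective _ e).le (S.x_mem_X 47 1))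
  have ML : UL S M ≤ UL S L := S.UU_mono h1.2.1.2.1
  refine k1.imp (fun e => ⟨e, k2.resolve_left fun e' => ne (e.trans e'.symm), fun v hv => by_contra fun y => ?_⟩)
    fun e => ⟨e, k2.resolve_right fun e' => ne (e.trans e'.symm), fun v hv => by_contra fun y => ?_⟩
  · obtain ⟨r', hr, k'⟩ := a2 _ (hg _ (ML hv)) y 1
    exact nmem A (by decide) (e.le (k' ▸ up _ (ML hv) 47 (a1 v hv) r' hr))
  · obtain ⟨r', hr, k'⟩ := b2 _ (hg _ (ML hv)) y 1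
    exact nmem A (by decide) (e.le (k' ▸ up _ (ML hv) 47 (a1 v hv) r' hr))

theorem cf_V {u v : G} (hu : u ∈ UL S lV) (hv : v ∈ UL S lV) : cf4 S (u * v) = cf4 S u + cf4 S v :=
  funext fun _ => A.cf_mul layV hu hv List.not_mem_nil

theorem cf_P : ∀ {l : List R4}, (∀ r ∈ l, r ∈ lV) → cf4 S (P S l) = fun r => (l.count r : F)
  | [], _ => funext fun r => (A.cf_one r).trans Nat.cast_zero.symm
  | a :: l, h => funext fun r => by
    have k := fun r hr => h r (List.mem_cons_of_mem _ hr)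
    rw [P, S.xprod_cons, cf_V A (S.x_mem_UU (h a List.mem_cons_self) 1) (S.xprod_mem_UU k _), cf_P k,
      A.cf_x (layV.pos a (h a List.mem_cons_self)), List.count_cons, Pi.add_apply, Pi.single_apply, add_comm]
    by_cases e : r = a
    · simp [e]
    · simp [e, Ne.symm e]

theorem P_nf {l : List R4} (h : ∀ r ∈ l, r ∈ lV) : P S l = P S (nf l) := by
  have k : UL S lV ≤ S.U := U_eq_Ug.ge.trans' (S.UU_mono layV.pos)
  refine A.cf_ext (k (S.xprod_mem_UU h _)) (k (S.xprod_mem_UU (nf_sub l) _)) fun r => ?_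
  rw [cf_P A h, cf_P A (nf_sub l)]
  beta_reduce
  rw [CharP.cast_eq_mod F 2]
  congr 1
  by_cases e : r ∈ nf l
  · rw [List.count_eq_one_of_mem (l := nf l) (List.Nodup.filter _ (by decide)) e]
    simpa using (List.mem_filter.1 e).2
  · rw [List.count_eq_zero.2 e]
    by_contra n
    exact e (List.mem_filter.2 ⟨h r (List.count_pos_iff.1 (by omega)), decide_eq_true (by omega)⟩)

theorem conj_P {s : R4} (hs : Gd s) : ∀ {l : List R4}, (∀ r ∈ l, r ∈ lV) →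
    S.x s 1 * P S l * (S.x s 1)⁻¹ = P S (l.flatMap (mv s))
  | [], _ => by simp [S.xprod_nil]
  | a :: l, h => by
    rw [P, S.xprod_cons, ← conj_mul, conj_P hs fun r hr => h r (List.mem_cons_of_mem _ hr), List.flatMap_cons, P, P,
      S.xprod_append, mv]
    congr 1
    split_ifs with h1 h2
    · simp [A.conj_cm h1, S.xprod_cons, S.xprod_nil]
    · simp [A.conj_sl h2, S.xprod_cons, S.xprod_nil]
    · simp [A.com ((hs.2 a (h a List.mem_cons_self)).2 h1 h2), S.xprod_cons, S.xprod_nil]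

theorem run : ∀ {L : List R4}, (∀ s ∈ L, Gd s) → ∀ {l : List R4}, (∀ r ∈ l, r ∈ lV) →
    ∃ y ∈ Y4 S 44, y * P S l * y⁻¹ = P S (L.foldl st l)
  | [], _, _, _ => ⟨1, one_mem _, by simp⟩
  | s :: L, hL, l, h => by
    have hs := hL s List.mem_cons_self
    have k := @run L fun r hr => hL r (List.mem_cons_of_mem _ hr)
    rw [List.foldl_cons, st]
    split_ifs
    · obtain ⟨y, hy, e⟩ := k (nf_sub (l.flatMap (mv s)))
      refine ⟨_, mul_mem hy (S.x_mem_UU hs.1 1), ?_⟩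
      rw [← e, ← P_nf A fun r hr => by
        obtain ⟨a, ha, hr⟩ := List.mem_flatMap.1 hr
        exact (hs.2 a (h a ha)).1 r hr, ← conj_P A hs h]
      group
    · exact k h

end PM

open PM

namespace Amb

variable (A : Amb S) {g : G}
include A

theorem perm_U (hg : g ∈ normalizer (S.U : Set G)) :
    (MulAut.conj g • S.X 47 = S.X 47 ∧ MulAut.conj g • S.X 44 = S.X 44) ∨
    (MulAut.conj g • S.X 47 = S.X 44 ∧ MulAut.conj g • S.X 44 = S.X 47) := by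
  have c : ∀ {u}, u ∈ S.U → g * u * g⁻¹ ∈ S.U := (mem_normalizer_iff.1 hg _).1
  have c' : ∀ {u}, u ∈ S.U → g⁻¹ * u * g ∈ S.U := (mem_normalizer_iff''.1 hg _).1
  have m : ∀ {L : List R4}, (∀ r ∈ L, 24 ≤ r.1) → UL S L ≤ S.U := fun h => U_eq_Ug.ge.trans' (S.UU_mono h)
  refine (key A (L := [40, 44, 46, 47]) (M := [44, 46, 47]) (Ms := [40, 44, 47]) (R := posL4) (by decide +kernel)
    (by decide +kernel) (by decide) (fun e he => A.cen_Z2 (c (m (by decide) he)) fun v hv => ?_)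
    (fun r hr => ⟨_, U_eq_UL.le (c (U_eq_UL.ge hr)), fun _ _ => rfl⟩)
    fun r hr => ⟨_, U_eq_UL.le (c' (U_eq_UL.ge hr)), fun _ _ => by group⟩).imp
      (fun h => ⟨h.1, h.2.1⟩) fun h => ⟨h.1, h.2.1⟩
  have z : e * (g⁻¹ * v * g) * e⁻¹ * (g⁻¹ * v * g)⁻¹ ∈ UL S [44, 47] :=
    A.comm_UU (fun a ha b hb => CzL.cz ((show ∀ a ∈ [40, 44, 46, 47], ∀ b ∈ posL4, CzL [44, 47] a b by
      decide +kernel) a ha b hb)) (A.norm_UL (by decide +kernel)) (A.norm_UL (by decide +kernel)) he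
      (U_eq_UL.le (c' hv))
  rw [show g * e * g⁻¹ * v * (g * e * g⁻¹)⁻¹ * v⁻¹ = g * (e * (g⁻¹ * v * g) * e⁻¹ * (g⁻¹ * v * g)⁻¹) * g⁻¹ by group]
  refine A.center_U (c (m (by decide) z)) fun w hw => ?_
  have := A.commute_UU (show ∀ a ∈ posL4, ∀ b ∈ [44, 47], 0 ≤ ip4 a b by decide +kernel) (U_eq_UL.le (c' hw)) z
  generalize e * (g⁻¹ * v * g) * e⁻¹ * (g⁻¹ * v * g)⁻¹ = y at this
  rw [show w * (g * y * g⁻¹) = g * (g⁻¹ * w * g * y) * g⁻¹ by group, this]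
  group

theorem perm_E (hg : g ∈ normalizer (UL S lE : Set G))
    (h : ∀ r ∈ UL S lRm, ∃ r' ∈ UL S lRm, ∀ e ∈ UL S lE, g * r * g⁻¹ * e * (g * r * g⁻¹)⁻¹ = r' * e * r'⁻¹)
    (h' : ∀ r' ∈ UL S lRm, ∃ r ∈ UL S lRm, ∀ e ∈ UL S lE, g * r * g⁻¹ * e * (g * r * g⁻¹)⁻¹ = r' * e * r'⁻¹) :
    (MulAut.conj g • S.X 47 = S.X 47 ∧ MulAut.conj g • S.X 44 = S.X 44 ∧
      ∀ v ∈ UL S lM, g * v * g⁻¹ ∈ UL S lM) ∨
    (MulAut.conj g • S.X 47 = S.X 44 ∧ MulAut.conj g • S.X 44 = S.X 47 ∧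
      ∀ v ∈ UL S lM, g * v * g⁻¹ ∈ UL S lMs) :=
  key A (by decide +kernel) (by decide +kernel) (by decide) (fun e => (mem_normalizer_iff.1 hg e).1) h h'

/-- the classes of the elements of `M`, `q = 2` -/
theorem clsM (hq : Nat.card F = 2) : ∃ f : G → ZMod 2,
    (∀ v ∈ UL S lM, ∀ a ∈ UL S lM, ∀ b ∈ UL S lM, ∀ c ∈ UL S lM, f v + f (v * a) + f (v * b) + f (v * c) +
      f (v * a * b) + f (v * a * c) + f (v * b * c) + f (v * a * b * c) = 0) ∧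
    f 1 = 0 ∧ f (S.x 44 1) = 1 ∧ ∀ v ∈ UL S lM, v ≠ 1 → v ≠ S.x 44 1 →
      ∃ y ∈ Y4 S 44, y * v * y⁻¹ = if f v = 0 then S.x 47 1 else ic S := by
  have := Fintype.ofFinite F
  have e := ZMod.ringEquivOfPrime F Nat.prime_two (Nat.card_eq_fintype_card.symm.trans hq)
  have MV : UL S lM ≤ UL S lV := S.UU_mono (show ∀ r ∈ lM, r ∈ lV by decide)
  have k : ∀ l : List R4, (∀ r ∈ l, r ∈ lV) → e.symm (qq (cf4 S (P S l))) = qq fun r => (l.count r : ZMod 2) :=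
    fun l h => by simp only [cf_P A h, qq, map_add, map_mul, map_natCast]
  refine ⟨fun v => e.symm (qq (cf4 S v)), fun v hv a ha b hb c hc => ?_, (k [] (by simp)).trans (by decide),
    by simpa [S.xprod_cons, S.xprod_nil] using (k [44] (by decide)).trans (show _ = 1 by decide), fun v hv h1 h2 => ?_⟩
  · simp only [cf_V A (MV (mul_mem (mul_mem hv ha) hb)) (MV hc)]
    simp only [← map_add, cf_V A, MV hv, MV ha, MV hb, MV hc, mul_mem, qq_cub, map_zero]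
  obtain ⟨l, hl, rfl⟩ : ∃ l : List R4, (∀ r ∈ l, r ∈ lV) ∧ v = P S l := by
    refine S.UU_induction (p := fun v => ∃ l : List R4, (∀ r ∈ l, r ∈ lV) ∧ v = P S l) ⟨[], by simp, rfl⟩ ?_ (MV hv)
    rintro r hr c _ - ⟨l, hl, rfl⟩
    obtain ⟨c, rfl⟩ := e.surjective c
    obtain rfl | rfl : c = 0 ∨ c = 1 := by revert c; decide
    · exact ⟨l, hl, by rw [map_zero, S.x_zero, mul_one]⟩
    · exact ⟨l ++ [r], List.forall_mem_append.2 ⟨hl, List.forall_mem_singleton.2 hr⟩, by simp [S.xprod_append, S.xprod_cons, S.xprod_nil]⟩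
  rw [P_nf A hl] at h1 h2 ⊢
  obtain ⟨y, hy, h⟩ := run A (L := [24, 26, 31, 32, 29, 23, 21, 16, 15, 18]) (by decide +kernel) (nf_sub l)
  refine ⟨y, hy, ?_⟩
  beta_reduce
  rw [h, tab (nf l) (List.mem_sublists.2 List.filter_sublist) (fun e => h1 (by rw [e]; rfl))
    (fun e => h2 (by simp [e, S.xprod_cons, S.xprod_nil])), k _ (nf_sub l)]
  split_ifs
  · simp [S.xprod_cons, S.xprod_nil]
  · simp [S.xprod_cons, S.xprod_nil, A.com (show 0 ≤ ip4 44 47 by decide +kernel)]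

theorem qf_ind (hq : Nat.card F = 2) {χ : G → Prop} (ha : ¬ χ (S.x 47 1)) (hc : χ (ic S))
    (hY : ∀ y ∈ Y4 S 44, ∀ v, χ (y * v * y⁻¹) ↔ χ v) : ∃ f : G → ZMod 2,
    (∀ v ∈ UL S lM, ∀ a ∈ UL S lM, ∀ b ∈ UL S lM, ∀ c ∈ UL S lM, f v + f (v * a) + f (v * b) + f (v * c) +
      f (v * a * b) + f (v * a * c) + f (v * b * c) + f (v * a * b * c) = 0) ∧
    f 1 = 0 ∧ ∀ v ∈ UL S lM, v ≠ 1 → v ≠ S.x 44 1 → (χ v ↔ f v ≠ 0) := by
  obtain ⟨f, h1, h2, -, h3⟩ := A.clsM hq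
  refine ⟨f, h1, h2, fun v hv k1 k2 => ?_⟩
  obtain ⟨y, hy, e⟩ := h3 v hv k1 k2
  rw [← hY y hy, e]
  split_ifs with h <;> simp [h, ha, hc]

theorem qf_two {S' : StSys ΦF4 F G} (A' : Amb S') (hq : Nat.card F = 2) {χ : G → Prop} (ha : ¬ χ (S.x 47 1))
    (hc : χ (ic S)) (hY : ∀ y ∈ Y4 S 44, ∀ v, χ (y * v * y⁻¹) ↔ χ v) (ha' : ¬ χ (S'.x 47 1))
    (hc' : χ (ic S')) (hY' : ∀ y ∈ Y4 S' 44, ∀ v, χ (y * v * y⁻¹) ↔ χ v)
    (hM : ∀ v ∈ UL S lM, g * v * g⁻¹ ∈ UL S' lM) (ga : g * S.x 47 1 * g⁻¹ = S'.x 47 1)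
    (gb : g * S.x 44 1 * g⁻¹ = S'.x 44 1) (h : ∀ v ∈ UL S lM, χ v ↔ χ (ic S' * (g * v * g⁻¹))) : False := by
  obtain ⟨f, f1, f2, f3⟩ := A.qf_ind hq ha hc hY
  obtain ⟨f', g1, -, g3⟩ := A'.qf_ind hq ha' hc' hY'
  have m : ∀ {r}, r ∈ lM → S.x r 1 ∈ UL S lM := fun h => S.x_mem_UU h 1
  have cM : ic S' ∈ UL S' lM := mul_mem (S'.x_mem_UU (show 47 ∈ lM by decide) 1) (S'.x_mem_UU (show 44 ∈ lM by decide) 1)
  have k0 : f' (ic S') ≠ 0 := (g3 _ cM (fun e => one_ne_zero (A'.two_eq_one (by decide) (by decide) e).1)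
    fun e => one_ne_zero (A'.x_eq_one.1 (mul_eq_right.1 e))).1 hc'
  have k : ∀ l : List R4, (∀ r ∈ l, r ∈ lM) → (∃ r, r ∉ [44, 47] ∧ l.count r = 1) →
      f' (ic S' * (g * P S l * g⁻¹)) = f (P S l) := fun l hl ⟨r, hr, e⟩ => by
    have n : P S l ∉ UL S [44, 47] := fun k => by
      have := A.cf_eq_zero (cl_L (by decide +kernel)) (show ∀ r : R4, r ∈ [44, 47] → 24 ≤ r.1 by decide) k hr
      simp [cf_P A fun r h => (show ∀ r ∈ lM, r ∈ lV by decide) r (hl r h), e] at this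
    have a : ∀ {r}, r ∈ [44, 47] → S.x r 1 ∈ UL S [44, 47] := fun h => S.x_mem_UU h 1
    have hv := S.xprod_mem_UU (Ψ := {r | r ∈ lM}) hl fun _ => 1
    have e1 := f3 _ hv (fun e => n (by rw [P, e]; exact one_mem _)) fun e => n (by rw [P, e]; exact a (by decide))
    have z : ∀ w ∈ UL S [44, 47], ic S' * (g * P S l * g⁻¹) ≠ g * w * g⁻¹ := fun w hw e => n (by
      rw [ic, ← ga, ← gb, conj_mul, conj_mul, mul_left_inj, mul_right_inj, ← eq_inv_mul_iff_mul_eq] at e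
      exact e ▸ mul_mem (inv_mem (mul_mem (a (by decide)) (a (by decide)))) hw)
    have e2 := g3 _ (mul_mem cM (hM _ hv)) (by simpa using z 1 (one_mem _)) (gb ▸ z _ (a (by decide)))
    have e3 := e1.symm.trans ((h _ hv).trans e2)
    generalize f' _ = p, f _ = q at e3
    revert p q
    decide
  have e1 := f1 1 (one_mem _) _ (m (r := 42) (by decide)) _ (m (r := 43) (by decide)) _ (m (r := 45) (by decide))
  have e2 := g1 _ cM _ (hM _ (m (r := 42) (by decide))) _ (hM _ (m (r := 43) (by decide))) _ (hM _ (m (r := 45) (by decide)))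
  have t1 := k [42] (by decide) (by decide)
  have t2 := k [43] (by decide) (by decide)
  have t3 := k [45] (by decide) (by decide)
  have t4 := k [42, 43] (by decide) (by decide)
  have t5 := k [42, 45] (by decide) (by decide)
  have t6 := k [43, 45] (by decide) (by decide)
  have t7 := k [42, 43, 45] (by decide) (by decide)
  simp only [P, StSys.xprod_cons, StSys.xprod_nil, mul_one, one_mul, mul_assoc, inv_mul_cancel_left] at *
  rw [t1, t2, t3, t4, t5, t6, t7] at e2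
  exact k0 (by linear_combination e2 - e1 + f2)

theorem qf (hq : Nat.card F = 2) {χ : G → Prop} (h1 : χ 1) (ha : ¬ χ (S.x 47 1)) (hb : ¬ χ (S.x 44 1))
    (hc : χ (ic S)) (hY : ∀ y ∈ Y4 S 44, ∀ v, χ (y * v * y⁻¹) ↔ χ v)
    (hM : ∀ v ∈ UL S lM, g * v * g⁻¹ ∈ UL S lM) (ga : g * S.x 47 1 * g⁻¹ = S.x 47 1)
    (gb : g * S.x 44 1 * g⁻¹ = S.x 44 1) (h : ∀ v ∈ UL S lM, χ v ↔ χ (ic S * (g * v * g⁻¹))) : False :=
  have _ := h1
  have _ := hb
  A.qf_two A hq ha hc hY ha hc hY hM ga gb h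

theorem qf' (hq : Nat.card F = 2) {χ : G → Prop} (h1 : χ 1) (ha : ¬ χ (S.x 47 1)) (hb : ¬ χ (S.x 44 1))
    (hc : χ (ic S)) (hY : ∀ y ∈ S.grp, ∀ v, χ (y * v * y⁻¹) ↔ χ v)
    (hM : ∀ v ∈ UL S lM, g * v * g⁻¹ ∈ UL S lMs) (ga : g * S.x 47 1 * g⁻¹ = S.x 44 1)
    (gb : g * S.x 44 1 * g⁻¹ = S.x 47 1) (h : ∀ v ∈ UL S lM, χ v ↔ χ (ic S * (g * v * g⁻¹))) : False := by
  have _ := h1
  obtain ⟨S', D, A'⟩ := A.exists_du
  have e1 : S'.x 47 1 = S.x 44 1 := D.x_one 47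
  have e2 : S'.x 44 1 = S.x 47 1 := D.x_one 44
  have e3 : ic S' = ic S := by rw [ic, e1, e2, A.com (by decide +kernel)]
  refine A.qf_two A' hq ha hc (fun y hy => hY y (S.UU_le_grp _ hy)) (e1 ▸ hb) (e3 ▸ hc)
    (fun y hy => hY y (D.grp.le (S'.UU_le_grp _ hy))) (fun v hv => ?_) (e1 ▸ ga) (e2 ▸ gb) (e3 ▸ h)
  rw [UL, D.UU]
  exact S.UU_mono (show ∀ r ∈ lMs, ρ r ∈ lM by decide +kernel) (hM v hv)

end Amb

end CfsgLib.SLF
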