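import Mathlib
import Cfsg.Agent.Lib.SLF.FusA
import Cfsg.Agent.Lib.SLF.Perm

/-!
# Fusion: `t` is conjugate to `t x`, `x` a root element
-/

set_option autoImplicit false
set_option linter.unusedSectionVars false

namespace CfsgLib.SLF

open Cfsg.Lie CfsgLib.RGD CfsgLib.Stein CfsgLib.Semi CfsgLib.SLE CfsgLib.UFP Subgroup
open scoped commutatorElement Pointwise

universe u

variable {F : Type} [Field F] [Finite F] [CharP F 2] {G : Type u} [Group G] [Finite G]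
  {S : StSys ΦF4 F G}

theorem fb_der {P U : Subgroup G} (h1 : P ≤ U) (h2 : Nat.card U ≤ 2 * Nat.card P) : ⁅U, U⁆ ≤ P := by
  have e := card_mul_index (P.subgroupOf U)
  rw [Nat.card_congr (subgroupOfEquivOfLe h1).toEquiv] at e
  have p0 : 0 < Nat.card P := Nat.card_pos
  have u0 : 0 < Nat.card U := Nat.card_pos
  have i2 : (P.subgroupOf U).index ≤ 2 := by nlinarith
  have i0 : (P.subgroupOf U).index ≠ 0 := fun h => by rw [h] at e; omega
  refine commutator_le.2 fun a ha b hb => ?_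
  rcases (show (P.subgroupOf U).index = 1 ∨ (P.subgroupOf U).index = 2 by omega) with i | i
  · exact subgroupOf_eq_top.1 (index_eq_one.1 i) (mul_mem (mul_mem (mul_mem ha hb) (inv_mem ha)) (inv_mem hb))
  · have : (⟨a, ha⟩ * ⟨b, hb⟩ * ⟨a, ha⟩⁻¹ * ⟨b, hb⟩⁻¹ : U) ∈ P.subgroupOf U := by
      simp only [mul_mem_iff_of_index_two i, inv_mem_iff]
      tauto
    exact this

theorem fb_ic (g : G) : ic (SLE.cj S g) = g * ic S * g⁻¹ := by
  simp only [ic, cj_x]; group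

theorem fb_id (g : G) : id4 (SLE.cj S g) = g * id4 S * g⁻¹ := by
  simp only [id4, cj_x]; group

theorem fb_conj {t g v w : G} (e : g * t * g⁻¹ = t * w) : IsConj t (t * v) ↔ IsConj t (t * (w * (g * v * g⁻¹))) := by
  have : IsConj (t * v) (t * (w * (g * v * g⁻¹))) := isConj_iff.2 ⟨g, by rw [← mul_assoc t, ← e]; group⟩
  exact ⟨fun h => h.trans this, fun h => h.trans this.symm⟩

theorem Amb.fb_ic_mem (A : Amb S) : ic S ∈ S.U ∧ ic S * ic S = 1 ∧ ic S ≠ 1 := by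
  refine ⟨mul_mem (x_mem_U4 (by decide) _) (x_mem_U4 (by decide) _), ?_, fun e => ?_⟩
  · rw [mul_assoc, ← mul_assoc (S.x 44 1), A.com (by decide), mul_assoc, A.x_sq, mul_one, A.x_sq]
  · exact one_ne_zero (A.two_eq_one (by decide) (by decide) e).1

theorem Amb.fb_id_mem (A : Amb S) : id4 S ∈ S.grp ∧ id4 S * id4 S = 1 ∧ id4 S ≠ 1 := by
  refine ⟨mul_mem (S.x_mem_grp _ _) (S.x_mem_grp _ _), ?_, fun e => ?_⟩
  · rw [mul_assoc, ← mul_assoc (S.x 45 1), A.com (by decide), mul_assoc, A.x_sq, mul_one, A.x_sq]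
  · exact one_ne_zero (A.two_eq_one (by decide) (by decide) e).1

theorem Amb.fb_eq (A : Amb S) {u v : F} (e : S.x 47 u * S.x 44 v = ic S) : u = 1 ∧ v = 1 := by
  have : S.x 47 (u + 1) * S.x 44 (v + 1) = 1 := by
    rw [S.x_add, S.x_add, mul_assoc, ← mul_assoc (S.x 47 1), A.com (a := 47) (b := 44) (by decide), mul_assoc,
      ← mul_assoc, e, A.fb_ic_mem.2.1]
  obtain ⟨h1, h2⟩ := A.two_eq_one (by decide) (by decide) this
  exact ⟨by simpa using CharTwo.add_eq_zero.1 h1, by simpa using CharTwo.add_eq_zero.1 h2⟩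

theorem fb_x {g : G} {r s : R4} (e : MulAut.conj g • S.X r = S.X s) (c : F) : ∃ d, g * S.x r c * g⁻¹ = S.x s d :=
  S.mem_X_iff.1 (e ▸ smul_mem_pointwise_smul _ (MulAut.conj g) _ (S.x_mem_X r c))

namespace Sit

variable {t : G} (h : Sit S t)
include h

theorem swc {g : G} (e : g * t * g⁻¹ = t * ic S) (gc : g * ic S * g⁻¹ = ic S) :
    (MulAut.conj g • S.X 47 = S.X 47 ∧ MulAut.conj g • S.X 44 = S.X 44 ∧
      ∀ v ∈ UL S lM, g * v * g⁻¹ ∈ UL S lM) ∨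
    (MulAut.conj g • S.X 47 = S.X 44 ∧ MulAut.conj g • S.X 44 = S.X 47 ∧
      ∀ v ∈ UL S lM, g * v * g⁻¹ ∈ UL S lMs) := by
  have A := h.amb
  obtain ⟨n, h1, h2⟩ := h.norm_der (S.UU_le_grp _ A.fb_ic_mem.1) e gc
    (A.pg_U.to_le (UU_le_U4 (T := {r | r ∈ lRm}) (by decide))) A.Rm_le A.norm_Rm
    fun P hP hp hn => A.o2_c hp (hP.trans inf_le_left) hn
  rw [A.der_Rm] at n
  have key : ∀ {r r' : G}, (g * r * g⁻¹)⁻¹ * r' ∈ CL (SLE.cj S g) → ∀ e ∈ UL S lE,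
      g * r * g⁻¹ * e * (g * r * g⁻¹)⁻¹ = r' * e * r'⁻¹ := fun {r r'} hk e he => by
    have := mem_centralizer_iff.1 hk e (mem_cj_UU.2 (S.UU_le_grp _ ((mem_normalizer_iff''.1 n e).1 he)))
    calc _ = g * r * g⁻¹ * (e * ((g * r * g⁻¹)⁻¹ * r')) * r'⁻¹ := by group
      _ = _ := by rw [this]; group
  exact A.perm_E n (fun r hr => (h1 r hr).imp fun _ k => ⟨k.1, key k.2⟩)
    fun r hr => (h2 r hr).imp fun _ k => ⟨k.1, key k.2⟩

theorem fb_cls {w : G} (ha : ¬ IsConj t (t * S.x 47 1)) (hb : ¬ IsConj t (t * S.x 44 1)) {l : G} (hl : l ∈ S.grp)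
    (e : l * w * l⁻¹ = S.x 47 1 ∨ l * w * l⁻¹ = S.x 44 1) : ¬ IsConj t (t * w) := fun k => by
  rw [← h.conj_iff hl] at k
  rcases e with e | e <;> rw [e] at k
  exacts [ha k, hb k]

theorem not_d (ha : ¬ IsConj t (t * S.x 47 1)) (hb : ¬ IsConj t (t * S.x 44 1)) (hc : ¬ IsConj t (t * ic S)) :
    ¬ IsConj t (t * id4 S) := by
  intro hd
  have A := h.amb
  obtain ⟨g₀, e₀⟩ := isConj_iff.1 hd
  obtain ⟨d1, d2, d3⟩ := A.fb_id_mem
  obtain ⟨g, e, gd⟩ : ∃ g, g * t * g⁻¹ = t * id4 S ∧ g * id4 S * g⁻¹ = id4 S := by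
    obtain ⟨k, hk, ek⟩ := (A.cj g₀).dc (h.inn d1 e₀) d2 d3
    have key : ∀ {y}, k * id4 S * k⁻¹ = g₀ * y * g₀⁻¹ → IsConj t (t * y) ∧ k⁻¹ * g₀ * t * (k⁻¹ * g₀)⁻¹ = t * id4 S ∧
        k⁻¹ * g₀ * y * (k⁻¹ * g₀)⁻¹ = id4 S := fun ey => h.swap d1 e₀ (inv_mem hk) (by rw [← ey]; group)
    rw [fb_ic, fb_id, cj_x, cj_x] at ek
    rcases ek with ek | ek | ek | ek
    exacts [absurd (key ek).1 ha, absurd (key ek).1 hb, absurd (key ek).1 hc, ⟨_, (key ek).2⟩]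
  obtain ⟨n, -⟩ := h.norm_der d1 e gd
    (A.pg_U.to_le (UU_le_U4 (T := {r | r ∈ lRd}) (by decide))) A.Rd_le A.norm_Rd fun P hP hp hn => A.o2_d hp hP hn
  rw [A.der_Rd] at n
  have lay : Lay4 {r | r ∈ ([39, 40, 44, 45, 46, 47] : List R4)} {r | r ∈ ([] : List R4)} := lay_L (by decide +kernel)
  have sub : UL S [40, 44, 45, 46, 47] ≤ UL S [39, 40, 44, 45, 46, 47] :=
    S.UU_mono fun _ hr => List.mem_cons_of_mem _ hr
  have mem : ∀ w : UL S [40, 44, 45, 46, 47], g * w * g⁻¹ ∈ UL S [39, 40, 44, 45, 46, 47] := fun w =>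
    (mem_normalizer_iff.1 n _).1 (sub w.2)
  obtain ⟨w₁, w₂, ne, ew⟩ : ∃ w₁ w₂ : UL S [40, 44, 45, 46, 47], w₁ ≠ w₂ ∧
      (cf4 S (g * w₁ * g⁻¹) 39, cf4 S (g * w₁ * g⁻¹) 45) = (cf4 S (g * w₂ * g⁻¹) 39, cf4 S (g * w₂ * g⁻¹) 45) := by
    by_contra hh
    push Not at hh
    have := Nat.card_le_card_of_injective (fun w : UL S [40, 44, 45, 46, 47] =>
      (cf4 S (g * w * g⁻¹) 39, cf4 S (g * w * g⁻¹) 45)) fun a b e => by_contra fun ne => hh a b ne e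
    rw [A.card_UL (by decide +kernel), Nat.card_prod, ← sq] at this
    exact absurd ((Nat.pow_le_pow_iff_right Finite.one_lt_card).1 this) (by decide)
  obtain ⟨e1, e2⟩ := Prod.mk.inj ew
  have m : g * (w₁ * w₂⁻¹ : UL S [40, 44, 45, 46, 47]) * g⁻¹ ∈ UL S [40, 44, 46, 47] := by
    refine A.mem_of_cf (UU_le_U4 lay.pos (mem _)) fun r hr => ?_
    by_cases k : r ∈ ([39, 40, 44, 45, 46, 47] : List R4)
    · rw [coe_mul, coe_inv, ← conj_mul, ← conj_inv, A.cf_mul lay (mem _) (inv_mem (mem _)) (by simp),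
        A.cf_inv lay (mem _) (by simp)]
      rcases (show r = 39 ∨ r = 45 by revert r; decide) with rfl | rfl
      · rw [e1, CharTwo.add_self_eq_zero]
      · rw [e2, CharTwo.add_self_eq_zero]
    · exact A.cf_eq_zero (Amb.lay_cl lay) lay.pos (mem _) k
  obtain ⟨l, hl, el⟩ := A.cls_d m
  obtain ⟨l', hl', el'⟩ := A.cls_W0 (w₁ * w₂⁻¹).2 fun e => ne (mul_inv_eq_one.1 (Subtype.ext e))
  have k := (fb_conj e).2 (el ▸ (h.conj_iff hl).2 hd)
  rcases or_assoc.2 el' with el' | el'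
  · exact h.fb_cls ha hb hl' el' k
  · exact hc (el' ▸ (h.conj_iff hl').2 k)

theorem fb_c (ha : ¬ IsConj t (t * S.x 47 1)) (hb : ¬ IsConj t (t * S.x 44 1)) {g : G}
    (e : g * t * g⁻¹ = t * ic S) : ∃ g, g * t * g⁻¹ = t * ic S ∧ g * ic S * g⁻¹ = ic S := by
  have A := h.amb
  have A' := A.cj g
  obtain ⟨c1, c2, c3⟩ := A.fb_ic_mem
  have cs := h.inn (S.UU_le_grp _ c1) e
  have cc : ∀ u ∈ S.U, u * ic S = ic S * u := fun u hu => mem_centralizer_singleton_iff.1 (A.bru_U_le.2.2 hu).2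
  have Us : S.U ≤ S.grp ⊓ centralizer {g * t * g⁻¹} := fun u hu =>
    ⟨S.UU_le_grp _ hu, mem_centralizer_singleton_iff.2 (by
      rw [e, ← mul_assoc u, h.com (S.UU_le_grp _ hu), mul_assoc t, cc u hu, mul_assoc t])⟩
  have k1 := A'.card_le_two (fun u hu => (h.cj g).CN (Us hu).2) (P := S.U) (S.UU_le_iff.2 fun r hr c =>
    subset_closure ⟨S.x_mem_UU hr c, A.x_sq _ _⟩)
  obtain ⟨π, p1, p2, p3⟩ := A'.proj
  let f : (S.U ⊓ N0 (SLE.cj S g) : Subgroup G) →* G := π.comp (inclusion inf_le_right)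
  have fi : Function.Injective f := (injective_iff_map_eq_one f).2 fun u hu => by
    have := p2 (inclusion inf_le_right u)
    rw [show π _ = 1 from hu, inv_one, one_mul] at this
    exact Subtype.ext (mem_bot.1 (h.inf_CL A.pg_U Us ▸ (⟨u.2.1, this⟩ : u.1 ∈ S.U ⊓ CL (SLE.cj S g))))
  have fp : IsPGroup 2 f.range := (A.pg_U.to_le inf_le_left).of_surjective _ f.rangeRestrict_surjective
  obtain ⟨l, hl, el⟩ := A'.exists_conj_U fp (by rintro _ ⟨u, rfl⟩; exact p1 _)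
  let f' := (MulAut.conj l).toMonoidHom.comp f
  have k2 : ⁅(SLE.cj S g).U, (SLE.cj S g).U⁆ ≤ f'.range := by
    refine fb_der (by rintro _ ⟨u, rfl⟩; exact el _ ⟨u, rfl⟩) ?_
    rw [A'.card_U, ← A.card_U, ← Nat.card_congr (MonoidHom.ofInjective (f := f')
      ((MulAut.conj l).injective.comp fi)).toEquiv]
    exact k1
  have fc : f ⟨ic S, c1, mem_sup_left cs⟩ = ic S := by
    have := A'.eq_one (mul_mem (inv_mem (p1 _)) cs) (p2 ⟨ic S, mem_sup_left cs⟩)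
    exact inv_mul_eq_one.1 this
  have m := A'.cen_A0 (el _ ⟨_, fc⟩) (centralizer_le k2 (mem_centralizer_iff.2 (by
    rintro _ ⟨u, rfl⟩
    show l * f u * l⁻¹ * _ = _ * (l * f u * l⁻¹)
    rw [conj_mul, conj_mul, show f u * ic S = ic S * f u from
      (p3 _ _ (le_normalizer cs) (cc _ u.2.1).symm).symm])))
  obtain ⟨k, hk, ek⟩ := A'.cls_W0 ((SLE.cj S g).UU_mono (by decide : ∀ r ∈ ([40, 44, 46, 47] : List R4),
    r ∈ ([40, 44, 45, 46, 47] : List R4)) m) fun e => c3 (by simpa using e)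
  have key : ∀ {y}, k * (l * ic S * l⁻¹) * k⁻¹ = g * y * g⁻¹ → IsConj t (t * y) ∧
      (k * l)⁻¹ * g * t * ((k * l)⁻¹ * g)⁻¹ = t * ic S ∧ (k * l)⁻¹ * g * y * ((k * l)⁻¹ * g)⁻¹ = ic S := fun ey =>
    h.swap (S.UU_le_grp _ c1) e (inv_mem (mul_mem hk hl)) (by rw [← ey]; group)
  rw [fb_ic, cj_x, cj_x] at ek
  rcases ek with ek | ek | ek
  exacts [absurd (key ek).1 ha, absurd (key ek).1 hb, ⟨_, (key ek).2⟩]

theorem not_c (ha : ¬ IsConj t (t * S.x 47 1)) (hb : ¬ IsConj t (t * S.x 44 1)) : ¬ IsConj t (t * ic S) := by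
  intro hc
  have A := h.amb
  obtain ⟨g₀, e₀⟩ := isConj_iff.1 hc
  obtain ⟨g, e, gc⟩ := h.fb_c ha hb e₀
  have cZ : ∀ {u v : F}, u ≠ 0 → v ≠ 0 → IsConj t (t * (S.x 47 u * S.x 44 v)) := fun hu hv => by
    obtain ⟨k, hk, ek⟩ := A.cls_Z hu hv
    exact ek ▸ (h.conj_iff (S.H_le_grp hk)).2 hc
  have nX : ∀ {u : F}, u ≠ 0 → ¬ IsConj t (t * S.x 47 u) := fun hu k => by
    obtain ⟨a, a1, L, -, a2⟩ := A.exists_conj_x (r := 47) (s := 47) Iff.rfl hu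
    exact ha ((h.conj_iff (mul_mem (S.H_le_grp a1) (nw_mem L))).1 (a2 ▸ k))
  have big : Nat.card F ≠ 2 → ∀ {r : R4}, MulAut.conj g • S.X 47 = S.X r → g * S.x 47 1 * g⁻¹ = S.x r 1 →
      ∃ u, u + 1 ≠ 0 ∧ ¬ IsConj t (t * (ic S * S.x r u)) := fun hq r e1 e2 => by
    obtain ⟨u, u0, u1⟩ : ∃ u : F, u ≠ 0 ∧ u ≠ 1 := by
      by_contra hh
      push Not at hh
      exact hq (Nat.card_eq_two_iff.2 ⟨0, 1, zero_ne_one, Set.eq_univ_of_forall fun u => by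
        by_cases k : u = 0
        exacts [.inl k, .inr (hh u k)]⟩)
    obtain ⟨d, ed⟩ := fb_x e1 u
    refine ⟨d, fun k => u1 ?_, ed ▸ fun k => nX u0 ((fb_conj e).2 k)⟩
    rw [CharTwo.add_eq_zero.1 k, ← e2] at ed
    exact A.nd.x_injective 47 (by simpa using ed)
  rw [← conj_mul] at gc
  rcases h.swc e (by rw [← conj_mul]; exact gc) with ⟨e1, e2, e3⟩ | ⟨e1, e2, e3⟩
  · obtain ⟨u, eu⟩ := fb_x e1 1
    obtain ⟨v, ev⟩ := fb_x e2 1
    obtain ⟨rfl, rfl⟩ := A.fb_eq (eu ▸ ev ▸ gc)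
    by_cases hq : Nat.card F = 2
    · exact A.qf hq (χ := fun v => IsConj t (t * v)) (by rw [mul_one]) ha hb hc
        (fun y hy v => h.conj_iff (S.UU_le_grp _ hy)) e3 eu ev fun v _ => fb_conj e
    · obtain ⟨d, d1, d2⟩ := big hq e1 eu
      refine d2 ?_
      rw [mul_assoc (S.x 47 1), A.com (a := 44) (b := 47) (by decide), ← mul_assoc (S.x 47 1), ← S.x_add, add_comm]
      exact cZ d1 one_ne_zero
  · obtain ⟨u, eu⟩ := fb_x e1 1
    obtain ⟨v, ev⟩ := fb_x e2 1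
    rw [eu, ev, A.com (by decide)] at gc
    obtain ⟨rfl, rfl⟩ := A.fb_eq gc
    by_cases hq : Nat.card F = 2
    · exact A.qf' hq (χ := fun v => IsConj t (t * v)) (by rw [mul_one]) ha hb hc
        (fun y hy v => h.conj_iff hy) e3 eu ev fun v _ => fb_conj e
    · obtain ⟨d, d1, d2⟩ := big hq e1 eu
      refine d2 ?_
      rw [mul_assoc (S.x 47 1), ← S.x_add, add_comm]
      exact cZ one_ne_zero d1

theorem fus {s : G} (hc : IsConj t s) (hs : s ≠ t) (hst : s * t = t * s) :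
    IsConj t (t * S.x 47 1) ∨ IsConj t (t * S.x 44 1) := by
  by_contra hh
  obtain ⟨ha, hb⟩ := not_or.1 hh
  obtain ⟨l, hl, l1, l2, k⟩ := h.exists_inner hc hs hst
  obtain ⟨g, hg, e⟩ := h.amb.dc hl l2 l1
  rw [← h.conj_iff hg] at k
  rcases e with e | e | e | e <;> rw [e] at k
  exacts [ha k, hb k, h.not_c ha hb k, h.not_d ha hb (h.not_c ha hb) k]

end Sit

end CfsgLib.SLF
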