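import Mathlib
import Cfsg.Agent.Lib.SLF.FusB
import Cfsg.Agent.Lib.SLF.Cen

/-!
# An element interchanging `t` and `t b`
-/

set_option autoImplicit false
set_option linter.unusedSectionVars false

namespace CfsgLib.SLF

open Cfsg.Lie CfsgLib.RGD CfsgLib.Stein CfsgLib.Semi CfsgLib.SLE CfsgLib.UFP Subgroup
open scoped commutatorElement Pointwise

universe u

variable {F : Type} [Field F] [Finite F] [CharP F 2] {G : Type u} [Group G] [Finite G]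
  {S : StSys ΦF4 F G}

namespace Sit

variable {t : G} (h : Sit S t)
include h

omit h in
theorem a1_cj {p x : G} {T : Set R4} (hx : x ∈ S.UU T) : p * x * p⁻¹ ∈ (SLE.cj S p).UU T :=
  mem_cj_UU.2 (by simpa [mul_assoc] using hx)

omit h in
theorem a1_sq (A : Amb S) {g k : G} {r : R4} {c : F} (hk : k ∈ CL S) (e : g = S.x r c * k) : g * g ∈ CL S := by
  have := mem_centralizer_iff.1 hk _ (S.x_mem_grp r c)
  rw [e, mul_assoc, ← mul_assoc k, ← this, ← mul_assoc, ← mul_assoc, A.x_sq, one_mul]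
  exact mul_mem hk hk

theorem pf_le_Y {M : Subgroup G} (hM : Pf M) (r : R4) {c : F} (hc : c ≠ 0)
    (h1 : M ≤ centralizer {t} ⊓ centralizer {S.x r c}) : M ≤ Y4 S r := by
  rw [← h.amb.cent_x r hc]
  exact le_inf (h.amb.pf_le h.cyc hM ((h1.trans inf_le_left).trans h.CN)) (h1.trans inf_le_right)

theorem norm_of_swap {p : G} {c : F} (hc : c ≠ 0) (pt : p * t * p⁻¹ = t * S.x 44 c)
    (pX : p ∈ normalizer (S.X 44 : Set G)) : p ∈ normalizer (Y4 S 44 : Set G) ∧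
      p ∈ normalizer (Q4 S 44 : Set G) ∧ ∀ l ∈ S.grp, CO S t (p * l * p⁻¹) := by
  have A := h.amb
  have h' := h.cj p
  have cz : Y4 (SLE.cj S p) 44 ≤ centralizer {S.x 44 c} := fun y hy =>
    mem_centralizer_singleton_iff.2 (mem_centralizer_iff.1 (h'.amb.Y_le_cent 44 hy) _
      (mem_cj_UU.2 ((mem_normalizer_iff''.1 pX _).1 (S.x_mem_X _ _)))).symm
  have le : Y4 (SLE.cj S p) 44 ≤ Y4 S 44 := by
    refine h.pf_le_Y (h'.amb.pf_Y _) 44 hc fun y hy => ⟨?_, cz hy⟩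
    have e1 := h'.com ((SLE.cj S p).UU_le_grp _ hy)
    rw [pt, ← mul_assoc, mul_assoc t, ← mem_centralizer_singleton_iff.1 (cz hy), ← mul_assoc] at e1
    exact mem_centralizer_singleton_iff.2 (mul_right_cancel e1)
  have nY : p ∈ normalizer (Y4 S 44 : Set G) := mem_normalizer_fintype fun y hy => le (a1_cj hy)
  have eY : Y4 S 44 ≤ Y4 (SLE.cj S p) 44 := fun y hy => mem_cj_UU.2 ((mem_normalizer_iff''.1 nY y).1 hy)
  refine ⟨nY, mem_normalizer_fintype fun y hy => A.o2_Y 44 (h'.amb.pg_Q 44) (((h'.amb.Q_le_Yo 44).trans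
    ((h'.amb.Yo_le_Y 44).trans le)).trans (S.UU_le_grp _)) (eY.trans (h'.amb.Y_norm_Q 44)) (a1_cj hy),
    fun l hl o h1 h2 h3 => ?_⟩
  obtain ⟨c', k, hk, e⟩ := h'.amb.cen_Y (h.fa_NL pt h2 (mem_centralizer_iff.1 h1 _ (S.x_mem_grp _ _)).symm) 44
    (mem_centralizer_iff.2 fun y hy => mem_centralizer_iff.1 h1 y (S.UU_le_grp _ (le hy)))
  obtain ⟨m, hm⟩ := h3
  have : o ∈ CL (SLE.cj S p) := by
    have := pow_mem (a1_sq h'.amb hk e) (m + 1)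
    rwa [← pow_two, ← pow_mul, show 2 * (m + 1) = orderOf o + 1 by omega, pow_succ,
      pow_orderOf_eq_one, one_mul] at this
  exact mem_centralizer_iff.1 this _ (a1_cj hl)

theorem a1_U {g : G} (hg : g * t * g⁻¹ = t * S.x 44 1) : ∃ k ∈ (SLE.cj S g).grp,
    k * g * t * (k * g)⁻¹ = t * S.x 44 1 ∧ k * g ∈ normalizer (S.U : Set G) := by
  have A := h.amb
  have h' := h.cj g
  have le : Y4 S 44 ≤ (SLE.cj S g).grp := h'.amb.pf_le h'.cyc (A.pf_Y _) fun y hy =>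
    h.fa_NL hg (h.com (S.UU_le_grp _ hy)) (mem_centralizer_iff.1 (A.Y_le_cent _ hy) _ (S.x_mem_X _ _)).symm
  obtain ⟨l, hl, e⟩ := h'.amb.eq_cj_U A.pg_U (A.U_le_Y44.trans le) A.card_U.ge
  rw [cj_cj] at e
  refine ⟨l, hl, ?_, mem_normalizer_fintype fun u hu => e.ge (a1_cj hu)⟩
  rw [show l * g * t * (l * g)⁻¹ = l * (g * t * g⁻¹) * l⁻¹ by group, h'.com hl, mul_inv_cancel_right, hg]

theorem a1_fin {g : G} {ν : F} (hν : ν ≠ 0) (hg : g * t * g⁻¹ = t * S.x 44 ν) (nU : g ∈ normalizer (S.U : Set G))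
    (nX : g ∈ normalizer (S.X 44 : Set G)) : ∃ p, Sw S t p := by
  have A := h.amb
  have hh : ∀ {c : F}, c ≠ 0 → ∀ u, S.h 33 c * S.x 44 u * (S.h 33 c)⁻¹ = S.x 44 (c * u) := fun hc u => by
    rw [A.h_conj _ _ hc, show cv 44 33 = 1 by decide +kernel, zpow_one]
  obtain ⟨c, ec⟩ := S.mem_X_iff.1 ((mem_normalizer_iff''.1 nX _).1 (S.x_mem_X 44 ν))
  have c0 : c ≠ 0 := fun e => by
    rw [e, S.x_zero, mul_assoc, inv_mul_eq_one, eq_comm, mul_eq_right, A.x_eq_one] at ec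
    exact hν ec
  have e1 := hh (inv_ne_zero hν) ν
  rw [inv_mul_cancel₀ hν] at e1
  have pt : S.h 33 ν⁻¹ * g * S.h 33 c * t * (S.h 33 ν⁻¹ * g * S.h 33 c)⁻¹ = t * S.x 44 1 := by
    calc _ = S.h 33 ν⁻¹ * (g * (S.h 33 c * t) * (S.h 33 c)⁻¹ * g⁻¹) * (S.h 33 ν⁻¹)⁻¹ := by group
      _ = S.h 33 ν⁻¹ * (g * t * g⁻¹) * (S.h 33 ν⁻¹)⁻¹ := by rw [h.com (S.h_mem_grp _ _)]; group
      _ = _ := by rw [hg, ← mul_assoc, h.com (S.h_mem_grp _ _), ← e1]; group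
  have nH : ∀ T, g ∈ normalizer (S.UU T : Set G) → S.h 33 ν⁻¹ * g * S.h 33 c ∈ normalizer (S.UU T : Set G) :=
    fun T k => mul_mem (mul_mem (S.H_le_normalizer_UU _ (S.h_mem_H _ (inv_ne_zero hν))) k)
      (S.H_le_normalizer_UU _ (S.h_mem_H _ c0))
  obtain ⟨nY, nQ, nO⟩ := h.norm_of_swap one_ne_zero pt (nH _ nX)
  refine ⟨_, pt, ?_, nH _ nU, nY, nQ, nO⟩
  have := hh c0 1
  rw [mul_one, ← ec] at this
  calc _ = S.h 33 ν⁻¹ * g * (S.h 33 c * S.x 44 1 * (S.h 33 c)⁻¹) * (S.h 33 ν⁻¹ * g)⁻¹ := by group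
    _ = _ := by rw [this, ← e1]; group

theorem exists_sw (hb : IsConj t (t * S.x 44 1)) : ∃ p, Sw S t p := by
  have A := h.amb
  obtain ⟨g₀, hg₀⟩ := isConj_iff.1 hb
  obtain ⟨k₀, -, hg, nU⟩ := h.a1_U hg₀
  generalize k₀ * g₀ = g at hg nU
  have mX : ∀ {g : G} {r s : R4}, MulAut.conj g • S.X r = S.X s → ∀ c, c ≠ 0 →
      (∃ e, e ≠ 0 ∧ g * S.x r c * g⁻¹ = S.x s e) ∧ ∃ e, e ≠ 0 ∧ g * S.x r e * g⁻¹ = S.x s c := fun {g r s} e c hc => by
    obtain ⟨d, hd⟩ := S.mem_X_iff.1 (e.le (smul_mem_pointwise_smul _ _ _ (S.x_mem_X r c)))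
    obtain ⟨_, hx, hd'⟩ := e.ge (S.x_mem_X s c)
    obtain ⟨d', rfl⟩ := S.mem_X_iff.1 hx
    refine ⟨⟨d, fun k => hc ((A.x_eq_one (r := r)).1 (by simpa [k, S.x_zero] using hd)), hd⟩, d',
      fun k => hc ((A.x_eq_one (r := s)).1 ?_), hd'⟩
    rw [← hd', k, S.x_zero]; simp
  rcases A.perm_U nU with ⟨-, k⟩ | ⟨k1, k2⟩
  · exact h.a1_fin one_ne_zero hg nU (Core.mem_normalizer_iff_conj_smul_eq.2 k)
  by_cases hq : ∀ c : F, c ≠ 0 → c = 1
  swap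
  · push Not at hq
    obtain ⟨μ, μ0, μ1⟩ := hq
    obtain ⟨l, l0, el⟩ := (mX k1 1 one_ne_zero).2
    obtain ⟨ν, ν0, eν⟩ := (mX k1 (l + μ * l) fun e => μ1 (mul_right_cancel₀ l0 (by
      linear_combination e - CharTwo.add_self_eq_zero l))).1
    have hH := S.H_le_normalizer_UU (F := F) {47} (S.h_mem_H 24 μ0)
    refine h.a1_fin (g := g * S.h 24 μ * g⁻¹) ν0 ?_
      (mul_mem (mul_mem nU (S.H_le_normalizer_UU _ (S.h_mem_H 24 μ0))) (inv_mem nU))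
      (mem_normalizer_fintype fun x hx => k1.le ?_)
    · have e1 := A.h_conj 24 47 μ0 l
      rw [show cv 47 24 = 1 by decide +kernel, zpow_one] at e1
      have e2 : g⁻¹ * t * g = t * S.x 47 l := by
        rw [← A.x_inv, eq_mul_inv_iff_mul_eq]
        calc _ = g⁻¹ * (t * (g * S.x 47 l * g⁻¹)) * g := by group
          _ = _ := by rw [el, ← hg]; group
      calc _ = g * (S.h 24 μ * (g⁻¹ * t * g) * (S.h 24 μ)⁻¹) * g⁻¹ := by group
        _ = g * t * g⁻¹ * (g * S.x 47 (μ * l) * g⁻¹) := by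
          rw [e2, ← mul_assoc (S.h 24 μ), h.com (S.h_mem_grp _ _), ← e1]; group
        _ = _ := by rw [hg, ← eν, ← el, S.x_add]; group
    · obtain ⟨y, hy, rfl⟩ := k1.ge hx
      exact ⟨_, (mem_normalizer_iff.1 hH y).1 hy, by simp [mul_assoc]⟩
  have hq2 : Nat.card F = 2 := (Nat.card_eq_two_iff' (0 : F)).2 ⟨1, one_ne_zero, hq⟩
  by_cases hχ : ∃ x, x * S.x 44 1 = S.x 44 1 * x ∧ x * t * x⁻¹ = t * S.x 44 1
  · obtain ⟨x, x1, x2⟩ := hχ
    obtain ⟨k, hk, e1, e2⟩ := h.a1_U x2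
    rcases A.perm_U e2 with ⟨-, k⟩ | ⟨k1, -⟩
    · exact h.a1_fin one_ne_zero e1 e2 (Core.mem_normalizer_iff_conj_smul_eq.2 k)
    obtain ⟨e, e0, he⟩ := (mX k1 1 one_ne_zero).1
    refine absurd (A.lg_of_conj (mem_cj_UU.1 hk) (r := 47) (s := 44) (e := 1) one_ne_zero ?_) (by decide)
    calc _ = x⁻¹ * (k * x * S.x 47 1 * (k * x)⁻¹) * x := by group
      _ = _ := by rw [he, hq e e0, mul_assoc, ← x1, inv_mul_cancel_left]
  exfalso
  obtain ⟨e, e0, ga⟩ := (mX k1 1 one_ne_zero).1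
  obtain ⟨e', e0', gb⟩ := (mX k2 1 one_ne_zero).1
  rw [hq e e0] at ga
  rw [hq e' e0'] at gb
  have sq : ∀ y, g * g * y * (g * g)⁻¹ = g * (g * y * g⁻¹) * g⁻¹ := fun y => by group
  have pa : g * g * S.x 47 1 * (g * g)⁻¹ = S.x 47 1 := by rw [sq, ga, gb]
  have pb : g * g * S.x 44 1 * (g * g)⁻¹ = S.x 44 1 := by rw [sq, gb, ga]
  have pt : g * g * t * (g * g)⁻¹ = t * ic S := by
    rw [sq, hg, ← conj_mul, hg, gb, mul_assoc, A.com (by decide +kernel)]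
  generalize g * g = p at pa pb pt
  have pb' : Commute p (S.x 44 1) := mul_inv_eq_iff_eq_mul.1 pb
  refine A.qf (g := p) hq2 (χ := fun v => ∃ x, x * S.x 44 1 = S.x 44 1 * x ∧ x * t * x⁻¹ = t * v)
    ⟨1, by simp, by simp⟩ (fun ⟨x, x1, x2⟩ => hχ ⟨p⁻¹ * x, pb'.inv_left.mul_left x1, ?_⟩) hχ ⟨p, pb', pt⟩
    (fun y hy v => ?_) ?_ pa pb fun v _ => ⟨fun ⟨x, x1, x2⟩ => ⟨p * x, pb'.mul_left x1, ?_⟩,
      fun ⟨x, x1, x2⟩ => ⟨p⁻¹ * x, pb'.inv_left.mul_left x1, ?_⟩⟩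
  · calc _ = p⁻¹ * (x * t * x⁻¹) * p := by group
      _ = p⁻¹ * (t * ic S * S.x 44 1) * p := by rw [x2, mul_assoc t, mul_assoc (S.x 47 1), A.x_sq, mul_one]
      _ = _ := by rw [← pt]; nth_rw 1 [← pb]; group
  · have y1 : Commute y (S.x 44 1) := (A.Y_le_cent 44 hy _ (S.x_mem_X 44 1)).symm
    have y2 := h.com (S.UU_le_grp _ hy)
    refine ⟨fun ⟨x, x1, x2⟩ => ⟨y⁻¹ * x, y1.inv_left.mul_left x1, ?_⟩, fun ⟨x, x1, x2⟩ => ⟨y * x, y1.mul_left x1, ?_⟩⟩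
    · calc _ = y⁻¹ * (x * t * x⁻¹) * y := by group
        _ = _ := by rw [x2, ← mul_assoc t, ← mul_assoc t, ← y2]; group
    · calc _ = y * (x * t * x⁻¹) * y⁻¹ := by group
        _ = _ := by rw [x2, ← mul_assoc, y2]; group
  · refine ((h.swc pt (by rw [← conj_mul, pa, pb])).resolve_right fun k => ?_).2.2
    exact PM.nmem A (r := 47) (s := 44) (by decide) (pa ▸ k.1.le (smul_mem_pointwise_smul _ _ _ (S.x_mem_X 47 1)))
  · calc _ = p * (x * t * x⁻¹) * p⁻¹ := by group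
      _ = _ := by rw [x2, ← conj_mul, pt, mul_assoc]
  · calc _ = p⁻¹ * (x * t * x⁻¹) * p := by group
      _ = _ := by rw [x2, ← mul_assoc t, ← pt]; group

theorem two_of_sw {p : G} (hp : Sw S t p) : Two S := by
  refine h.two_of fun c hc e => ?_
  have h' := h.cj p
  obtain ⟨c', k, hk, e'⟩ := h'.amb.cen_Y
    (h.fa_NL hp.pt (by rw [← e, mul_assoc]) (mem_centralizer_iff.1 hc _ (S.x_mem_grp _ _)).symm) 44
    (mem_centralizer_iff.2 fun u hu => mem_centralizer_iff.1 hc u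
      (S.UU_le_grp _ ((mem_normalizer_iff''.1 hp.nY _).2 (mem_cj_UU.1 hu))))
  rcases h'.eq_t (e ▸ a1_sq h'.amb hk e') h.t2 (by
    rw [hp.pt, mul_assoc, h.com (S.x_mem_grp _ _)]) with e1 | e1
  · exact h.t1 e1
  · rw [hp.pt, left_eq_mul, h.amb.x_eq_one] at e1
    exact one_ne_zero e1

end Sit

theorem Amb.norm_V (A : Amb S) {g : G} (hg : g ∈ normalizer (Q4 S 44 : Set G)) :
    g ∈ normalizer (V4 S 44 : Set G) ∧ g ∈ normalizer (S.X 44 : Set G) := by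
  have c : ∀ {u}, u ∈ Q4 S 44 → g * u * g⁻¹ ∈ Q4 S 44 := (mem_normalizer_iff.1 hg _).1
  refine ⟨mem_normalizer_fintype fun v hv => ?_, mem_normalizer_fintype fun v hv => ?_⟩
  · have h1 := S.UU_le_grp _ (c (A.V_le_Q 44 hv))
    obtain ⟨w, hw, k, hk, e⟩ := A.cen_Q (aa_grp_le h1) 44 fun u hu => by
      have := A.Q_le_cent 44 ((mem_normalizer_iff''.1 hg _).1 hu) v hv
      calc u * (g * v * g⁻¹) = g * (g⁻¹ * u * g * v) * g⁻¹ := by group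
        _ = _ := by rw [← this]; group
    rwa [e, A.eq_one ((mul_mem_cancel_left (S.UU_le_grp _ hw)).1 (e ▸ h1)) hk, mul_one]
  · obtain ⟨d, rfl⟩ := S.mem_X_iff.1 hv
    have := A.comm_Q 44 (c (S.x_mem_UU (r := 33) (by decide +kernel) d)) (c (S.x_mem_UU (r := 40) (by decide +kernel) 1))
    rw [← mul_one d, ← A.rel.cm 33 40 44 (by decide +kernel)]
    rwa [conj_inv, conj_inv, conj_mul, conj_mul, conj_mul] at this

end CfsgLib.SLF
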