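import Mathlib
import Cfsg.Agent.Lib.SLF.A1

/-!
# The case `q > 2`
-/

set_option autoImplicit false
set_option linter.unusedSectionVars false

namespace CfsgLib.SLF

open Cfsg.Lie CfsgLib.RGD CfsgLib.Stein CfsgLib.Semi CfsgLib.SLE CfsgLib.UFP Subgroup
open scoped commutatorElement Pointwise

universe u

variable {F : Type} [Field F] [Finite F] [CharP F 2] {G : Type u} [Group G] [Finite G]
  {S : StSys ΦF4 F G}

theorem layQ : Lay4 {r | 33 ≤ r.1} {r | 41 ≤ r.1} :=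
  ⟨fun r (hr : 33 ≤ r.1) => by omega, fun r (hr : 41 ≤ r.1) => show 33 ≤ r.1 by omega, fun a ha b hb => cz_iff.2
    ((show ∀ a b : R4, 33 ≤ a.1 → 33 ≤ b.1 → 0 ≤ ip4 a b ∨ (a.1 + b.1 ≠ 47 ∧ 41 ≤ (rf4 a b).1 ∧ 41 ≤ (rf4 b a).1) by
      decide +kernel) a b ha hb)⟩

/-- the elements on which `h` acts trivially modulo `K` form a subgroup -/
theorem a2_ind {T : Set R4} {K : Subgroup G} (hK : S.UU T ≤ normalizer (K : Set G)) {h : G}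
    (hx : ∀ r ∈ T, ∀ c, h * S.x r c * h⁻¹ * (S.x r c)⁻¹ ∈ K) {y : G} (hy : y ∈ S.UU T) : h * y * h⁻¹ * y⁻¹ ∈ K := by
  refine S.UU_induction (p := fun y => h * y * h⁻¹ * y⁻¹ ∈ K) (by simp) (fun r hr c g hg ih => ?_) hy
  have := mul_mem ih ((mem_normalizer_iff.1 (hK hg) _).1 (hx r hr c))
  convert this using 1
  group

theorem Amb.x_mem_Q44 (A : Amb S) {r : R4} (hr : 33 ≤ r.1) (c : F) : S.x r c ∈ Q4 S 44 :=
  A.Q44_eq.ge (S.x_mem_UU hr c)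

theorem Amb.x_mem_V44 (A : Amb S) {r : R4} (hr : 41 ≤ r.1) (c : F) : S.x r c ∈ V4 S 44 :=
  A.V44_eq.ge (S.x_mem_UU hr c)

theorem Amb.Q_le_Y (A : Amb S) (r : R4) : Q4 S r ≤ Y4 S r := (A.Q_le_Yo r).trans (A.Yo_le_Y r)

theorem Amb.X_le_V44 (A : Amb S) : S.X 44 ≤ V4 S 44 := fun x hx => by
  obtain ⟨c, rfl⟩ := S.mem_X_iff.1 hx
  exact A.x_mem_V44 (by decide) c

theorem Amb.eq_zero_of_V44 (A : Amb S) {r : R4} (h1 : 24 ≤ r.1) (h2 : r.1 ≤ 40) {c : F} (h : S.x r c ∈ V4 S 44) :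
    c = 0 := by
  rw [← A.cf_x_self h1 c]
  exact A.cf_eq_zero (cl_Ug (by norm_num)) (fun r (hr : 41 ≤ r.1) => by omega) (A.V44_eq.le h)
    (show ¬ 41 ≤ r.1 by omega)

/-- the commutator form of `Q'` -/
theorem Amb.exists_bf (A : Amb S) : ∃ bf : G → G → F,
    (∀ u ∈ Q4 S 44, ∀ v ∈ Q4 S 44, u * v * u⁻¹ * v⁻¹ = S.x 44 (bf u v)) ∧
    ∀ u ∈ Q4 S 44, ∀ a b, Cm a b 44 → 33 ≤ a.1 → 33 ≤ b.1 → ∀ c, bf u (S.x b c) = cf4 S u a * c := by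
  have key : ∀ u ∈ Q4 S 44, ∀ v ∈ Q4 S 44, u * v * u⁻¹ * v⁻¹ = S.x 44 (cf4 S (u * v * u⁻¹ * v⁻¹) 44) :=
    fun u hu v hv => by
      obtain ⟨c, e⟩ := S.mem_X_iff.1 (A.comm_Q 44 hu hv)
      rw [e, A.cf_x_self (by decide)]
  refine ⟨fun u v => cf4 S (u * v * u⁻¹ * v⁻¹) 44, key, fun u hu a b hc ha hb c => ?_⟩
  have t1 : ∀ a b : R4, 33 ≤ a.1 → 33 ≤ b.1 → (0 ≤ ip4 a b ∨ Ad a b 44) ∧ (Cm a b 44 → a.1 ≤ 40) := by decide +kernel
  have hx := A.x_mem_Q44 hb c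
  refine A.eq_of_add (T := {r | 33 ≤ r.1}) (f := fun u => cf4 S (u * S.x b c * u⁻¹ * (S.x b c)⁻¹) 44)
    (g := fun u => cf4 S u a * c) (fun u hu v hv => A.nd.x_injective 44 ?_) (fun u hu v hv => ?_)
    (fun r hr d => ?_) (A.Q44_eq.le hu)
  · replace hu := A.Q44_eq.ge hu
    replace hv := A.Q44_eq.ge hv
    have := A.Y_le_cent 44 (A.Q_le_Y 44 hu) _ (A.comm_Q 44 hv hx)
    rw [← key _ (mul_mem hu hv) _ hx, add_comm, S.x_add, ← key _ hu _ hx, ← key _ hv _ hx,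
      ← mul_assoc, ← mul_assoc, ← mul_assoc, this]
    group
  · simp only [A.cf_mul layQ hu hv (show ¬ 41 ≤ a.1 by have := (t1 a b ha hb).2 hc; omega), add_mul]
  · by_cases e : r = a
    · simp only [e, A.rel.cm a b 44 hc, A.cf_x_self (show 24 ≤ (44 : R4).1 by decide), A.cf_x_self (show 24 ≤ a.1 by omega)]
    · have := ((t1 r b hr hb).1.resolve_right fun k => e (wt_inj (add_right_cancel (k.trans (Eq.symm hc.1)))))
      simp only [A.com this, mul_inv_cancel_right, mul_inv_cancel, A.cf_one,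
        A.cf_x_ne (show 24 ≤ r.1 by have : 33 ≤ r.1 := hr; omega) (Ne.symm e), zero_mul]

/-- an automorphism of `Q' / V'` which commutes with `Y'` is a scalar -/
theorem Amb.scalar (A : Amb S) {k : G} (hQ : k ∈ normalizer (Q4 S 44 : Set G))
    (hY : ∀ y ∈ Y4 S 44, k * y * k⁻¹ * y⁻¹ ∈ Q4 S 44) : ∃ μ : F, μ ≠ 0 ∧
      (∀ r : R4, 33 ≤ r.1 → r.1 ≤ 40 → ∀ c, k * S.x r c * k⁻¹ * (S.x r (μ * c))⁻¹ ∈ V4 S 44) ∧
      ∀ c, k * S.x 44 c * k⁻¹ = S.x 44 (μ ^ 2 * c) := by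
  have hV := (A.norm_V hQ).1
  have fQ : ∀ {v : G}, v ∈ Q4 S 44 → k * v * k⁻¹ ∈ Q4 S 44 := fun hv => (mem_normalizer_iff.1 hQ _).1 hv
  have yQ : ∀ {y v : G}, y ∈ Y4 S 44 → v ∈ Q4 S 44 → y * v * y⁻¹ ∈ Q4 S 44 := fun hy hv =>
    (mem_normalizer_iff.1 (A.Y_norm_Q 44 hy) _).1 hv
  have yV : ∀ {y v : G}, y ∈ Y4 S 44 → v ∈ V4 S 44 → y * v * y⁻¹ ∈ V4 S 44 := fun hy hv =>
    (mem_normalizer_iff.1 (A.Y_norm_V 44 hy) _).1 hv
  have key : ∀ {y v w : G}, y ∈ Y4 S 44 → v ∈ Q4 S 44 → k * v * k⁻¹ * w⁻¹ ∈ V4 S 44 →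
      k * (y * v * y⁻¹) * k⁻¹ * (y * w * y⁻¹)⁻¹ ∈ V4 S 44 := fun {y v w} hy hv hw => by
    have := mul_mem (A.X_le_V44 (A.comm_Q 44 (hY y hy) (yQ hy (fQ hv)))) (yV hy hw)
    convert this using 1
    group
  have eV : V4 S 44 = UL S [41, 42, 43, 44, 45, 46, 47] := by
    rw [A.V44_eq]
    exact congrArg S.UU (Set.ext (show ∀ r : R4, 41 ≤ r.1 ↔ r ∈ ([41, 42, 43, 44, 45, 46, 47] : List R4) by decide))
  obtain ⟨φ, base⟩ : ∃ φ : F → F, ∀ c, k * S.x 40 c * k⁻¹ * (S.x 40 (φ c))⁻¹ ∈ V4 S 44 := by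
    refine ⟨fun c => cf4 S (k * S.x 40 c * k⁻¹) 40, fun c => ?_⟩
    have hx := A.x_mem_Q44 (r := 40) (by decide) c
    have h1 := A.elimL (T := [24, 25, 27, 33, 34, 35, 36, 37, 38, 39, 40]) (Z := [40, 41, 42, 43, 44, 45, 46, 47])
      (K := [41, 42, 43, 44, 45, 46, 47]) (show ElC _ _ _ by decide +kernel) (Ug_le_U (by norm_num) (A.Q44_eq.le (fQ hx)))
      fun a ha => eV.le (by
        rcases (show ∀ a ∈ ([24, 25, 27, 33, 34, 35, 36, 37, 38, 39, 40] : List R4),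
          33 ≤ a.1 ∨ (0 ≤ ip4 a 44 ∧ 0 ≤ ip4 a 40) by decide +kernel) a ha with e | e
        · exact A.X_le_V44 (A.comm_Q 44 (fQ hx) (A.x_mem_Q44 e 1))
        · have := key (w := k * S.x 40 c * k⁻¹) (S.x_mem_UU e.1 1) hx (by simp)
          rw [A.com e.2, mul_inv_cancel_right] at this
          convert this using 1
          group)
    have h2 := yV (S.x_mem_UU (r := 40) (by decide +kernel) (cf4 S (k * S.x 40 c * k⁻¹) 40)) (A.V44_eq.ge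
      (A.peel (r := 40) (by decide) (S.UU_mono (by intro r; revert r; decide +kernel) h1)))
    rwa [mul_inv_cancel_left] at h2
  have all : ∀ r : R4, 33 ≤ r.1 → r.1 ≤ 40 → ∀ c, k * S.x r c * k⁻¹ * (S.x r (φ c))⁻¹ ∈ V4 S 44 := fun r h1 h2 c => by
    obtain ⟨L, hL, rfl⟩ := (show ∀ r : R4, 33 ≤ r.1 → r.1 ≤ 40 → ∃ L ∈ ([[], [27], [25, 27], [24, 25, 27], [27, 25, 27],
      [27, 24, 25, 27], [25, 27, 24, 25, 27], [27, 25, 27, 24, 25, 27]] : List (List R4)), wd L 40 = r by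
        decide +kernel) r h1 h2
    rw [← A.ex_nw, ← A.ex_nw]
    refine key (nw_mem_UU ?_) (A.x_mem_Q44 (by decide) c) (base c)
    revert L; decide +kernel
  have lin : ∀ e, φ e = φ 1 * e := fun e => by
    have h1 := key (S.x_mem_UU (r := 27) (by decide +kernel) e) (A.x_mem_Q44 (by decide) 1)
      (all 39 (by decide) (by decide) 1)
    rw [A.conj_cm (k := 40) (by decide +kernel), A.conj_cm (k := 40) (by decide +kernel), mul_one] at h1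
    have h2 := mul_mem (inv_mem (base e)) (yV (inv_mem (S.x_mem_UU (r := 39) (by decide +kernel) (φ 1)))
      (mul_mem (inv_mem (all 39 (by decide) (by decide) 1)) h1))
    rw [show (k * S.x 40 e * k⁻¹ * (S.x 40 (φ e))⁻¹)⁻¹ * ((S.x 39 (φ 1))⁻¹ * ((k * S.x 39 1 * k⁻¹ * (S.x 39 (φ 1))⁻¹)⁻¹ *
      (k * (S.x 39 1 * S.x 40 e) * k⁻¹ * (S.x 39 (φ 1) * S.x 40 (e * φ 1))⁻¹)) * (S.x 39 (φ 1))⁻¹⁻¹) =
      S.x 40 (φ e) * (S.x 40 (e * φ 1))⁻¹ by group, ← S.x_sub] at h2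
    rw [mul_comm, ← sub_eq_zero, A.eq_zero_of_V44 (by decide) (by decide) h2]
  refine ⟨φ 1, fun e => one_ne_zero (A.eq_zero_of_V44 (r := 40) (by decide) (by decide)
    ((mem_normalizer_iff.1 hV _).2 (by simpa [e, S.x_zero] using base 1))), fun r h1 h2 c => lin c ▸ all r h1 h2 c,
    fun c => ?_⟩
  obtain ⟨v, hv, ev⟩ : ∃ v ∈ V4 S 44, k * S.x 33 c * k⁻¹ = v * S.x 33 (φ c) :=
    ⟨_, all 33 (by decide) (by decide) c, by group⟩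
  obtain ⟨w, hw, ew⟩ : ∃ w ∈ V4 S 44, k * S.x 40 1 * k⁻¹ = w * S.x 40 (φ 1) := ⟨_, base 1, by group⟩
  have c1 : ∀ {v u}, v ∈ V4 S 44 → u ∈ Q4 S 44 → Commute v u := fun hv hu => A.Q_le_cent 44 hu _ hv
  have m1 := A.x_mem_Q44 (r := 33) (by decide) (φ c)
  have m2 := A.x_mem_Q44 (r := 40) (by decide) (φ 1)
  rw [show φ 1 ^ 2 * c = φ c * φ 1 by rw [lin c]; ring, ← mul_one c, ← A.rel.cm 33 40 44 (by decide +kernel),
    ← A.rel.cm 33 40 44 (by decide +kernel), ← conj_mul, ← conj_mul, ← conj_mul, ← conj_inv, ← conj_inv, mul_one, ev, ew]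
  calc _ = v * (S.x 33 (φ c) * (w * S.x 40 (φ 1)) * (S.x 33 (φ c))⁻¹) * v⁻¹ * (w * S.x 40 (φ 1))⁻¹ := by group
    _ = S.x 33 (φ c) * w * S.x 40 (φ 1) * (S.x 33 (φ c))⁻¹ * (S.x 40 (φ 1))⁻¹ * w⁻¹ := by
      rw [(c1 hv (mul_mem (mul_mem m1 (mul_mem (A.V_le_Q 44 hw) m2)) (inv_mem m1))).eq]; group
    _ = w * (S.x 33 (φ c) * S.x 40 (φ 1) * (S.x 33 (φ c))⁻¹ * (S.x 40 (φ 1))⁻¹) * w⁻¹ := by
      rw [← (c1 hw m1).eq]; group
    _ = _ := by rw [(c1 hw (mul_mem (mul_mem (mul_mem m1 m2) (inv_mem m1)) (inv_mem m2))).eq, mul_inv_cancel_right]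

theorem Sit.tv_of_sw {t p : G} (h : Sit S t) (hq : Nat.card F ≠ 2) (hp : Sw S t p) : ∃ p', Tv S t p' := by
  have A := h.amb
  obtain ⟨l, l0, l1⟩ : ∃ l : F, l ≠ 0 ∧ l ≠ 1 := by
    by_contra! hc
    exact hq ((Nat.card_eq_two_iff' (0 : F)).2 ⟨1, one_ne_zero, hc⟩)
  have nH : ∀ {c : F}, c ≠ 0 → ∀ T, S.h 44 c ∈ normalizer (S.UU T : Set G) := fun hc T =>
    S.H_le_normalizer_UU _ (S.h_mem_H 44 hc)
  have hh : ∀ {c : F}, c ≠ 0 → ∀ r u, S.h 44 c * S.x r u * (S.h 44 c)⁻¹ = S.x r (c ^ ip4 r 44 * u) :=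
    fun hc r u => by rw [A.h_conj _ _ hc, cv, if_neg (by decide +kernel)]
  have hZ : ∀ {c : F}, c ≠ 0 → ∀ u, S.h 44 c * S.x 44 u * (S.h 44 c)⁻¹ = S.x 44 (c ^ 2 * u) :=
    fun hc u => by rw [hh hc, show ip4 44 44 = 2 by decide +kernel]; norm_cast
  obtain ⟨k, ek⟩ : ∃ k, k = p * S.h 44 l * p⁻¹ := ⟨_, rfl⟩
  have kn : ∀ T, p ∈ normalizer (S.UU T : Set G) → k ∈ normalizer (S.UU T : Set G) :=
    fun T hT => ek ▸ mul_mem (mul_mem hT (nH l0 T)) (inv_mem hT)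
  obtain ⟨μ, μ0, m1, m2⟩ := A.scalar (kn _ hp.nQ) fun y hy => by
    have := (mem_normalizer_iff.1 hp.nQ _).1 (a2_ind (h := S.h 44 l) (A.Y_norm_Q 44) (fun r hr c => by
      rcases (show 0 ≤ ip4 r 44 from hr).eq_or_lt with e | e
      · rw [hh l0, ← e]; simp
      · rw [hh l0]; exact mul_mem (S.x_mem_UU e _) (inv_mem (S.x_mem_UU e _)))
      ((mem_normalizer_iff''.1 hp.nY _).1 hy))
    convert this using 1
    rw [ek]
    group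
  have two : (1 : F) + 1 = 0 := CharTwo.add_self_eq_zero 1
  have nV := mul_mem (A.norm_V (kn _ hp.nQ)).1 (inv_mem (nH μ0 _))
  refine ⟨k * (S.h 44 μ)⁻¹, ⟨1 + μ ^ 2, fun e => l1 ?_, ?_⟩, mul_mem (kn _ hp.nY) (inv_mem (nH μ0 _)),
    fun v hv => a2_ind (A.Q44_eq.ge.trans ((A.Q_le_Y 44).trans (A.Y_norm_V 44))) (fun r hr c => ?_) (A.Q44_eq.le hv),
    fun o h1 h2 h3 => (show Commute k o from ek ▸ hp.nO _ (S.h_mem_grp _ _) o h1 h2 h3).mul_left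
      (Commute.inv_left (mem_centralizer_iff.1 h1 _ (S.h_mem_grp _ _)))⟩
  · have e1 := m2 1
    rw [show μ ^ 2 = 1 by linear_combination e - two, mul_one, ek, ← hp.pb] at e1
    have e2 : S.h 44 l * S.x 44 1 * (S.h 44 l)⁻¹ = S.x 44 1 := by
      calc _ = p⁻¹ * (p * S.h 44 l * p⁻¹ * (p * S.x 44 1 * p⁻¹) * (p * S.h 44 l * p⁻¹)⁻¹) * p := by group
        _ = _ := by rw [e1]; group
    rw [hZ l0] at e2
    have e3 := A.nd.x_injective _ e2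
    exact sub_eq_zero.1 (pow_eq_zero_iff two_ne_zero |>.1
      (show (l - 1) ^ 2 = 0 by linear_combination e3 + (1 - l) * two))
  · have e1 : k * (t * S.x 44 1) * k⁻¹ = t * S.x 44 1 := by
      rw [← hp.pt, ek, (h.cj p).com (Sit.a1_cj (S.h_mem_grp _ _)), mul_inv_cancel_right]
    calc _ = k * ((S.h 44 μ)⁻¹ * t) * S.h 44 μ * k⁻¹ := by group
      _ = k * (t * (S.x 44 1 * S.x 44 1)) * k⁻¹ := by
        rw [h.com (inv_mem (S.h_mem_grp _ _)), A.x_sq]; group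
      _ = k * (t * S.x 44 1) * k⁻¹ * (k * S.x 44 1 * k⁻¹) := by group
      _ = _ := by rw [e1, m2, mul_one, S.x_add, mul_assoc]
  · by_cases e : 41 ≤ r.1
    · exact mul_mem ((mem_normalizer_iff.1 nV _).1 (A.x_mem_V44 e c)) (inv_mem (A.x_mem_V44 e c))
    have e1 := hh μ0 r (μ⁻¹ * c)
    have := m1 r hr (by omega) (μ⁻¹ * c)
    rw [(show ∀ r : R4, 33 ≤ r.1 → ¬ 41 ≤ r.1 → ip4 r 44 = 1 by decide +kernel) r hr e, zpow_one] at e1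
    rw [mul_inv_cancel_left₀ μ0] at e1 this
    convert this using 2
    rw [← e1]; group

end CfsgLib.SLF
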