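import Mathlib
import Cfsg.Agent.Lib.SLF.A1
import Cfsg.Agent.Lib.SLE.A2b

/-!
# The case `q = 2`, first step
-/

set_option autoImplicit false
set_option linter.unusedSectionVars false

namespace CfsgLib.SLF

open Cfsg.Lie CfsgLib.RGD CfsgLib.Stein CfsgLib.Semi CfsgLib.SLE CfsgLib.UFP Subgroup
open scoped commutatorElement Pointwise

universe u

variable {F : Type} [Field F] [Finite F] [CharP F 2] {G : Type u} [Group G] [Finite G]
  {S : StSys ΦF4 F G}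

/-- the elements normalising `V` and fixing `b` modulo `V` -/
def a2bSt (V : Subgroup G) (b : G) : Subgroup G where
  carrier := {g | g ∈ normalizer (V : Set G) ∧ g * b * g⁻¹ * b⁻¹ ∈ V}
  one_mem' := ⟨one_mem _, by simp⟩
  mul_mem' := by
    rintro g h ⟨hg, hg'⟩ ⟨hh, hh'⟩
    refine ⟨mul_mem hg hh, ?_⟩
    convert mul_mem (conj_mem hg hh') hg' using 1
    group
  inv_mem' := by
    rintro g ⟨hg, hg'⟩
    refine ⟨inv_mem hg, ?_⟩
    convert conj_mem' hg (inv_mem hg') using 1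
    group

theorem Amb.a2b_Kl (A : Amb S) {r : R4} (h : ∀ b ∈ lY2, CzL lY2 r b ∧ CzL lR2 r b) (c : F) :
    S.x r c ∈ a2Kl (UL S lY2) (UL S lR2) := by
  have m : S.x r c ∈ UL S [r] := S.x_mem_UU (List.mem_singleton_self r) c
  refine ⟨A.norm_UL (fun a ha b hb => by rw [List.mem_singleton.1 ha]; exact (h b hb).1) m, fun v hv => ?_⟩
  refine A.comm_UU (T := {s | s ∈ [r]}) (fun a ha b hb => ?_) (A.norm_UL fun a ha b hb => ?_)
    (A.norm_UL (by decide +kernel)) m hv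
  · rw [List.mem_singleton.1 ha]; exact (h b hb).2.cz
  · rw [List.mem_singleton.1 ha]
    exact (h b ((show ∀ b ∈ lR2, b ∈ lY2 by decide) b hb)).2

theorem Sit.a2b_norm {t p : G} (h : Sit S t) (hq : Nat.card F = 2) (hp : Sw S t p) :
    p ∈ normalizer (UL S lY2 : Set G) := by
  have A := h.amb
  have nV := (A.norm_V hp.nQ).1
  have YV := A.Y_norm_V 44
  rw [A.V44_eq] at nV YV
  have b' : S.x 40 1 ∈ Ug S 40 := S.x_mem_UU (le_refl 40) 1
  have uU : p * S.x 40 1 * p⁻¹ ∈ S.U := conj_mem hp.nU (x_mem_U4 (by decide) 1)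
  have u40 : p * S.x 40 1 * p⁻¹ ∈ Ug S 40 := by
    refine S.UU_mono (by intro r; revert r; decide) (A.elimL (T := [24, 25, 27, 33])
      (Z := [40, 41, 42, 43, 44, 45, 46, 47]) (K := [41, 42, 43, 44, 45, 46, 47])
      (show ElC _ _ _ by decide +kernel) uU fun a ha => ?_)
    refine S.UU_mono (Ψ := {r | 41 ≤ r.1}) (by intro r; revert r; decide) ?_
    have := A.comm_Ug (by omega) (conj_mem' hp.nU (x_mem_U4 (r := a) (by revert a; decide) 1)) b'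
    convert conj_mem nV (inv_mem this) using 1
    group
  have pe := A.peel (r := 40) (by decide) u40
  have c1 : cf4 S (p * S.x 40 1 * p⁻¹) 40 = 1 := a2_one hq fun e => by
    rw [e, S.x_zero, inv_one, one_mul] at pe
    have := A.cf_eq_zero (cl_Ug (by omega)) (fun _ h => le_trans (by omega) h)
      ((mem_normalizer_iff.1 nV _).2 pe) (r := 40) (by decide)
    rw [A.cf_x_self (by decide)] at this
    exact one_ne_zero this
  rw [c1] at pe
  have pS : p ∈ a2bSt (Ug S 41) (S.x 40 1) := ⟨nV, by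
    convert conj_mem (A.U_norm_Ug 41 (by omega) (x_mem_U4 (r := 40) (by decide) 1)) pe using 1
    group⟩
  have PY : UL S (33 :: lY2) ≤ Y4 S 44 := S.UU_mono (by intro r; revert r; decide)
  have PS : UL S (33 :: lY2) ≤ a2bSt (Ug S 41) (S.x 40 1) := S.UU_le_iff.2 fun r hr c =>
    ⟨YV (PY (S.x_mem_UU hr c)), A.comm_x (((show ∀ r ∈ 33 :: lY2, CzL [41, 42, 43, 44, 45, 46, 47] r 40 by
      decide +kernel) r hr).cz.mono (by intro r; revert r; decide)) c 1⟩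
  have nP : p ∈ normalizer (UL S (33 :: lY2) : Set G) := mem_normalizer_fintype fun y hy =>
    A.stab hq (conj_mem hp.nY (PY hy)) (A.V44_eq ▸ (mul_mem (mul_mem pS (PS hy)) (inv_mem pS)).2)
  rw [← A.der_P2 hq]
  exact LAE.le_normalizer_commutator le_rfl le_rfl nP

theorem Sit.sw2_of_sw {t p : G} (h : Sit S t) (hq : Nat.card F = 2) (hp : Sw S t p) : ∃ p', Sw2 S t p' := by
  have A := h.amb
  have pZ := (A.norm_V hp.nQ).2
  have n2 := h.a2b_norm hq hp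
  have czb : ∀ u v, S.x 40 u * S.x 44 v = S.x 44 v * S.x 40 u := A.com (by decide)
  have nW : p ∈ normalizer (UL S [40, 44] : Set G) := mem_normalizer_fintype fun w hw =>
    A.cen_Y2 (conj_mem hp.nU (UU_le_U4 (by decide) hw)) (mem_centralizer_iff.2 fun y hy => by
      have := A.commute_UU (by decide +kernel) (conj_mem' n2 hy) hw
      calc _ = p * (p⁻¹ * y * p * w) * p⁻¹ := by group
        _ = _ := by rw [this]; group)
  have YR : UL S lY2 ≤ normalizer (UL S lR2 : Set G) := A.norm_UL (by decide +kernel)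
  have nR : p ∈ normalizer (UL S lR2 : Set G) := mem_normalizer_fintype fun r hr =>
    A.o2_Y2 (P := (UL S lR2).map (MulAut.conj p).toMonoidHom) (by
      rintro _ ⟨r, hr, rfl⟩
      exact ⟨conj_mem hp.nU (UU_le_U4 (by decide) hr),
        conj_mem n2 (S.UU_mono (by intro r; revert r; decide) hr)⟩)
      (fun y hy => mem_normalizer_fintype (by
        rintro _ ⟨r, hr, rfl⟩
        exact ⟨_, conj_mem (YR (conj_mem' n2 hy)) hr, by simp [mul_assoc]⟩)) ⟨r, hr, rfl⟩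
  have aK : ∀ c, S.x 33 c ∈ a2Kl (UL S lY2) (UL S lR2) := A.a2b_Kl (by decide +kernel)
  have aK' : ∀ c, S.x 14 c ∈ a2Kl (UL S lY2) (UL S lR2) := A.a2b_Kl (by decide +kernel)
  have nK : S.n 33 1 ∈ a2Kl (UL S lY2) (UL S lR2) := A.n_eq 33 ▸ mul_mem (mul_mem (aK _) (aK' _)) (aK _)
  obtain ⟨e, c, pb⟩ := (A.mem_pair (by decide)).1 (conj_mem nW (S.x_mem_UU (r := 40) (by decide) 1))
  obtain rfl : e = 1 := a2_one hq fun e0 => by
    rw [e0, S.x_zero, one_mul] at pb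
    obtain ⟨c', e'⟩ := S.mem_X_iff.1 ((mem_normalizer_iff.1 pZ _).2 (pb ▸ S.x_mem_X 44 c))
    exact absurd (A.x_inj one_ne_zero e').1 (by decide)
  have az : S.x 33 c * S.x 44 1 = S.x 44 1 * S.x 33 c := A.com (by decide) _ _
  have ab := A.conj_cm (show Cm 33 40 44 by decide) c 1
  rw [mul_one, ← pb] at ab
  have az' := A.conj_cm (show Cm 14 44 40 by decide) 1 1
  rw [mul_one] at az'
  have ab' : S.x 14 1 * S.x 40 1 = S.x 40 1 * S.x 14 1 := A.com (by decide) _ _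
  have nb : S.n 33 1 * S.x 40 1 * (S.n 33 1)⁻¹ = S.x 44 1 := A.ex_n 33 40 1
  have nz : S.n 33 1 * S.x 44 1 * (S.n 33 1)⁻¹ = S.x 40 1 := A.ex_n 33 44 1
  obtain ⟨p₀, e₀⟩ : ∃ p₀, p₀ = (S.x 33 c)⁻¹ * p := ⟨_, rfl⟩
  have z₀ : p₀ * S.x 44 1 * p₀⁻¹ = S.x 44 1 := by
    calc _ = (S.x 33 c)⁻¹ * (p * S.x 44 1 * p⁻¹ * S.x 33 c) := by rw [e₀]; group
      _ = _ := by rw [hp.pb, ← az]; group
  have b₀ : p₀ * S.x 40 1 * p₀⁻¹ = S.x 40 1 := by
    calc _ = (S.x 33 c)⁻¹ * (p * S.x 40 1 * p⁻¹) * S.x 33 c := by rw [e₀]; group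
      _ = _ := by rw [← ab]; group
  have t₀ : p₀ * t * p₀⁻¹ = t * S.x 44 1 := by
    calc _ = (S.x 33 c)⁻¹ * (p * t * p⁻¹) * S.x 33 c := by rw [e₀]; group
      _ = (S.x 33 c)⁻¹ * t * (S.x 44 1 * S.x 33 c) := by rw [hp.pt]; group
      _ = _ := by rw [h.com (inv_mem (S.x_mem_grp _ _)), ← az]; group
  obtain ⟨k, ek⟩ : ∃ k, k = p₀ * S.x 14 1 * p₀⁻¹ := ⟨_, rfl⟩
  have kK : k ∈ a2Kl (UL S lY2) (UL S lR2) := by
    have h1 := mul_mem (inv_mem (aK c)).1 n2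
    have h2 := mul_mem (inv_mem (A.norm_UL (L := [33]) (L' := lR2) (by decide +kernel)
      (S.x_mem_UU (r := 33) (by decide) c))) nR
    rw [← e₀] at h1 h2
    exact ek ▸ a2Kl_conj h1 h2 (aK' 1)
  have kO : CO S t k := by
    have := ((CO.of_mem (t := t) (S.x_mem_grp 33 c)).inv.mul
      (hp.nO _ (S.x_mem_grp 14 1))).mul (CO.of_mem (S.x_mem_grp 33 c))
    convert this using 1
    rw [ek, e₀]
    group
  have kz : k * S.x 44 1 * k⁻¹ = S.x 44 1 * S.x 40 1 := by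
    calc _ = k * (p₀ * S.x 44 1 * p₀⁻¹) * k⁻¹ := by rw [z₀]
      _ = p₀ * (S.x 14 1 * S.x 44 1 * (S.x 14 1)⁻¹) * p₀⁻¹ := by rw [ek]; group
      _ = p₀ * S.x 44 1 * p₀⁻¹ * (p₀ * S.x 40 1 * p₀⁻¹) := by rw [az']; group
      _ = _ := by rw [z₀, b₀]
  have kb : k * S.x 40 1 * k⁻¹ = S.x 40 1 := by
    calc _ = k * (p₀ * S.x 40 1 * p₀⁻¹) * k⁻¹ := by rw [b₀]
      _ = p₀ * (S.x 14 1 * S.x 40 1) * (S.x 14 1)⁻¹ * p₀⁻¹ := by rw [ek]; group
      _ = _ := by rw [ab', ← mul_assoc, mul_inv_cancel_right, b₀]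
  have kt : k * t * k⁻¹ = t * S.x 40 1 := by
    have e1 : k * (t * S.x 44 1) * k⁻¹ = t * S.x 44 1 := by
      rw [← t₀, ek, (h.cj p₀).com (a1_mem_cj (S.x_mem_grp _ _)), mul_inv_cancel_right]
    calc _ = k * (t * (S.x 44 1 * S.x 44 1)) * k⁻¹ := by rw [A.x_sq, mul_one]
      _ = k * (t * S.x 44 1) * k⁻¹ * (k * S.x 44 1 * k⁻¹) := by group
      _ = t * (S.x 44 1 * S.x 44 1) * S.x 40 1 := by rw [e1, kz]; group
      _ = _ := by rw [A.x_sq, mul_one]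
  obtain ⟨m, em⟩ : ∃ m, m = k * S.x 14 1 := ⟨_, rfl⟩
  have mz : m * S.x 44 1 * m⁻¹ = S.x 44 1 := by
    calc _ = k * (S.x 14 1 * S.x 44 1 * (S.x 14 1)⁻¹) * k⁻¹ := by rw [em]; group
      _ = k * S.x 44 1 * k⁻¹ * (k * S.x 40 1 * k⁻¹) := by rw [az']; group
      _ = _ := by rw [kz, kb, mul_assoc, A.x_sq, mul_one]
  have mb : m * S.x 40 1 * m⁻¹ = S.x 40 1 := by
    calc _ = k * (S.x 14 1 * S.x 40 1) * (S.x 14 1)⁻¹ * k⁻¹ := by rw [em]; group
      _ = _ := by rw [ab', ← mul_assoc, mul_inv_cancel_right, kb]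
  have mt : m * t * m⁻¹ = t * S.x 40 1 := by
    calc _ = k * (S.x 14 1 * t) * (S.x 14 1)⁻¹ * k⁻¹ := by rw [em]; group
      _ = _ := by rw [h.com (S.x_mem_grp _ _), ← kt]; group
  have nt := h.com (S.n_mem_grp 33 1)
  have nO := CO.of_mem (t := t) (S.n_mem_grp 33 1)
  generalize S.n 33 1 = n at nK nb nz nt nO
  have pt : n * m * n⁻¹ * t * (n * m * n⁻¹)⁻¹ = t * S.x 44 1 := by
    calc _ = n * m * n⁻¹ * (t * n) * m⁻¹ * n⁻¹ := by group
      _ = n * (m * t * m⁻¹) * n⁻¹ := by rw [← nt]; group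
      _ = n * t * n⁻¹ * (n * S.x 40 1 * n⁻¹) := by rw [mt]; group
      _ = _ := by rw [nt, nb, mul_inv_cancel_right]
  have pz : n * m * n⁻¹ * S.x 44 1 * (n * m * n⁻¹)⁻¹ = S.x 44 1 := by
    calc _ = n * m * n⁻¹ * (n * S.x 40 1 * n⁻¹) * (n * m * n⁻¹)⁻¹ := by rw [nb]
      _ = n * (m * S.x 40 1 * m⁻¹) * n⁻¹ := by group
      _ = _ := by rw [mb, nb]
  have pb : n * m * n⁻¹ * S.x 40 1 * (n * m * n⁻¹)⁻¹ = S.x 40 1 := by
    calc _ = n * m * n⁻¹ * (n * S.x 44 1 * n⁻¹) * (n * m * n⁻¹)⁻¹ := by rw [nz]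
      _ = n * (m * S.x 44 1 * m⁻¹) * n⁻¹ := by group
      _ = _ := by rw [mz, nz]
  obtain ⟨nY, nQ, -⟩ := h.norm_of_swap one_ne_zero pt (mem_normalizer_fintype fun z hz => by
    obtain ⟨u, rfl⟩ := S.mem_X_iff.1 hz
    by_cases u0 : u = 0
    · rw [u0, S.x_zero, mul_one, mul_inv_cancel]
      exact one_mem _
    · rw [a2_one hq u0, pz]
      exact S.x_mem_X _ _)
  exact ⟨_, pt, pz, pb, nY, nQ, (mul_mem (mul_mem nK (em ▸ mul_mem kK (aK' 1))) (inv_mem nK)).2,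
    (nO.mul (em ▸ kO.mul (CO.of_mem (S.x_mem_grp _ _)))).mul nO.inv⟩

end CfsgLib.SLF
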