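import Mathlib
import Cfsg.Agent.Lib.SLF.A2a

/-!
# The case `q = 2`, second step
-/

set_option autoImplicit false
set_option linter.unusedSectionVars false

namespace CfsgLib.SLF

open Cfsg.Lie CfsgLib.RGD CfsgLib.Stein CfsgLib.Semi CfsgLib.SLE CfsgLib.UFP Subgroup
open scoped commutatorElement Pointwise

universe u

variable {F : Type} [Field F] [Finite F] [CharP F 2] {G : Type u} [Group G] [Finite G]
  {S : StSys ΦF4 F G}

theorem a2c_lay : Lay4 {r | 33 ≤ r.1} {r | 41 ≤ r.1} :=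
  ⟨fun _ h => le_trans (by omega) h, fun _ h => le_trans (by omega : 33 ≤ 41) h, fun a ha b hb =>
    cz_iff.2 ((show ∀ a b : R4, 33 ≤ a.1 → 33 ≤ b.1 → 0 ≤ ip4 a b ∨
      (a.1 + b.1 ≠ 47 ∧ 41 ≤ (rf4 a b).1 ∧ 41 ≤ (rf4 b a).1) by decide +kernel) a b ha hb)⟩

theorem a2c_tab : ∀ s r : R4, ip4 s 44 = 0 → 33 ≤ r.1 → 0 ≤ ip4 s r ∧ (∀ k : R4, 33 ≤ k.1 → k.1 ≤ 40 →
    0 < ip4 k s → rf4 s k ≠ r) ∨ (Cm s r (rf4 s r) ∨ Ls s r (rf4 s r) (rf4 r s) ∧ 41 ≤ (rf4 r s).1 ∨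
      Ls r s (rf4 r s) (rf4 s r) ∧ 41 ≤ (rf4 r s).1) ∧ 33 ≤ (rf4 s r).1 ∧ (r.1 ≤ 40 ↔ (rf4 s r).1 ≤ 40) ∧
        ∀ k : R4, 33 ≤ k.1 → k.1 ≤ 40 → (0 < ip4 k s ∧ rf4 s k = r ↔ k = rf4 s r) := by
  decide +kernel

theorem a2c_one (hq : Nat.card F = 2) {l : F} (hl : l ≠ 0) : l = 1 := by
  obtain ⟨y, -, hy⟩ := (Nat.card_eq_two_iff' (0 : F)).1 hq
  exact (hy l hl).trans (hy 1 one_ne_zero).symm

namespace Amb

variable (A : Amb S)
include A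

theorem a2c_x {r : R4} (c : F) (hr : 33 ≤ r.1 := by decide) : S.x r c ∈ Ug S 33 := S.x_mem_UU hr c

theorem a2c_nQ {y v : G} (hy : y ∈ Y4 S 44) (hv : v ∈ Ug S 33) : y * v * y⁻¹ ∈ Ug S 33 :=
  A.Q44_eq ▸ (mem_normalizer_iff.1 (A.Y_norm_Q 44 hy) v).1 (A.Q44_eq ▸ hv)

theorem a2c_nV {y v : G} (hy : y ∈ Y4 S 44) (hv : v ∈ Ug S 41) : y * v * y⁻¹ ∈ Ug S 41 :=
  A.V44_eq ▸ (mem_normalizer_iff.1 (A.Y_norm_V 44 hy) v).1 (A.V44_eq ▸ hv)

theorem a2c_cen {u v : G} (hu : u ∈ Ug S 33) (hv : v ∈ Ug S 41) : v * u = u * v :=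
  A.Q_le_cent 44 (A.Q44_eq ▸ hu) v (A.V44_eq ▸ hv)

theorem a2c_V {v : G} (hv : v ∈ Ug S 41) {k : R4} (h : k.1 ≤ 40) : cf4 S v k = 0 :=
  A.cf_eq_zero (cl_Ug (by omega)) (fun _ h => le_trans (by omega) h) hv (by simpa using by omega)

/-- the action of the Levi factor on `Q' / V'` -/
theorem a2c_act {s : R4} (hs : ip4 s 44 = 0) (e : F) {v : G} (hv : v ∈ Ug S 33) {k : R4}
    (h1 : 33 ≤ k.1) (h2 : k.1 ≤ 40) : cf4 S (S.x s e * v * (S.x s e)⁻¹) k =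
      cf4 S v k + if 0 < ip4 k s then e * cf4 S v (rf4 s k) else 0 := by
  have hk : k ∉ {r : R4 | 41 ≤ r.1} := by simpa using by omega
  have hy : S.x s e ∈ Y4 S 44 := S.x_mem_UU hs.ge e
  have hk' : 0 < ip4 k s → rf4 s k ∉ {r : R4 | 41 ≤ r.1} := (show ∀ s k : R4, ip4 s 44 = 0 →
    k.1 ≤ 40 → 0 < ip4 k s → ¬ 41 ≤ (rf4 s k).1 by decide +kernel) s k hs h2
  refine A.eq_of_add (T := {r | 33 ≤ r.1}) (f := fun v => cf4 S (S.x s e * v * (S.x s e)⁻¹) k)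
    (g := fun v => cf4 S v k + if 0 < ip4 k s then e * cf4 S v (rf4 s k) else 0)
    (fun u hu v hv => ?_) (fun u hu v hv => ?_) (fun r hr c => ?_) hv
  · rw [← conj_mul, A.cf_mul a2c_lay (A.a2c_nQ hy hu) (A.a2c_nQ hy hv) hk]
  · rw [A.cf_mul a2c_lay hu hv hk]
    split_ifs with h
    · rw [A.cf_mul a2c_lay hu hv (hk' h)]; ring
    · ring
  have hr' : 24 ≤ r.1 := le_trans (by omega) hr
  rcases a2c_tab s r hs hr with ⟨h3, h4⟩ | ⟨h3, h4, h5, h6⟩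
  · rw [A.com h3, mul_inv_cancel_right]
    split_ifs with h
    · rw [A.cf_x_ne hr' (h4 k h1 h2 h), mul_zero, add_zero]
    · rw [add_zero]
  have key : ∀ d, (rf4 s r).1 ≤ 40 → d = e * c → cf4 S (S.x (rf4 s r) d) k =
      if 0 < ip4 k s then e * cf4 S (S.x r c) (rf4 s k) else 0 := fun d _ hd => by
    by_cases e1 : k = rf4 s r
    · obtain ⟨e2, e3⟩ := (h6 k h1 h2).2 e1
      rw [if_pos e2, e3, e1, A.cf_x_self (le_trans (by omega) h4), A.cf_x_self hr', hd]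
    rw [A.cf_x_ne (le_trans (by omega) h4) e1]
    split_ifs with h
    · rw [A.cf_x_ne hr' fun e2 => e1 ((h6 k h1 h2).1 ⟨h, e2⟩), mul_zero]
    · rfl
  have key' : ∀ d, ((rf4 s r).1 ≤ 40 → d = e * c) → cf4 S (S.x (rf4 s r) d) k =
      if 0 < ip4 k s then e * cf4 S (S.x r c) (rf4 s k) else 0 := fun d hd => by
    by_cases e1 : (rf4 s r).1 ≤ 40
    · exact key d e1 (hd e1)
    rw [A.a2c_V (S.x_mem_UU (by simpa using by omega) d) h2]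
    split_ifs with h
    · rw [A.cf_x_ne hr' fun e2 => e1 (((h6 k h1 h2).1 ⟨h, e2⟩) ▸ h2), mul_zero]
    · rfl
  rcases h3 with h3 | ⟨h3, h7⟩ | ⟨h3, h7⟩
  · rw [A.conj_cm h3, A.cf_mul a2c_lay (S.x_mem_UU hr c) (S.x_mem_UU h4 _) hk, key' _ fun _ => rfl]
  · rw [A.conj_ls h3, A.cf_mul a2c_lay (S.x_mem_UU hr c) (mul_mem (S.x_mem_UU h4 _)
      (S.x_mem_UU (a2c_lay.sub h7) _)) hk, A.cf_mul a2c_lay (S.x_mem_UU h4 _)
      (S.x_mem_UU (a2c_lay.sub h7) _) hk, A.a2c_V (S.x_mem_UU h7 _) h2, add_zero, key' _ fun _ => rfl]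
  · have h8 : ¬ r.1 ≤ 40 := fun e1 => (show ∀ r : R4, 33 ≤ r.1 → r.1 ≤ 40 → ¬ Lg r by decide) r hr e1 h3.1
    rw [A.conj_sl h3, A.cf_mul a2c_lay (S.x_mem_UU hr c) (mul_mem (S.x_mem_UU (a2c_lay.sub h7) _)
      (S.x_mem_UU h4 _)) hk, A.cf_mul a2c_lay (S.x_mem_UU (a2c_lay.sub h7) _) (S.x_mem_UU h4 _) hk,
      A.a2c_V (S.x_mem_UU h7 _) h2, zero_add, key' _ fun e1 => absurd (h5.2 e1) h8]

theorem a2c_fix {s : R4} {v : G} (hv : v ∈ Ug S 33) (h : S.x s 1 * v * (S.x s 1)⁻¹ * v⁻¹ ∈ Ug S 41)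
    (k : R4) {r : R4} (hk : ip4 s 44 = 0 ∧ 33 ≤ k.1 ∧ k.1 ≤ 40 ∧ 0 < ip4 k s ∧ rf4 s k = r := by decide) :
    cf4 S v r = 0 := by
  have m := A.a2c_nQ (S.x_mem_UU hk.1.ge 1) hv
  have e := A.a2c_act hk.1 1 hv hk.2.1 hk.2.2.1
  rw [if_pos hk.2.2.2.1, hk.2.2.2.2, one_mul, ← inv_mul_cancel_right (S.x s 1 * v * _) v,
    A.cf_mul a2c_lay (Ug_mono (by omega) h) hv (by simpa using by omega), A.a2c_V h hk.2.2.1,
    zero_add] at e
  exact left_eq_add.1 e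

theorem a2c_mem {u v : G} (hu : u ∈ Ug S 33) (hv : v ∈ Ug S 33)
    (e : ∀ r ∈ ([33, 34, 35, 36, 37, 38, 39, 40] : List R4), cf4 S u r = cf4 S v r) : u * v⁻¹ ∈ Ug S 41 :=
  A.mul_inv_mem a2c_lay hu hv fun r h1 h2 => e r ((show ∀ r : R4, 33 ≤ r.1 → ¬ 41 ≤ r.1 →
    r ∈ ([33, 34, 35, 36, 37, 38, 39, 40] : List R4) by decide) r h1 h2)

/-- the coefficients at `33` and `40` are read off from commutators -/
theorem a2c_bf {u : G} (hu : u ∈ Ug S 33) :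
    u * S.x 40 1 * u⁻¹ * (S.x 40 1)⁻¹ = S.x 44 (cf4 S u 33) ∧
      u * S.x 33 1 * u⁻¹ * (S.x 33 1)⁻¹ = S.x 44 (cf4 S u 40) := by
  obtain ⟨bf, h1, h2⟩ := A.exists_bf
  rw [A.Q44_eq] at h1 h2
  exact ⟨by rw [h1 u hu _ (A.a2c_x 1), h2 u hu 33 40 (by decide) (by decide) (by decide), mul_one],
    by rw [h1 u hu _ (A.a2c_x 1), h2 u hu 40 33 (by decide) (by decide) (by decide), mul_one]⟩

variable {t p : G} (hp : Sw2 S t p)
include hp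

theorem a2c_pQ {v : G} (hv : v ∈ Ug S 33) : p * v * p⁻¹ ∈ Ug S 33 :=
  A.Q44_eq ▸ (mem_normalizer_iff.1 hp.nQ v).1 (A.Q44_eq ▸ hv)

theorem a2c_pV {v : G} : v ∈ Ug S 41 ↔ p * v * p⁻¹ ∈ Ug S 41 :=
  A.V44_eq ▸ mem_normalizer_iff.1 (A.norm_V hp.nQ).1 v

theorem a2c_p44 (hq : Nat.card F = 2) (c : F) : p * S.x 44 c * p⁻¹ = S.x 44 c := by
  by_cases c0 : c = 0
  · rw [c0, S.x_zero, mul_one, mul_inv_cancel]
  · rw [a2c_one hq c0, hp.pb]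

theorem a2c_33 (hq : Nat.card F = 2) {u : G} (hu : u ∈ Ug S 33) : cf4 S (p * u * p⁻¹) 33 = cf4 S u 33 := by
  refine A.nd.x_injective 44 ?_
  rw [← (A.a2c_bf (A.a2c_pQ hp hu)).1, ← A.a2c_p44 hp hq, ← (A.a2c_bf hu).1]
  conv_lhs => rw [← hp.pb']
  group

end Amb

theorem Sit.a2c_step {t : G} (h : Sit S t) (hq : Nat.card F = 2) (ρ k : R4) {D : List R4}
    (hc : ρ ∈ lR2 ∧ ip4 ρ 44 = 0 ∧ 0 ≤ ip4 ρ 40 ∧ 33 ≤ k.1 ∧ k.1 ≤ 40 ∧ 0 < ip4 k ρ ∧ rf4 ρ k = 33 ∧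
      ∀ j ∈ D, 33 ≤ j.1 ∧ j.1 ≤ 40 ∧ ¬ 0 < ip4 j ρ)
    (hp : ∃ p, Sw2 S t p ∧ ∀ j ∈ D, cf4 S (p * S.x 33 1 * p⁻¹) j = 0) :
    ∃ p, Sw2 S t p ∧ ∀ j ∈ k :: D, cf4 S (p * S.x 33 1 * p⁻¹) j = 0 := by
  obtain ⟨p, hp, h0⟩ := hp
  obtain ⟨c1, c2, c3, c4, c5, c6, c7, c8⟩ := hc
  have A := h.amb
  have hv := A.a2c_pQ hp (A.a2c_x (r := 33) 1)
  obtain ⟨g, hg⟩ : ∃ g, g = S.x ρ (cf4 S (p * S.x 33 1 * p⁻¹) k) := ⟨_, rfl⟩
  have gY : g ∈ Y4 S 44 := hg ▸ S.x_mem_UU c2.ge _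
  have gR : g ∈ UL S lR2 := hg ▸ S.x_mem_UU c1 _
  have gL : g ∈ S.grp := hg ▸ S.x_mem_grp _ _
  have e : ∀ x, g * p * x * (g * p)⁻¹ = g * (p * x * p⁻¹) * g⁻¹ := fun x => by group
  have gz : g * S.x 44 1 = S.x 44 1 * g := hg ▸ A.com c2.ge _ _
  refine ⟨g * p, ⟨?_, ?_, ?_, mul_mem (le_normalizer gY) hp.nY, mul_mem (A.Y_norm_Q _ gY) hp.nQ,
    fun y hy => ?_, fun o h1 h2 h3 => ?_⟩, fun j hj => ?_⟩
  · rw [e, hp.pt, ← mul_assoc, h.com gL, mul_assoc t, gz, ← mul_assoc, mul_inv_cancel_right]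
  · rw [e, hp.pb, gz, mul_inv_cancel_right]
  · rw [e, hp.pb', hg, A.com c3, mul_inv_cancel_right]
  · convert mul_mem (mul_mem gR (hp.nY2 y hy)) ((mem_normalizer_iff.1
      (A.norm_UL (L := lY2) (L' := lR2) (by decide +kernel) hy) _).1 (inv_mem gR)) using 1
    group
  · rw [mul_assoc, hp.co o h1 h2 h3, ← mul_assoc, h1 g gL, mul_assoc]
  rw [e, hg]
  rcases List.mem_cons.1 hj with rfl | hj
  · rw [A.a2c_act c2 _ hv c4 c5, if_pos c6, c7, A.a2c_33 hp hq (A.a2c_x 1), A.cf_x_self (by decide),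
      mul_one, CharTwo.add_self_eq_zero]
  · rw [A.a2c_act c2 _ hv (c8 j hj).1 (c8 j hj).2.1, if_neg (c8 j hj).2.2, h0 j hj, add_zero]

theorem Sit.tv_of_sw2 {t p : G} (h : Sit S t) (hq : Nat.card F = 2) (hp : Sw2 S t p) : ∃ p', Tv S t p' := by
  have A := h.amb
  obtain ⟨p, hp, h0⟩ := h.a2c_step hq 32 39 (by decide) (h.a2c_step hq 31 38 (by decide)
    (h.a2c_step hq 30 37 (by decide) (h.a2c_step hq 29 36 (by decide) (h.a2c_step hq 28 35 (by decide)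
      (h.a2c_step hq 27 34 (D := []) (by decide) ⟨p, hp, by simp⟩)))))
  simp only [List.forall_mem_cons, List.not_mem_nil, IsEmpty.forall_iff, implies_true, and_true] at h0
  obtain ⟨z39, z38, z37, z36, z35, z34⟩ := h0
  have x33 := A.a2c_x (r := 33) 1
  have hv := A.a2c_pQ hp x33
  have d33 : p * S.x 33 1 * p⁻¹ * (S.x 33 1)⁻¹ ∈ Ug S 41 := by
    obtain ⟨ε, hε⟩ : ∃ ε, ε = cf4 S (p * S.x 33 1 * p⁻¹) 40 := ⟨_, rfl⟩
    have z := A.a2c_mem hv (mul_mem x33 (A.a2c_x (r := 40) ε)) fun r hr => by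
      rw [A.cf_mul a2c_lay x33 (A.a2c_x ε) (by revert r; decide), A.cf_x (by decide), A.cf_x (by decide)]
      simp only [List.mem_cons, List.not_mem_nil, or_false] at hr
      rcases hr with rfl | rfl | rfl | rfl | rfl | rfl | rfl | rfl <;>
        simp [A.a2c_33 hp hq x33, A.cf_x_self (r := 33) (by decide), *]
    obtain rfl : ε = 0 := by
      generalize e : p * S.x 33 1 * p⁻¹ * (S.x 33 1 * S.x 40 ε)⁻¹ = w at z
      have w2 : w * w = 1 := S.UU_induction (p := fun w => w * w = 1) (mul_one _) (fun r hr c g hg ih => by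
        rw [mul_assoc, ← mul_assoc (S.x r c), ← A.a2c_cen (S.x_mem_UU (a2c_lay.sub hr) c) hg,
          mul_assoc, A.x_sq, mul_one, ih]) z
      have e1 : p * S.x 33 1 * p⁻¹ * (p * S.x 33 1 * p⁻¹) = 1 := by
        rw [conj_mul, A.x_sq, mul_one, mul_inv_cancel]
      have e2 := A.rel.cm 33 40 44 (by decide) 1 ε
      rw [A.x_inv, A.x_inv, one_mul] at e2
      rw [mul_inv_eq_iff_eq_mul.1 e, mul_assoc, ← mul_assoc (S.x 33 1 * _),
        ← A.a2c_cen (mul_mem x33 (A.a2c_x ε)) z, mul_assoc w, ← mul_assoc w, w2, one_mul, ← mul_assoc,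
        e2] at e1
      exact A.x_eq_one.1 e1
    rwa [S.x_zero, mul_one] at z
  -- `p` commutes with the long root elements of `Y2` on `Q' / V'`
  have cy : ∀ s : R4, s ∈ lY2 ∧ ip4 s 44 = 0 ∧ 0 ≤ ip4 s 33 → ∀ u ∈ Ug S 33,
      p * (S.x s 1 * u * (S.x s 1)⁻¹) * p⁻¹ * (S.x s 1 * (p * u * p⁻¹) * (S.x s 1)⁻¹)⁻¹ ∈ Ug S 41 :=
    fun s ⟨s1, s2, s3⟩ u hu => by
      have yY : S.x s 1 ∈ Y4 S 44 := S.x_mem_UU s2.ge 1
      have m := hp.nY2 _ (S.x_mem_UU s1 1)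
      have c := A.com s3 1 1
      generalize S.x s 1 = y at *
      generalize e : p * y * p⁻¹ * y⁻¹ = r at m
      have rU : r ∈ S.U := UU_le_U4 (by decide) m
      have rY := A.U_le_Y44 rU
      have m1 : r ∈ UL S [24, 25, 26, 33, 34, 35, 36, 37, 38, 39, 40, 41, 42, 43, 44, 45, 46, 47] := by
        refine A.elimL (T := [33]) (K := [41, 42, 43, 44, 45, 46, 47])
          (show ElC _ _ _ by decide +kernel) rU fun a ha => ?_
        rw [List.mem_singleton.1 ha]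
        refine S.UU_mono (Ψ := {r | 41 ≤ r.1}) (by intro r; revert r; decide) ?_
        convert mul_mem (inv_mem (A.a2c_nV rY (A.a2c_nV yY d33))) d33 using 1
        have c1 : Commute (r * y) (p * S.x 33 1 * p⁻¹) := by
          rw [← e, inv_mul_cancel_right]; exact Commute.map c (MulAut.conj p).toMonoidHom
        generalize p * S.x 33 1 * p⁻¹ = v at c1
        calc _ = r * (y * S.x 33 1 * y⁻¹) * r⁻¹ * (S.x 33 1)⁻¹ := by rw [c, mul_inv_cancel_right]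
          _ = r * y * S.x 33 1 * (v⁻¹ * ((r * y)⁻¹ * v)) * (S.x 33 1)⁻¹ := by
            rw [c1.inv_left.eq]; group
          _ = _ := by group
      have rQ : r ∈ Ug S 33 := S.UU_mono (by intro r; revert r; decide)
        ((A.UU_inf (cl_L (by decide +kernel)) (by decide) (cl_L (by decide +kernel)) (by decide)).le ⟨m, m1⟩)
      have m2 := A.a2c_nQ yY (A.a2c_pQ hp hu)
      have m3 := A.lay_comm a2c_lay rQ m2
      convert m3 using 2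
      rw [← e]; group
  let D : Subgroup G :=
    { carrier := {u | u ∈ Ug S 33 ∧ p * u * p⁻¹ * u⁻¹ ∈ Ug S 41}
      one_mem' := ⟨one_mem _, by simp⟩
      mul_mem' := fun {a b} ha hb => ⟨mul_mem ha.1 hb.1, by
        convert mul_mem ha.2 (A.a2c_nV (A.U_le_Y44 (Ug_le_U (by omega) ha.1)) hb.2) using 1
        group⟩
      inv_mem' := fun {a} ha => ⟨inv_mem ha.1, by
        convert inv_mem (A.a2c_nV (A.U_le_Y44 (Ug_le_U (by omega) (inv_mem ha.1))) ha.2) using 1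
        group⟩ }
  have VD : ∀ v ∈ Ug S 41, v ∈ D := fun v hv =>
    ⟨Ug_mono (by omega) hv, mul_mem ((A.a2c_pV hp).1 hv) (inv_mem hv)⟩
  have cD : ∀ s : R4, s ∈ lY2 ∧ ip4 s 44 = 0 ∧ 0 ≤ ip4 s 33 → ∀ u ∈ D, S.x s 1 * u * (S.x s 1)⁻¹ ∈ D :=
    fun s hs u hu => ⟨A.a2c_nQ (S.x_mem_UU hs.2.1.ge 1) hu.1, by
      convert mul_mem (cy s hs u hu.1) (A.a2c_nV (S.x_mem_UU hs.2.1.ge 1) hu.2) using 1
      group⟩
  have mv : ∀ s r k m : R4, (s ∈ lY2 ∧ ip4 s 44 = 0 ∧ 0 ≤ ip4 s 33) ∧ Ls s r k m ∧ 41 ≤ m.1 →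
      S.x r 1 ∈ D → S.x k 1 ∈ D := fun s r k m ⟨h1, h2, h3⟩ hr => by
    have := cD s h1 _ hr
    rw [A.conj_ls h2, mul_mem_cancel_left hr, mul_mem_cancel_right (VD _ (S.x_mem_UU h3 _)), mul_one] at this
    exact this
  have fx : ∀ s r : R4, (s ∈ lY2 ∧ ip4 s 44 = 0 ∧ 0 ≤ ip4 s 33) ∧ 0 ≤ ip4 s r ∧ 33 ≤ r.1 →
      S.x s 1 * (p * S.x r 1 * p⁻¹) * (S.x s 1)⁻¹ * (p * S.x r 1 * p⁻¹)⁻¹ ∈ Ug S 41 :=
    fun s r ⟨h1, h2, h3⟩ => by
      have := inv_mem (cy s h1 _ (A.a2c_x 1 h3))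
      rwa [A.com h2, mul_inv_cancel_right, mul_inv_rev, inv_inv] at this
  have gen : ∀ r : R4, 33 ≤ r.1 ∧ r.1 ≤ 40 ∧ r ≠ 33 ∧ r ≠ 40 ∧ 0 ≤ ip4 r 33 →
      (∀ k ∈ ([34, 35, 36, 37, 38, 39] : List R4), k ≠ r → cf4 S (p * S.x r 1 * p⁻¹) k = 0) →
      S.x r 1 ∈ D := fun r ⟨r1, r2, r3, r4, r5⟩ hr => by
    have xr := A.a2c_x 1 r1
    have hu := A.a2c_pQ hp xr
    have pr : 24 ≤ r.1 := by omega
    have z : ∀ k ∈ ([33, 34, 35, 36, 37, 38, 39, 40] : List R4), k ≠ r →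
        cf4 S (p * S.x r 1 * p⁻¹) k = 0 := fun k hk n => by
      by_cases e1 : k = 33
      · rw [e1, A.a2c_33 hp hq xr, A.cf_x_ne pr r3.symm]
      by_cases e2 : k = 40
      · refine A.x_eq_one (r := 44).1 ?_
        rw [e2, ← (A.a2c_bf hu).2]
        have c1 := A.a2c_cen hu d33
        have c2 : p * S.x 33 1 * p⁻¹ * (p * S.x r 1 * p⁻¹) = p * S.x r 1 * p⁻¹ * (p * S.x 33 1 * p⁻¹) := by
          rw [conj_mul, conj_mul, A.com r5]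
        generalize p * S.x r 1 * p⁻¹ = u at c1 c2
        generalize p * S.x 33 1 * p⁻¹ = v at c1 c2
        rw [← mul_assoc, ← c2, mul_assoc, mul_assoc, mul_right_inj] at c1
        rw [← (Commute.inv_left_iff.1 c1).eq]; group
      exact hr k ((show ∀ k ∈ ([33, 34, 35, 36, 37, 38, 39, 40] : List R4), k ≠ 33 → k ≠ 40 →
        k ∈ ([34, 35, 36, 37, 38, 39] : List R4) by decide) k hk e1 e2) n
    refine ⟨xr, A.a2c_mem hu xr fun k hk => ?_⟩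
    by_cases n : k = r
    swap
    · rw [z k hk n, A.cf_x_ne pr n]
    rw [n, A.cf_x_self pr]
    refine a2c_one hq fun e0 => ?_
    have := A.a2c_mem hu (one_mem _) fun k hk => by
      rw [A.cf_one]
      by_cases n' : k = r
      · rw [n', e0]
      · exact z k hk n'
    rw [inv_one, mul_one, ← A.a2c_pV hp] at this
    exact one_ne_zero ((A.cf_x_self pr 1).symm.trans (A.a2c_V this r2))
  have d36 : S.x 36 1 ∈ D := gen 36 (by decide) fun k hk n => by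
    have hu := A.a2c_pQ hp (A.a2c_x (r := 36) 1)
    simp only [List.mem_cons, List.not_mem_nil, or_false] at hk
    rcases hk with rfl | rfl | rfl | rfl | rfl | rfl
    exacts [A.a2c_fix hu (fx 25 36 (by decide)) 35, A.a2c_fix hu (fx 24 36 (by decide)) 36, absurd rfl n,
      A.a2c_fix hu (fx 24 36 (by decide)) 38, A.a2c_fix hu (fx 25 36 (by decide)) 39,
      A.a2c_fix hu (fx 22 36 (by decide)) 38]
  have d39 : S.x 39 1 ∈ D := gen 39 (by decide) fun k hk n => by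
    have hu := A.a2c_pQ hp (A.a2c_x (r := 39) 1)
    simp only [List.mem_cons, List.not_mem_nil, or_false] at hk
    rcases hk with rfl | rfl | rfl | rfl | rfl | rfl
    exacts [A.a2c_fix hu (fx 25 39 (by decide)) 35, A.a2c_fix hu (fx 24 39 (by decide)) 36,
      A.a2c_fix hu (fx 23 39 (by decide)) 35, A.a2c_fix hu (fx 24 39 (by decide)) 38,
      A.a2c_fix hu (fx 25 39 (by decide)) 39, absurd rfl n]
  have d35 := mv 23 36 35 (rf4 36 23) (by decide) d36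
  have d34 := mv 22 35 34 (rf4 35 22) (by decide) d35
  have d38 := mv 22 39 38 (rf4 39 22) (by decide) d39
  have d37 := mv 23 38 37 (rf4 38 23) (by decide) d38
  have d40 : S.x 40 1 ∈ D := ⟨A.a2c_x 1, by rw [hp.pb', mul_inv_cancel]; exact one_mem _⟩
  refine ⟨p, ⟨1, one_ne_zero, hp.pt⟩, hp.nY, fun v hv => ?_, hp.co⟩
  rw [A.Q44_eq] at hv
  rw [A.V44_eq]
  refine (S.UU_le_iff (K := D).2 (fun r hr c => ?_) hv).2
  by_cases c0 : c = 0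
  · rw [c0, S.x_zero]; exact one_mem _
  rw [a2c_one hq c0]
  by_cases e : 41 ≤ r.1
  · exact VD _ (S.x_mem_UU e 1)
  have := (show ∀ r : R4, 33 ≤ r.1 → ¬ 41 ≤ r.1 → r ∈ ([33, 34, 35, 36, 37, 38, 39, 40] : List R4) by
    decide) r hr e
  simp only [List.mem_cons, List.not_mem_nil, or_false] at this
  rcases this with rfl | rfl | rfl | rfl | rfl | rfl | rfl | rfl
  exacts [⟨x33, d33⟩, d34, d35, d36, d37, d38, d39, d40]

end CfsgLib.SLF
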