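import Mathlib
import Cfsg.Agent.Lib.SLF.A2a
import Cfsg.Agent.Lib.SLE.A2b

/-!
# An element centralising `Q'`
-/

set_option autoImplicit false
set_option linter.unusedSectionVars false

namespace CfsgLib.SLF

open Cfsg.Lie CfsgLib.RGD CfsgLib.Stein CfsgLib.Semi CfsgLib.SLE CfsgLib.UFP Subgroup
open scoped commutatorElement Pointwise

universe u

variable {F : Type} [Field F] [Finite F] [CharP F 2] {G : Type u} [Group G] [Finite G]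
  {S : StSys ΦF4 F G}

theorem a3a_lay : Lay4 {r | 33 ≤ r.1} {r | 41 ≤ r.1} :=
  ⟨fun _ h => le_trans (by omega) h, fun _ h => le_trans (by omega : 33 ≤ 41) h, fun a ha b hb =>
    cz_iff.2 ((show ∀ a b : R4, 33 ≤ a.1 → 33 ≤ b.1 → 0 ≤ ip4 a b ∨
      (a.1 + b.1 ≠ 47 ∧ 41 ≤ (rf4 a b).1 ∧ 41 ≤ (rf4 b a).1) by decide +kernel) a b ha hb)⟩

theorem Amb.a3a_cX (A : Amb S) {y : G} (hy : y ∈ Y4 S 44) {x : G} (hx : x ∈ S.X 44) : x * y = y * x :=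
  A.Y_le_cent 44 hy x hx

theorem Amb.a3a_QY (A : Amb S) : Q4 S 44 ≤ Y4 S 44 := (A.Q_le_Yo 44).trans (A.Yo_le_Y 44)

theorem Amb.a3a_x (A : Amb S) {r : R4} (c : F) (hr : 33 ≤ r.1 := by decide) : S.x r c ∈ Q4 S 44 :=
  A.Q44_eq ▸ S.x_mem_UU hr c

/-- `A₂` has no fixed vector on `V' / X_44` -/
theorem Amb.a3a_fix (A : Amb S) {w : G} (hw : w ∈ V4 S 44)
    (h : ∀ s ∈ ([22, 23, 24, 25] : List R4), S.x s 1 * w * (S.x s 1)⁻¹ * w⁻¹ ∈ S.X 44) : w ∈ S.X 44 := by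
  rw [A.V44_eq] at hw
  have XK : S.X 44 ≤ UL S [44] := fun x hx => by
    obtain ⟨c, rfl⟩ := S.mem_X_iff.1 hx
    exact S.x_mem_UU (by simp) c
  have m1 : w ∈ UL S [26, 29, 32, 33, 36, 39, 40, 43, 44, 47] :=
    A.elimL (T := [24, 25]) (K := [44]) (show ElC _ _ _ by decide +kernel) (Ug_le_U (by omega) hw)
      fun a ha => by
        have := inv_mem (XK (h a (by revert a; decide)))
        convert this using 1
        group
  have m2 : w ∈ UL S [43, 44, 47] := S.UU_mono (by intro r; revert r; decide)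
    ((A.UU_inf (cl_L (by decide +kernel)) (by decide) (cl_Ug (n := 41) (by omega))
      (fun _ h => le_trans (by omega) h)).le ⟨m1, hw⟩)
  obtain ⟨c, -, rfl⟩ := A.exists_xprod4 (L := [43, 44, 47]) (by decide) (cl_L (by decide +kernel))
    (by decide) (fun _ h => h) m2
  simp only [StSys.xprod_cons, StSys.xprod_nil, mul_one] at h ⊢
  have k : ∀ {s a b : R4} {u : F} {x : G}, Cm s a b ∧ b ≠ 44 → S.x s 1 * x = x * S.x s 1 →
      S.x b u * x = x * S.x b u → S.x a u * S.x b u = S.x b u * S.x a u →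
      S.x s 1 * (S.x a u * x) * (S.x s 1)⁻¹ * (S.x a u * x)⁻¹ ∈ S.X 44 → u = 0 :=
    fun {s a b u x} ⟨h1, h2⟩ h3 h4 h5 h6 => by
      have e : S.x s 1 * (S.x a u * x) * (S.x s 1)⁻¹ * (S.x a u * x)⁻¹ = S.x b u := by
        calc _ = S.x s 1 * S.x a u * (S.x s 1)⁻¹ * (S.x s 1 * x) * (S.x s 1)⁻¹ * (S.x a u * x)⁻¹ := by
              group
          _ = _ := by rw [h3, A.conj_cm h1, one_mul, h5]; group
      rw [e] at h6
      obtain ⟨d, e'⟩ := S.mem_X_iff.1 h6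
      by_contra u0
      exact h2 (A.x_inj u0 e').1
  have c43 : c 43 = 0 := k (s := 22) (a := 43) (b := 42) (by decide)
    (Commute.mul_right (A.com (a := 22) (b := 44) (by decide) _ _) (A.com (b := 47) (by decide) _ _))
    (Commute.mul_right (A.com (a := 42) (b := 44) (by decide) _ _) (A.com (b := 47) (by decide) _ _))
    (A.com (by decide) _ _) (h 22 (by decide))
  rw [c43, S.x_zero, one_mul, A.com (by decide)] at h ⊢
  have c47 : c 47 = 0 := k (s := 23) (a := 47) (b := 46) (by decide) (A.com (by decide) _ _)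
    (A.com (by decide) _ _) (A.com (by decide) _ _) (h 23 (by decide))
  rw [c47, S.x_zero, one_mul]
  exact S.x_mem_X _ _

theorem Sit.tv_X {t p : G} (h : Sit S t) (hp : Tv S t p) :
    (∀ y ∈ Y4 S 44, p * y * p⁻¹ * y⁻¹ ∈ Q4 S 44) ∧ ∀ v ∈ Q4 S 44, p * v * p⁻¹ * v⁻¹ ∈ S.X 44 := by
  have A := h.amb
  have nQ : p ∈ normalizer (Q4 S 44 : Set G) := mem_normalizer_fintype fun v hv =>
    (mul_mem_cancel_right (inv_mem hv)).1 (A.V_le_Q 44 (hp.nQ v hv))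
  have pK : p ∈ a2Kl (Q4 S 44) (V4 S 44) := ⟨nQ, hp.nQ⟩
  have h1 : ∀ y ∈ Y4 S 44, p * y * p⁻¹ * y⁻¹ ∈ Q4 S 44 := fun y hy =>
    A.cen_V (mul_mem (conj_mem hp.nY hy) (inv_mem hy)) (by
      have := mul_mem pK (a2Kl_conj (A.Y_norm_Q 44 hy) (A.Y_norm_V 44 hy) (inv_mem pK))
      rw [← mul_assoc, ← mul_assoc] at this
      exact this.2)
  refine ⟨h1, ?_⟩
  have nX : ∀ {y x : G}, y ∈ Y4 S 44 → x ∈ S.X 44 → y * x * y⁻¹ ∈ S.X 44 := fun hy hx => by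
    rwa [← A.a3a_cX hy hx, mul_inv_cancel_right]
  let D : Subgroup G :=
    { carrier := {u | u ∈ Q4 S 44 ∧ p * u * p⁻¹ * u⁻¹ ∈ S.X 44}
      one_mem' := ⟨one_mem _, by simp⟩
      mul_mem' := fun {a b} ha hb => ⟨mul_mem ha.1 hb.1, by
        convert mul_mem ha.2 (nX (A.a3a_QY ha.1) hb.2) using 1
        group⟩
      inv_mem' := fun {a} ha => ⟨inv_mem ha.1, by
        convert inv_mem (nX (A.a3a_QY (inv_mem ha.1)) ha.2) using 1
        group⟩ }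
  have cD : ∀ y ∈ Y4 S 44, ∀ u ∈ D, y * u * y⁻¹ ∈ D := fun y hy u hu => by
    have m := conj_mem (A.Y_norm_Q 44 hy) hu.1
    refine ⟨m, ?_⟩
    convert mul_mem (nX (A.a3a_QY (h1 y hy)) (nX hy hu.2)) (A.comm_Q 44 (h1 y hy) m) using 1
    group
  have d40 : ∀ c, S.x 40 c ∈ D := fun c => ⟨A.a3a_x c, A.a3a_fix (hp.nQ _ (A.a3a_x c)) fun s hs => by
    have hs' : ip4 s 44 = 0 ∧ 0 ≤ ip4 s 40 := by revert s; decide
    have hy : S.x s 1 ∈ Y4 S 44 := S.x_mem_UU hs'.1.ge 1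
    have e := A.com hs'.2 1 c
    have m := A.comm_Q 44 (h1 _ hy) (A.a3a_x (r := 40) c)
    have m1 := A.Q_le_cent 44 (h1 _ hy) _ (conj_mem (A.Y_norm_V 44 hy) (hp.nQ _ (A.a3a_x (r := 40) c)))
    have m2 := A.a3a_cX (A.a3a_QY (A.V_le_Q 44 (conj_mem (A.Y_norm_V 44 hy)
      (hp.nQ _ (A.a3a_x (r := 40) c))))) m
    generalize S.x s 1 = y at *
    generalize S.x 40 c = x at *
    generalize ez : p * y * p⁻¹ * y⁻¹ = z at *
    generalize ew : p * x * p⁻¹ * x⁻¹ = w at *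
    have e1 : w = y * w * y⁻¹ * (z * x * z⁻¹ * x⁻¹) := by
      calc w = p * (y * x) * y⁻¹ * p⁻¹ * x⁻¹ := by rw [e, ← ew]; group
        _ = z * (y * w * y⁻¹) * (y * x) * y⁻¹ * z⁻¹ * x⁻¹ := by rw [← ez, ← ew]; group
        _ = _ := by rw [← m1, e]; group
    have e2 : y * w * y⁻¹ * w⁻¹ = (z * x * z⁻¹ * x⁻¹)⁻¹ := by
      rw [← m2] at e1
      conv_lhs => rw [mul_inv_eq_iff_eq_mul.2 (inv_mul_eq_iff_eq_mul.2 e1).symm]
    exact e2 ▸ inv_mem m⟩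
  have dS : ∀ r : R4, 33 ≤ r.1 → r.1 ≤ 40 → ∀ c, S.x r c ∈ D := fun r r1 r2 c => by
    obtain ⟨e1, e2⟩ := (show ∀ r : R4, 33 ≤ r.1 → r.1 ≤ 40 → wd (dom [24, 25, 27] 10 r) r = 40 ∧
      ∀ d ∈ dom [24, 25, 27] 10 r, 0 ≤ ip4 d 44 ∧ 0 ≤ ip4 d.rev 44 by decide +kernel) r r1 r2
    have := cD _ (inv_mem (nw_mem_UU (S := S) (T := {s | 0 ≤ ip4 s 44}) e2)) _ (d40 c)
    rw [← e1, ← A.ex_nw] at this
    convert this using 1
    group
  intro v hv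
  rw [A.Q44_eq] at hv
  refine (S.UU_le_iff (K := D).2 (fun r hr c => ?_) hv).2
  by_cases r2 : r.1 ≤ 40
  · exact dS r hr r2 c
  by_cases r3 : r = 44
  · rw [r3, ← mul_one c, ← A.rel.cm 33 40 44 (by decide)]
    exact mul_mem (mul_mem (mul_mem (dS 33 (by decide) (by decide) c) (d40 1))
      (inv_mem (dS 33 (by decide) (by decide) c))) (inv_mem (d40 1))
  obtain ⟨l, b, e1, e2, b1, b2, k1, k2⟩ := (show ∀ r : R4, ¬ r.1 ≤ 40 → r ≠ 44 → ∃ l b : R4,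
    Ls l b (rf4 l b) r ∧ ip4 l 44 = 0 ∧ 33 ≤ b.1 ∧ b.1 ≤ 40 ∧ 33 ≤ (rf4 l b).1 ∧ (rf4 l b).1 ≤ 40 by
      decide +kernel) r r2 r3
  have := cD _ (S.x_mem_UU e2.ge c) _ (dS b b1 b2 1)
  rwa [A.conj_ls e1, mul_mem_cancel_left (dS b b1 b2 1), mul_mem_cancel_left (dS _ k1 k2 _), one_pow,
    mul_one] at this

theorem Sit.tq_of_tv {t p : G} (h : Sit S t) (hp : Tv S t p) : ∃ p', Tq S t p' := by
  have A := h.amb
  obtain ⟨h1, h2⟩ := h.tv_X hp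
  obtain ⟨bf, b1, b2⟩ := A.exists_bf
  obtain ⟨f, hf⟩ : ∃ f : G → F, ∀ v ∈ Q4 S 44, p * v * p⁻¹ = S.x 44 (f v) * v := by
    have : ∀ v, ∃ c, v ∈ Q4 S 44 → p * v * p⁻¹ = S.x 44 c * v := fun v => by
      by_cases hv : v ∈ Q4 S 44
      · obtain ⟨c, e⟩ := S.mem_X_iff.1 (h2 v hv)
        exact ⟨c, fun _ => mul_inv_eq_iff_eq_mul.1 e⟩
      · exact ⟨0, fun h => absurd h hv⟩
    choose f hf using this
    exact ⟨f, hf⟩
  have cY : ∀ {y : G}, y ∈ Y4 S 44 → ∀ c, y * S.x 44 c = S.x 44 c * y := fun hy c =>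
    (A.a3a_cX hy (S.x_mem_X _ _)).symm
  have cp : ∀ c, p * S.x 44 c * p⁻¹ = S.x 44 c := fun c => by
    have m1 := A.a3a_x (r := 33) c
    have m2 := A.a3a_x (r := 40) 1
    have e := A.rel.cm 33 40 44 (by decide) c 1
    rw [mul_one] at e
    have c1 := cY (A.a3a_QY (mul_mem (mul_mem m1 (mul_mem (A.a3a_x (r := 44) (f (S.x 40 1))) m2))
      (inv_mem m1))) (f (S.x 33 c))
    have c2 := cY (A.a3a_QY (mul_mem (mul_mem m2 (inv_mem m1)) (inv_mem m2))) (f (S.x 40 1))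
    rw [← e]
    calc _ = p * S.x 33 c * p⁻¹ * (p * S.x 40 1 * p⁻¹) * (p * S.x 33 c * p⁻¹)⁻¹ *
          (p * S.x 40 1 * p⁻¹)⁻¹ := by group
      _ = S.x 44 (f (S.x 33 c)) * (S.x 33 c * (S.x 44 (f (S.x 40 1)) * S.x 40 1) * (S.x 33 c)⁻¹) *
          (S.x 44 (f (S.x 33 c)))⁻¹ * (S.x 40 1)⁻¹ * (S.x 44 (f (S.x 40 1)))⁻¹ := by
        rw [hf _ m1, hf _ m2]; group
      _ = S.x 33 c * (S.x 44 (f (S.x 40 1)) * (S.x 40 1 * (S.x 33 c)⁻¹ * (S.x 40 1)⁻¹)) *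
          (S.x 44 (f (S.x 40 1)))⁻¹ := by rw [← c1]; group
      _ = _ := by rw [← c2]; group
  have add : ∀ v ∈ Q4 S 44, ∀ v' ∈ Q4 S 44, f (v * v') = f v + f v' := fun v hv v' hv' => by
    refine A.nd.x_injective 44 (mul_right_cancel (b := v * v') ?_)
    rw [← hf _ (mul_mem hv hv'), S.x_add]
    calc p * (v * v') * p⁻¹ = p * v * p⁻¹ * (p * v' * p⁻¹) := by group
      _ = S.x 44 (f v) * (v * S.x 44 (f v')) * v' := by rw [hf v hv, hf v' hv']; group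
      _ = _ := by rw [cY (A.a3a_QY hv)]; group
  have key : ∀ y ∈ Y4 S 44, ∃ z ∈ Q4 S 44, ∀ v ∈ Q4 S 44, f (y * v * y⁻¹) = f v + bf z v := fun y hy => by
    have hz := conj_mem' (A.Y_norm_Q 44 hy) (h1 y hy)
    refine ⟨_, hz, fun v hv => A.nd.x_injective 44 (mul_right_cancel (b := y * v * y⁻¹) ?_)⟩
    have e := b1 _ hz v hv
    have c1 := cY (A.a3a_QY hz) (f v)
    generalize ez : y⁻¹ * (p * y * p⁻¹ * y⁻¹) * y = z at *
    rw [← hf _ (conj_mem (A.Y_norm_Q 44 hy) hv)]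
    calc _ = y * z * (p * v * p⁻¹) * z⁻¹ * y⁻¹ := by rw [← ez]; group
      _ = y * (z * S.x 44 (f v)) * v * z⁻¹ * y⁻¹ := by rw [hf v hv]; group
      _ = y * (S.x 44 (f v) * (z * v * z⁻¹ * v⁻¹)) * v * y⁻¹ := by rw [c1]; group
      _ = _ := by rw [e, ← S.x_add, cY hy]; group
  have lin : ∀ r : R4, ∃ a, 33 ≤ r.1 → r.1 ≤ 40 → ∀ c, f (S.x r c) = a * c := fun r => by
    by_cases hr : 33 ≤ r.1 ∧ r.1 ≤ 40
    swap
    · exact ⟨0, fun h h' => absurd ⟨h, h'⟩ hr⟩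
    obtain ⟨s, e, s0, e1, e2, e3, e4⟩ := (show ∀ r : R4, 33 ≤ r.1 ∧ r.1 ≤ 40 → ∃ s e : R4, ip4 s 44 = 0 ∧
      Cm s e r ∧ Cm (rf4 44 e).rev e 44 ∧ 33 ≤ (rf4 44 e).rev.1 ∧ 33 ≤ e.1 by decide +kernel) r hr
    obtain ⟨z, hz, ez⟩ := key _ (S.x_mem_UU s0.ge 1)
    refine ⟨cf4 S z (rf4 44 e).rev, fun r1 _ c => ?_⟩
    have := ez _ (A.a3a_x c e4)
    rw [A.conj_cm e1, add _ (A.a3a_x c e4) _ (A.a3a_x _ r1), one_mul, b2 z hz _ _ e2 e3 e4] at this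
    exact add_left_cancel this
  choose a ha using lin
  have f0 : ∀ r : R4, 41 ≤ r.1 → ∀ c, f (S.x r c) = 0 := fun r r1 c => by
    by_cases r3 : r = 44
    · have := hf _ (A.a3a_x (r := 44) c)
      rw [cp, right_eq_mul, A.x_eq_one] at this
      rw [r3, this]
    obtain ⟨l, m, l0, e1, m1⟩ := (show ∀ r : R4, 41 ≤ r.1 → r ≠ 44 → ∃ l m : R4, ip4 l 44 = 0 ∧
      Cm l m r ∧ 41 ≤ m.1 by decide +kernel) r r1 r3
    obtain ⟨z, hz, ez⟩ := key _ (S.x_mem_UU l0.ge c)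
    have mQ := A.a3a_x (r := m) 1 (by omega)
    have := ez _ mQ
    have e2 := b1 z hz _ mQ
    rw [← A.Q_le_cent 44 hz _ (A.V44_eq ▸ S.x_mem_UU m1 1), mul_inv_cancel_right, mul_inv_cancel, eq_comm,
      A.x_eq_one] at e2
    rw [A.conj_cm e1, add _ mQ _ (A.a3a_x _ (by omega)), mul_one, e2] at this
    exact add_left_cancel this
  obtain ⟨v, ev⟩ : ∃ v, v = S.xprod [33, 34, 35, 36, 37, 38, 39, 40] fun r => a (rf4 44 r).rev := ⟨_, rfl⟩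
  have hv : v ∈ Q4 S 44 := by
    rw [ev, A.Q44_eq]
    exact S.xprod_mem_UU (by decide) _
  have vY := A.a3a_QY hv
  obtain ⟨c, c0, pt⟩ := hp.pt
  refine ⟨v * p, ⟨c, c0, ?_⟩, mul_mem (le_normalizer vY) hp.nY, ?_, (CO.of_mem (S.UU_le_grp _ hv)).mul hp.co⟩
  · calc _ = v * (p * t * p⁻¹) * v⁻¹ := by group
      _ = v * t * (S.x 44 c * v⁻¹) := by rw [pt]; group
      _ = _ := by rw [h.com (S.UU_le_grp _ hv), ← cY (inv_mem vY)]; group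
  rw [A.Q44_eq]
  refine mem_cent_UU.2 fun r hr c => ?_
  have xQ := A.a3a_x c hr
  have e1 : bf v (S.x r c) = f (S.x r c) := by
    by_cases r2 : r.1 ≤ 40
    · obtain ⟨e2, e3, e4, e5, e6⟩ := (show ∀ r : R4, 33 ≤ r.1 → r.1 ≤ 40 → Cm (rf4 44 r).rev r 44 ∧
        33 ≤ (rf4 44 r).rev.1 ∧ ¬ 41 ≤ (rf4 44 r).rev.1 ∧
        (rf4 44 r).rev ∈ ([33, 34, 35, 36, 37, 38, 39, 40] : List R4) ∧
        (rf4 44 (rf4 44 r).rev).rev = r by decide +kernel) r hr r2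
      rw [b2 v hv _ _ e2 e3 hr, ha r hr r2, ev, A.cf_xprod a3a_lay (by decide) (by decide) _ e4, if_pos e5, e6]
    · have e2 := b1 v hv _ xQ
      rw [← A.Q_le_cent 44 hv _ (A.V44_eq ▸ S.x_mem_UU (show 41 ≤ r.1 by omega) c), mul_inv_cancel_right,
        mul_inv_cancel, eq_comm, A.x_eq_one] at e2
      rw [e2, f0 r (by omega)]
  have e2 := b1 v hv _ xQ
  rw [e1] at e2
  symm
  calc v * p * S.x r c = v * (p * S.x r c * p⁻¹) * p := by group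
    _ = v * S.x 44 (f (S.x r c)) * S.x r c * p := by rw [hf _ xQ]; group
    _ = S.x 44 (f (S.x r c)) * (v * S.x r c * v⁻¹ * (S.x r c)⁻¹) * (S.x r c * (v * p)) := by
      rw [cY vY]; group
    _ = _ := by rw [e2, A.x_sq, one_mul]

end CfsgLib.SLF
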