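import Mathlib
import Cfsg.Agent.Lib.SLF.A1

/-!
# A cocycle with values in `V'`
-/

set_option autoImplicit false
set_option linter.unusedSectionVars false

namespace CfsgLib.SLF

open Cfsg.Lie CfsgLib.RGD CfsgLib.Stein CfsgLib.Semi CfsgLib.SLE CfsgLib.UFP Subgroup
open scoped commutatorElement Pointwise

universe u

variable {F : Type} [Field F] [Finite F] [CharP F 2] {G : Type u} [Group G] [Finite G]
  {S : StSys ΦF4 F G}

namespace A3B

open PM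

/-- the long root `44 + e` -/
def vv (e : R4) : R4 :=
  if e = 29 then 47 else if e = 28 then 46 else if e = 27 then 45 else if e = 18 then 41 else if e = 19 then 42 else 43

/-- the action of `x_s(d)` on the coordinates of `V'` -/
def T (s : R4) (d : F) (w : R4 → F) (k : R4) : F :=
  w k + (if 0 < ip4 k s then d ^ ex s * w (rf4 s k) else 0) + if k = 44 ∧ ¬ Lg s then d * w (vv s.rev) else 0

/-- a long root moving `r` -/
def l0 (r : R4) : R4 :=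
  if r = 41 then 32 else if r = 42 then 32 else if r = 43 then 30 else if r = 45 then 25 else if r = 46 then 24 else 23

def D (b l k : R4) : Prop := Cm (rf4 b l) b l ∧ Lg b ∧ Lg l ∧ Lg (rf4 b l) ∧ ip4 (rf4 b l) 44 = 0 ∧ ip4 b 44 = 0 ∧
  ip4 l 44 = 0 ∧ k ∈ lV ∧ k ≠ 44 ∧ 0 < ip4 k (rf4 b l) ∧ ¬ 0 < ip4 k b ∧ 0 < ip4 k l ∧ rf4 l k ∈ lV ∧ rf4 l k ≠ 44 ∧
  ip4 (rf4 l k) (rf4 b l) ≤ 0 ∧ rf4 (rf4 b l) k = rf4 b (rf4 l k)

instance decD (b l k : R4) : Decidable (D b l k) := inferInstanceAs (Decidable (_ ∧ _))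

def C (l b k : R4) : Prop := Ls l b k (rf4 b l) ∧ ip4 l 44 = 0 ∧ ip4 b 44 = 0 ∧ ip4 k 44 = 0 ∧ ip4 (rf4 b l) 44 = 0 ∧
  vv k ∈ lV ∧ vv k ≠ 44 ∧ 0 < ip4 (vv k) l ∧ rf4 l (vv k) = vv b ∧ ¬ 0 < ip4 (vv k) b ∧ vv b.rev ∈ lV ∧
  vv b.rev ≠ 44 ∧ ip4 (vv b.rev) k ≤ 0

instance decC (l b k : R4) : Decidable (C l b k) := inferInstanceAs (Decidable (_ ∧ _))

theorem t1 : ∀ s : R4, ip4 s 44 = 0 → ∀ r ∈ lV,
    (0 ≤ ip4 s r ∧ (¬ Lg s → vv s.rev ≠ r) ∧ ∀ k ∈ lV, 0 < ip4 k s → rf4 s k ≠ r) ∨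
    ((Cm s r (rf4 s r) ∧ Lg s ∨ Ls r s 44 (rf4 s r) ∧ vv s.rev = r) ∧ rf4 s r ∈ lV ∧ r ≠ 44 ∧ rf4 s r ≠ 44 ∧
      ∀ k ∈ lV, (0 < ip4 k s ∧ rf4 s k = r ↔ k = rf4 s r)) := by decide +kernel

theorem t2 : ∀ s : R4, ip4 s 44 = 0 → ∀ k ∈ lV, k ≠ 44 → ip4 k s ≤ 0 →
    (¬ Lg s ∧ ∃ l, ip4 l 44 = 0 ∧ Lg l ∧ 0 ≤ ip4 s l ∧ rf4 l k ∈ lV ∧ rf4 l k ≠ 44 ∧ 0 < ip4 (rf4 l k) l ∧
      ¬ 0 < ip4 (rf4 l k) s) ∨
    (Lg s ∧ ∃ e, ip4 e 44 = 0 ∧ ¬ Lg e ∧ 0 ≤ ip4 s e ∧ vv e.rev = k) := by decide +kernel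

theorem t3 : ∀ l : R4, Lg l → ip4 l 44 = 0 → (∃ b, Cm (rf4 b l) b l ∧ ip4 (rf4 b l) 44 = 0 ∧ ip4 b 44 = 0) ∧
    ∀ k ∈ lV, 0 < ip4 k l → rf4 l k ∈ lV ∧ (D (l0 (rf4 l k)) l k ∨
      ∃ b, D b l k ∧ D (l0 (rf4 l k)) b (rf4 b (rf4 l k))) := by decide +kernel

theorem t4 : ∀ k : R4, ¬ Lg k → ip4 k 44 = 0 → ((∃ l, C l 27 k) ∨ ∃ l, C l 28 k) ∧ vv k ∈ lV ∧
    ∀ j ∈ lV, j = vv k ∨ j = 44 ∨ ip4 j k ≤ 0 := by decide +kernel

theorem t5 : ∀ a m : R4, Ot a 44 m → ip4 a 44 = 0 ∧ m = vv a ∧ 0 ≤ ip4 m a := by decide +kernel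

theorem t6 : ∀ s : R4, ip4 s 44 = 0 → ¬ 0 < ip4 44 s := by decide +kernel

theorem V_eq (A : Amb S) : V4 S 44 = UL S lV := by
  rw [A.V44_eq]
  exact congrArg S.UU (Set.ext (by decide))

theorem xY {s : R4} (hs : ip4 s 44 = 0) (d : F) : S.x s d ∈ Y4 S 44 := S.x_mem_UU hs.ge d

variable (A : Amb S)
include A

theorem conj_mem {y w : G} (hy : y ∈ Y4 S 44) (hw : w ∈ UL S lV) : y * w * y⁻¹ ∈ UL S lV :=
  V_eq A ▸ (mem_normalizer_iff.1 (A.Y_norm_V 44 hy) w).1 (V_eq A ▸ hw)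

theorem ext_V {u v : G} (hu : u ∈ UL S lV) (hv : v ∈ UL S lV) (h : ∀ k ∈ lV, cf4 S u k = cf4 S v k) : u = v :=
  A.cf_ext (UU_le_U4 layV.pos hu) (UU_le_U4 layV.pos hv) fun r => by
    by_cases k : r ∈ lV
    · exact h r k
    · rw [A.cf_eq_zero (Amb.lay_cl layV) layV.pos hu k, A.cf_eq_zero (Amb.lay_cl layV) layV.pos hv k]

theorem cf_conj {s : R4} (hs : ip4 s 44 = 0) (d : F) {w : G} (hw : w ∈ UL S lV) {k : R4} (hk : k ∈ lV) :
    cf4 S (S.x s d * w * (S.x s d)⁻¹) k = T s d (cf4 S w) k := by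
  refine A.eq_of_add (f := fun w => cf4 S (S.x s d * w * (S.x s d)⁻¹) k) (g := fun w => T s d (cf4 S w) k)
    (fun u hu v hv => ?_) (fun u hu v hv => ?_) (fun r hr c => ?_) hw
  · rw [← conj_mul, cf_V A (conj_mem A (xY hs d) hu) (conj_mem A (xY hs d) hv), Pi.add_apply]
  · simp only [cf_V A hu hv, T, Pi.add_apply]
    split_ifs <;> ring
  · have p := layV.pos
    have m : ∀ {r : R4}, r ∈ lV → ∀ c, S.x r c ∈ UL S lV := fun h c => S.x_mem_UU h c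
    rcases t1 s hs r hr with ⟨h1, h2, h3⟩ | ⟨h1, h2, h3, h4, h5⟩
    · rw [A.com h1, mul_inv_cancel_right, T, A.cf_x (p r hr)]
      have := h3 k hk
      split_ifs with a b b <;> simp_all
    · have e0 : ∀ x : F, (if 0 < ip4 k s then x * (Pi.single r c : R4 → F) (rf4 s k) else 0) =
          (Pi.single (rf4 s r) (x * c) : R4 → F) k := fun x => by
        simp only [Pi.single_apply, ← h5 k hk, ite_and, mul_ite, mul_zero]
      rcases h1 with ⟨h1, l⟩ | ⟨h1, e⟩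
      · rw [A.conj_cm h1, cf_V A (m hr _) (m h2 _), T, A.cf_x (p r hr), A.cf_x (p _ h2), e0,
          if_neg (fun h => h.2 l), ex, if_pos l, pow_one, add_zero, Pi.add_apply]
      · rw [A.conj_sl h1, cf_V A (m hr _) (mul_mem (m (by decide) _) (m h2 _)), cf_V A (m (by decide) _) (m h2 _), T,
          A.cf_x (p r hr), A.cf_x (p _ h2), A.cf_x (by decide), e, e0, ex, if_neg h1.2.1, Pi.single_eq_same,
          Pi.add_apply, Pi.add_apply, Pi.single_apply 44, mul_comm c, mul_comm c]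
        simp only [h1.2.1, not_false_eq_true, and_true]
        ring

variable {p : G} (h : ∀ y ∈ Y4 S 44, p * y * p⁻¹ * y⁻¹ ∈ UL S lV)
include h

/-- the coordinates of the cocycle -/
noncomputable abbrev gm (S : StSys ΦF4 F G) (p y : G) : R4 → F := cf4 S (p * y * p⁻¹ * y⁻¹)

theorem g_mul {s : R4} (hs : ip4 s 44 = 0) (d : F) {y : G} (hy : y ∈ Y4 S 44) {k : R4} (hk : k ∈ lV) :
    gm S p (S.x s d * y) k = gm S p (S.x s d) k + T s d (gm S p y) k := by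
  rw [← cf_conj A hs d (h y hy) hk, ← Pi.add_apply, ← cf_V A (h _ (xY hs d)) (conj_mem A (xY hs d) (h y hy))]
  exact congrArg (cf4 S · k) (by group)

theorem g_zero {s : R4} (hs : ip4 s 44 = 0) (d : F) {k : R4} (hk : k ∈ lV) (h1 : k ≠ 44) (h2 : ip4 k s ≤ 0) :
    gm S p (S.x s d) k = 0 := by
  rcases t2 s hs k hk h1 h2 with ⟨a, l, l1, l2, l3, l4, l5, l6, l7⟩ | ⟨a, e, l1, l2, l3, l4⟩
  · have := g_mul A h hs d (xY l1 1) l4
    rw [A.com l3, g_mul A h l1 1 (xY hs d) l4] at this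
    simp only [T, l5, l6, l7, false_and, if_true, if_false, rf4_rf4] at this
    linear_combination this
  · have := g_mul A h hs d (xY l1 1) (k := 44) (by decide)
    rw [A.com l3, g_mul A h l1 1 (xY hs d) (by decide)] at this
    simp only [T, t6 _ hs, t6 _ l1, a, l2, l4, not_true, not_false_eq_true, and_false, and_true, if_true, if_false] at this
    linear_combination this

theorem g_cm {a b l : R4} (e : Cm a b l) (ha : ip4 a 44 = 0) (hb : ip4 b 44 = 0) (hl : ip4 l 44 = 0) (u : F) {k : R4}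
    (hk : k ∈ lV) : gm S p (S.x a u) k + T a u (gm S p (S.x b 1)) k =
      gm S p (S.x b 1) k + T b 1 (gm S p (S.x l u * S.x a u)) k := by
  rw [← g_mul A h ha u (xY hb 1) hk, ← g_mul A h hb 1 (mul_mem (xY hl u) (xY ha u)) hk,
    mul_inv_eq_iff_eq_mul.1 (A.conj_cm e u 1), mul_one, mul_assoc]

theorem g_D {b l k : R4} (e : D b l k) (u : F) :
    gm S p (S.x l u) k = u * gm S p (S.x b 1) (rf4 b (rf4 l k)) := by
  obtain ⟨e1, e2, e3, e4, e5, e6, e7, e8, e9, f1, f2, f3, f4, f5, f6, f7⟩ := e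
  have := g_cm A h e1 e5 e6 e7 u e8
  rw [T, T, g_mul A h e7 u (xY e5 u) e8, T, g_zero A h e5 u f4 f5 f6] at this
  simp only [e9, f1, f2, f3, f7, false_and, if_true, if_false, ex, e4, pow_one] at this
  linear_combination -this

theorem step1 : ∃ v ∈ UL S lV, ∀ l, Lg l → ip4 l 44 = 0 → ∀ u, v * p * S.x l u * (v * p)⁻¹ * (S.x l u)⁻¹ = 1 := by
  have hv : S.xprod lV (fun r => gm S p (S.x (l0 r) 1) (rf4 (l0 r) r)) ∈ UL S lV := S.xprod_mem_UU (fun _ h => h) _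
  have cv : ∀ k ∈ lV, cf4 S (S.xprod lV fun r => gm S p (S.x (l0 r) 1) (rf4 (l0 r) r)) k =
      gm S p (S.x (l0 k) 1) (rf4 (l0 k) k) := fun k hk => by
    rw [A.cf_xprod layV (by decide) (fun _ h => h) _ (by simp), if_pos hk]
  generalize S.xprod lV _ = v at hv cv
  refine ⟨v, hv, fun l l1 l2 u => ?_⟩
  obtain ⟨⟨b, b1, b2, b3⟩, t⟩ := t3 l l1 l2
  have m1 := h _ (xY l2 u)
  have m2 := conj_mem A (xY l2 u) (inv_mem hv)
  have iv : cf4 S v⁻¹ = cf4 S v := funext fun r => A.cf_inv layV hv (by simp)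
  rw [show v * p * S.x l u * (v * p)⁻¹ * (S.x l u)⁻¹ =
    v * (p * S.x l u * p⁻¹ * (S.x l u)⁻¹ * (S.x l u * v⁻¹ * (S.x l u)⁻¹)) by group]
  refine ext_V A (mul_mem hv (mul_mem m1 m2)) (one_mem _) fun k hk => ?_
  rw [A.cf_one, cf_V A hv (mul_mem m1 m2), cf_V A m1 m2, Pi.add_apply, Pi.add_apply, cf_conj A l2 u (inv_mem hv) hk, iv, T,
    if_neg (by simp [l1] : ¬ (k = 44 ∧ ¬ Lg l))]
  have two : (2 : F) = 0 := CharTwo.two_eq_zero
  change _ + (gm S p (S.x l u) k + _) = _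
  split_ifs with a
  · obtain ⟨t1, t2⟩ := t k hk a
    have : gm S p (S.x l u) k = u * gm S p (S.x (l0 (rf4 l k)) 1) (rf4 (l0 (rf4 l k)) (rf4 l k)) := by
      rcases t2 with t2 | ⟨b, t2, t3⟩
      · exact g_D A h t2 u
      · rw [g_D A h t2 u, g_D A h t3 1, rf4_rf4, one_mul]
    rw [this, cv _ t1, ex, if_pos l1, pow_one]
    linear_combination (cf4 S v k + u * gm S p (S.x (l0 (rf4 l k)) 1) (rf4 (l0 (rf4 l k)) (rf4 l k))) * two
  · have : gm S p (S.x l u) k = 0 := by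
      by_cases e : k = 44
      · subst e
        have := g_cm A h b1 b2 b3 l2 u hk
        rw [T, T, g_mul A h l2 u (xY b2 u) hk, T] at this
        simp only [t6 _ b2, t6 _ b3, t6 _ l2, l1, b1.2.2.2 l1, b1.2.1.1 (b1.2.2.2 l1), not_true, and_false,
          if_false] at this
        linear_combination -this
      · exact g_zero A h l2 u hk e (not_lt.1 a)
    rw [this]
    linear_combination cf4 S v k * two

variable (hL : ∀ l, Lg l → ip4 l 44 = 0 → ∀ u, p * S.x l u * p⁻¹ * (S.x l u)⁻¹ = 1)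
include hL

theorem g_C {l b k : R4} (e : C l b k) (c : F) :
    gm S p (S.x k c) 44 = 0 ∧ gm S p (S.x k c) (vv k) = c * gm S p (S.x b 1) (vv b) := by
  obtain ⟨e1, e2, e3, e4, e5, e6, e7, e8, e9, f1, f2, f3, f4⟩ := e
  have key : ∀ j ∈ lV, T l c (gm S p (S.x b 1)) j = gm S p (S.x b 1) j + T b 1 (gm S p (S.x k c)) j := fun j hj => by
    have := g_mul A h e2 c (xY e3 1) hj
    rw [mul_inv_eq_iff_eq_mul.1 (A.conj_ls e1 c 1), mul_one, mul_assoc, g_mul A h e3 1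
      (mul_mem (mul_mem (xY e4 _) (xY e5 _)) (xY e2 _)) hj, gm, gm, gm, hL l e1.1 e2, A.cf_one, zero_add] at this
    rw [← this]
    congr 3
    have a1 := mul_inv_eq_one.1 (hL l e1.1 e2 c)
    have a2 := mul_inv_eq_one.1 (hL _ e1.ip.2.2 e5 (c * 1 ^ 2))
    rw [← conj_mul, ← conj_mul, a1, a2]
    group
  have k1 := key 44 (by decide)
  have k2 := key _ e6
  simp only [T, t6 _ e2, t6 _ e3, e1.1, e1.2.1, not_true, not_false_eq_true, and_false, and_true, if_true, if_false,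
    g_zero A h e4 c f2 f3 f4] at k1
  simp only [T, e7, e8, e9, f1, false_and, if_true, if_false, ex, e1.1, pow_one] at k2
  exact ⟨by linear_combination -k1, by linear_combination -k2⟩

theorem step2 {k : R4} (h1 : ¬ Lg k) (h2 : ip4 k 44 = 0) (c : F) :
    p * S.x k c * p⁻¹ * (S.x k c)⁻¹ = S.x (vv k) (gm S p (S.x 27 1) (vv 27) * c) := by
  obtain ⟨t, t1, t2⟩ := t4 k h1 h2
  have : gm S p (S.x k c) 44 = 0 ∧ gm S p (S.x k c) (vv k) = c * gm S p (S.x 27 1) (vv 27) := by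
    rcases t with ⟨l, t⟩ | ⟨l, t⟩
    · exact g_C A h hL t c
    · have := g_C A h hL t c
      rwa [(g_C A h hL (l := 25) (b := 27) (k := 28) (by decide +kernel) 1).2, one_mul] at this
  refine ext_V A (h _ (xY h2 c)) (S.x_mem_UU t1 _) fun j hj => ?_
  by_cases e : j = vv k
  · rw [e, A.cf_x_self (layV.pos _ t1), mul_comm]
    exact this.2
  rw [A.cf_x_ne (layV.pos _ t1) e]
  by_cases e' : j = 44
  · exact e' ▸ this.1
  · exact g_zero A h h2 c hj e' (((t2 j hj).resolve_left e).resolve_left e')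

end A3B

open A3B in
/-- the cocycles of `B₃` with values in the orthogonal module -/
theorem Amb.cocycle (A : Amb S) {p : G} (hV : p ∈ centralizer (Q4 S 44 : Set G))
    (h : ∀ y ∈ Y4 S 44, p * y * p⁻¹ * y⁻¹ ∈ V4 S 44) : ∃ v ∈ V4 S 44, ∃ κ : F,
      v * p ∈ centralizer (Yo S 44 : Set G) ∧ ∀ a m, Ot a 44 m → ∀ u,
        v * p * S.x a u * (v * p)⁻¹ = S.x a u * S.x m (κ * u) := by
  rw [V_eq A] at h ⊢
  obtain ⟨v, hv, hL⟩ := step1 A h
  have h' : ∀ y ∈ Y4 S 44, v * p * y * (v * p)⁻¹ * y⁻¹ ∈ UL S PM.lV := fun y hy => by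
    convert mul_mem hv (mul_mem (h y hy) (conj_mem A hy (inv_mem hv))) using 1
    group
  refine ⟨v, hv, gm S (v * p) (S.x 27 1) (vv 27), mem_cent_UU.2 fun r hr c => ?_, fun a m e u => ?_⟩
  · rcases (show 1 ≤ ip4 r 44 ∨ (ip4 r 44 = 0 ∧ Lg r) by revert r; simp only [Set.mem_ofPred_eq]; decide +kernel)
      with e | e
    · have m : S.x r c ∈ Q4 S 44 := S.x_mem_UU e c
      rw [← mul_assoc, ← mem_centralizer_iff.1 (A.Q_le_cent 44 m) v (V_eq A ▸ hv), mul_assoc,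
        mem_centralizer_iff.1 hV _ m, mul_assoc]
    · exact (mul_inv_eq_iff_eq_mul.1 (mul_inv_eq_one.1 (hL r e.2 e.1 c))).symm
  · obtain ⟨e1, rfl, e2⟩ := t5 a m e
    rw [mul_inv_eq_iff_eq_mul.1 (step2 A h' hL e.1 e1 u), A.com e2]

theorem Sit.mv0 {t p : G} (h : Sit S t) (hp : Tq S t p) : ∃ g c κ, c ≠ 0 ∧ InT S t 44 c g ∧ CO S t g ∧
    ∀ a m, Ot a 44 m → ∀ u, g * S.x a u * g⁻¹ = S.x a u * S.x m (κ * c * u) := by
  have A := h.amb
  obtain ⟨c, c0, pt⟩ := hp.pt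
  obtain ⟨v, hv, κ, h1, h2⟩ := A.cocycle hp.cQ fun y hy => by
    have m : p * y * p⁻¹ * y⁻¹ ∈ S.grp := S.UU_le_grp _ (mul_mem ((mem_normalizer_iff.1 hp.nY y).1 hy) (inv_mem hy))
    obtain ⟨v, hv, k, hk, e⟩ := A.cen_Q (le_normalizer m) 44 (by
      convert mul_mem hp.cQ ((mem_normalizer_iff.1
        (LAE.normalizer_le_normalizer_centralizer _ (A.Y_norm_Q _ hy)) _).1 (inv_mem hp.cQ)) using 1
      group)
    have : k = 1 := A.eq_one (by
      rw [show k = v⁻¹ * (v * k) by group, ← e]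
      exact mul_mem (inv_mem (S.UU_le_grp _ hv)) m) hk
    rwa [e, this, mul_one]
  have vY := A.Yo_le_Y 44 (A.Q_le_Yo 44 (A.V_le_Q 44 hv))
  refine ⟨v * p, c, κ / c, c0, ⟨h1, ?_⟩, fun o o1 o2 o3 => by
    rw [mul_assoc, hp.co o o1 o2 o3, ← mul_assoc, mem_centralizer_iff.1 o1 v (S.UU_le_grp _ hv), mul_assoc], fun a m e u => ?_⟩
  · calc _ = v * (p * t * p⁻¹) * v⁻¹ := by group
      _ = v * t * v⁻¹ * (v * S.x 44 c * v⁻¹) := by rw [pt]; group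
      _ = _ := by
        rw [h.com (S.UU_le_grp _ hv), ← mem_centralizer_iff.1 (A.Y_le_cent 44 vY) _ (S.x_mem_X _ _),
          mul_inv_cancel_right, mul_inv_cancel_right]
  · rw [div_mul_cancel₀ _ c0, h2 a m e]

end CfsgLib.SLF
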