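import Mathlib
import Cfsg.Agent.Lib.SLF.A2b
import Cfsg.Agent.Lib.SLF.A2c
import Cfsg.Agent.Lib.SLF.A3a
import Cfsg.Agent.Lib.SLF.A3b

/-!
# The outcome of the fusion analysis
-/

set_option autoImplicit false
set_option linter.unusedSectionVars false

namespace CfsgLib.SLF

open Cfsg.Lie CfsgLib.RGD CfsgLib.Stein CfsgLib.Semi CfsgLib.SLE CfsgLib.UFP Subgroup
open scoped commutatorElement Pointwise

universe u

variable {F : Type} [Field F] [Finite F] [CharP F 2] {G : Type u} [Group G] [Finite G]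
  {S : StSys ΦF4 F G}

theorem h0_cen {g : G} {T : Set R4} (h : ∀ r ∈ T, ∀ c, g * S.x r c = S.x r c * g) :
    g ∈ centralizer (S.UU T : Set G) := fun _ hx =>
  mem_centralizer_singleton_iff.1 ((S.UU_le_iff (K := centralizer {g})).2
    (fun r hr c => mem_centralizer_singleton_iff.2 (h r hr c).symm) hx)

theorem h0_yr : ∀ r : R4, Yr r r := by decide +kernel

theorem InT.one (t : G) (r : R4) : InT S t r 0 1 := ⟨one_mem _, by rw [S.x_zero]; group⟩

theorem InT.conj {t g n : G} {r : R4} {c : F} {w : R4 → R4} (hw : Iso4 w) (hn : Ex S n w) (hn' : n * t = t * n)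
    (h : InT S t r c g) : InT S t (w r) c (n * g * n⁻¹) := by
  refine ⟨h0_cen fun s hs u => ?_, ?_⟩
  · obtain ⟨s, rfl⟩ := hw.surj s
    have := h.1 _ (S.x_mem_UU (show s ∈ {s | Yr r s} from (hw.yr r s).1 hs) u)
    rw [← hn, conj_mul, conj_mul, this]
  · have e : t = n * t * n⁻¹ := by rw [hn']; group
    rw [e, ← hn, conj_mul (a := t), ← h.2]
    group

theorem InT.conj_H (A : Amb S) {t g a : G} {r : R4} {c d : F} (ha : a ∈ S.H) (ha' : a * t = t * a)
    (hd : ∀ u, a * S.x r u * a⁻¹ = S.x r (d * u)) (h : InT S t r c g) : InT S t r (d * c) (a * g * a⁻¹) := by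
  refine ⟨fun y hy => ?_, ?_⟩
  · have := h.1 _ (S.H_conj_mem_UU (inv_mem ha) hy)
    calc y * (a * g * a⁻¹) = a * (a⁻¹ * y * a⁻¹⁻¹ * g) * a⁻¹ := by group
      _ = _ := by rw [this]; group
  · have e : t = a * t * a⁻¹ := by rw [ha']; group
    rw [e, ← hd, conj_mul (a := t), ← h.2]
    group

theorem InT.comm {t g : G} {r s : R4} {c : F} (h : InT S t r c g) (hs : Yr r s) (u : F) :
    g * S.x s u = S.x s u * g := by
  exact (h.1 _ (S.x_mem_UU (show s ∈ {s | Yr r s} from hs) u)).symm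

theorem InT.mul (A : Amb S) {t g g' : G} {r : R4} {c c' : F} (h : InT S t r c g) (h' : InT S t r c' g') :
    InT S t r (c + c') (g * g') := by
  refine ⟨mul_mem h.1 h'.1, ?_⟩
  calc g * g' * t * (g * g')⁻¹ = g * (g' * t * g'⁻¹) * g⁻¹ := by group
    _ = g * t * g⁻¹ * (g * S.x r c' * g⁻¹) := by rw [h'.2]; group
    _ = _ := by rw [h.2, h.comm (h0_yr r), mul_inv_cancel_right, S.x_add, mul_assoc]

theorem InT.inv (A : Amb S) {t g : G} {r : R4} {c : F} (h : InT S t r c g) : InT S t r c g⁻¹ := by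
  refine ⟨inv_mem h.1, ?_⟩
  have e := h.comm (h0_yr r) c
  calc g⁻¹ * t * g⁻¹⁻¹ = g⁻¹ * (t * S.x r c) * (S.x r c * g) := by
        rw [mul_assoc, mul_assoc, mul_assoc, ← mul_assoc (S.x r c), A.x_sq]; group
    _ = _ := by rw [← e]; conv_lhs => rw [← h.2]
                group

theorem CO.conj_L {t g l : G} (h : CO S t g) (hl : l ∈ S.grp) : CO S t (l * g * l⁻¹) := by
  intro o ho ht hodd
  have e : l * o = o * l := ho l hl
  have e' : l⁻¹ * o = o * l⁻¹ := ho _ (inv_mem hl)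
  rw [mul_assoc, e', ← mul_assoc, mul_assoc l, h o ho ht hodd, ← mul_assoc, e]
  group

theorem CO.mul' {t g g' : G} (h : CO S t g) (h' : CO S t g') : CO S t (g * g') := by
  intro o ho ht hodd
  rw [mul_assoc, h' o ho ht hodd, ← mul_assoc, h o ho ht hodd, mul_assoc]

theorem CO.inv' {t g : G} (h : CO S t g) : CO S t g⁻¹ := by
  intro o ho ht hodd
  exact (Commute.inv_left (h o ho ht hodd)).eq

theorem co_of_mem {t l : G} (hl : l ∈ S.grp) : CO S t l := by
  intro o ho _ _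
  exact ho l hl

/-- two elements over the same value differ by an element of `X_r C(L)` -/
theorem Sit.inT_eq {t g g' : G} (h : Sit S t) {r : R4} {c : F} (h1 : InT S t r c g) (h2 : InT S t r c g') :
    ∃ e, ∃ k ∈ CL S, k * t = t * k ∧ g' = g * S.x r e * k := by
  have e : g⁻¹ * g' * t = t * (g⁻¹ * g') := by
    calc g⁻¹ * g' * t = g⁻¹ * (g' * t * g'⁻¹) * g' := by group
      _ = _ := by rw [h2.2, ← h1.2]; group
  obtain ⟨a, k, hk, e'⟩ := h.amb.cen_Yo (h.CN (mem_centralizer_singleton_iff.2 e)) r (mul_mem (inv_mem h1.1) h2.1)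
  refine ⟨a, k, hk, ?_, by rw [mul_assoc, ← e']; group⟩
  rw [e', mul_assoc, ← mul_assoc t, ← h.com (S.x_mem_grp r a), mul_assoc, mul_right_inj] at e
  exact e

theorem Sit.mv {t : G} (h : Sit S t) (hb : IsConj t (t * S.x 44 1)) : ∃ κ, Mv S t κ := by
  have A := h.amb
  obtain ⟨p, hp⟩ := h.exists_sw hb
  obtain ⟨p1, h1⟩ : ∃ p', Tv S t p' := by
    by_cases hq : Nat.card F = 2
    · obtain ⟨p', hp'⟩ := h.sw2_of_sw hq hp
      exact h.tv_of_sw2 hq hp'
    · exact h.tv_of_sw hq hp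
  obtain ⟨p2, h2⟩ := h.tq_of_tv h1
  obtain ⟨g, c, κ, hc, hg, co, mv⟩ := h.mv0 h2
  have base : ∀ c', ∃ g, InT S t 44 c' g ∧ CO S t g ∧
      ∀ a m, Ot a 44 m → ∀ u, g * S.x a u * g⁻¹ = S.x a u * S.x m (κ * c' * u) := by
    intro c'
    by_cases h0 : c' = 0
    · subst h0
      exact ⟨1, InT.one t 44, co_of_mem (one_mem _), fun a m _ u => by simp [S.x_zero]⟩
    obtain ⟨a, ha, a1, -⟩ := A.exists_H (a := 44) (b := 47) (by decide) (by decide) (div_ne_zero h0 hc) one_ne_zero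
    obtain ⟨d, d0, -, d1, hd⟩ := A.H_conj ha
    have d44 : d 44 = c' / c := by
      simpa using (A.x_inj (mul_ne_zero (d0 44) one_ne_zero) ((hd 44 1).symm.trans (a1 1))).2
    have := hg.conj_H A ha (h.com (S.H_le_grp ha)) a1
    rw [div_mul_cancel₀ _ hc] at this
    refine ⟨_, this, CO.conj_L co (S.H_le_grp ha), fun b m hm u => ?_⟩
    have e : S.x b u = a * S.x b ((d b)⁻¹ * u) * a⁻¹ := by rw [hd, mul_inv_cancel_left₀ (d0 b)]
    calc a * g * a⁻¹ * S.x b u * (a * g * a⁻¹)⁻¹ = a * (g * S.x b ((d b)⁻¹ * u) * g⁻¹) * a⁻¹ := by rw [e]; group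
      _ = _ := by
        rw [mv b m hm, ← conj_mul, ← e, hd, d1 b 44 m hm.2.2.1, d44]
        have := d0 b
        congr 2
        field_simp
  refine ⟨κ, h, h.two_of_sw hp, fun r hr c' => ?_, fun a r m hm c' g' hg' u => ?_⟩
  · obtain ⟨g₁, k1, k2, -⟩ := base c'
    obtain ⟨L, rfl⟩ := trans1 (a := 44) (a' := r) (iff_of_false (by decide) hr)
    exact ⟨_, k1.conj (iso_wd L) (A.ex_nw L) (h.com (nw_mem L)), CO.conj_L k2 (nw_mem L)⟩
  · obtain ⟨L, hL⟩ := trans1 (a := r) (a' := 44) (iff_of_false hm.2.1 (by decide))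
    have k0 := hg'.conj (iso_wd L) (A.ex_nw L) (h.com (nw_mem L))
    have hm' := (iso_wd L).ot hm
    rw [hL] at k0 hm'
    obtain ⟨g₁, k1, -, k3⟩ := base c'
    obtain ⟨e, k, hk, -, e1⟩ := h.inT_eq k1 k0
    have e2 := k3 _ _ hm' u
    have e3 : S.x 44 e * k * S.x (wd L a) u * (S.x 44 e * k)⁻¹ = S.x (wd L a) u := by
      rw [mul_assoc (S.x 44 e), ← hk _ (S.x_mem_grp _ _), ← mul_assoc, ← A.com hm'.ip.ge]; group
    rw [← e3, show g₁ * (S.x 44 e * k * S.x (wd L a) u * (S.x 44 e * k)⁻¹) * g₁⁻¹ =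
      g₁ * S.x 44 e * k * S.x (wd L a) u * (g₁ * S.x 44 e * k)⁻¹ by group, e3, ← e1, ← A.ex_nw L, ← A.ex_nw L,
      conj_mul, conj_mul] at e2
    apply (MulAut.conj (nw S L)).injective
    simp only [MulAut.conj_apply]
    rw [← e2]
    group

end CfsgLib.SLF
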