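import Mathlib
import Cfsg.Agent.Lib.SLF.Hat0

/-!
# The commutator of a hat with a root element
-/

set_option autoImplicit false
set_option linter.unusedSectionVars false

namespace CfsgLib.SLF

open Cfsg.Lie CfsgLib.RGD CfsgLib.Stein CfsgLib.Semi CfsgLib.SLE CfsgLib.UFP Subgroup
open scoped commutatorElement Pointwise

universe u

variable {F : Type} [Field F] [Finite F] [CharP F 2] {G : Type u} [Group G] [Finite G]
  {S : StSys ΦF4 F G}

set_option synthInstance.maxSize 1024 in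
theorem h1a_rt0 : ∀ a b : R4, ip4 a b = -1 → Ad a b (rf4 a b) ∧ ¬ Lg b ∧ ¬ Lg (rf4 a b) ∧ ip4 a (rf4 a b) = 1 ∧
    ip4 b (rf4 a b) = 1 ∧ ∀ s, Yr a s → Yr (rf4 a b) s →
      0 ≤ ip4 b s ∨ (b.1 + s.1 ≠ 47 ∧ Yr a (rf4 b s) ∧ Yr a (rf4 s b)) := by
  decide +kernel

theorem h1a_rt (a b r : R4) (h : Cm a b r) (ha : ¬ Lg a) : ¬ Lg b ∧ ¬ Lg r ∧ ip4 a b = -1 ∧ ip4 a r = 1 ∧
    ip4 b r = 1 ∧ ∀ s, Yr a s → Yr r s → 0 ≤ ip4 b s ∨ (b.1 + s.1 ≠ 47 ∧ Yr a (rf4 b s) ∧ Yr a (rf4 s b)) := by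
  have i : ip4 a b = -1 := by have := h.ip; have := (sh_iff a).1 ha; omega
  obtain ⟨h0, h1, h2, h3⟩ := h1a_rt0 a b i
  obtain rfl := h.1.uniq h0
  exact ⟨h1, h2, i, h3⟩

theorem h1a_kill {j k k' x z y P P' : G} (hE : j * k * j⁻¹ = z * k * x * k' * z⁻¹ * x⁻¹) (c1 : Commute y j)
    (c2 : Commute y z) (c3 : Commute y x) (e1 : y * k * y⁻¹ = k * P) (e2 : y * k' * y⁻¹ = k' * P')
    (c4 : Commute P j) (c5 : Commute P x) (c6 : Commute P k') (c7 : Commute P z) (c8 : Commute P' z)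
    (c9 : Commute P' x) : P' = 1 := by
  have cj : ∀ {a b : G}, Commute a b → a * b * a⁻¹ = b := fun h => by rw [h.eq, mul_inv_cancel_right]
  have h1 : y * (j * k * j⁻¹) * y⁻¹ = j * k * j⁻¹ * P := by
    rw [← conj_mul, ← conj_mul, cj c1, cj c1.inv_right, e1, mul_assoc _ _ P, ← c4.inv_right.eq]; group
  have h2 : y * (z * k * x * k' * z⁻¹ * x⁻¹) * y⁻¹ = z * k * x * k' * z⁻¹ * x⁻¹ * P * P' := by
    rw [← conj_mul, ← conj_mul, ← conj_mul, ← conj_mul, ← conj_mul, cj c2, cj c3, cj c2.inv_right, cj c3.inv_right,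
      e1, e2]
    calc z * (k * P) * x * (k' * P') * z⁻¹ * x⁻¹ = z * k * (P * (x * k')) * (P' * (z⁻¹ * x⁻¹)) := by group
      _ = z * k * x * k' * (P * (z⁻¹ * x⁻¹)) * P' := by
        rw [(c5.mul_right c6).eq, (c8.inv_right.mul_right c9.inv_right).eq]; group
      _ = _ := by rw [(c7.inv_right.mul_right c5.inv_right).eq]; group
  rw [← hE, h1] at h2
  exact (mul_eq_left.1 h2.symm)

theorem Sit.inT_zero {t k : G} (h : Sit S t) (r : R4) (e : F) (hk : k ∈ CL S) (kt : k * t = t * k) :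
    InT S t r 0 (S.x r e * k) := by
  refine ⟨mul_mem (h0_cen fun s hs c => h.amb.com ?_ e c) (centralizer_le (S.UU_le_grp _) hk), ?_⟩
  · rw [ip4_comm]; exact hs.elim le_of_lt fun h => h.1.ge
  · rw [mul_assoc (S.x r e), kt, ← mul_assoc, h.com (S.x_mem_grp r e), S.x_zero]; group

/-- an element over `c` at `r`, conjugated by an orthogonal short root element -/
theorem Mv.conj_ot {t g : G} {κ : F} (h : Mv S t κ) {a r m : R4} (hm : Ot a r m) (hy : Yr r m) {c : F}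
    (hg : InT S t r c g) (u : F) : S.x a u * g * (S.x a u)⁻¹ = g * S.x m (κ * c * u) := by
  have e := h.mv a r m hm c g hg u
  rw [hg.comm hy, h.amb.x_inv]
  calc S.x a u * g * S.x a u = S.x a u * (g * S.x a u * g⁻¹) * g := by group
    _ = _ := by rw [e, ← mul_assoc, h.amb.x_sq, one_mul]

theorem Mv.h1_aux {t g : G} {κ : F} (h : Mv S t κ) {a b r : R4} (ha : ¬ Lg a) (hr : Cm a b r) {c : F}
    (hg : InT S t a c g) (u : F) :
    ∃ e g', InT S t r (u * c) g' ∧ g * S.x b u * g⁻¹ * (S.x b u)⁻¹ = g' * S.x a e := by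
  have A := h.amb
  obtain ⟨-, lr, -, i1, -, hs⟩ := h1a_rt a b r hr ha
  have yar : Yr a r := .inl (by rw [ip4_comm, i1]; exact one_pos)
  obtain ⟨g', hg', -⟩ := h.surj r lr (u * c)
  have h1 : ∀ s, Yr a s → Yr r s → ∀ v, g * S.x b u * g⁻¹ * (S.x b u)⁻¹ * S.x s v =
      S.x s v * (g * S.x b u * g⁻¹ * (S.x b u)⁻¹) := fun s s1 s2 v => by
    have m : S.x b u * S.x s v * (S.x b u)⁻¹ ∈ Yo S a := by
      have := mul_mem (A.comm_x (K := {s | Yr a s}) (cz_iff.2 (hs s s1 s2)) u v) (S.x_mem_UU s1 v)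
      rwa [inv_mul_cancel_right] at this
    have e := (inv_mem hg.1) _ m
    rw [A.x_inv] at e ⊢
    calc g * S.x b u * g⁻¹ * S.x b u * S.x s v
        = g * S.x b u * (g⁻¹ * (S.x b u * S.x s v * S.x b u)) * S.x b u := by
          rw [mul_assoc _ (g⁻¹ * _), mul_assoc g⁻¹, mul_assoc _ (S.x b u) (S.x b u), A.x_sq]; group
      _ = g * (S.x b u * S.x b u) * S.x s v * S.x b u * g⁻¹ * S.x b u := by rw [← e]; group
      _ = _ := by rw [A.x_sq, mul_one, hg.comm s1]; group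
  have h2 : g * S.x b u * g⁻¹ * (S.x b u)⁻¹ * t * (g * S.x b u * g⁻¹ * (S.x b u)⁻¹)⁻¹ = t * S.x r (u * c) := by
    have e : S.x b u * t * (S.x b u)⁻¹ = t := by rw [h.com (S.x_mem_grp _ _), mul_inv_cancel_right]
    rw [A.x_inv, show ∀ x : G, g * x * g⁻¹ * x * t * (g * x * g⁻¹ * x)⁻¹ =
      g * (x * (g⁻¹ * (x * t * x⁻¹) * g⁻¹⁻¹) * x⁻¹) * g⁻¹ by intro; group, e, (hg.inv A).2, ← conj_mul (b := S.x b u), e,
      A.conj_cm hr.symm, ← conj_mul, ← conj_mul, hg.2, hg.comm (h0_yr a), mul_inv_cancel_right,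
      hg.comm yar, mul_inv_cancel_right, mul_assoc, ← mul_assoc (S.x a c), A.x_sq, one_mul]
  generalize g * S.x b u * g⁻¹ * (S.x b u)⁻¹ = k at h1 h2
  have h3 : g'⁻¹ * k * t = t * (g'⁻¹ * k) := by
    rw [← mul_inv_eq_iff_eq_mul, show g'⁻¹ * k * t * (g'⁻¹ * k)⁻¹ = g'⁻¹ * (k * t * k⁻¹) * g' by group, h2, ← hg'.2]
    group
  obtain ⟨e, e', o, ho, h4⟩ := A.cen_Y2o (h.CN (mem_centralizer_singleton_iff.2 h3)) ha lr i1 fun s s1 s2 v => by
    rw [mul_assoc, h1 s s1 s2, ← mul_assoc, (hg'.inv A).comm s2, mul_assoc]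
  have h5 : o * t = t * o := by
    rwa [h4, ← mul_assoc, ← h.com (mul_mem (S.x_mem_grp _ _) (S.x_mem_grp _ _)), mul_assoc, mul_assoc _ t,
      mul_right_inj] at h3
  refine ⟨e, g' * (S.x r e' * o), ?_, ?_⟩
  · simpa using hg'.mul A (h.inT_zero r e' ho h5)
  · rw [mul_assoc g', ← inv_mul_eq_iff_eq_mul, h4, A.com (by rw [i1]; norm_num), mul_assoc,
      ho _ (S.x_mem_grp _ _), mul_assoc]

theorem Mv.h1_can {t g : G} {κ : F} (h : Mv S t κ) {c : F} (hg : InT S t 7 c g) (u : F) :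
    InT S t 18 (u * c) (g * S.x 37 u * g⁻¹ * (S.x 37 u)⁻¹) := by
  have A := h.amb
  obtain ⟨e, g₂, k2, h2⟩ := h.h1_aux (b := 44) (r := 33) (by decide) (by decide) hg u
  obtain ⟨e', g₃, k3, h3⟩ := h.h1_aux (b := 37) (r := 18) (by decide) (by decide) hg u
  suffices e' = 0 by rwa [h3, this, S.x_zero, mul_one]
  have cm : ∀ {a b : R4}, 0 ≤ ip4 a b → ∀ v w, Commute (S.x a v) (S.x b w) := fun h v w => A.com h v w
  have e1 := h.conj_ot (a := 11) (m := 0) (by decide) (by decide) hg 1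
  have e2 := A.conj_cm (a := 11) (b := 44) (k := 37) (by decide) 1 u
  have e3 := h.conj_ot (a := 37) (m := 41) (by decide) (by decide) k2 1
  have e4 := fun v => A.conj_cm (a := 37) (b := 7) (k := 18) (by decide) 1 v
  rw [hg.comm (by decide)] at e1
  rw [one_mul] at e2
  have := h1a_kill (j := S.x 11 1) (k := g₂ * S.x 7 e) (k' := g₃ * S.x 7 e') (x := S.x 44 u)
    (z := S.x 0 (κ * c * 1)) (y := S.x 37 1) (P := S.x 41 (κ * (u * c) * 1) * S.x 18 (1 * e))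
    (P' := S.x 18 (1 * e')) ?_ (cm (by decide) _ _) (cm (by decide) _ _) (cm (by decide) _ _) ?_ ?_
    ((cm (by decide) _ _).mul_left (cm (by decide) _ _)) ((cm (by decide) _ _).mul_left (cm (by decide) _ _))
    (((Commute.symm (k3.comm (by decide) _)).mul_left (Commute.symm (k3.comm (by decide) _))).mul_right
      ((cm (by decide) _ _).mul_left (cm (by decide) _ _)))
    ((cm (by decide) _ _).mul_left (cm (by decide) _ _)) (cm (by decide) _ _) (cm (by decide) _ _)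
  · rwa [A.x_eq_one, one_mul] at this
  · have cc := (cm (a := 0) (b := 37) (by decide) (κ * c * 1) u).inv_left.inv_right.eq
    rw [← h2, ← h3, show ∀ n x : G, n * (g * x * g⁻¹ * x⁻¹) * n⁻¹ =
      n * g * n⁻¹ * (n * x * n⁻¹) * (n * g * n⁻¹)⁻¹ * (n * x * n⁻¹)⁻¹ by intros; group, e1, e2]
    generalize S.x 0 (κ * c * 1) = z at *
    calc z * g * (S.x 44 u * S.x 37 u) * (z * g)⁻¹ * (S.x 44 u * S.x 37 u)⁻¹
        = z * g * S.x 44 u * S.x 37 u * g⁻¹ * (z⁻¹ * (S.x 37 u)⁻¹) * (S.x 44 u)⁻¹ := by group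
      _ = _ := by rw [cc]; group
  · rw [← conj_mul, e3, e4, mul_assoc, mul_assoc, ← mul_assoc (S.x 41 _), A.com (a := 41) (by decide)]
    simp only [mul_assoc]
  · rw [← conj_mul, ← k3.comm (by decide), mul_inv_cancel_right, e4, mul_assoc]

theorem Mv.h1 {t g : G} {κ : F} (h : Mv S t κ) {a b r : R4} (ha : ¬ Lg a) (hr : Cm a b r) {c : F}
    (hg : InT S t a c g) (u : F) : InT S t r (u * c) (g * S.x b u * g⁻¹ * (S.x b u)⁻¹) := by
  have A := h.amb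
  obtain ⟨lb, -, i, -⟩ := h1a_rt a b r hr ha
  obtain ⟨L, h1, h2⟩ := ptrans (a' := 7) (b' := 37) (iff_of_false ha (by decide)) (iff_of_false lb (by decide))
    (i.trans (by decide))
  have h3 : wd L r = 18 := ((iso_wd L).cm hr).1.uniq (by rw [h1, h2]; decide)
  have k := hg.conj (iso_wd L) (A.ex_nw L) (h.com (nw_mem L))
  rw [h1] at k
  have k' := (h.h1_can k u).conj (iso_wd L.reverse) (A.ex_nw_inv L) (h.com (inv_mem (nw_mem L)))
  rw [← h2, ← h3, wd_reverse, ← A.ex_nw L] at k'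
  convert k' using 1
  group

theorem Mv.h1_sq {t g : G} {κ : F} (h : Mv S t κ) {a b r : R4} (ha : ¬ Lg a) (hr : Cm a b r) {c : F}
    (hg : InT S t a c g) (u : F) :
    g * S.x b u * g⁻¹ * (S.x b u)⁻¹ * (g * S.x b u * g⁻¹ * (S.x b u)⁻¹) = 1 := by
  have e := (h.h1 ha hr hg u).comm (s := b) (.inl (by rw [(h1a_rt a b r hr ha).2.2.2.2.1]; exact one_pos)) u
  rw [inv_mul_cancel_right] at e
  nth_rewrite 2 [← mul_inv_cancel_left (S.x b u)⁻¹ (g * S.x b u * g⁻¹ * (S.x b u)⁻¹)]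
  rw [inv_inv, ← e, show ∀ x : G, g * x * g⁻¹ * x⁻¹ * (x⁻¹ * (g * x * g⁻¹)) = g * x * g⁻¹ * (x * x)⁻¹ * (g * x * g⁻¹) by
    intro; group, h.amb.x_sq, inv_one, mul_one, conj_mul, h.amb.x_sq]
  group

end CfsgLib.SLF
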