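import Mathlib
import Cfsg.Agent.Lib.SLF.Hat1a

/-!
# The groups of hats
-/

set_option autoImplicit false
set_option linter.unusedSectionVars false

namespace CfsgLib.SLF

open Cfsg.Lie CfsgLib.RGD CfsgLib.Stein CfsgLib.Semi CfsgLib.SLE CfsgLib.UFP Subgroup
open scoped commutatorElement Pointwise

universe u

variable {F : Type} [Field F] [Finite F] [CharP F 2] {G : Type u} [Group G] [Finite G]
  {S : StSys ΦF4 F G}

theorem yr_self (r : R4) : Yr r r := .inl (BA4.ip_self r)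

theorem InT.com_self {t g : G} {r : R4} {c : F} (h : InT S t r c g) (e : F) : Commute g (S.x r e) :=
  h.comm (yr_self r) e

theorem h1_odd {o : G} (ho : Odd (orderOf o)) (e : o * o = 1) : o = 1 :=
  UFP.eq_one_of_odd (UFP.pgroup_zpowers_of_sq e) (mem_zpowers _) ho (pow_orderOf_eq_one _)

theorem h1_cm : ∀ r : R4, ¬ Lg r → ∃ a, ¬ Lg a ∧ Cm a (rf4 a r) r := by decide +kernel

namespace Sit

variable {t k m g : G} {r : R4} {c c' : F} (h : Sit S t)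
include h

theorem inT_unique (h1 : InT S t r c g) (h2 : InT S t r c' g) : c = c' :=
  h.amb.nd.x_injective r (mul_left_cancel (h1.2.symm.trans h2.2))

theorem inT_of_com (h1 : g ∈ centralizer (Yo S r : Set G)) (h2 : g * t = t * g) : InT S t r 0 g :=
  have _ := h
  ⟨h1, by rw [h2, S.x_zero, mul_one, mul_inv_cancel_right]⟩

theorem inT_CL (r : R4) (h1 : g ∈ CL S) (h2 : g * t = t * g) : InT S t r 0 g :=
  h.inT_of_com (centralizer_le (S.UU_le_grp _) h1) h2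

theorem inT_x (r : R4) (e : F) : InT S t r 0 (S.x r e) :=
  h.inT_of_com (fun _ hy => mem_centralizer_singleton_iff.1 ((S.UU_le_iff (K := centralizer {S.x r e})).2
    (fun _ hs c => mem_centralizer_singleton_iff.2 (h.amb.com (hs.elim le_of_lt fun k => k.1.ge) c e)) hy))
    (h.com (S.x_mem_grp r e))

theorem ne_t_mul {l l' : G} (hl : l ∈ S.grp) (hl' : l' ∈ S.grp) : l ≠ t * l' := fun e =>
  h.t_not_mem (by rw [eq_mul_inv_of_mul_eq e.symm]; exact mul_mem hl (inv_mem hl'))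

theorem inT_t_mul (r : R4) (e : F) : InT S t r 0 (t * S.x r e) := by
  simpa using (h.inT_CL r h.tC rfl).mul h.amb (h.inT_x r e)

theorem hat_of (hc : c ≠ 0) (h1 : InT S t r c m) (h2 : m * m = 1) : IsHat S t r m :=
  ⟨h2, ⟨c, h1⟩, fun e he => hc (h.inT_unique h1 (he ▸ h.inT_t_mul r e))⟩

theorem hat_mul_x (h1 : IsHat S t r m) (e : F) : IsHat S t r (m * S.x r e) := by
  obtain ⟨h2, ⟨c, h4⟩, h5⟩ := h1
  refine ⟨?_, ⟨_, h4.mul h.amb (h.inT_x r e)⟩, fun d hd => h5 (d + e) ?_⟩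
  · rw [(h4.com_self e).symm.mul_mul_mul_comm, h2, h.amb.x_sq, one_mul]
  · rw [S.x_add, ← mul_assoc, ← hd, mul_assoc, h.amb.x_sq, mul_one]

theorem hat_x (r : R4) (e : F) : IsHat S t r (S.x r e) :=
  ⟨h.amb.x_sq r e, ⟨0, h.inT_x r e⟩, fun _ => h.ne_t_mul (S.x_mem_grp _ _) (S.x_mem_grp _ _)⟩

/-- two involutions over the same value -/
theorem eq_mul_x (h2 : Two S) (k1 : InT S t r c k) (k2 : k * k = 1) (k3 : CO S t k) (m1 : InT S t r c m)
    (m2 : m * m = 1) : ∃ e, m = k * S.x r e ∨ (c = 0 ∧ m = k * (t * S.x r e)) := by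
  obtain ⟨e, κ, hκ, κt, rfl⟩ := h.inT_eq k1 m1
  rw [mul_assoc k (S.x r e) κ] at m2 ⊢
  have c1 := k1.com_self e
  rcases h.odd_or h2 hκ κt with ho | ho
  · have c2 : Commute k κ := k3 κ hκ κt ho
    have c3 : Commute (S.x r e) κ := hκ _ (S.x_mem_grp _ _)
    rw [(c1.mul_right c2).symm.mul_mul_mul_comm, c3.symm.mul_mul_mul_comm, k2, h.amb.x_sq, one_mul, one_mul] at m2
    exact ⟨e, .inl (by rw [h1_odd ho m2, mul_one])⟩
  · obtain ⟨o, rfl⟩ : ∃ o, κ = o * t := ⟨κ * t, by rw [mul_assoc, h.t2, mul_one]⟩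
    rw [mul_assoc, h.t2, mul_one] at ho
    rw [mul_mem_cancel_right h.tC] at hκ
    have c4 : Commute o t := by rwa [← mul_assoc t, mul_left_inj] at κt
    have c2 : Commute k o := k3 o hκ c4 ho
    have c3 : Commute (S.x r e * o) (k * t) := (c1.symm.mul_right (h.com (S.x_mem_grp _ _))).mul_left
      (c2.symm.mul_right c4)
    have c5 : Commute (S.x r e) o := hκ _ (S.x_mem_grp _ _)
    have e1 : k * (S.x r e * (o * t)) = S.x r e * o * (k * t) := by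
      rw [← mul_assoc (S.x r e), ← mul_assoc, (c1.mul_right c2).eq, mul_assoc]
    have e2 : k * t * (k * t) = S.x r c := by
      rw [← mul_assoc, ← inv_eq_of_mul_eq_one_right k2, inv_eq_of_mul_eq_one_right k2]
      nth_rewrite 2 [← inv_eq_of_mul_eq_one_right k2]
      rw [k1.2, mul_assoc, h.com (S.x_mem_grp _ _), ← mul_assoc, h.t2, one_mul]
    rw [e1, c3.symm.mul_mul_mul_comm, c5.symm.mul_mul_mul_comm, h.amb.x_sq, one_mul, e2] at m2
    have e3 : S.x r c = 1 := h.amb.eq_one (S.x_mem_grp _ _)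
      (eq_inv_of_mul_eq_one_right m2 ▸ inv_mem (mul_mem hκ hκ))
    rw [e3, mul_one] at m2
    exact ⟨e, .inr ⟨h.amb.x_eq_one.1 e3, by rw [h1_odd ho m2, one_mul, h.com (S.x_mem_grp _ _)]⟩⟩

theorem hat_zero (h2 : Two S) (h1 : IsHat S t r m) (h3 : InT S t r 0 m) : ∃ e, m = S.x r e := by
  obtain ⟨e, h4 | h4⟩ := h.eq_mul_x h2 (h.inT_CL r (one_mem _) (by simp)) (one_mul 1) (co_of_mem (one_mem _)) h3 h1.1
  · exact ⟨e, by rw [h4, one_mul]⟩
  · exact absurd (by rw [h4.2, one_mul]) (h1.2.2 e)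

end Sit

namespace Mv

variable {t : G} {κ : F} (h : Mv S t κ)
include h

theorem exists_k {a b r : R4} (ha : ¬ Lg a) (hr : Cm a b r) (c : F) : ∃ g, InT S t a c g ∧
    InT S t r c (g * S.x b 1 * g⁻¹ * (S.x b 1)⁻¹) ∧ CO S t (g * S.x b 1 * g⁻¹ * (S.x b 1)⁻¹) := by
  obtain ⟨g, h1, h2⟩ := h.surj a ha c
  have h3 : CO S t (S.x b 1) := co_of_mem (S.x_mem_grp _ _)
  exact ⟨g, h1, by simpa only [one_mul] using h.h1 ha hr h1 1,
    CO.mul' (CO.mul' (CO.mul' h2 h3) (CO.inv' h2)) (CO.inv' h3)⟩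

theorem hat_mul {r : R4} (hs : ¬ Lg r) {m m' : G} (h1 : IsHat S t r m) (h2 : IsHat S t r m') :
    IsHat S t r (m * m') := by
  obtain ⟨c, m1⟩ := h1.2.1
  obtain ⟨c', m2⟩ := h2.2.1
  by_cases hc : c = 0
  · obtain ⟨e, rfl⟩ := h.hat_zero h.two h1 (hc ▸ m1)
    exact (m2.com_self e).eq ▸ h.hat_mul_x h2 e
  by_cases hc' : c' = 0
  · obtain ⟨e, rfl⟩ := h.hat_zero h.two h2 (hc' ▸ m2)
    exact h.hat_mul_x h1 e
  obtain ⟨a, ha, hr⟩ := h1_cm r hs
  generalize rf4 a r = b at hr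
  obtain ⟨g, g1, g2, g3⟩ := h.exists_k ha hr c
  obtain ⟨e, rfl | ⟨e0, -⟩⟩ := h.eq_mul_x h.two g2 (h.h1_sq ha hr g1 1) g3 m1 h1.1
  swap
  · exact absurd e0 hc
  by_cases hcc : c = c'
  · obtain ⟨e', rfl | ⟨e0, -⟩⟩ := h.eq_mul_x h.two g2 (h.h1_sq ha hr g1 1) g3 (hcc ▸ m2) h2.1
    · rw [(g2.com_self e).symm.mul_mul_mul_comm, h.h1_sq ha hr g1, one_mul, ← S.x_add]
      exact h.hat_x r _
    · exact absurd e0 hc
  obtain ⟨g', g1', g2', g3'⟩ := h.exists_k ha hr c'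
  obtain ⟨e', rfl | ⟨e0, -⟩⟩ := h.eq_mul_x h.two g2' (h.h1_sq ha hr g1' 1) g3' m2 h2.1
  swap
  · exact absurd e0 hc'
  have k1 := h.h1 ha hr (g1'.mul h.amb g1) 1
  have k2 := h.h1_sq ha hr (g1'.mul h.amb g1) 1
  have k3 := k1.mul h.amb (g2'.inv h.amb)
  rw [one_mul, add_comm c', add_assoc, CharTwo.add_self_eq_zero, add_zero] at k3
  have k4 : g' * g * S.x b 1 * (g' * g)⁻¹ * (S.x b 1)⁻¹ * (g' * S.x b 1 * g'⁻¹ * (S.x b 1)⁻¹)⁻¹ =
      g' * (g * S.x b 1 * g⁻¹ * (S.x b 1)⁻¹) * g'⁻¹ := by group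
  obtain ⟨e'', k5 | ⟨e0, -⟩⟩ := h.eq_mul_x h.two g2 (h.h1_sq ha hr g1 1) g3 k3
    (by rw [k4, conj_mul, h.h1_sq ha hr g1, mul_one, mul_inv_cancel])
  · rw [eq_mul_of_mul_inv_eq k5, mul_assoc _ (S.x r e''), ← (g2'.com_self e'').eq, ← mul_assoc _ _ (S.x r e'')] at k1 k2
    have k6 := h.hat_mul_x (h.hat_of (by rwa [one_mul, Ne, CharTwo.add_eq_zero, eq_comm]) k1 k2) (e'' + (e + e'))
    rwa [mul_assoc, ← S.x_add, ← add_assoc, CharTwo.add_self_eq_zero, zero_add, S.x_add,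
      ← (g2'.com_self e).symm.mul_mul_mul_comm] at k6
  · exact absurd e0 hc

theorem exists_hat {r : R4} (hs : ¬ Lg r) (c : F) : ∃ k, InT S t r c k ∧ k * k = 1 ∧ CO S t k := by
  obtain ⟨a, ha, hr⟩ := h1_cm r hs
  obtain ⟨g, g1, g2, g3⟩ := h.exists_k ha hr c
  exact ⟨_, g2, h.h1_sq ha hr g1 1, g3⟩

theorem mem_hats {r : R4} (hs : ¬ Lg r) (b : G) : b ∈ closure {b | IsHat S t r b} ↔ IsHat S t r b := by
  refine ⟨fun hb => ?_, fun hb => subset_closure hb⟩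
  induction hb using closure_induction with
  | mem x hx => exact hx
  | one => exact S.x_zero r ▸ h.hat_x r 0
  | mul x y _ _ hx hy => exact h.hat_mul hs hx hy
  | inv x _ hx => rwa [inv_eq_of_mul_eq_one_right hx.1]

end Mv

theorem Mv.hats {t : G} {κ : F} (h : Mv S t κ) : ∃ Z, HS1 S t κ Z := by
  refine ⟨fun r => closure {b | IsHat S t r b}, ⟨h.toSit, h.two, fun r hr => h.mem_hats hr,
    fun r hr c => ?_, fun r hr b hb e => ?_, fun r hr b hb => ?_, fun a b r ha hr g hg u => ?_⟩,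
    fun a r m ho g hg c e u => ?_⟩
  · by_cases hc : c = 0
    · exact ⟨_, subset_closure (h.hat_x r 0), hc ▸ (h.inT_x r 0).2⟩
    · obtain ⟨k, k1, k2, -⟩ := h.exists_hat hr c
      exact ⟨k, subset_closure (h.hat_of hc k1 k2), k1.2⟩
  · rw [h.mem_hats hr] at hb
    obtain ⟨c, h1⟩ := hb.2.1
    exact S.mem_X_iff.2 (h.hat_zero h.two hb (h.inT_of_com h1.1 e))
  · rw [h.mem_hats hr] at hb
    obtain ⟨c, h1⟩ := hb.2.1
    by_cases hc : c = 0
    · obtain ⟨e, rfl⟩ := h.hat_zero h.two hb (hc ▸ h1)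
      exact co_of_mem (S.x_mem_grp _ _)
    · obtain ⟨k, k1, k2, k3⟩ := h.exists_hat hr c
      obtain ⟨e, rfl | ⟨e0, -⟩⟩ := h.eq_mul_x h.two k1 k2 k3 h1 hb.1
      · exact CO.mul' k3 (co_of_mem (S.x_mem_grp _ _))
      · exact absurd e0 hc
  · rw [h.mem_hats ha] at hg
    obtain ⟨c, h1⟩ := hg.2.1
    have k1 := h.h1 ha hr h1 u
    refine subset_closure ⟨h.h1_sq ha hr h1 u, ⟨_, k1⟩, fun e he => ?_⟩
    refine h.ne_t_mul ?_ (S.x_mem_grp _ _) he
    rcases mul_eq_zero.1 (h.inT_unique k1 (he ▸ h.inT_t_mul r e)) with rfl | rfl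
    · simp [S.x_zero]
    · obtain ⟨d, rfl⟩ := h.hat_zero h.two hg h1
      exact mul_mem (mul_mem (mul_mem (S.x_mem_grp _ _) (S.x_mem_grp _ _)) (inv_mem (S.x_mem_grp _ _)))
        (inv_mem (S.x_mem_grp _ _))
  · obtain ⟨d, h1⟩ := ((h.mem_hats ho.2.1 g).1 hg).2.1
    exact h.mv a r m ho c g ⟨h1.1, e⟩ u

namespace H1

variable {t : G} {p : R4 → Prop} {Z : R4 → Subgroup G} (h : H1 S t p Z)
include h

theorem sq {r : R4} (hr : p r) {g : G} (hg : g ∈ Z r) : g * g = 1 := by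
  exact ((h.mem r hr g).1 hg).1

theorem inv {r : R4} (hr : p r) {g : G} (hg : g ∈ Z r) : g⁻¹ = g := by
  exact inv_eq_of_mul_eq_one_right (h.sq hr hg)

theorem com_self {r : R4} (hr : p r) {g g' : G} (hg : g ∈ Z r) (hg' : g' ∈ Z r) : g * g' = g' * g := by
  rw [← h.inv hr (mul_mem hg hg'), mul_inv_rev, h.inv hr hg, h.inv hr hg']

theorem xZ {r : R4} (hr : p r) (c : F) : S.x r c ∈ Z r := by
  exact (h.mem r hr _).2 (h.hat_x r c)

theorem ovr {r : R4} (hr : p r) {g : G} (hg : g ∈ Z r) : ∃ c, g * t * g⁻¹ = t * S.x r c := by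
  exact ((h.mem r hr g).1 hg).2.1.imp fun _ e => e.2

theorem inT {r : R4} (hr : p r) {g : G} (hg : g ∈ Z r) {c : F} (e : g * t * g⁻¹ = t * S.x r c) : InT S t r c g := by
  obtain ⟨d, h1⟩ := ((h.mem r hr g).1 hg).2.1
  exact ⟨h1.1, e⟩

theorem cx' {r s : R4} (hr : p r) (hs : Yr r s) {g : G} (hg : g ∈ Z r) (u : F) : g * S.x s u = S.x s u * g := by
  obtain ⟨d, h1⟩ := ((h.mem r hr g).1 hg).2.1
  exact h1.comm hs u

theorem ovr_eq {r : R4} (hr : p r) {g g' : G} (hg : g ∈ Z r) (hg' : g' ∈ Z r)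
    (e : g * t * g⁻¹ = g' * t * g'⁻¹) : ∃ c, g = g' * S.x r c := by
  obtain ⟨c, hc⟩ := S.mem_X_iff.1 (h.ker r hr _ (mul_mem (inv_mem hg') hg) (by
    calc g'⁻¹ * g * t = g'⁻¹ * (g * t * g⁻¹) * g := by group
      _ = t * (g'⁻¹ * g) := by rw [e]; group))
  exact ⟨c, eq_mul_of_inv_mul_eq hc⟩

theorem conj_gen {n : G} (hn' : n * t = t * n) {r r' : R4} (hr : p r) (hr' : p r') {f : F → F}
    (hf : Function.Surjective f) (hn : ∀ c, n * S.x r c * n⁻¹ = S.x r' (f c)) {g : G} (hg : g ∈ Z r)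
    (h1 : n * g * n⁻¹ ∈ centralizer (Yo S r' : Set G)) : n * g * n⁻¹ ∈ Z r' := by
  have e : n * t * n⁻¹ = t := by rw [hn', mul_inv_cancel_right]
  obtain ⟨c, h2⟩ := h.ovr hr hg
  refine (h.mem _ hr' _).2 ⟨by rw [conj_mul, h.sq hr hg, mul_one, mul_inv_cancel], ⟨f c, h1, ?_⟩, fun d h3 => ?_⟩
  · rw [← hn]
    conv => rw [← e]
    rw [conj_mul, conj_mul, ← h2]; group
  · obtain ⟨d, rfl⟩ := hf d
    refine ((h.mem r hr g).1 hg).2.2 d ((MulAut.conj n).injective ?_)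
    rw [MulAut.conj_apply, MulAut.conj_apply, h3, ← conj_mul, hn, e]

theorem conj_ex {n : G} {w : R4 → R4} (hw : Iso4 w) (hn : Ex S n w) (hn' : n * t = t * n) {r : R4} (hr : p r)
    (hr' : p (w r)) {g : G} (hg : g ∈ Z r) : n * g * n⁻¹ ∈ Z (w r) := by
  obtain ⟨c, h1⟩ := ((h.mem r hr g).1 hg).2.1
  exact h.conj_gen hn' hr hr' Function.surjective_id (hn r) hg (h1.conj hw hn hn').1

theorem conj_nw (L : List R4) {r : R4} (hr : p r) (hr' : p (wd L r)) {g : G} (hg : g ∈ Z r) :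
    nw S L * g * (nw S L)⁻¹ ∈ Z (wd L r) := by
  exact h.conj_ex (iso_wd L) (h.amb.ex_nw L) (h.com (nw_mem L)) hr hr' hg

theorem conj_H {a : G} (ha : a ∈ S.H) {r : R4} (hr : p r) {g : G} (hg : g ∈ Z r) : a * g * a⁻¹ ∈ Z r := by
  obtain ⟨c, h1⟩ := ((h.mem r hr g).1 hg).2.1
  obtain ⟨d, d0, -, -, hd⟩ := h.amb.H_conj ha
  have e := h.com (S.H_le_grp ha)
  exact h.conj_gen e hr hr (mul_left_surjective₀ (d0 r)) (hd r) hg (h1.conj_H h.amb ha e (hd r)).1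

theorem conj_std {s : G} {σ : F ≃+* F} (hs : Std S s σ) (hs' : s * t = t * s) {r : R4} (hr : p r) {g : G}
    (hg : g ∈ Z r) : s * g * s⁻¹ ∈ Z r := by
  obtain ⟨c, h1⟩ := ((h.mem r hr g).1 hg).2.1
  refine h.conj_gen hs' hr hr σ.surjective (hs r) hg fun y hy => ?_
  have := h1.1 _ (hs.inv.conj_mem hy)
  rw [show y * (s * g * s⁻¹) = s * (s⁻¹ * y * s⁻¹⁻¹ * g) * s⁻¹ by group, this]
  group

/-- the value of a commutator -/
theorem cx_ovr {a b k : R4} (ha : p a) (hk : Cm a b k) {g : G} (hg : g ∈ Z a) {c : F}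
    (e : g * t * g⁻¹ = t * S.x a c) (u : F) :
    g * S.x b u * g⁻¹ * (S.x b u)⁻¹ * t * (g * S.x b u * g⁻¹ * (S.x b u)⁻¹)⁻¹ = t * S.x k (u * c) := by
  have e1 : ∀ r d, S.x r d * t * (S.x r d)⁻¹ = t := fun r d => by
    rw [h.com (S.x_mem_grp r d), mul_inv_cancel_right]
  have e2 : g⁻¹ * t * g = t * S.x a c := by simpa using ((h.inT ha hg e).inv h.amb).2
  have e3 : g * S.x k (u * c) * g⁻¹ = S.x k (u * c) := by
    rw [h.cx' ha (.inl (by rw [ip4_comm]; exact (BA4.cm_ip hk).2.1)) hg, mul_inv_cancel_right]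
  have e4 : g * S.x a c * g⁻¹ = S.x a c := by rw [h.cx' ha (yr_self a) hg, mul_inv_cancel_right]
  have e5 : (S.x b u)⁻¹ * t * S.x b u = t := by rw [mul_assoc, ← h.com (S.x_mem_grp b u), inv_mul_cancel_left]
  calc _ = g * (S.x b u * (g⁻¹ * ((S.x b u)⁻¹ * t * S.x b u) * g) * (S.x b u)⁻¹) * g⁻¹ := by group
    _ = g * t * g⁻¹ * (g * S.x a c * g⁻¹) * (g * S.x k (u * c) * g⁻¹) := by
      rw [e5, e2, ← conj_mul (b := S.x b u), e1, h.amb.conj_cm hk.symm]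
      group
    _ = _ := by rw [e, e3, e4, mul_assoc t, h.amb.x_sq, mul_one]

/-- removing the elements of `C(L)`: `P` is a 2-element which moves `t` by `y` -/
theorem kill {P k y : G} (hk : k ∈ CL S) (hkt : k * t = t * k) (hP : CO S t P) (h2 : P * k * (P * k) = 1)
    (h3 : P * P ∈ S.grp) (hy : y ∈ S.grp) (h4 : P * t * P⁻¹ = t * y) (h5 : P * P ≠ y) : k = 1 := by
  rcases h.odd_or h.two hk hkt with ho | ho
  · have c1 : Commute P k := hP k hk hkt ho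
    rw [c1.symm.mul_mul_mul_comm] at h2
    exact h1_odd ho (h.amb.eq_one (eq_inv_of_mul_eq_one_right h2 ▸ inv_mem h3) (mul_mem hk hk))
  obtain ⟨o, rfl⟩ : ∃ o, k = o * t := ⟨k * t, by rw [mul_assoc, h.t2, mul_one]⟩
  rw [mul_assoc, h.t2, mul_one] at ho
  rw [mul_mem_cancel_right h.tC] at hk
  have c4 : Commute o t := by rwa [← mul_assoc t, mul_left_inj] at hkt
  have c1 : Commute P o := hP o hk c4 ho
  have e1 : P * (o * t) = o * (P * t) := by rw [← mul_assoc, c1.eq, mul_assoc]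
  have e2 : P * t * (P * t) = y * (P * P) := by
    calc _ = P * t * P⁻¹ * (P * P) * t := by group
      _ = _ := by rw [h4, mul_assoc t, ← h.com (mul_mem hy h3), mul_assoc, h.t2, mul_one]
  have e3 : y * y = 1 := by
    have : P * t * P⁻¹ * (P * t * P⁻¹) = P * (t * t) * P⁻¹ := conj_mul
    rwa [h4, h.t2, mul_one, mul_inv_cancel, mul_assoc, ← mul_assoc y, h.com hy, ← mul_assoc, ← mul_assoc, h.t2,
      one_mul] at this
  rw [e1, (c1.symm.mul_right c4).symm.mul_mul_mul_comm, e2] at h2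
  have e4 := h.amb.eq_one (mul_mem hy h3) (eq_inv_of_mul_eq_one_right h2 ▸ inv_mem (mul_mem hk hk))
  exact absurd (mul_left_cancel (e4.trans e3.symm)) h5

end H1

end CfsgLib.SLF
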