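import Mathlib
import Cfsg.Agent.Lib.SLF.Hat1

/-!
# Long root elements acting on short hats
-/

set_option autoImplicit false
set_option linter.unusedSectionVars false

namespace CfsgLib.SLF

open Cfsg.Lie CfsgLib.RGD CfsgLib.Stein CfsgLib.Semi CfsgLib.SLE CfsgLib.UFP Subgroup
open scoped commutatorElement Pointwise

universe u

variable {F : Type} [Field F] [Finite F] [CharP F 2] {G : Type u} [Group G] [Finite G]
  {S : StSys ΦF4 F G}

theorem h3_conj {a b : G} (h : a * b = b * a) : a * b * a⁻¹ = b := by rw [h, mul_inv_cancel_right]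

theorem h3_cases : ∀ l b : R4, Ls l b (rf4 l b) (rf4 b l) → ∀ s, 1 ≤ ip4 s (rf4 b l) →
    s = b ∨ s = rf4 l b ∨ (Yr b s ∧ Yr (rf4 l b) s ∧ (0 ≤ ip4 l s ∨ Cm l s (rf4 l s) ∧ Yr b (rf4 l s))) := by
  decide +kernel

theorem h3_rf : ∀ l b : R4, Lg l → ¬ Lg b → ip4 l b = -2 → Ls l b (rf4 l b) (rf4 b l) := by decide +kernel

theorem h3_ex : ∀ b k : R4, ¬ Lg b → ¬ Lg k → ip4 b k = 0 → ∃ l, Ls l b k (rf4 b l) := by decide +kernel

theorem Ls.eq_rf {l b k m : R4} (h : Ls l b k m) : k = rf4 l b ∧ m = rf4 b l := by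
  have k1 := h3_rf l b h.1 h.2.1 h.ip.1
  obtain rfl := h.2.2.1.uniq k1.2.2.1
  exact ⟨rfl, h.2.2.2.uniq k1.2.2.2⟩

theorem Ot.ls {b k m : R4} (h : Ot b k m) : ∃ l, Ls l b k m := by
  obtain ⟨l, hl⟩ := h3_ex b k h.1 h.2.1 h.ip
  exact ⟨l, h.symm.2.2.1.uniq hl.2.2.2 ▸ hl⟩

theorem Ot.yr {b k m : R4} (h : Ot b k m) : Yr b m := by
  obtain ⟨l, hl⟩ := h.ls
  exact .inl (by rw [ip4_comm, (BA4.ls_ip hl).2.2.1]; omega)

theorem Amb.h3_two (A : Amb S) {k m : R4} (hk : ¬ Lg k) (hm : Lg m) {c e : F} (h : S.x k c * S.x m e = 1) :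
    c = 0 ∧ e = 0 := by
  have c0 : c = 0 := by_contra fun hc => hk (by
    rwa [(A.x_inj hc ((eq_inv_of_mul_eq_one_left h).trans (A.x_inv m e))).1])
  rw [c0, S.x_zero, one_mul] at h
  exact ⟨c0, A.x_eq_one.1 h⟩

theorem Amb.h3_three (A : Amb S) {b k m : R4} (hm : Ot b k m) {c d e : F} (h : S.x b c * (S.x k d * S.x m e) = 1) :
    c = 0 ∧ d = 0 ∧ e = 0 := by
  obtain ⟨l, hl⟩ := hm.ls
  obtain ⟨-, -, -, p1, p2⟩ := BA4.ls_ip hl
  have k1 := congrArg (fun y => S.x l 1 * y * (S.x l 1)⁻¹) h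
  simp only [← conj_mul, h3_conj (A.com (p1 ▸ two_pos.le) _ _), h3_conj (A.com p2.ge _ _), A.conj_ls hl] at k1
  rw [mul_one, mul_inv_cancel, ← h, mul_left_inj, mul_eq_left, one_mul] at k1
  have c0 := (A.h3_two hm.2.1 hm.2.2.2 k1).1
  rw [c0, S.x_zero, one_mul] at h
  exact ⟨c0, A.h3_two hm.2.1 hm.2.2.2 h⟩

namespace HS

variable {t : G} {κ : F} {Z : R4 → Subgroup G} (h : HS S t κ Z)
include h

theorem h3_t {b k m : R4} (hm : Ot b k m) {g g' : G} (hg : g ∈ Z b) {c c' : F}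
    (e : g * t * g⁻¹ = t * S.x b c) (e' : g' * t * g'⁻¹ = t * S.x k c') :
    g * g' * t * (g * g')⁻¹ = t * (S.x b c * (S.x k c' * S.x m (κ * c * c'))) := by
  rw [show g * g' * t * (g * g')⁻¹ = g * (g' * t * g'⁻¹) * g⁻¹ by group, e', ← conj_mul, e,
    h.mv k b m hm.symm g hg c e, mul_assoc]

theorem h3_xt (r : R4) (c : F) : S.x r c * t * (S.x r c)⁻¹ = t := h3_conj (h.toSit.com (S.x_mem_grp r c))

theorem conj_long (hk : κ ≠ 1) : IsConj t (t * S.x 47 1) := by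
  have A := h.amb
  have hl : Ls 6 44 29 47 := by decide
  obtain ⟨g, hg, e⟩ := h.surj 29 (by decide) 1
  obtain ⟨g', hg', e'⟩ := h.surj 44 (by decide) 1
  have k1 := h.h3_t hl.ot hg e e'
  have k2 : S.x 6 1 * (t * (S.x 29 1 * (S.x 44 1 * S.x 47 (κ * 1 * 1)))) * (S.x 6 1)⁻¹ =
      g' * (t * S.x 47 (1 + κ)) * g'⁻¹ := by
    simp only [← conj_mul, h.h3_xt, h3_conj (A.com (a := 6) (b := 29) (by decide) _ _),
      h3_conj (A.com (a := 6) (b := 47) (by decide) _ _), A.conj_ls hl, e',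
      h3_conj (h.toH1.cx' (r := 44) (s := 47) (by decide) (by decide) hg' _)]
    rw [S.x_add, mul_one, mul_one, one_pow, mul_one, mul_one, ← mul_assoc (S.x 44 1),
      A.com (a := 44) (b := 29) (by decide)]
    simp only [← mul_assoc]
    rw [mul_assoc t (S.x 29 1), A.x_sq, mul_one]
  obtain ⟨a, ha, L, -, k3⟩ := A.exists_conj_x (r := 47) (s := 47) Iff.rfl (c := 1 + κ)
    (by rw [Ne, CharTwo.add_eq_zero]; exact hk.symm)
  have k4 : IsConj (t * S.x 47 1) (t * S.x 47 (1 + κ)) := isConj_iff.2 ⟨_, by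
    rw [← conj_mul, k3, h3_conj (h.toSit.com (mul_mem (S.H_le_grp ha) (nw_mem L)))]⟩
  exact (((isConj_iff.2 ⟨_, k1⟩).trans (isConj_iff.2 ⟨_, k2⟩)).trans (isConj_iff.2 ⟨_, rfl⟩).symm).trans k4.symm

theorem lsw {l b k m : R4} (hl : Ls l b k m) {g g' : G} (hg : g ∈ Z b) (hg' : g' ∈ Z k) {c d : F}
    (e : g * t * g⁻¹ = t * S.x b c) (e' : g' * t * g'⁻¹ = t * S.x k (d * c)) {w : G}
    (hw : w = (g * g')⁻¹ * (S.x l d * g * (S.x l d)⁻¹)) :
    w ∈ centralizer (Q4 S m : Set G) ∧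
      (∀ s, Lg s → ip4 s b = 0 → ip4 s k = 0 → ∀ u, w * S.x s u = S.x s u * w) ∧
      w * t * w⁻¹ = t * S.x m (d * c ^ 2 * (1 + κ)) := by
  have A := h.amb
  have hm := hl.ot
  have sb := hl.2.1
  have sk := hm.1
  obtain ⟨-, p0, -, p1, p2⟩ := BA4.ls_ip hl
  have xk : ∀ u, S.x l d * S.x k u * (S.x l d)⁻¹ = S.x k u := fun u => h3_conj (A.com (p1 ▸ two_pos.le) _ _)
  have xm : ∀ u, S.x l d * S.x m u * (S.x l d)⁻¹ = S.x m u := fun u => h3_conj (A.com p2.ge _ _)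
  have gx : ∀ {s}, Yr b s → ∀ u, g * S.x s u * g⁻¹ = S.x s u := fun hs u => h3_conj (h.toH1.cx' sb hs hg u)
  have gx' : ∀ {s}, Yr k s → ∀ u, g' * S.x s u * g'⁻¹ = S.x s u := fun hs u => h3_conj (h.toH1.cx' sk hs hg' u)
  have xx : ∀ y, S.x l d * (S.x l d * y * (S.x l d)⁻¹) * (S.x l d)⁻¹ = y := fun y => by
    rw [show S.x l d * (S.x l d * y * (S.x l d)⁻¹) * (S.x l d)⁻¹ =
      S.x l d * S.x l d * y * (S.x l d * S.x l d)⁻¹ by group, A.x_sq]; simp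
  have key : ∀ y, S.x l d * (g * (S.x l d * y * (S.x l d)⁻¹) * g⁻¹) * (S.x l d)⁻¹ = g * (g' * y * g'⁻¹) * g⁻¹ →
      w * y = y * w := fun y hy => by
    rw [← mul_inv_eq_iff_eq_mul, hw]
    calc _ = (g * g')⁻¹ * (S.x l d * (g * ((S.x l d)⁻¹ * y * (S.x l d)⁻¹⁻¹) * g⁻¹) * (S.x l d)⁻¹) * (g * g') := by
          group
      _ = _ := by
          rw [A.x_inv l d] at hy
          simp only [A.x_inv l d, hy]; group
  have k0 : ∀ s, Yr b s → Yr k s → 0 ≤ ip4 l s → ∀ u, w * S.x s u = S.x s u * w := fun s h1 h2 h3 u =>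
    key _ (by rw [h3_conj (A.com h3 _ _), gx h1, h3_conj (A.com h3 _ _), gx' h2, gx h1])
  refine ⟨fun y hy => (mem_centralizer_singleton_iff.1 ((S.UU_le_iff (K := centralizer {w})).2
    (fun s hs u => mem_centralizer_singleton_iff.2 (Eq.symm ?_)) hy)), fun s s1 s2 s3 => k0 s
      (.inr ⟨s2, fun k => sb (k.1 s1)⟩) (.inr ⟨s3, fun k => sk (k.1 s1)⟩)
      (by have := hl.2.2.1.ip' s; rw [ip4_comm]; omega), ?_⟩
  · obtain ⟨e1, e2⟩ := hl.eq_rf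
    rcases h3_cases l b (e1 ▸ e2 ▸ hl) s (e2 ▸ hs) with rfl | h1 | ⟨h1, h2, h3 | ⟨h3, h4⟩⟩
    · refine key _ ?_
      rw [A.conj_ls hl, h.mv s k m hm.symm g' hg' _ e']
      simp only [← conj_mul, gx (yr_self s), gx hm.symm.yr, h.mv k s m hm g hg c e, A.conj_ls hl, xk, xm]
      rw [mul_assoc, mul_right_inj, mul_assoc, ← mul_assoc (S.x m _), ← mul_assoc (S.x m _),
        ← A.com (a := k) (b := m) ((BA4.ls_ip hl).1 ▸ two_pos.le)]
      simp only [← mul_assoc]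
      rw [A.x_sq, one_mul, ← S.x_add, ← S.x_add]
      congr 1
      linear_combination (d * u ^ 2) * CharTwo.two_eq_zero (R := F)
    · rw [h1, ← e1]
      refine key _ ?_
      rw [xk, gx' (yr_self k), h.mv k b m hm g hg c e, ← conj_mul, xk, xm]
    · exact k0 s h1 (e1 ▸ h2) h3 u
    · refine key _ ?_
      rw [gx' (e1 ▸ h2), gx h1, A.conj_cm h3, ← conj_mul (b := g), gx h1, gx h4, ← A.conj_cm h3, xx]
  · have k1 : S.x l d * g * (S.x l d)⁻¹ * t * (S.x l d * g * (S.x l d)⁻¹)⁻¹ =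
        g * g' * (t * S.x m (d * c ^ 2 * (1 + κ))) * (g * g')⁻¹ := by
      rw [← conj_mul (b := g * g'), h.h3_t hm.symm hg e e',
        h3_conj (Commute.mul_left (h.toH1.cx' sb hm.symm.yr hg _) (h.toH1.cx' sk hm.yr hg' _)).eq]
      conv_lhs => rw [← h.h3_xt l d, conj_inv, conj_mul, conj_mul, e, ← conj_mul, h.h3_xt, A.conj_ls hl]
      simp only [mul_assoc, ← S.x_add]
      congr 5
      linear_combination (-(d * c ^ 2 * κ)) * CharTwo.two_eq_zero (R := F)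
    rw [hw]
    calc _ = (g * g')⁻¹ * (S.x l d * g * (S.x l d)⁻¹ * t * (S.x l d * g * (S.x l d)⁻¹)⁻¹) * (g * g') := by group
      _ = _ := by rw [k1]; group

theorem ls1 (hk : κ = 1) {l b k m : R4} (hl : Ls l b k m) {g : G} (hg : g ∈ Z b) (d : F) :
    ∃ g' ∈ Z k, ∃ e, S.x l d * g * (S.x l d)⁻¹ = g * g' * S.x m e := by
  subst hk
  have A := h.amb
  have hm := hl.ot
  have sb := hl.2.1
  have sk := hm.1
  obtain ⟨p3, p0, p4, p1, p2⟩ := BA4.ls_ip hl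
  obtain ⟨c, e⟩ := h.toH1.ovr sb hg
  by_cases hc : c = 0
  · obtain ⟨u, rfl⟩ := S.mem_X_iff.1 (h.ker b sb g hg (by
      rw [← mul_inv_eq_iff_eq_mul, e, hc, S.x_zero, mul_one]))
    exact ⟨_, h.toH1.xZ sk (d * u), d * u ^ 2, by rw [A.conj_ls hl, mul_assoc]⟩
  by_cases hd : d = 0
  · exact ⟨1, one_mem _, 0, by simp [hd, S.x_zero]⟩
  obtain ⟨g', hg', e'⟩ := h.surj k sk (d * c)
  obtain ⟨w1, w2, w3⟩ := h.lsw hl hg hg' e e' rfl
  rw [CharTwo.add_self_eq_zero, mul_zero, S.x_zero, mul_one, mul_inv_eq_iff_eq_mul] at w3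
  obtain ⟨c1, d1, e1, z, hz, w4⟩ := A.cen_QD (h.CN (mem_centralizer_singleton_iff.2 w3)) hm.symm w1 w2
  have zt : z * t = t * z := by
    rwa [w4, ← mul_assoc t, ← h.toSit.com (mul_mem (mul_mem (S.x_mem_grp _ _) (S.x_mem_grp _ _)) (S.x_mem_grp _ _)),
      mul_assoc _ z, mul_assoc _ t, mul_right_inj] at w3
  have km : ∀ u v, Commute (S.x k u) (S.x m v) := A.com (p3 ▸ two_pos.le)
  have bm : ∀ u v, Commute (S.x b u) (S.x m v) := A.com (p4 ▸ two_pos.le)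
  have m2 := mul_mem hg' (h.toH1.xZ sk d1)
  have e2 : g' * S.x k d1 * t * (g' * S.x k d1)⁻¹ = t * S.x k (d * c) := by
    rw [← e']; conv_rhs => rw [← h.h3_xt k d1]
    group
  have k1 : S.x l d * g * (S.x l d)⁻¹ = g * S.x b c1 * (g' * S.x k d1) * S.x m (1 * (d * c) * c1 + e1) * z := by
    rw [eq_mul_of_inv_mul_eq w4, S.x_add]
    have k0 := mul_inv_eq_iff_eq_mul.1 (h.mv b k m hm.symm g' hg' _ e' c1)
    generalize 1 * (d * c) * c1 = f at k0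
    simp only [mul_assoc]
    rw [← mul_assoc g', k0, mul_assoc, mul_assoc, (km d1 f).left_comm,
      Commute.left_comm (h.toH1.cx' sk hm.yr hg' f)]
  generalize g' * S.x k d1 = g2 at m2 e2 k1
  generalize 1 * (d * c) * c1 + e1 = f at k1
  have c2 : ∀ u, Commute g2 (S.x m u) := h.toH1.cx' sk hm.yr m2
  have m1 := mul_mem hg (h.toH1.xZ sb c1)
  have z1 : z = 1 := by
    have e3 : g * S.x b c1 * t * (g * S.x b c1)⁻¹ = t * S.x b c := by
      rw [← e]; conv_rhs => rw [← h.h3_xt b c1]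
      group
    have k2 := congrArg (fun y => y * y) k1
    simp only [conj_mul, h.toH1.sq sb hg, mul_one, mul_inv_cancel] at k2
    generalize g * S.x b c1 = g1 at m1 e3 k2
    obtain ⟨e4, k3⟩ := h.ort b k m hm.symm g1 m1 g2 m2
    have k4 : g1 * g2 * S.x m f * (g1 * g2 * S.x m f) = S.x m (1 * e4) := by
      rw [(Commute.mul_left (h.toH1.cx' sb hm.symm.yr m1 f) (c2 f)).symm.mul_mul_mul_comm, A.x_sq, mul_one, ← k3,
        h.toH1.inv sb m1, h.toH1.inv sk m2, ← mul_assoc]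
    refine h.toH1.kill (y := S.x b c * (S.x k (d * c) * S.x m (1 * c * (d * c)))) hz zt
      (CO.mul' (CO.mul' (h.co b sb _ m1) (h.co k sk _ m2)) (co_of_mem (S.x_mem_grp _ _))) k2.symm
      (k4 ▸ S.x_mem_grp _ _) (mul_mem (S.x_mem_grp _ _) (mul_mem (S.x_mem_grp _ _) (S.x_mem_grp _ _))) ?_ fun k5 => ?_
    · rw [← h.h3_t hm.symm m1 e3 e2]
      conv_rhs => rw [← h.h3_xt m f]
      group
    · refine hc (A.h3_three hm.symm (d := d * c) (e := 1 * c * (d * c) + 1 * e4) ?_).1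
      rw [S.x_add, ← mul_assoc (S.x k _), ← mul_assoc, ← k5, k4, A.x_sq]
  rw [z1, mul_one] at k1
  have k2 := congrArg (fun y => S.x l d * y * (S.x l d)⁻¹) k1
  simp only [← conj_mul] at k2
  rw [show S.x l d * S.x l d * (S.x l d)⁻¹ * (S.x l d * g * (S.x l d)⁻¹) * (S.x l d * (S.x l d)⁻¹ * (S.x l d)⁻¹) =
      S.x l d * S.x l d * g * (S.x l d * S.x l d)⁻¹ by group, A.x_sq, one_mul, inv_one, mul_one, k1, A.conj_ls hl,
    h3_conj (h.toH1.cx' sk (.inl (p1 ▸ two_pos)) m2 d).symm, h3_conj (A.com p2.ge _ _)] at k2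
  have k3 := mul_inv_eq_iff_eq_mul.1 (h.mv b k m hm.symm g2 m2 _ e2 c1)
  simp only [mul_assoc, left_eq_mul] at k2 k3
  rw [(c2 _).left_comm, ← mul_assoc g2, k3, mul_assoc, mul_assoc, Commute.left_comm (h.toH1.cx' sk (yr_self k) m2 _),
    (c2 _).left_comm, ← mul_assoc g2, h.toH1.sq sk m2, one_mul, (bm _ _).symm.left_comm, ← mul_assoc, A.x_sq,
    one_mul, one_mul, (km _ _).symm.left_comm, (km _ _).symm.left_comm, ← S.x_add, ← S.x_add, ← S.x_add] at k2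
  rw [(mul_eq_zero.1 (A.h3_two sk hm.2.2.2 k2).1).resolve_left hd, S.x_zero, mul_one] at k1
  exact ⟨g2, m2, f, k1⟩

/-- independence -/
theorem indep {b k m : R4} (hm : Ot b k m) {g g' : G} (hg : g ∈ Z b) (hg' : g' ∈ Z k) {e : F}
    (h1 : g * g' * S.x m e = 1) : g = 1 ∧ g' = 1 ∧ e = 0 := by
  obtain ⟨c, e1⟩ := h.toH1.ovr hm.1 hg
  obtain ⟨c', e2⟩ := h.toH1.ovr hm.2.1 hg'
  have k1 := h.h3_t hm hg e1 e2
  rw [(eq_inv_of_mul_eq_one_left h1).trans (h.amb.x_inv m e), h.h3_xt, left_eq_mul] at k1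
  obtain ⟨rfl, rfl, -⟩ := h.amb.h3_three hm k1
  rw [S.x_zero, mul_one, mul_inv_eq_iff_eq_mul] at e1 e2
  obtain ⟨u, rfl⟩ := S.mem_X_iff.1 (h.ker b hm.1 g hg e1)
  obtain ⟨v, rfl⟩ := S.mem_X_iff.1 (h.ker k hm.2.1 g' hg' e2)
  obtain ⟨rfl, rfl, rfl⟩ := h.amb.h3_three hm (mul_assoc (S.x b u) _ _ ▸ h1)
  exact ⟨S.x_zero _, S.x_zero _, rfl⟩

end HS

end CfsgLib.SLF
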