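import Mathlib
import Cfsg.Agent.Lib.SLF.Hat3

/-!
# Long and short hats
-/

set_option autoImplicit false
set_option linter.unusedSectionVars false

namespace CfsgLib.SLF

open Cfsg.Lie CfsgLib.RGD CfsgLib.Stein CfsgLib.Semi CfsgLib.SLE CfsgLib.UFP Subgroup
open scoped commutatorElement Pointwise

universe u

variable {F : Type} [Field F] [Finite F] [CharP F 2] {G : Type u} [Group G] [Finite G]
  {S : StSys ΦF4 F G}

theorem bo_conj {g x : G} (h : g * x = x * g) : g * x * g⁻¹ = x := by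
  rw [h, mul_inv_cancel_right]

theorem bo_of_conj {g x : G} (h : g * x * g⁻¹ = x) : g * x = x * g := by
  rw [← mul_inv_eq_iff_eq_mul]; exact h

theorem bo_com {g k : G} (h : g * k * g⁻¹ * k⁻¹ = 1) : g * k = k * g := by
  rwa [mul_inv_eq_one, mul_inv_eq_iff_eq_mul] at h

theorem bo_odd {o : G} (ho : Odd (orderOf o)) (h : o * o = 1) : o = 1 := by
  have h1 : orderOf o ∣ 2 := orderOf_dvd_of_pow_eq_one (by rw [pow_two, h])
  rcases (Nat.dvd_prime Nat.prime_two).1 h1 with h2 | h2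
  · exact orderOf_eq_one_iff.1 h2
  · rw [h2] at ho; exact absurd ho (by decide)

theorem bo_sqrt (c : F) : ∃ d : F, d ^ 2 = c := surjective_frobenius F 2 c

theorem bo_ip {a b : R4} (h : Yr a b) : 0 ≤ ip4 b a := h.elim le_of_lt fun e => e.1.ge

theorem bo_self : ∀ a : R4, Yr a a := by decide +kernel

theorem bo_xx (A : Amb S) {a b : R4} (hab : a ≠ b) {c e : F} (h : S.x a c = S.x b e) :
    c = 0 ∧ e = 0 := by
  have c0 : c = 0 := by_contra fun c0 => hab (A.x_inj c0 h).1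
  rw [c0, S.x_zero, eq_comm, A.x_eq_one] at h
  exact ⟨c0, h⟩

section mix

variable {t : G} {p p' : R4 → Prop} {Z Z' : R4 → Subgroup G} (h : H1 S t p Z) (h' : H1 S t p' Z')
include h h'

/-- the commutator of two hats lies in `X_a X_b` -/
theorem bo_mixA {a b : R4} (pa : p a) (pb : p' b) (hab : a ≠ b) (ab : Yr a b) (ba : Yr b a) {g k : G}
    (hg : g ∈ Z a) (hk : k ∈ Z' b) (hc : g * k * g⁻¹ * k⁻¹ ∈ NL S →
      ∃ c e, ∃ y ∈ CL S, g * k * g⁻¹ * k⁻¹ = S.x a c * S.x b e * y) :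
    ∃ c e, g * k * g⁻¹ * k⁻¹ = S.x a c * S.x b e := by
  have A := h.amb
  have ga := h.cx' pa (bo_self a) hg
  have gb := h.cx' pa ab hg
  have ka := h'.cx' pb ba hk
  have kb := h'.cx' pb (bo_self b) hk
  have xab := A.com (bo_ip ba)
  have g2 := h.sq pa hg
  have k2 := h'.sq pb hk
  have gi := h.inv pa hg
  have ki := h'.inv pb hk
  have sq : ∀ c e, S.x a c * S.x b e * (S.x a c * S.x b e) = 1 := fun c e => by
    rw [mul_assoc, ← mul_assoc (S.x b e), ← xab, mul_assoc, A.x_sq, mul_one, A.x_sq]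
  obtain ⟨c, hc₁⟩ := h.ovr pa hg
  obtain ⟨c', hc'⟩ := h'.ovr pb hk
  have e1 : g * k * t * (g * k)⁻¹ = t * (S.x a c * S.x b c') := by
    rw [show g * k * t * (g * k)⁻¹ = g * (k * t * k⁻¹) * g⁻¹ by group, hc', ← conj_mul, hc₁,
      bo_conj (gb c'), mul_assoc]
  have e2 : g * k * (S.x a c * S.x b c') * (g * k)⁻¹ = S.x a c * S.x b c' :=
    bo_conj (Commute.mul_left (Commute.mul_right (ga c) (gb c')) (Commute.mul_right (ka c) (kb c')))
  have e0 : g * k * g⁻¹ * k⁻¹ = g * k * (g * k) := by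
    rw [gi, ki]; simp only [mul_assoc]
  have e3 : g * k * g⁻¹ * k⁻¹ * t = t * (g * k * g⁻¹ * k⁻¹) := by
    refine bo_of_conj ?_
    rw [e0, show g * k * (g * k) * t * (g * k * (g * k))⁻¹ =
      g * k * (g * k * t * (g * k)⁻¹) * (g * k)⁻¹ by group, e1, ← conj_mul, e1, e2, mul_assoc, sq,
      mul_one]
  obtain ⟨u, v, y, hy, e4⟩ := hc (h.CN (mem_centralizer_singleton_iff.2 e3))
  have hm : S.x a u * S.x b v ∈ S.grp := mul_mem (S.x_mem_grp a u) (S.x_mem_grp b v)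
  have gm : g * (S.x a u * S.x b v) = _ := Commute.mul_right (ga u) (gb v)
  have km : k * (S.x a u * S.x b v) = _ := Commute.mul_right (ka u) (kb v)
  have m2 := sq u v
  obtain ⟨o, ho, ot, oo, e5⟩ := h.toSit.split h.two hm hy e4 e3
  have i1 : g * (g * k * g⁻¹ * k⁻¹) * g⁻¹ = (g * k * g⁻¹ * k⁻¹)⁻¹ := by
    simp only [mul_inv_rev, gi, ki, ← mul_assoc, g2, one_mul]
  have i2 : k * (g * k * g⁻¹ * k⁻¹) * k⁻¹ = (g * k * g⁻¹ * k⁻¹)⁻¹ := by
    simp only [mul_inv_rev, gi, ki, mul_assoc, k2, mul_one]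
  have go := h.co a pa g hg o ho ot oo
  have ko := h'.co b pb k hk o ho ot oo
  rcases e5 with e5 | e5
  · refine ⟨u, v, ?_⟩
    rw [e5, bo_conj (Commute.mul_right gm go), eq_inv_iff_mul_eq_one, mul_assoc, ← mul_assoc o,
      ← ho _ hm, ← mul_assoc, ← mul_assoc, m2, one_mul] at i1
    rw [e5, bo_odd oo i1, mul_one]
  · generalize S.x a u * S.x b v = m at gm km e5
    rw [← i1, e5, ← conj_mul, ← conj_mul, ← conj_mul, ← conj_mul, bo_conj gm, bo_conj km, bo_conj go,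
      bo_conj ko, hc₁, hc', mul_right_inj, mul_right_inj] at i2
    rw [(bo_xx A hab i2.symm).1, S.x_zero, mul_one] at hc₁
    obtain ⟨w, rfl⟩ := S.mem_X_iff.1 (h.ker a pa g hg (bo_of_conj hc₁))
    exact ⟨0, 0, by rw [← ka w, S.x_zero, S.x_zero]; group⟩

/-- the `X_b`-part of the commutator vanishes -/
theorem bo_mixB {a a₀ s b : R4} (pa : p a) (pa₀ : p a₀) (pb : p' b) (hs : Cm a₀ s a) (hab : a ≠ b)
    (aa : Yr a₀ a) (ab : Yr a₀ b) (ba : Yr b a) (bs : Yr b s) {k : G} (hk : k ∈ Z' b)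
    (H : ∀ g ∈ Z a, ∃ c e, g * k * g⁻¹ * k⁻¹ = S.x a c * S.x b e)
    (H₀ : ∀ g ∈ Z a₀, ∃ c e, g * k * g⁻¹ * k⁻¹ = S.x a₀ c * S.x b e) {g : G} (hg : g ∈ Z a) :
    ∃ c, g * k * g⁻¹ * k⁻¹ = S.x a c := by
  have A := h.amb
  obtain ⟨c, hc⟩ := h.ovr pa hg
  obtain ⟨g₀, hg₀, e0⟩ := h.surj a₀ pa₀ c
  have h1 := h.cx_ovr pa₀ hs hg₀ e0 1
  rw [one_mul, ← hc] at h1
  have hk₁ := h.cx a₀ s a pa₀ hs g₀ hg₀ 1
  obtain ⟨u, rfl⟩ := h.ovr_eq pa hg hk₁ h1.symm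
  have j1 : S.x s 1 * g₀ * (S.x s 1)⁻¹ = g₀ * (g₀ * S.x s 1 * g₀⁻¹ * (S.x s 1)⁻¹) := by
    simp only [← mul_assoc, h.sq pa₀ hg₀, one_mul, h.inv pa₀ hg₀]
  generalize g₀ * S.x s 1 * g₀⁻¹ * (S.x s 1)⁻¹ = y at hk₁ j1
  obtain ⟨α, β, e1⟩ := H₀ g₀ hg₀
  obtain ⟨α', β', e2⟩ := H y hk₁
  have j2 := bo_conj (h'.cx' pb bs hk 1).symm
  have e3 : S.x s 1 * (g₀ * k * g₀⁻¹ * k⁻¹) * (S.x s 1)⁻¹ =
      g₀ * (y * k * y⁻¹ * k⁻¹) * g₀⁻¹ * (g₀ * k * g₀⁻¹ * k⁻¹) := by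
    rw [← conj_mul, ← conj_mul, ← conj_mul, ← conj_inv, ← conj_inv, j1, j2]
    group
  rw [e1, e2, bo_conj (Commute.mul_right (h.cx' pa₀ aa hg₀ α') (h.cx' pa₀ ab hg₀ β')), ← conj_mul,
    A.conj_cm hs.symm, bo_conj (A.com (bo_ip bs) 1 β), ← mul_assoc, mul_left_inj,
    ← A.com (bo_ip aa), mul_left_inj, ← inv_mul_eq_iff_eq_mul, A.x_inv, ← S.x_add] at e3
  refine ⟨α', ?_⟩
  rw [(bo_xx A hab e3).2, S.x_zero, mul_one] at e2
  rw [← e2, mul_assoc y, ← h'.cx' pb ba hk u]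
  group

end mix

theorem bo_rt : ∀ l b : R4, Lg l → ¬ Lg b → 0 ≤ ip4 l b →
    (∃ s, Cm (rf4 s l) s l ∧ ip4 s b = 0) ∧ ∃ s, Cm (rf4 s b) s b ∧ ip4 s l = 0 := by
  decide +kernel

theorem bo_yr {l b : R4} (hl : Lg l) (hb : ¬ Lg b) (h : 0 ≤ ip4 l b) : Yr l b ∧ Yr b l := by
  unfold Yr
  rw [ip4_comm b l]
  rcases h.eq_or_lt with e | e
  · exact ⟨.inr ⟨e.symm, fun i => hb (i.2 hl)⟩, .inr ⟨e.symm, fun i => hb (i.1 hl)⟩⟩
  · exact ⟨.inl e, .inl e⟩

theorem bo_cm {a s k : R4} (h : Cm a s k) : Yr a k := by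
  have h1 := h.1.ip a
  have h2 := h.ip
  have h3 := (bo_self a).resolve_right fun e => e.2 Iff.rfl
  rw [ip4_comm s a] at h1
  exact .inl (by omega)

/-- long and short hats commute -/
theorem bo_mix {t : G} {Z Z' : R4 → Subgroup G} (h : H1 S t (fun r => ¬ Lg r) Z) (h' : H1 S t Lg Z')
    {n : ℤ} (hn : 0 ≤ n) (hc : ∀ l b, Lg l → ¬ Lg b → ip4 l b = n → ∀ g ∈ Z' l, ∀ k ∈ Z b,
      g * k * g⁻¹ * k⁻¹ ∈ NL S → ∃ c e, ∃ y ∈ CL S, g * k * g⁻¹ * k⁻¹ = S.x l c * S.x b e * y)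
    {l b : R4} (hl : Lg l) (hb : ¬ Lg b) (hlb : ip4 l b = n) {g k : G} (hg : g ∈ Z' l)
    (hk : k ∈ Z b) : g * k = k * g := by
  have A := h.amb
  have ne : ∀ {l b}, Lg l → ¬ Lg b → l ≠ b := fun hl hb e => hb (e ▸ hl)
  have H : ∀ l b, Lg l → ¬ Lg b → ip4 l b = n → ∀ g ∈ Z' l, ∀ k ∈ Z b,
      ∃ c e, g * k * g⁻¹ * k⁻¹ = S.x l c * S.x b e := fun l b hl hb e g hg k hk =>
    have y := bo_yr hl hb (e ▸ hn)
    bo_mixA h' h hl hb (ne hl hb) y.1 y.2 hg hk (hc l b hl hb e g hg k hk)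
  have H' : ∀ l b, Lg l → ¬ Lg b → ip4 l b = n → ∀ g ∈ Z' l, ∀ k ∈ Z b,
      ∃ c e, k * g * k⁻¹ * g⁻¹ = S.x b c * S.x l e := fun l b hl hb e g hg k hk => by
    obtain ⟨c, d, e1⟩ := H l b hl hb e g hg k hk
    refine ⟨d, c, ?_⟩
    rw [← A.x_inv b, ← A.x_inv l, ← mul_inv_rev, ← e1]
    group
  obtain ⟨⟨s, hs, sb⟩, s', hs', sl⟩ := bo_rt l b hl hb (hlb ▸ hn)
  have l0 : Lg (rf4 s l) := hs.2.2.2 hl
  have ls : Lg s := hs.2.1.1 l0
  have i0 : ip4 (rf4 s l) b = n := by have := hs.1.ip b; omega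
  have b0 : ¬ Lg (rf4 s' b) := fun e => hb (hs'.2.2.1 e)
  have bs : ¬ Lg s' := fun e => b0 (hs'.2.1.2 e)
  have i1 : ip4 l (rf4 s' b) = n := by have := hs'.1.ip' l; rw [ip4_comm l s'] at this; omega
  obtain ⟨c, e1⟩ := bo_mixB h' h hl l0 hb hs (ne hl hb) (bo_cm hs) (bo_yr l0 hb (i0 ▸ hn)).1
    (bo_yr hl hb (hlb ▸ hn)).2 (bo_yr ls hb sb.ge).2 hk (fun g hg => H l b hl hb hlb g hg k hk)
    (fun g hg => H _ b l0 hb i0 g hg k hk) hg
  obtain ⟨d, e2⟩ := bo_mixB h h' hb b0 hl hs' (ne hl hb).symm (bo_cm hs') (bo_yr hl b0 (i1 ▸ hn)).2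
    (bo_yr hl hb (hlb ▸ hn)).1 (bo_yr hl bs (by rw [ip4_comm, sl])).1 hg
    (fun k hk => H' l b hl hb hlb g hg k hk) (fun k hk => H' l _ hl b0 i1 g hg k hk) hk
  have e3 : S.x l c = S.x b d := by
    rw [← A.x_inv b, ← e1, ← e2]
    group
  rw [(bo_xx A (ne hl hb) e3).1, S.x_zero] at e1
  exact bo_com e1

theorem bo_cc {g k x : G} (h1 : g * x = x * g) (h2 : k * x = x * k) :
    g * k * g⁻¹ * k⁻¹ * x = x * (g * k * g⁻¹ * k⁻¹) :=
  have h1 : Commute g x := h1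
  have h2 : Commute k x := h2
  ((h1.mul_left h2).mul_left h1.inv_left).mul_left h2.inv_left

theorem bo_V : ∀ s : R4, (s = 47 ∨ (ip4 s 47 = 2 ∧ ¬ (Lg s ↔ Lg 47))) →
    0 ≤ ip4 s 40 ∧ 0 ≤ ip4 s 47 ∧ (s = 36 ∨ 0 ≤ ip4 s 30) := by decide +kernel

theorem Amb.bo_V30 (A : Amb S) {v : G} (hv : v ∈ V4 S 47) :
    ∃ y, v * S.x 30 1 * v⁻¹ = S.x 30 1 * (S.x 40 y * S.x 47 (y ^ 2)) := by
  refine S.UU_induction_left (p := fun v => ∃ y, v * S.x 30 1 * v⁻¹ =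
    S.x 30 1 * (S.x 40 y * S.x 47 (y ^ 2))) ⟨0, by simp [S.x_zero]⟩ ?_ hv
  rintro s hs c v - ⟨y, e⟩
  obtain ⟨h1, h2, h3⟩ := bo_V s hs
  rw [show S.x s c * v * S.x 30 1 * (S.x s c * v)⁻¹ = S.x s c * (v * S.x 30 1 * v⁻¹) * (S.x s c)⁻¹ by
    group, e, ← conj_mul, bo_conj (Commute.mul_right (A.com h1 c y) (A.com h2 c _))]
  rcases h3 with rfl | h3
  · refine ⟨c + y, ?_⟩
    rw [A.conj_sl (l := 30) (k := 40) (m := 47) (by decide +kernel), one_mul, one_mul,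
      CharTwo.add_sq, S.x_add, S.x_add, mul_assoc, mul_assoc, mul_assoc, ← mul_assoc (S.x 47 _),
      A.com (a := 47) (b := 40) (by decide +kernel), mul_assoc]
  · exact ⟨y, by rw [bo_conj (A.com h3 c 1)]⟩

theorem HS.ls2 {t : G} {κ κ' : F} {Z Z' : R4 → Subgroup G} (h : HS S t κ Z) (h' : HL S t κ' Z') {l b : R4}
    (hl : Lg l) (hb : ¬ Lg b) (hlb : ip4 l b = 2) {g k : G} (hg : g ∈ Z' l) (hk : k ∈ Z b) : g * k = k * g := by
  refine bo_mix h.toH1 h'.toH1 (by decide) (fun l b hl hb e g hg k hk n => ?_) hl hb hlb hg hk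
  exact h.amb.cen_LS n hl hb e fun s h1 h2 c =>
    bo_cc (h'.toH1.cx' hl h1 hg c) (h.toH1.cx' hb h2 hk c)

theorem HS.k0 {t : G} {κ κ' : F} {Z Z' : R4 → Subgroup G} (h : HS S t κ Z) (h' : HL S t κ' Z') : κ' = 0 := by
  have A := h.amb
  have hls : Ls 6 44 29 47 := by decide +kernel
  have l47 : Lg 47 := by decide +kernel
  have s44 : ¬ Lg 44 := by decide +kernel
  have s29 : ¬ Lg 29 := by decide +kernel
  obtain ⟨g, hg, eg⟩ := h.surj 44 s44 1
  by_cases hκ : κ = 1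
  · obtain ⟨k, hk, ek⟩ := h'.surj 47 l47 (1 ^ 2)
    obtain ⟨g', hg', e, e1⟩ := h.ls1 hκ hls hg 1
    have e2 := h'.mv 6 47 29 (by decide +kernel) k hk 1 ek 1
    rw [one_pow, mul_one, mul_one] at e2
    have e3 : S.x 6 1 * k * (S.x 6 1)⁻¹ = S.x 29 κ' * k := by
      calc _ = (S.x 6 1)⁻¹ * (k * S.x 6 1 * k⁻¹) * k := by rw [A.x_inv]; group
        _ = _ := by rw [e2]; group
    have c1 : Commute k g := h.ls2 h' l47 s44 (by decide +kernel) hk hg
    have c2 : Commute k g' := h.ls2 h' l47 s29 (by decide +kernel) hk hg'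
    have c3 : Commute k (S.x 47 e) := h'.toH1.cx' l47 (bo_self _) hk e
    have c4 : Commute g' (S.x 29 κ') := h.toH1.cx' s29 (bo_self _) hg' _
    have c5 : Commute (S.x 47 e) (S.x 29 κ') := A.com (by decide +kernel) _ _
    have c6 : Commute (S.x 29 κ' * k) (g * (g' * S.x 47 e)) := by
      rw [← e3, ← mul_assoc g, ← e1]
      exact c1.conj _
    have c7 : Commute (S.x 29 κ') g := by
      have := c6.mul_left ((c1.mul_right (c2.mul_right c3)).inv_left)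
      rw [mul_inv_cancel_right] at this
      have := this.mul_right (c4.mul_left c5).symm.inv_right
      rwa [mul_inv_cancel_right] at this
    have e4 := h.mv 29 44 47 hls.ot g hg 1 eg κ'
    rw [bo_conj c7.symm, left_eq_mul, A.x_eq_one, hκ, one_mul, one_mul] at e4
    exact e4
  · obtain ⟨g', hg', eg'⟩ := h.surj 29 s29 (1 * 1)
    obtain ⟨w1, w2, w3⟩ := h.lsw hls hg hg' eg eg' rfl
    generalize (g * g')⁻¹ * (S.x 6 1 * g * (S.x 6 1)⁻¹) = w at w1 w2 w3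
    obtain ⟨C, hC⟩ := bo_sqrt (1 * 1 ^ 2 * (1 + κ))
    obtain ⟨k, hk, ek⟩ := h'.surj 47 l47 (C ^ 2)
    have e1 : k⁻¹ * w * t = t * (k⁻¹ * w) := by
      refine bo_of_conj ?_
      rw [show k⁻¹ * w * t * (k⁻¹ * w)⁻¹ = k⁻¹ * (w * t * w⁻¹) * k by group, w3, ← hC, ← ek]
      group
    have kQ : k ∈ centralizer (Q4 S 47 : Set G) :=
      centralizer_le (A.Q_le_Yo 47) (h'.toH1.inT l47 hk ek).1
    obtain ⟨v, hv, z, hz, e2⟩ := A.cen_Q (h.CN (mem_centralizer_singleton_iff.2 e1)) 47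
      (mul_mem (inv_mem kQ) w1)
    obtain ⟨y, e3⟩ := A.bo_V30 hv
    have e4 := h'.mv 30 47 40 (by decide +kernel) k hk C ek 1
    have e5 := bo_conj (w2 30 (by decide +kernel) (by decide +kernel) (by decide +kernel) 1)
    have e6 : v * S.x 30 1 * v⁻¹ = k * S.x 30 1 * k⁻¹ := by
      calc _ = v * (z * S.x 30 1 * z⁻¹) * v⁻¹ := by rw [bo_conj (hz _ (S.x_mem_grp 30 1)).symm]
        _ = k⁻¹ * (w * S.x 30 1 * w⁻¹) * k⁻¹⁻¹ := by
          rw [show v * (z * S.x 30 1 * z⁻¹) * v⁻¹ = v * z * S.x 30 1 * (v * z)⁻¹ by group, ← e2]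
          group
        _ = _ := by rw [e5, h'.toH1.inv l47 hk, h'.toH1.inv l47 hk]
    rw [one_pow] at e4
    rw [e3, e4, mul_right_inj, ← eq_inv_mul_iff_mul_eq, A.x_inv, ← S.x_add] at e6
    obtain ⟨y0, e7⟩ := bo_xx A (by decide) e6
    rw [pow_eq_zero_iff two_ne_zero] at y0
    rw [y0, zero_add, mul_one, mul_eq_zero] at e7
    refine e7.resolve_right fun C0 => hκ ?_
    rw [C0] at hC
    linear_combination -hC - CharTwo.two_eq_zero (R := F)

theorem HS.bo_cY {t : G} {Z : R4 → Subgroup G} (h : HS S t 0 Z) {r s : R4} (hr : ¬ Lg r)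
    (hs : 0 ≤ ip4 s r) {g : G} (hg : g ∈ Z r) (u : F) : g * S.x s u = S.x s u * g := by
  by_cases y : Yr r s
  · exact h.toH1.cx' hr y hg u
  have h0 : ip4 s r = 0 := by_contra fun e => y (.inl (by omega))
  have h1 : ¬ Lg s := fun e => y (.inr ⟨h0, fun i => hr (i.1 e)⟩)
  obtain ⟨m, hm⟩ := exists_ot s r h1 hr h0
  obtain ⟨c, hc⟩ := h.toH1.ovr hr hg
  have := h.mv s r m hm g hg c hc u
  rw [zero_mul, zero_mul, S.x_zero, mul_one] at this
  exact bo_of_conj this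

theorem HL.bo_cY {t : G} {Z : R4 → Subgroup G} (h : HL S t 0 Z) {r s : R4} (hr : Lg r)
    (hs : 0 ≤ ip4 s r) {g : G} (hg : g ∈ Z r) (u : F) : g * S.x s u = S.x s u * g := by
  by_cases y : Yr r s
  · exact h.toH1.cx' hr y hg u
  have h0 : ip4 s r = 0 := by_contra fun e => y (.inl (by omega))
  have h1 : Lg s := by_contra fun e => y (.inr ⟨h0, fun i => e (i.2 hr)⟩)
  obtain ⟨m, hm⟩ := exists_md s r h1 hr h0
  obtain ⟨c, hc⟩ := h.toH1.ovr hr hg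
  obtain ⟨c, rfl⟩ := bo_sqrt c
  obtain ⟨u, rfl⟩ := bo_sqrt u
  have := h.mv s r m hm g hg c hc u
  rw [zero_mul, zero_mul, S.x_zero, mul_one] at this
  exact bo_of_conj this

theorem HS.bo_ls0 {t : G} {Z Z' : R4 → Subgroup G} (h : HS S t 0 Z) (h' : HL S t 0 Z') {l b : R4}
    (hl : Lg l) (hb : ¬ Lg b) (hlb : 0 ≤ ip4 l b) {g k : G} (hg : g ∈ Z' l) (hk : k ∈ Z b) :
    g * k = k * g := by
  have := (ip4_vals l b).2.1 hl hb
  simp only [List.mem_cons, List.not_mem_nil, or_false] at this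
  rcases this with e | e | e
  · exact h.ls2 h' hl hb e hg hk
  · refine bo_mix h.toH1 h'.toH1 le_rfl (fun l b hl hb e g hg k hk n => ?_) hl hb e hg hk
    exact h.amb.cen_LS0 n hl hb e fun s h1 h2 c => bo_cc (h'.bo_cY hl h1 hg c) (h.bo_cY hb h2 hk c)
  · omega

theorem HS.h0 {t : G} {Z Z' : R4 → Subgroup G} (h : HS S t 0 Z) (h' : HL S t 0 Z') :
    H0 S t fun r => if Lg r then Z' r else Z r := by
  refine { h.toSit with two := h.two, mem := ?_, surj := ?_, ker := ?_, co := ?_, cx := ?_, com := ?_, cz := ?_, cY := ?_, com0 := ?_ }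
  · intro r _
    split_ifs with hr
    exacts [h'.mem r hr, h.mem r hr]
  · intro r _
    split_ifs with hr
    exacts [h'.surj r hr, h.surj r hr]
  · intro r _
    split_ifs with hr
    exacts [h'.ker r hr, h.ker r hr]
  · intro r _
    split_ifs with hr
    exacts [h'.co r hr, h.co r hr]
  · intro a b k _ hk
    by_cases ha : Lg a
    · rw [if_pos ha, if_pos (hk.2.2.1 ha)]
      exact h'.cx a b k ha hk
    · rw [if_neg ha, if_neg (mt hk.2.2.2 ha)]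
      exact h.cx a b k ha hk
  · intro a b _ _ hab hi
    by_cases ha : Lg a
    · rw [if_pos ha, if_pos (hab.1 ha)]
      exact h'.com a b ha (hab.1 ha) hab hi
    · rw [if_neg ha, if_neg (mt hab.2 ha)]
      exact h.com a b ha (mt hab.2 ha) hab hi
  · intro a b k _ hk
    by_cases ha : Lg a
    · rw [if_pos ha, if_pos (hk.2.1.1 ha), if_pos (hk.2.2.1 ha)]
      exact h'.cz a b k ha hk
    · rw [if_neg ha, if_neg (mt hk.2.1.2 ha), if_neg (mt hk.2.2.2 ha)]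
      exact h.cz a b k ha hk
  · intro r g hg
    refine mem_cent_UU.2 fun s hs u => ?_
    split_ifs at hg with hr
    exacts [(h'.bo_cY hr hs hg u).symm, (h.bo_cY hr hs hg u).symm]
  · intro a b hi g hg k hk
    split_ifs at hg hk with ha hb hb
    · rcases hi.eq_or_lt with e | e
      · obtain ⟨m, hm⟩ := exists_md a b ha hb e.symm
        obtain ⟨c, hc⟩ := h'.ort a b m hm g hg k hk
        rw [zero_mul, S.x_zero] at hc
        exact bo_com hc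
      · exact h'.com a b ha hb (iff_of_true ha hb) e g hg k hk
    · exact h.bo_ls0 h' ha hb hi hg hk
    · exact (h.bo_ls0 h' hb ha (ip4_comm a b ▸ hi) hk hg).symm
    · rcases hi.eq_or_lt with e | e
      · obtain ⟨m, hm⟩ := exists_ot a b ha hb e.symm
        obtain ⟨c, hc⟩ := h.ort a b m hm g hg k hk
        rw [zero_mul, S.x_zero] at hc
        exact bo_com hc
      · exact h.com a b ha hb (iff_of_false ha hb) e g hg k hk

theorem H0.hs {t : G} {Z : R4 → Subgroup G} (h : H0 S t Z) : HS S t 0 Z :=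
  { h.toSit with
    two := h.two
    mem := fun r _ => h.mem r trivial
    surj := fun r _ => h.surj r trivial
    ker := fun r _ => h.ker r trivial
    co := fun r _ => h.co r trivial
    cx := fun a b k _ => h.cx a b k trivial
    com := fun a b _ _ => h.com a b trivial trivial
    cz := fun a b k _ => h.cz a b k trivial
    mv := fun a r m hm g hg c _ u => by
      rw [zero_mul, zero_mul, S.x_zero, mul_one]
      exact bo_conj (mem_cent_UU.1 (h.cY r hg) a hm.ip.ge u).symm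
    ort := fun a b m hm g hg k hk => ⟨0, by
      rw [zero_mul, S.x_zero, h.com0 a b hm.ip.ge g hg k hk]; group⟩ }

end CfsgLib.SLF
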