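import Mathlib
import Cfsg.Agent.Lib.SLF.CenA

/-!
# Commuting factorisations of `U`
-/

set_option autoImplicit false
set_option Elab.async false
set_option linter.unusedSectionVars false

namespace CfsgLib.SLF

open Cfsg.Lie CfsgLib.RGD CfsgLib.Stein CfsgLib.Semi CfsgLib.SLE CfsgLib.UFP Subgroup
open scoped commutatorElement Pointwise

universe u

variable {F : Type} [Field F] [Finite F] [CharP F 2] {G : Type u} [Group G] [Finite G]
  {S : StSys ΦF4 F G}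

namespace CiX

/-- the height of a positive root -/
def ht (r : R4) : ℕ := [1, 1, 2, 1, 2, 3, 3, 4, 5, 1, 2, 3, 4, 4, 5, 6, 7, 5, 6, 7, 8, 9, 10, 11].getD (r.1 - 24) 0 *
  (r.1 / 24)

/-- roots of height at least `m` -/
def H (m : ℕ) : Set R4 := {r | m ≤ ht r}

theorem ht_pos : ∀ r : R4, 1 ≤ ht r ↔ 24 ≤ r.1 := by decide +kernel

theorem ht_le : ∀ r : R4, ht r ≤ 11 := by decide +kernel

theorem hz : ∀ r : R4, 1 ≤ ht r → ∀ a : R4, 1 ≤ ht a → 0 ≤ ip4 r a ∨ (r.1 + a.1 ≠ 47 ∧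
    ∀ s ∈ [rf4 r a, rf4 a r], ht r + ht a ≤ ht s ∧ (ht s = ht r + ht a → St r a s)) := by decide +kernel

theorem ht_st : ∀ a : R4, ht a = 1 → ∀ k : R4, 2 ≤ ht k → ∀ r : R4, St r a k → ht k = ht r + 1 := by decide +kernel

theorem raise : ∀ r : R4, 1 ≤ ht r → r ≠ (if ht r = 8 then 44 else 47) →
    ∃ a : R4, ht a = 1 ∧ ∃ k : R4, St r a k ∧ ht k = ht r + 1 := by decide +kernel

theorem top44 : ∀ b : R4, 24 ≤ b.1 → 0 ≤ ip4 44 b := by decide +kernel

theorem top47 : ∀ b : R4, 24 ≤ b.1 → 0 ≤ ip4 47 b := by decide +kernel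

theorem cz_of {K : Set R4} {r a : R4} (hr : 1 ≤ ht r) (ha : 1 ≤ ht a)
    (h : ∀ s, ht r + ht a ≤ ht s → (ht s = ht r + ht a → St r a s) → s ∈ K) : Cz K r a :=
  cz_iff.2 ((hz r hr a ha).imp_right fun e => ⟨e.1, h _ (e.2 _ (by simp)).1 (e.2 _ (by simp)).2,
    h _ (e.2 _ (by simp)).1 (e.2 _ (by simp)).2⟩)

theorem cz_H {m n j : ℕ} (hm : 1 ≤ m) (hn : 1 ≤ n) (hj : j ≤ m + n) : ∀ a ∈ H m, ∀ b ∈ H n, Cz (H j) a b :=
  fun _ ha _ hb => cz_of (hm.trans ha) (hn.trans hb) fun _ h _ => (hj.trans (Nat.add_le_add ha hb)).trans h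

theorem lay {m : ℕ} (hm : 1 ≤ m) : Lay4 (H m) (H (m + 1)) :=
  ⟨fun r hr => (ht_pos r).1 (hm.trans hr), fun _ hr => (Nat.le_succ m).trans hr, cz_H hm hm (by omega)⟩

theorem U_eq : S.U = S.UU (H 1) := U_eq_Ug.trans (congrArg S.UU (Set.ext fun r => (ht_pos r).symm))

theorem H_mono {m n : ℕ} (h : m ≤ n) : S.UU (H n) ≤ S.UU (H m) := S.UU_mono fun _ hr => h.trans hr

/-- the leading term of a commutator -/
def bl (k : R4) (f g : R4 → F) : F :=
  ∑ p ∈ Finset.univ.filter (fun p : R4 × R4 => ht p.2 = 1 ∧ St p.1 p.2 k), f p.1 * g p.2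

theorem bl_single (k r a : R4) (c d : F) :
    bl k (Pi.single r c) (Pi.single a d) = if ht a = 1 ∧ St r a k then c * d else 0 := by
  rw [bl, Finset.sum_filter, Finset.sum_eq_single (r, a)]
  · rw [Pi.single_eq_same, Pi.single_eq_same]
  · rintro ⟨r', a'⟩ - h
    by_cases e : r' = r
    · rw [Pi.single_eq_of_ne (show a' ≠ a from fun e' => h (by rw [e, e'])), mul_zero, ite_self]
    · rw [Pi.single_eq_of_ne e, zero_mul, ite_self]
  · exact fun e => absurd (Finset.mem_univ _) e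

theorem bl_one {k r a : R4} (ha : ht a = 1) (h : St r a k) (f : R4 → F) {g : R4 → F}
    (hg : ∀ s, ht s = 1 → g s = (Pi.single a 1 : R4 → F) s) : bl k f g = f r := by
  rw [bl, Finset.sum_eq_single (r, a)]
  · rw [hg a ha, Pi.single_eq_same, mul_one]
  · rintro ⟨r', a'⟩ h1 h2
    obtain ⟨h3, h4⟩ := (Finset.mem_filter.1 h1).2
    have : a' ≠ a := by
      rintro rfl
      exact h2 (Prod.ext (wt_inj (add_right_cancel (Eq.trans h4.1 (Eq.symm h.1)))) rfl)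
    rw [hg a' h3, Pi.single_eq_of_ne this, mul_zero]
  · exact fun e => absurd (Finset.mem_filter.2 ⟨Finset.mem_univ _, ha, h⟩) e

theorem bl_two {k a b : R4} (h : a ≠ b ∧ Finset.univ.filter (fun p : R4 × R4 => ht p.2 = 1 ∧ St p.1 p.2 k) = {(a, b), (b, a)})
    {f g : R4 → F} (e : bl k f g = 0) : f a * g b = f b * g a := by
  rw [bl, h.2, Finset.sum_pair (fun e => h.1 (Prod.mk.inj e).1)] at e
  exact (CharTwo.add_eq_zero).1 e

theorem adj {B C : Subgroup G} {f g : G → F} (h : ∀ b ∈ B, ∀ c ∈ C, f b * g c = g b * f c)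
    (s1 : ∃ b ∈ B, ∃ c ∈ C, f b + f c = 1) (s2 : ∃ b ∈ B, ∃ c ∈ C, f b + f c = 0 ∧ g b + g c = 1) :
    ((∀ b ∈ B, f b = 0) ∨ ∀ c ∈ C, f c = 0) ∧ ((∀ b ∈ B, f b = 0) → ∀ b ∈ B, g b = 0) ∧
      ((∀ c ∈ C, f c = 0) → ∀ c ∈ C, g c = 0) := by
  obtain ⟨b1, hb1, c1, hc1, e1⟩ := s1
  refine ⟨?_, fun h0 b hb => ?_, fun h0 c hc => ?_⟩
  · by_contra hn
    push Not at hn
    obtain ⟨⟨b0, hb0, n1⟩, c0, hc0, n2⟩ := hn
    obtain ⟨b, hb, c, hc, e2, e3⟩ := s2
    refine mul_ne_zero n1 n2 ?_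
    linear_combination (-(f b0 * f c0)) * e3 + f c0 * h b0 hb0 c hc - f b0 * h b hb c0 hc0 + f b * h b0 hb0 c0 hc0
      + g b0 * f c0 * e2
  · linear_combination (-(g b)) * e1 - h b hb c1 hc1 + g c1 * h0 b hb + g b * h0 b1 hb1
  · linear_combination (-(g c)) * e1 + h b1 hb1 c hc + g b1 * h0 c hc + g c * h0 c1 hc1

variable (A : Amb S)
include A

theorem comm_H {m n j : ℕ} (hm : 1 ≤ m) (hn : 1 ≤ n) (h1 : 1 ≤ j) (hj : j ≤ m + n) {u v : G} (hu : u ∈ S.UU (H m))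
    (hv : v ∈ S.UU (H n)) : u * v * u⁻¹ * v⁻¹ ∈ S.UU (H j) :=
  A.comm_UU (cz_H hm hn hj) (A.norm_UU (cz_H hm h1 (by omega))) (A.norm_UU (cz_H hn h1 (by omega))) hu hv

theorem cf_conj {j : ℕ} (hj : 1 ≤ j) {u w : G} (hu : u ∈ S.UU (H 1)) (hw : w ∈ S.UU (H j)) {k : R4} (hk : k ∉ H (j + 1)) :
    u * w * u⁻¹ ∈ S.UU (H j) ∧ cf4 S (u * w * u⁻¹) k = cf4 S w k := by
  refine ⟨?_, (A.cf_congr (lay hj) hw ?_ hk).symm⟩
  · simpa using mul_mem (comm_H A le_rfl hj hj (by omega) hu hw) hw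
  · simpa [mul_assoc] using comm_H A hj le_rfl (by omega) le_rfl (inv_mem hw) hu

theorem cf_gen {m : ℕ} (hm : 1 ≤ m) {k r a : R4} (hk : ht k = m + 1) (hr : r ∈ H m) (ha : a ∈ H 1) (c d : F) :
    cf4 S (S.x r c * S.x a d * (S.x r c)⁻¹ * (S.x a d)⁻¹) k = bl k (cf4 S (S.x r c)) (cf4 S (S.x a d)) := by
  have hr' := (ht_pos r).1 (hm.trans hr)
  have ha' := (ht_pos a).1 ha
  rw [A.cf_x hr', A.cf_x ha', bl_single]
  split_ifs with h
  · have := A.cf_lead ((ht_pos k).1 (by omega)) (A.cf_comm hr' ha' h.2 (S.x_mem_UU (le_refl r.1) c) d)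
    rwa [A.cf_x hr', Pi.single_eq_same] at this
  · have h1 : m ≤ ht r := hr
    have h2 : 1 ≤ ht a := ha
    have h5 : Cl {s | m + 1 ≤ ht s ∧ s ≠ k} := cl_of fun a ha b hb => cz_of (by have := ha.1; omega)
      (by have := hb.1; omega) fun s hs _ => And.intro (by have := ha.1; omega) (by
        rintro rfl
        have := ha.1; have := hb.1; omega)
    have h6 : Cz {s | m + 1 ≤ ht s ∧ s ≠ k} r a := cz_of (by omega) h2 fun s h3 h4 => And.intro (by omega) (by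
      rintro rfl
      exact h ⟨by omega, h4 (by omega)⟩)
    exact A.cf_eq_zero h5 (fun s hs => (ht_pos s).1 (by have := hs.1; omega)) (A.comm_x h6 c d) fun e => e.2 rfl

theorem bil {m : ℕ} (hm : 1 ≤ m) {k : R4} (hk : ht k = m + 1) {u v : G} (hu : u ∈ S.UU (H m)) (hv : v ∈ S.UU (H 1)) :
    cf4 S (u * v * u⁻¹ * v⁻¹) k = bl k (cf4 S u) (cf4 S v) := by
  have hk' : k ∉ H (m + 1 + 1) := fun h => by have : m + 1 + 1 ≤ ht k := h; omega
  have hc := fun {u v : G} (hu : u ∈ S.UU (H m)) (hv : v ∈ S.UU (H 1)) =>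
    comm_H A hm le_rfl (j := m + 1) (by omega) le_rfl hu hv
  refine A.eq_of_add (f := fun u => cf4 S (u * v * u⁻¹ * v⁻¹) k) (g := fun u => bl k (cf4 S u) (cf4 S v))
    (fun u hu u' hu' => ?_) (fun u hu u' hu' => ?_) (fun r hr c => ?_) hu
  · obtain ⟨h1, h2⟩ := cf_conj A (j := m + 1) (by omega) (H_mono hm hu) (hc hu' hv) hk'
    rw [add_comm, ← h2, ← A.cf_mul (lay (by omega)) h1 (hc hu hv) hk']
    congr 1; group
  · simp only [bl, ← Finset.sum_add_distrib]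
    refine Finset.sum_congr rfl fun p hp => ?_
    obtain ⟨h3, h4⟩ := (Finset.mem_filter.1 hp).2
    have := ht_st _ h3 k (by omega) _ h4
    rw [A.cf_mul (lay hm) hu hu' fun h => by have : m + 1 ≤ ht p.1 := h; omega, add_mul]
  · have hx := S.x_mem_UU hr c
    refine A.eq_of_add (f := fun v => cf4 S (S.x r c * v * (S.x r c)⁻¹ * v⁻¹) k)
      (g := fun v => bl k (cf4 S (S.x r c)) (cf4 S v)) (fun v hv v' hv' => ?_) (fun v hv v' hv' => ?_)
      (fun a ha d => cf_gen A hm hk hr ha c d) hv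
    · obtain ⟨h1, h2⟩ := cf_conj A (j := m + 1) (by omega) hv (hc hx hv') hk'
      rw [← h2, ← A.cf_mul (lay (by omega)) (hc hx hv) h1 hk']
      congr 1; group
    · simp only [bl, ← Finset.sum_add_distrib]
      refine Finset.sum_congr rfl fun p hp => ?_
      have h3 := (Finset.mem_filter.1 hp).2.1
      rw [A.cf_mul (lay le_rfl) hv hv' fun h => by have : 1 + 1 ≤ ht p.2 := h; omega, mul_add]

theorem bl_zero {m : ℕ} (hm : 1 ≤ m) {k : R4} (hk : ht k = m + 1) {u v : G} (hu : u ∈ S.UU (H m)) (hv : v ∈ S.UU (H 1))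
    (e : u * v = v * u) : bl k (cf4 S u) (cf4 S v) = 0 := by
  rw [← bil A hm hk hu hv, e, mul_inv_cancel_right, mul_inv_cancel, A.cf_one]

theorem elim {C : Subgroup G} (hC : C ≤ S.UU (H 1))
    (h : ∀ a, ht a = 1 → ∃ v ∈ C, ∀ s, ht s = 1 → cf4 S v s = (Pi.single a 1 : R4 → F) s) (n : ℕ) (hn : n ≤ 11) :
    ∀ u ∈ S.UU (H (12 - n)), u ∈ centralizer (C : Set G) → u ∈ centralizer (S.U : Set G) := by
  induction n with
  | zero =>
    intro u hu _
    rw [show H (12 - 0) = ∅ from Set.eq_empty_of_forall_notMem fun r hr => by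
      have := ht_le r; have : 12 - 0 ≤ ht r := hr; omega, S.UU_empty, mem_bot] at hu
    exact hu ▸ one_mem _
  | succ n ih =>
    intro u hu hc
    obtain ⟨m, hm⟩ : ∃ m, m = 12 - (n + 1) := ⟨_, rfl⟩
    rw [show 12 - n = m + 1 by omega] at ih
    rw [← hm] at hu
    obtain ⟨z, hz⟩ : ∃ z : R4, z = if m = 8 then 44 else 47 := ⟨_, rfl⟩
    have z1 : z ∈ H m := by
      show m ≤ ht z
      rw [hz]; split_ifs with e
      · rw [e]; decide
      · exact (show m ≤ 11 by omega).trans (by decide)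
    have z0 : ∀ a ∈ ({z} : Set R4), ∀ b ∈ {r : R4 | 24 ≤ r.1}, 0 ≤ ip4 a b := by
      intro a ha
      rw [Set.mem_singleton_iff.1 ha, hz]; split_ifs
      exacts [top44, top47]
    have z2 : S.x z (cf4 S u z) ∈ centralizer (S.U : Set G) := fun v hv =>
      (A.commute_UU z0 (S.x_mem_UU (Set.mem_singleton z) _) (U_eq_Ug.le hv)).symm
    have h1 := A.mul_inv_mem (lay (by omega)) hu (S.x_mem_UU z1 (cf4 S u z)) fun r hr hr' => by
      have e : ht r = m := by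
        have : m ≤ ht r := hr
        have : ¬ m + 1 ≤ ht r := hr'
        omega
      rw [A.cf_x ((ht_pos z).1 (le_trans (by omega) z1))]
      by_cases e' : r = z
      · rw [e', Pi.single_eq_same]
      · obtain ⟨a, ha, k, h2, h3⟩ := raise r (by omega) (by rwa [e, ← hz])
        obtain ⟨v, hv, h4⟩ := h a ha
        rw [Pi.single_eq_of_ne e', ← bl_one ha h2 (cf4 S u) h4]
        exact bl_zero A (by omega) (e ▸ h3) hu (hC hv) (hc v hv).symm
    have h2 := ih (by omega) _ h1 (mul_mem hc (inv_mem (centralizer_le (hC.trans U_eq.ge) z2)))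
    simpa using mul_mem h2 z2

end CiX

namespace Amb

variable (A : Amb S)
include A

open CiX in
/-- two commuting subgroups whose product is `U` -/
theorem ci {B C : Subgroup G} (hB : B ≤ S.U) (hC : C ≤ S.U) (hc : B ≤ centralizer (C : Set G))
    (h : S.U ≤ B ⊔ C) : B ≤ centralizer (S.U : Set G) ∨ C ≤ centralizer (S.U : Set G) := by
  have hB' := hB.trans_eq U_eq
  have hC' := hC.trans_eq U_eq
  have sj : ∀ a, ht a = 1 → ∃ b ∈ B, ∃ c ∈ C, ∀ s, ht s = 1 →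
      cf4 S b s + cf4 S c s = (Pi.single a 1 : R4 → F) s := fun a ha => by
    have h1 : S.x a 1 ∈ ((B ⊔ C : Subgroup G) : Set G) := h (U_eq.ge (S.x_mem_UU ha.ge 1))
    rw [coe_mul_of_left_le_normalizer_right B C (hc.trans (centralizer_le_normalizer _))] at h1
    obtain ⟨b, hb, c, hc', e⟩ := h1
    refine ⟨b, hb, c, hc', fun s hs => ?_⟩
    rw [← A.cf_mul (lay le_rfl) (hB' hb) (hC' hc') fun h => by have : 1 + 1 ≤ ht s := h; omega,
      show b * c = S.x a 1 from e, A.cf_x ((ht_pos a).1 ha.ge)]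
  have key : ∀ {k a a' : R4}, ht a = 1 ∧ ht a' = 1 ∧ ht k = 2 ∧ a ≠ a' ∧
      Finset.univ.filter (fun p : R4 × R4 => ht p.2 = 1 ∧ St p.1 p.2 k) = {(a, a'), (a', a)} →
      ((∀ b ∈ B, cf4 S b a = 0) ∨ ∀ c ∈ C, cf4 S c a = 0) ∧ ((∀ b ∈ B, cf4 S b a = 0) → ∀ b ∈ B, cf4 S b a' = 0) ∧
      ((∀ c ∈ C, cf4 S c a = 0) → ∀ c ∈ C, cf4 S c a' = 0) := fun {k a a'} ⟨h1, h2, h3, h4⟩ => by
    refine adj (fun b hb c hc' => bl_two h4 (bl_zero A le_rfl h3 (hB' hb) (hC' hc') (hc hb c hc').symm)) ?_ ?_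
    · obtain ⟨b, hb, c, hc', e⟩ := sj a h1
      exact ⟨b, hb, c, hc', by rw [e a h1, Pi.single_eq_same]⟩
    · obtain ⟨b, hb, c, hc', e⟩ := sj a' h2
      exact ⟨b, hb, c, hc', by rw [e a h1, Pi.single_eq_of_ne h4.1], by rw [e a' h2, Pi.single_eq_same]⟩
  obtain ⟨k0, k1, k2⟩ := key (k := 26) (a := 24) (a' := 25) (by decide +kernel)
  obtain ⟨-, k3, k4⟩ := key (k := 28) (a := 25) (a' := 27) (by decide +kernel)
  obtain ⟨-, k5, k6⟩ := key (k := 34) (a := 27) (a' := 33) (by decide +kernel)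
  have sm : ∀ s, ht s = 1 → s = 24 ∨ s = 25 ∨ s = 27 ∨ s = 33 := by decide +kernel
  refine k0.imp (fun h0 b hb => ?_) fun h0 c hc' => ?_
  · refine CiX.elim A hC' (fun a ha => ?_) 11 le_rfl b (hB' hb) (hc hb)
    obtain ⟨b, hb, c, hc', e⟩ := sj a ha
    refine ⟨c, hc', fun s hs => ?_⟩
    rw [← e s hs, show cf4 S b s = 0 by
      rcases sm s hs with rfl | rfl | rfl | rfl
      exacts [h0 b hb, k1 h0 b hb, k3 (k1 h0) b hb, k5 (k3 (k1 h0)) b hb], zero_add]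
  · refine CiX.elim A hB' (fun a ha => ?_) 11 le_rfl c (hC' hc') (le_centralizer_iff.1 hc hc')
    obtain ⟨b, hb, c, hc', e⟩ := sj a ha
    refine ⟨b, hb, fun s hs => ?_⟩
    rw [← e s hs, show cf4 S c s = 0 by
      rcases sm s hs with rfl | rfl | rfl | rfl
      exacts [h0 c hc', k2 h0 c hc', k4 (k2 h0) c hc', k6 (k4 (k2 h0)) c hc'], add_zero]

end Amb

end CfsgLib.SLF
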