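import Mathlib
import Cfsg.Agent.Lib.SLF.Both

/-!
# The case `κ = 0`: root elements acting on hats of the other length
-/

set_option autoImplicit false
set_option linter.unusedSectionVars false

namespace CfsgLib.SLF

open Cfsg.Lie CfsgLib.RGD CfsgLib.Stein CfsgLib.Semi CfsgLib.SLE CfsgLib.UFP Subgroup
open scoped commutatorElement Pointwise

universe u

variable {F : Type} [Field F] [Finite F] [CharP F 2] {G : Type u} [Group G] [Finite G]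
  {S : StSys ΦF4 F G}

theorem r0_tab : ∀ l b : R4, Lg l → ¬ Lg b → ip4 l b = -2 → ∀ s, 1 ≤ ip4 s l + 2 * ip4 s b →
    0 ≤ ip4 s b ∧ 0 ≤ ip4 s l + ip4 s b ∧
      (0 ≤ ip4 l s ∨ s = b ∨ Cm l s (rf4 l s) ∧ 0 ≤ ip4 (rf4 l s) b) := by
  decide +kernel

omit [Finite G] in
theorem r0_ga {g h t p q : G} (eg : g * t * g⁻¹ = t * p) (eh : h * t * h⁻¹ = t * q)
    (c1 : Commute q ⁅g, q⁆) (c2 : Commute p ⁅p, h⁆) (c3 : Commute (q * p) ⁅p, q⁆)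
    (c4 : Commute (h * g) (⁅p, h⁆ * ⁅p, q⁆ * ⁅g, q⁆)) :
    (h * g)⁻¹ * (g * h) * t * ((h * g)⁻¹ * (g * h))⁻¹ = t * (⁅p, h⁆ * ⁅p, q⁆ * ⁅g, q⁆) := by
  have e1 : g * h * t * (g * h)⁻¹ = h * g * t * (h * g)⁻¹ * (⁅p, h⁆ * ⁅p, q⁆ * ⁅g, q⁆) :=
    calc _ = g * (h * t * h⁻¹) * g⁻¹ := by group
      _ = g * t * g⁻¹ * (⁅g, q⁆ * q) := by rw [eh, commutatorElement_def]; group
      _ = t * (⁅p, q⁆ * (q * p)) * ⁅g, q⁆ := by rw [eg, ← c1.eq, commutatorElement_def p q]; group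
      _ = t * q * ⁅p, h⁆⁻¹ * (⁅p, h⁆ * p) * ⁅p, q⁆ * ⁅g, q⁆ := by rw [← c3.eq]; group
      _ = h * t * h⁻¹ * (h * p * h⁻¹) * (⁅p, h⁆ * ⁅p, q⁆ * ⁅g, q⁆) := by
        rw [← c2.eq, eh, commutatorElement_inv, commutatorElement_def h p]; group
      _ = h * (g * t * g⁻¹) * h⁻¹ * (⁅p, h⁆ * ⁅p, q⁆ * ⁅g, q⁆) := by rw [eg]; group
      _ = _ := by group
  calc _ = (h * g)⁻¹ * (g * h * t * (g * h)⁻¹) * (h * g) := by group
    _ = t * ((h * g)⁻¹ * ((⁅p, h⁆ * ⁅p, q⁆ * ⁅g, q⁆) * (h * g))) := by rw [e1]; group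
    _ = _ := by rw [← c4.eq, inv_mul_cancel_left]

omit [Finite G] in
theorem r0_ovr {a b t x y : G} (ha : a * t * a⁻¹ = t * x) (hb : b * t * b⁻¹ = t * y)
    (hc : Commute a y) : a * b * t * (a * b)⁻¹ = t * (x * y) :=
  calc _ = a * (b * t * b⁻¹) * a⁻¹ := by group
    _ = a * t * a⁻¹ * (a * y * a⁻¹) := by rw [hb]; group
    _ = _ := by rw [ha, hc.eq]; group

omit [Finite G] in
theorem r0_sq {a b : G} (ha : a * a = 1) (hb : b * b = 1) (hc : Commute a b) :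
    a * b * (a * b) = 1 := by rw [hc.symm.mul_mul_mul_comm, ha, hb, one_mul]

namespace H0

variable {t : G} {Z : R4 → Subgroup G} (h : H0 S t Z)
include h

theorem sq0 {r : R4} {g : G} (hg : g ∈ Z r) : g * g = 1 := h.toH1.sq trivial hg

theorem inv0 {r : R4} {g : G} (hg : g ∈ Z r) : g⁻¹ = g := h.toH1.inv trivial hg

theorem xZ0 (r : R4) (c : F) : S.x r c ∈ Z r := h.toH1.xZ trivial c

theorem ovr0 {r : R4} {g : G} (hg : g ∈ Z r) : ∃ c, g * t * g⁻¹ = t * S.x r c :=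
  h.toH1.ovr trivial hg

theorem cm0 {a b : R4} (e : 0 ≤ ip4 a b) {g g' : G} (hg : g ∈ Z a) (hg' : g' ∈ Z b) :
    Commute g g' := h.com0 a b e g hg g' hg'

theorem tL {l : G} (hl : l ∈ S.grp) : Commute l t := mem_centralizer_iff.1 h.tC l hl

theorem ker0 {r : R4} {g : G} (hg : g ∈ Z r) (e : g * t * g⁻¹ = t * S.x r 0) : ∃ c, g = S.x r c := by
  rw [S.x_zero, mul_one, mul_inv_eq_iff_eq_mul] at e
  exact S.mem_X_iff.1 (h.ker r trivial g hg e)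

theorem cA {r k m : R4} (h1 : 0 ≤ ip4 r k) (h2 : 0 ≤ ip4 r m) {g a : G} (hg : g ∈ Z r)
    (ha : a ∈ Z k ⊔ Z m) : Commute g a :=
  (mem_centralizer_singleton_iff.1 ((sup_le
    (fun _ e => mem_centralizer_singleton_iff.2 (h.cm0 h1 hg e).symm)
    (fun _ e => mem_centralizer_singleton_iff.2 (h.cm0 h2 hg e).symm) :
      Z k ⊔ Z m ≤ centralizer {g}) ha)).symm

theorem memA {k m : R4} (e : 0 ≤ ip4 k m) {a : G} (ha : a ∈ Z k ⊔ Z m) :
    ∃ g ∈ Z k, ∃ g' ∈ Z m, a = g * g' := by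
  have := coe_mul_of_left_le_normalizer_right (Z k) (Z m) fun g hg => centralizer_le_normalizer _
    (mem_centralizer_iff.2 fun g' hg' => (h.cm0 e hg hg').symm)
  obtain ⟨g, hg, g', hg', rfl⟩ := this.le ha
  exact ⟨g, hg, g', hg', rfl⟩

theorem sqA {k m : R4} (e : 0 ≤ ip4 k m) {a : G} (ha : a ∈ Z k ⊔ Z m) : a * a = 1 := by
  obtain ⟨g, hg, g', hg', rfl⟩ := h.memA e ha
  exact r0_sq (h.sq0 hg) (h.sq0 hg') (h.cm0 e hg hg')

theorem xA {l b k m : R4} (hl : Ls l b k m) (c e : F) : ⁅S.x l c, S.x b e⁆ ∈ Z k ⊔ Z m := by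
  rw [commutatorElement_def, h.amb.rel.ls l b k m hl]
  exact mul_mem_sup (h.xZ0 _ _) (h.xZ0 _ _)

theorem eq_one_of_com {l b k m : R4} (hl : Ls l b k m) {g : G} (hg : g ∈ Z l) {u : F} (hu : u ≠ 0)
    (e : Commute g (S.x b u)) : g = 1 := by
  have k1 : ∀ c, Commute (S.x l c) (S.x b u) → c = 0 := fun c e => by
    have := h.amb.rel.ls l b k m hl c u
    rw [e.eq, mul_inv_cancel_right, mul_inv_cancel, ← one_mul (S.x k _), eq_comm] at this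
    nth_rewrite 1 [← S.x_zero b] at this
    exact (mul_eq_zero.1 (h.amb.three_eq_one hl this).2.1).resolve_right hu
  obtain ⟨c, ec⟩ := h.ovr0 hg
  have ht := (h.tL (S.x_mem_grp b u)).symm
  obtain rfl := k1 c (by
    rw [show S.x l c = t⁻¹ * (g * t * g⁻¹) by rw [ec]; group]
    exact ht.inv_left.mul_left ((e.mul_left ht).mul_left e.inv_left))
  obtain ⟨d, rfl⟩ := h.ker0 hg ec
  rw [k1 d e, S.x_zero]

theorem gen {l b k m : R4} (hl : Ls l b k m) {g g' : G} (hg : g ∈ Z l) (hg' : g' ∈ Z b)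
    (h1 : ∀ u, ⁅g, S.x b u⁆ ∈ Z k ⊔ Z m)
    (h2 : ∀ c, g * t * g⁻¹ = t * S.x l c → ⁅S.x l c, g'⁆ ∈ Z k ⊔ Z m) : ⁅g, g'⁆ ∈ Z k ⊔ Z m := by
  have A := h.amb
  obtain ⟨i1, i2, i3, i4, i5⟩ := BA4.ls_ip hl
  have km : 0 ≤ ip4 k m := by omega
  obtain ⟨c, ec⟩ := h.ovr0 hg
  obtain ⟨e, ee⟩ := h.ovr0 hg'
  rcases eq_or_ne e 0 with rfl | e0
  · obtain ⟨u, rfl⟩ := h.ker0 hg' ee
    exact h1 u
  have cl : ∀ {a g : G}, g ∈ Z l → a ∈ Z k ⊔ Z m → Commute g a := fun hg ha =>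
    h.cA (by omega) (by omega) hg ha
  have cb : ∀ {a g : G}, g ∈ Z b → a ∈ Z k ⊔ Z m → Commute g a := fun hg ha =>
    h.cA (by omega) (by omega) hg ha
  have hz := mul_mem (mul_mem (h2 c ec) (h.xA hl c e)) (h1 e)
  have hw := r0_ga ec ee (cb (h.xZ0 _ _) (h1 e)) (cl (h.xZ0 _ _) (h2 c ec))
    ((cb (h.xZ0 _ _) (h.xA hl c e)).mul_left (cl (h.xZ0 _ _) (h.xA hl c e)))
    ((cb hg' hz).mul_left (cl hg hz))
  rw [show (g' * g)⁻¹ * (g * g') = ⁅g, g'⁆ by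
    rw [commutatorElement_def, mul_inv_rev, h.inv0 hg, h.inv0 hg', ← mul_assoc]] at hw
  have z2 := h.sqA km hz
  obtain ⟨φ, hφ, ψ, hψ, ez⟩ := h.memA km hz
  rw [ez] at hw z2 hz
  obtain ⟨a₁, e₁⟩ := h.ovr0 hφ
  obtain ⟨a₂, e₂⟩ := h.ovr0 hψ
  have e3 := r0_ovr e₁ e₂ (h.cm0 km hφ (h.xZ0 _ _))
  have e4 : t * (φ * ψ) * (t * (φ * ψ)) = 1 := by
    rw [← hw, conj_mul, h.t2, mul_one, mul_inv_cancel]
  rw [← eq_inv_iff_mul_eq_one, mul_inv_rev, inv_eq_of_mul_eq_one_right z2,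
    inv_eq_of_mul_eq_one_right h.t2] at e4
  rw [← e4, mul_inv_cancel_right, left_eq_mul, ← one_mul (S.x k a₁)] at e3
  nth_rewrite 1 [← S.x_zero b] at e3
  obtain ⟨-, rfl, rfl⟩ := A.three_eq_one hl e3
  obtain ⟨d₁, rfl⟩ := h.ker0 hφ e₁
  obtain ⟨d₂, rfl⟩ := h.ker0 hψ e₂
  obtain ⟨φ', hφ', f₁⟩ := h.surj k trivial d₁
  obtain ⟨ψ', hψ', f₂⟩ := h.surj m trivial d₂
  have f3 := r0_ovr f₁ f₂ (h.cm0 km hφ' hψ)
  have a0 := mul_mem_sup hφ' hψ'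
  have ut : Commute ((φ' * ψ')⁻¹ * ⁅g, g'⁆) t := by
    have : (φ' * ψ')⁻¹ * ⁅g, g'⁆ * t * ((φ' * ψ')⁻¹ * ⁅g, g'⁆)⁻¹ = t :=
      calc _ = (φ' * ψ')⁻¹ * (⁅g, g'⁆ * t * ⁅g, g'⁆⁻¹) * (φ' * ψ') := by group
        _ = _ := by rw [hw, ← f3]; group
    exact mul_inv_eq_iff_eq_mul.1 this
  have us : ∀ s v, 0 ≤ ip4 s b → 0 ≤ ip4 s k → 0 ≤ ip4 s m → Commute g' ⁅g, S.x s v⁆ →
      Commute (S.x s v) ((φ' * ψ')⁻¹ * ⁅g, g'⁆) := fun s v k1 k2 k3 k4 => by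
    have k5 := h.cm0 k1 (h.xZ0 s v) hg'
    refine (h.cA k2 k3 (h.xZ0 s v) a0).inv_right.mul_right (Commute.mul_right ?_ k5.inv_right)
    have k6 := (k4.symm.mul_left k5).conj g
    rwa [commutatorElement_def, inv_mul_cancel_right, show g * (g * S.x s v * g⁻¹) * g⁻¹ =
      g * g * S.x s v * (g * g)⁻¹ by group, h.sq0 hg, one_mul, inv_one, mul_one] at k6
  obtain ⟨c1, c2, c3, z, hz0, eu⟩ := A.cen_QD (h.CN (mem_centralizer_singleton_iff.2 ut)) hl.ot.symm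
    (mem_centralizer_iff.2 fun x hx => mem_centralizer_singleton_iff.1 ((closure_le _).2 (by
      rintro _ ⟨s, hs, v, rfl⟩
      have j1 := hl.2.2.1.ip' s
      have j2 := hl.2.2.2.ip' s
      have j0 : 1 ≤ ip4 s m := hs
      obtain ⟨k1, k2, k3⟩ := r0_tab l b hl.1 hl.2.1 hl.ip.1 s (by omega)
      refine mem_centralizer_singleton_iff.2 (us s v k1 (by omega) (by omega) ?_)
      rcases k3 with k3 | rfl | k3
      · rw [commutatorElement_eq_one_iff_commute.2 (h.cm0 k3 hg (h.xZ0 s v))]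
        exact Commute.one_right _
      · exact cb hg' (h1 v)
      · exact (h.cm0 k3.2 (h.cx _ _ _ trivial k3.1 g hg v) hg').symm) hx))
    fun s _ k1 k2 v => (us s v k1.ge k2.ge (by have := hl.2.2.2.ip' s; omega) (by
      have := hl.2.2.1.ip' s
      rw [commutatorElement_eq_one_iff_commute.2 (h.cm0 (by rw [ip4_comm]; omega) hg (h.xZ0 s v))]
      exact Commute.one_right _)).symm
  have xL := mul_mem (S.x_mem_grp k c2) (S.x_mem_grp m c3)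
  have a1 := mul_mem a0 (mul_mem_sup (h.xZ0 k c2) (h.xZ0 m c3))
  have b1 := mul_mem hg' (h.xZ0 b c1)
  have ew : ⁅g, g'⁆ = S.x b c1 * (φ' * ψ' * (S.x k c2 * S.x m c3)) * z := by
    rw [inv_mul_eq_iff_eq_mul.1 eu, ← mul_assoc (S.x b c1), (cb (h.xZ0 b c1) a0).eq]; group
  have P2 := r0_sq (h.sq0 b1) (h.sqA km a1) (cb b1 a1)
  obtain rfl : z = 1 := h.toH1.kill (P := g' * S.x b c1 * (φ' * ψ' * (S.x k c2 * S.x m c3)))
    (y := S.x b e * (S.x k d₁ * S.x m d₂)) hz0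
    (by
      rw [show z = (S.x b c1 * (S.x k c2 * S.x m c3))⁻¹ * ((φ' * ψ')⁻¹ * ⁅g, g'⁆) by rw [eu]; group]
      exact (h.tL (mul_mem (S.x_mem_grp _ _) xL)).inv_left.mul_left ut)
    (CO.mul' (h.co b trivial _ b1) (CO.mul' (CO.mul' (h.co k trivial _ hφ') (h.co m trivial _ hψ'))
      (co_of_mem xL)))
    (by
      rw [mul_assoc g', mul_assoc g', ← ew, commutatorElement_def, ← mul_assoc g' (g * g' * g⁻¹),
        conj_mul, conj_mul, h.sq0 hg']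
      simp)
    (P2 ▸ one_mem _) (mul_mem (S.x_mem_grp _ _) (mul_mem (S.x_mem_grp _ _) (S.x_mem_grp _ _)))
    (r0_ovr (by rw [← ee, mul_assoc g', (h.tL (S.x_mem_grp b c1)).eq]; group)
      (by rw [← f3, mul_assoc (φ' * ψ'), (h.tL xL).eq]; group) (cb b1 hz))
    (by rw [P2, ← mul_assoc]; exact fun e' => e0 (A.three_eq_one hl e'.symm).1)
  rw [mul_one] at ew
  have w2 := r0_sq (h.sq0 (h.xZ0 b c1)) (h.sqA km a1) (cb (h.xZ0 b c1) a1)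
  rw [← ew] at w2
  have gw : Commute g ⁅g, g'⁆ := by
    have : g * ⁅g, g'⁆ * g⁻¹ = ⁅g, g'⁆⁻¹ := by
      rw [commutatorElement_inv, commutatorElement_def, commutatorElement_def, h.inv0 hg,
        ← mul_assoc, ← mul_assoc, ← mul_assoc, h.sq0 hg, one_mul]
    rw [inv_eq_of_mul_eq_one_right w2] at this
    exact mul_inv_eq_iff_eq_mul.1 this
  rcases eq_or_ne c1 0 with rfl | c0
  · rwa [ew, S.x_zero, one_mul]
  · have := gw.mul_right (cl hg a1).inv_right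
    rw [ew, mul_inv_cancel_right] at this
    rw [h.eq_one_of_com hl hg c0 this, commutatorElement_one_left]
    exact one_mem _

theorem c2a' {l b k m : R4} (hl : Ls l b k m) {g : G} (hg : g ∈ Z b) (d : F) :
    ⁅S.x l d, g⁆ ∈ Z k ⊔ Z m :=
  h.gen hl (h.xZ0 l d) hg (h.xA hl d) fun c e => by
    rw [(h.tL (S.x_mem_grp l d)).eq, mul_inv_cancel_right, left_eq_mul] at e
    rw [e, commutatorElement_one_left]
    exact one_mem _

theorem c2a {l b k m : R4} (hl : Ls l b k m) {g : G} (hg : g ∈ Z b) (d : F) :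
    ∃ g' ∈ Z k, ∃ g'' ∈ Z m, S.x l d * g * (S.x l d)⁻¹ = g * g' * g'' := by
  obtain ⟨i1, i2, i3, -⟩ := BA4.ls_ip hl
  have k1 := h.c2a' hl hg d
  obtain ⟨g', hg', g'', hg'', e⟩ := h.memA (by omega) k1
  refine ⟨g', hg', g'', hg'', ?_⟩
  rw [mul_assoc g, ← e, (h.cA i2.ge (by omega) hg k1).eq, commutatorElement_def, inv_mul_cancel_right]

theorem c2b {l b k m : R4} (hl : Ls l b k m) {g : G} (hg : g ∈ Z l) (d : F) :
    ∃ g' ∈ Z k, ∃ g'' ∈ Z m, S.x b d * g * (S.x b d)⁻¹ = g * g' * g'' := by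
  obtain ⟨S', hd, A'⟩ := h.amb.exists_du
  obtain ⟨e, he⟩ := hd.exists_x (ρ b) d
  rw [ρ_ρ] at he
  obtain ⟨g', hg', g'', hg'', k0⟩ := (hd.h0 A' h).c2a hl.ρ (g := g) (by rwa [ρ_ρ]) e
  rw [ρ_ρ] at hg' hg''
  exact ⟨g'', hg'', g', hg', by
    rw [he, k0, mul_assoc, mul_assoc, (h.cm0 (by have := BA4.ls_ip hl; omega : 0 ≤ ip4 k m) hg'' hg').eq]⟩

theorem c2 {l b k m : R4} (hl : Ls l b k m) {g g' : G} (hg : g ∈ Z l) (hg' : g' ∈ Z b) :
    ∃ φ ∈ Z k, ∃ ψ ∈ Z m, ⁅g, g'⁆ = φ * ψ := by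
  obtain ⟨i1, -, -, i4, i5⟩ := BA4.ls_ip hl
  refine h.memA (by omega) (h.gen hl hg hg' (fun u => ?_) fun c _ => h.c2a' hl hg' c)
  obtain ⟨φ, hφ, ψ, hψ, e⟩ := h.c2b hl hg u
  have k1 := mul_mem_sup hφ hψ
  rw [← commutatorElement_inv, inv_mem_iff, commutatorElement_def, e, mul_assoc g,
    (h.cA (by omega) i5.ge hg k1).eq, mul_inv_cancel_right]
  exact k1

theorem prod_ovr {g : R4 → G} {c : R4 → F} : ∀ {L : List R4}, (∀ r ∈ L, ∀ s ∈ L, 0 ≤ ip4 r s) →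
    (∀ r ∈ L, g r ∈ Z r) → (∀ r ∈ L, g r * t * (g r)⁻¹ = t * S.x r (c r)) →
    (L.map g).prod * t * (L.map g).prod⁻¹ = t * S.xprod L c
  | [], _, _, _ => by simp [S.xprod_nil]
  | r :: L, h1, h2, h3 => by
    rw [List.map_cons, List.prod_cons, S.xprod_cons]
    refine r0_ovr (h3 r (by simp)) (prod_ovr (fun a ha b hb => h1 a (by simp [ha]) b (by simp [hb]))
      (fun a ha => h2 a (by simp [ha])) fun a ha => h3 a (by simp [ha]))
      (Commute.list_prod_right _ _ fun x hx => ?_)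
    obtain ⟨s, hs, rfl⟩ := List.mem_map.1 hx
    exact h.cm0 (h1 r (by simp) s (by simp [hs])) (h2 r (by simp)) (h.xZ0 _ _)

/-- commuting groups of hats in a half space are independent -/
theorem indep {L W : List R4} (hL : L.Nodup) (h1 : ∀ r ∈ L, 24 ≤ (wd W r).1)
    (h2 : ∀ r ∈ L, ∀ s ∈ L, 0 ≤ ip4 r s) {g : R4 → G} (hg : ∀ r ∈ L, g r ∈ Z r) (e : (L.map g).prod = 1) :
    ∀ r ∈ L, g r = 1 := by
  choose! c hc using fun r hr => h.ovr0 (hg r hr)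
  have k1 := h.prod_ovr h2 hg hc
  rw [e, one_mul, inv_one, mul_one, left_eq_mul, ← S.xprod_zero L] at k1
  choose! d hd using fun r hr => h.ker0 (hg r hr) (h.amb.xprod_inj' hL h1 k1 r hr ▸ hc r hr)
  rw [List.map_congr_left hd, ← S.xprod_zero L] at e
  intro r hr
  rw [hd r hr, h.amb.xprod_inj' hL h1 e r hr, S.x_zero]

end H0

end CfsgLib.SLF
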