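import Mathlib
import Cfsg.Agent.Lib.SLF.Ring0a
import Cfsg.Agent.Lib.SLE.NH

/-!
# The group generated by the hats, case `κ = 0`
-/

set_option autoImplicit false
set_option linter.unusedSectionVars false

namespace CfsgLib.SLF

open Cfsg.Lie CfsgLib.RGD CfsgLib.Stein CfsgLib.Semi CfsgLib.SLE CfsgLib.UFP Subgroup
open scoped commutatorElement Pointwise

universe u

variable {F : Type} [Field F] [Finite F] [CharP F 2] {G : Type u} [Group G] [Finite G]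
  {S : StSys ΦF4 F G}

/-- the normaliser of the group generated by the hats -/
abbrev NZ4 (Z : R4 → Subgroup G) : Subgroup G := normalizer ((⨆ r, Z r : Subgroup G) : Set G)

/-- a four-group of root elements centralises the odd subgroups which it normalises -/
theorem Amb.cent_of_odd (A : Amb S) {b r r' : R4} (h : Cm b r r') {c : F} (hc : c ≠ 0) {V : Subgroup G}
    (hV : Odd (Nat.card V)) (h1 : V ≤ NL S) (h2 : S.x r c ∈ normalizer (V : Set G))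
    (h3 : S.x r' 1 ∈ normalizer (V : Set G)) : V ≤ centralizer {S.x r c} := by
  obtain ⟨i1, i2, i3⟩ := BA4.cm_ip h
  have key : ∀ v ∈ V, ∀ x ∈ normalizer (V : Set G), ∀ g s,
      g⁻¹ * (v * x * v⁻¹ * x⁻¹) * g ∈ Q4 S s → x * v = v * x := fun v hv x hx g s hq => by
    have e1 : v * x * v⁻¹ * x⁻¹ ∈ V := by
      have := V.mul_mem hv (UFP.conj_mem hx (V.inv_mem hv))
      rwa [← mul_assoc, ← mul_assoc] at this
    have e2 := eq_one_of_odd (A.pg_Q s) hq (odd_orderOf hV e1) (by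
      rw [show g⁻¹ * (v * x * v⁻¹ * x⁻¹) * g = g⁻¹ * (v * x * v⁻¹ * x⁻¹) * g⁻¹⁻¹ by group,
        conj_pow, pow_orderOf_eq_one]; group)
    have e3 : v * x * v⁻¹ * x⁻¹ = 1 := by simpa [mul_eq_one_iff_eq_inv] using e2
    rw [mul_inv_eq_one, mul_inv_eq_iff_eq_mul] at e3
    exact e3.symm
  have hne : S.x r c * S.x r' 1 ≠ 1 := fun e => by
    rw [mul_eq_one_iff_eq_inv, A.x_inv] at e
    have := (A.x_inj hc e).1
    rw [this] at i1; omega
  refine le_of_four hV (A.x_sq r c) (A.x_sq r' 1) (A.com i3.le _ _)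
    (fun e => hc (A.x_eq_one.1 e)) (fun e => one_ne_zero (A.x_eq_one.1 e)) hne h2 h3
    inf_le_right ?_ ?_
  · rintro v ⟨hv, hv'⟩
    have hq := (A.norm_of_cent_x (h1 hv) one_ne_zero (mem_cent1.1 hv').symm).2.1
    have hx : S.x r c ∈ Q4 S r' := S.x_mem_UU (show 1 ≤ ip4 r r' by omega) c
    refine mem_cent1.2 (key v hv _ h2 1 r' ?_)
    simpa using (Q4 S r').mul_mem (UFP.conj_mem hq hx) ((Q4 S r').inv_mem hx)
  · rintro v ⟨hv, hv'⟩
    have e := A.conj_cm h c⁻¹ c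
    rw [inv_mul_cancel₀ hc] at e
    have hv2 := mem_cent1.1 hv'
    have hg : S.x b c⁻¹ ∈ NL S := le_normalizer (S.x_mem_grp _ _)
    have hc' : (S.x b c⁻¹)⁻¹ * v * S.x b c⁻¹ * S.x r c = S.x r c * ((S.x b c⁻¹)⁻¹ * v * S.x b c⁻¹) := by
      rw [← e] at hv2
      calc _ = (S.x b c⁻¹)⁻¹ * (v * (S.x b c⁻¹ * S.x r c * (S.x b c⁻¹)⁻¹)) * S.x b c⁻¹ := by group
        _ = _ := by rw [← hv2]; group
    have hq := (A.norm_of_cent_x (mul_mem (mul_mem (inv_mem hg) (h1 hv)) hg) hc hc').2.1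
    have hx : S.x r' 1 ∈ Q4 S r := S.x_mem_UU (show 1 ≤ ip4 r' r by rw [ip4_comm]; omega) 1
    have h4 := (Q4 S r).mul_mem (UFP.conj_mem hq hx) ((Q4 S r).inv_mem hx)
    have h5 : S.x b c⁻¹ * S.x r' 1 = S.x r' 1 * S.x b c⁻¹ := A.com i2.le _ _
    have h6 := key v hv _ h3 (S.x b c⁻¹) r (by
      have e1 : (S.x b c⁻¹)⁻¹ * v * S.x b c⁻¹ * S.x r' 1 * ((S.x b c⁻¹)⁻¹ * v * S.x b c⁻¹)⁻¹ *
          (S.x r' 1)⁻¹ = (S.x b c⁻¹)⁻¹ * (v * (S.x b c⁻¹ * S.x r' 1 * (S.x b c⁻¹)⁻¹) * v⁻¹ *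
          (S.x b c⁻¹ * S.x r' 1 * (S.x b c⁻¹)⁻¹)⁻¹) * S.x b c⁻¹ := by group
      rwa [e1, h5, mul_inv_cancel_right] at h4)
    refine mem_cent1.2 (mul_right_cancel (b := S.x r' 1) ?_)
    rw [mul_assoc, ← h6, ← mul_assoc, hv2, mul_assoc]

theorem nh_pos : ∀ r : R4, 24 ≤ r.1 → ∃ b, 24 ≤ (rf4 b r).1 ∧ Cm b r (rf4 b r) := by
  decide +kernel

theorem nh_ls : ∀ k : R4, ¬ Lg k → ∃ l, Ls l (rf4 l k) k (rf4 (rf4 l k) l) := by
  decide +kernel

theorem nh_cz : ∀ a b : R4, 23 ≤ a.1 → 25 ≤ b.1 →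
    0 ≤ ip4 a b ∨ (a.1 + b.1 ≠ 47 ∧ 25 ≤ (rf4 a b).1 ∧ 25 ≤ (rf4 b a).1) := by
  decide +kernel

theorem nh_simple : ∀ i : Fin 4, 24 ≤ (ΦF4.simple i).1 ∧
    (23 ≤ (ΦF4.simple i).rev.1 ∨ 0 ≤ ip4 (ΦF4.simple i).rev 47) := by
  obtain ⟨e0, e1, e2, e3⟩ := simple4
  intro i
  fin_cases i
  · show 24 ≤ (ΦF4.simple 0).1 ∧ (23 ≤ (ΦF4.simple 0).rev.1 ∨ 0 ≤ ip4 (ΦF4.simple 0).rev 47)
    rw [e0]; decide
  · show 24 ≤ (ΦF4.simple 1).1 ∧ (23 ≤ (ΦF4.simple 1).rev.1 ∨ 0 ≤ ip4 (ΦF4.simple 1).rev 47)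
    rw [e1]; decide
  · show 24 ≤ (ΦF4.simple 2).1 ∧ (23 ≤ (ΦF4.simple 2).rev.1 ∨ 0 ≤ ip4 (ΦF4.simple 2).rev 47)
    rw [e2]; decide
  · show 24 ≤ (ΦF4.simple 3).1 ∧ (23 ≤ (ΦF4.simple 3).rev.1 ∨ 0 ≤ ip4 (ΦF4.simple 3).rev 47)
    rw [e3]; decide

theorem H1.hat {t : G} {p : R4 → Prop} {Z : R4 → Subgroup G} (h : H1 S t p Z) {r : R4} (hp : p r)
    (hr : 24 ≤ r.1) {c : F} (hc : c ≠ 0) : Hat t S.U (S.x r c) := by
  obtain ⟨b, hr', hb⟩ := nh_pos r hr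
  obtain ⟨y, hy, e⟩ := h.surj r hp c
  refine ⟨y, closure {S.x r c, S.x (rf4 b r) 1}, e.symm, subset_closure (Or.inl rfl),
    (closure_le _).2 ?_, (closure_le _).2 ?_, fun V hV h1 h2 => h.amb.cent_of_odd hb hc hV
      (h1.trans h.CN) (h2 (subset_closure (Or.inl rfl))) (h2 (subset_closure (Or.inr rfl)))⟩
  · rintro _ (rfl | rfl)
    exacts [x_mem_U4 hr _, x_mem_U4 hr' _]
  · rintro _ (rfl | rfl)
    · exact mem_cent1.2 (h.cx' hp (yr_self r) hy _)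
    · exact mem_cent1.2 (h.cx' hp (bo_cm hb.symm) hy _)

theorem H1.conj_stG {t : G} {Z : R4 → Subgroup G} (h : H1 S t (fun _ => True) Z) {s : G} {σ : F ≃+* F}
    (hs : StG S s σ) (hs' : s * t = t * s) {r : R4} {g : G} (hg : g ∈ Z r) : s * g * s⁻¹ ∈ Z (ρ r) := by
  refine h.conj_gen hs' trivial trivial (f := fun c => σ (c ^ ex r)) (Du.surj σ r) (hs r) hg
    (mem_cent_UU.2 fun a ha c => ?_)
  obtain ⟨d, rfl⟩ := Du.surj σ (ρ a) c
  have e := hs (ρ a) d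
  rw [ρ_ρ] at e
  have e2 := h.cx' trivial (s := ρ a) ((yr_ρ _ _).1 (by rw [ρ_ρ]; exact ha)) hg d
  rw [← e]
  calc _ = s * (S.x (ρ a) d * g) * s⁻¹ := by group
    _ = _ := by rw [← e2]; group

namespace H0

variable {t : G} {Z : R4 → Subgroup G} (h : H0 S t Z)
include h

theorem L_le : S.grp ≤ ⨆ r, Z r :=
  S.UU_le_iff.2 fun r _ c => le_iSup Z r (h.toH1.xZ trivial c)

theorem cent_le : centralizer {t} ≤ NZ4 Z := fun g hg => by
  obtain ⟨l, hl, σ, hd⟩ := h.amb.aut (h.CN hg)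
  have h1 : l * g * t = t * (l * g) := by
    rw [mul_assoc, ← mem_cent1.1 hg, ← mul_assoc, h.toSit.com hl, mul_assoc]
  have h2 : l * g ∈ NZ4 Z := norm_iSup fun r b hb => by
    rcases hd with hd | hd
    · exact le_iSup Z _ (h.toH1.conj_std hd h1 trivial hb)
    · exact le_iSup Z _ (h.toH1.conj_stG hd h1 hb)
  exact (Subgroup.mul_mem_cancel_left _ (le_normalizer (h.L_le hl))).1 h2

theorem t_mem : t ∈ NZ4 Z := h.cent_le (mem_cent1.2 rfl)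

theorem G0_le : ⨆ r, Z r ≤ S.grp ⊔ Z 47 := by
  have A := h.amb
  have hL : ∀ r, Lg r → Z r ≤ S.grp ⊔ Z 47 := fun r hr b hb => by
    obtain ⟨L, e⟩ := trans1 (a := r) (a' := 47) (iff_of_true hr (by decide))
    have := h.toH1.conj_nw L trivial trivial hb
    rw [e] at this
    rw [show b = (nw S L)⁻¹ * (nw S L * b * (nw S L)⁻¹) * nw S L by group]
    exact mul_mem (mul_mem (mem_sup_left (inv_mem (nw_mem L))) (mem_sup_right this))
      (mem_sup_left (nw_mem L))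
  refine iSup_le fun k g' hg' => ?_
  by_cases hk : Lg k
  · exact hL k hk hg'
  obtain ⟨l, hl⟩ := nh_ls k hk
  generalize rf4 (rf4 l k) l = m at hl
  generalize rf4 l k = b at hl
  obtain ⟨i1, -, -, i2, i3⟩ := BA4.ls_ip hl
  obtain ⟨e, he⟩ := h.toH1.ovr trivial hg'
  obtain ⟨g, hg, e0⟩ := h.surj l trivial e
  obtain ⟨g1, hg1, g2, hg2, e1⟩ := h.c2b hl hg 1
  obtain ⟨c1, f1⟩ := h.toH1.ovr trivial hg1
  obtain ⟨c2, f2⟩ := h.toH1.ovr trivial hg2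
  have cm : ∀ {r s : R4} {g : G}, g ∈ Z r → 0 ≤ ip4 s r → ∀ c, S.x s c * g = g * S.x s c :=
    fun hg hs c => mem_cent.1 (h.cY _ hg) _ (S.x_mem_UU hs c)
  have hb := h.toSit.com (S.x_mem_grp b 1)
  have k1 : S.x b 1 * g * (S.x b 1)⁻¹ * t * (S.x b 1 * g * (S.x b 1)⁻¹)⁻¹ =
      t * (S.x l e * (S.x k e * S.x m e)) := by
    have := A.conj_sl hl e 1
    rw [one_pow, mul_one] at this
    calc _ = S.x b 1 * (g * ((S.x b 1)⁻¹ * (t * S.x b 1)) * g⁻¹) * (S.x b 1)⁻¹ := by group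
      _ = S.x b 1 * t * S.x l e * (S.x b 1)⁻¹ := by
        rw [← hb, inv_mul_cancel_left, e0]; group
      _ = _ := by rw [hb, ← this]; group
  have k2 : g * g1 * g2 * t * (g * g1 * g2)⁻¹ = t * (S.x l e * (S.x k c1 * S.x m c2)) := by
    calc _ = g * (g1 * (g2 * t * g2⁻¹) * g1⁻¹) * g⁻¹ := by group
      _ = g * (g1 * t * g1⁻¹ * (g1 * S.x m c2) * g1⁻¹) * g⁻¹ := by rw [f2]; group
      _ = g * t * g⁻¹ * (g * S.x k c1) * g⁻¹ * (g * S.x m c2) * g⁻¹ := by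
        rw [f1, ← cm hg1 (by rw [ip4_comm]; omega)]; group
      _ = _ := by
        rw [e0, ← cm hg (s := k) (by rw [ip4_comm]; omega),
          ← cm hg (s := m) (by rw [ip4_comm]; omega)]; group
  rw [e1, k2, mul_right_inj, mul_right_inj] at k1
  have k3 : S.x k (c1 + e) * S.x m (c2 + e) = 1 := by
    rw [S.x_add, S.x_add, A.com (a := k) (b := k) (BA4.ip_self k).le,
      A.com (a := m) (b := m) (BA4.ip_self m).le]
    calc _ = S.x k e * (S.x k c1 * S.x m c2) * S.x m e := by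
          rw [A.com (a := m) (b := m) (BA4.ip_self m).le e c2]; group
      _ = S.x k e * S.x k e * (S.x m e * S.x m e) := by rw [k1]; group
      _ = 1 := by rw [A.x_sq, A.x_sq, mul_one]
  have hkm : k ≠ m := fun e => hk (e ▸ hl.ip.2.2)
  have k4 := (A.two_eq_one hkm (fun e => hk ((lg_rev k).1 (e ▸ hl.ip.2.2))) k3).1
  rw [CharTwo.add_eq_zero] at k4
  obtain ⟨c, hc⟩ := h.toH1.ovr_eq trivial hg' hg1 (by rw [he, f1, k4])
  have m1 : g1 ∈ S.grp ⊔ Z 47 := by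
    rw [show g1 = g⁻¹ * (g * g1 * g2) * g2⁻¹ by group, ← e1]
    have := mem_sup_left (T := Z 47) (S.x_mem_grp b 1)
    exact mul_mem (mul_mem (inv_mem (hL l hl.1 hg)) (mul_mem (mul_mem this (hL l hl.1 hg))
      (inv_mem this))) (inv_mem (hL m hl.ip.2.2 hg2))
  rw [hc]
  exact mul_mem m1 (mem_sup_left (S.x_mem_grp k c))

theorem odd_W : Odd (Nat.card (centralizer ((⨆ r, Z r : Subgroup G) : Set G))) := by
  refine odd_of_inv h.t2 (norm_cent h.t_mem) fun c hc c2 ct => ?_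
  refine (h.toSit.eq_t (centralizer_le h.L_le hc) c2 ct).resolve_right fun e => ?_
  obtain ⟨b, hb, h1⟩ := h.surj 47 trivial 1
  rw [e] at hc
  rw [mem_cent.1 hc b (le_iSup Z _ hb), mul_inv_cancel_right, left_eq_mul] at h1
  exact one_ne_zero (h.amb.x_eq_one.1 h1)

theorem iso {R : Subgroup G} {G1 : Subgroup G}
    (hR : ∀ m ∈ G1, m ∈ centralizer (R : Set G) → ∃ e ∈ R,
      ∃ k ∈ centralizer ((⨆ r, Z r : Subgroup G) : Set G), m * t * m⁻¹ = k * (t * e)) :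
    Iso G1 t R := fun m hm hc P hP h1 h2 h3 => by
  obtain ⟨e, he, k, hk, h4⟩ := hR m hm hc
  have h5 : k = 1 := eq_one_of_odd' hP h.odd_W (by
    rw [h4] at h3; exact (P.mul_mem_cancel_right (P.mul_mem h2 (h1 he))).1 h3) hk
  rw [h4, h5, one_mul, inv_mul_cancel_left]
  exact he

/-- **UW** -/
theorem uw (hu : U (NZ4 Z) t)
    (hQ : ∀ m ∈ NZ4 Z, m ∈ centralizer (Q4 S 47 : Set G) → ∃ e ∈ Q4 S 47,
      ∃ k ∈ centralizer ((⨆ r, Z r : Subgroup G) : Set G), m * t * m⁻¹ = k * (t * e))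
    (hR : ∀ m ∈ NZ4 Z, m ∈ centralizer (Ug S 25 : Set G) → ∃ e ∈ Ug S 25,
      ∃ k ∈ centralizer ((⨆ r, Z r : Subgroup G) : Set G), m * t * m⁻¹ = k * (t * e)) :
    UW (NZ4 Z) t S.U := by
  have A := h.amb
  have hX : ∀ r : R4, 24 ≤ r.1 → ∀ c, S.x r c ∈
      closure {x | ∃ r : R4, 24 ≤ r.1 ∧ ∃ c, c ≠ 0 ∧ x = S.x r c} := fun r hr c => by
    by_cases hc : c = 0
    · rw [hc, S.x_zero]; exact one_mem _
    · exact subset_closure ⟨r, hr, c, hc, rfl⟩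
  have hRU : ∀ i : Bool, (cond i (Ug S 25) (Q4 S 47)) ≤ S.U := by
    rintro (_ | _)
    · show Q4 S 47 ≤ _
      rw [A.Q47_eq]
      exact UU_le_U4 (by decide)
    · exact Ug_le_U (by omega)
  have h23 : ∀ r : R4, 23 ≤ r.1 → ∀ c, S.x r c ∈ Ug S 23 := fun r hr c => S.x_mem_UU hr c
  have h47 : ∀ r : R4, 0 ≤ ip4 r 47 → ∀ c, S.x r c ∈ Y4 S 47 := fun r hr c => S.x_mem_UU hr c
  refine UWData.uw (L := S.grp) (Zh := Z 47) (X := {x | ∃ r : R4, 24 ≤ r.1 ∧ ∃ c, c ≠ 0 ∧ x = S.x r c})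
    (R := fun i : Bool => cond i (Ug S 25) (Q4 S 47))
    (P := fun i : Bool => cond i (Ug S 23) (Y4 S 47)) ⟨⟨true⟩, ?_,
      fun l hl => mem_cent1.2 (h.toSit.com hl).symm, ?_, ?_, ?_, fun K hK h1 => ?_, fun i => ?_,
      fun i => A.pg_U.to_le (hRU i), ?_, fun i hi => h.toSit.t_not_mem (S.U_le_grp (hRU i hi)), ?_,
      fun i z hz => centralizer_le ((hRU i).trans A.U_le_Y47) (h.cY _ hz),
      fun z hz => ?_, fin_of (fun K hK h1 z hz => ?_) ?_⟩ hu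
  · rintro _ ⟨r, hr, c, hc, rfl⟩; exact h.toH1.hat trivial hr hc
  · rintro (_ | _)
    exacts [A.U_le_Y47, U_eq_Ug.le.trans (Ug_mono (by omega))]
  · rintro (_ | _) <;> exact S.UU_le_grp _
  · have e := S.UU_simple_eq Set.univ
    rw [show {r | ΦF4.InSub Set.univ r} = Set.univ from Set.eq_univ_of_forall ΦF4.inSub_univ] at e
    rw [StSys.grp, ← e]
    refine S.UU_le_iff.2 ?_
    rintro r ⟨i, -, rfl | rfl⟩ c
    · exact mem_iSup_of_mem true (h23 _ (le_trans (by omega) (nh_simple i).1) c)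
    · rw [neg4]
      rcases (nh_simple i).2 with hi | hi
      exacts [mem_iSup_of_mem true (h23 _ hi c), mem_iSup_of_mem false (h47 _ hi c)]
  · refine S.grp_le_of_simple (fun g hg k hk => UFP.conj_mem (hK hg) hk) fun i c => ?_
    exact (closure_le K).2 h1 (hX _ (nh_simple i).1 c)
  · exact (hRU i).trans (U_eq_Ug.le.trans (S.UU_le_iff.2 hX))
  · rintro (_ | _)
    · exact A.Y_norm_Q _
    · exact A.norm_UU fun a ha b hb => cz_iff.2 (nh_cz a b ha hb)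
  · rintro (_ | _)
    exacts [h.iso hQ, h.iso hR]
  · obtain ⟨c, hc⟩ := h.toH1.ovr trivial hz
    rw [hc, inv_mul_cancel_left]
    exact hX _ (by decide) c
  · obtain ⟨e, he⟩ := h.toH1.ovr trivial hz
    obtain ⟨g, hg, e0⟩ := h.surj 46 trivial e
    have hc : Cm 46 24 47 := by decide
    obtain ⟨c, rfl⟩ := h.toH1.ovr_eq trivial hz (h.cx _ _ _ trivial hc g hg 1)
      (by rw [he, h.toH1.cx_ovr trivial hc hg e0, one_mul])
    have hl := h1 (S.x_mem_grp 24 1)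
    exact K.mul_mem (K.mul_mem (UFP.conj_mem (hK (h.G0_le (le_iSup Z _ hg))) hl) (K.inv_mem hl))
      (h1 (S.x_mem_grp _ _))
  · exact (centralizer_le h.G0_le).trans (centralizer_le_normalizer _)

end H0

end CfsgLib.SLF
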