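import Mathlib
import Cfsg.Agent.Auto.CfsgLib_SLF_ra_par_eq_def
import Cfsg.Agent.Lib.SLF.Hat1
import Cfsg.Agent.Lib.SLF.Ring1aT

/-!
# A complement of `X_r` in the group of hats
-/

set_option autoImplicit false
set_option linter.unusedSectionVars false

namespace CfsgLib.SLF

open Cfsg.Lie CfsgLib.RGD CfsgLib.Stein CfsgLib.Semi CfsgLib.SLE CfsgLib.UFP Subgroup
open scoped commutatorElement Pointwise

universe u

variable {F : Type} [Field F] [Finite F] [CharP F 2] {G : Type u} [Group G] [Finite G]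
  {S : StSys ΦF4 F G}

/-- `m r u` is the hat `u ω` -/
structure RM (S : StSys ΦF4 F G) (t : G) (κ : F) (Z : R4 → Subgroup G) (m : R4 → F → G) : Prop
    extends HS S t κ Z where
  mZ : ∀ r, ¬ Lg r → ∀ u, m r u ∈ Z r
  add : ∀ r, ¬ Lg r → ∀ u v, m r (u + v) = m r u * m r v
  tm : ∀ r, ¬ Lg r → ∀ u, m r u * t * (m r u)⁻¹ = t * S.x r u
  nl : ∀ d r, Lg d → ¬ Lg r → ∀ u, S.n d 1 * m r u * (S.n d 1)⁻¹ = m (rf4 d r) u
  ns : ∀ d r, ¬ Lg d → ¬ Lg r → ∀ u, S.n d 1 * m r u * (S.n d 1)⁻¹ = S.x (rf4 d r) (κ * u) * m (rf4 d r) u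
  hm : ∀ d r, ¬ Lg r → ∀ c, c ≠ 0 → ∀ u, S.h d c * m r u * (S.h d c)⁻¹ = m r (c ^ cv r d * u)

theorem Sit.ra_tc {t : G} (h : Sit S t) {l : G} (hl : l ∈ S.grp) : l * t = t * l :=
  mem_centralizer_iff.1 h.tC l hl

/-- two elements of `L` which permute the root elements alike are equal -/
theorem Amb.ra_ex (A : Amb S) {g g' : G} (hg : g ∈ S.grp) (hg' : g' ∈ S.grp) {w w' : R4 → R4} (e : Ex S g w)
    (e' : Ex S g' w') (h : ∀ s, w s = w' s) : g = g' := by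
  have k : g⁻¹ * g' ∈ S.grp ⊓ CL S := by
    refine mem_inf.2 ⟨mul_mem (inv_mem hg) hg', mem_cent_UU.2 fun r _ c => Eq.symm ?_⟩
    have h1 := e r c
    rw [h, ← e' r c] at h1
    calc g⁻¹ * g' * S.x r c = g⁻¹ * (g' * S.x r c * g'⁻¹) * g' := by group
      _ = S.x r c * (g⁻¹ * g') := by rw [← h1]; group
  rw [A.Z_triv, mem_bot] at k
  exact inv_mul_eq_one.1 k

theorem ra_nw_cons (d : R4) (L : List R4) : nw S (d :: L) = S.n d 1 * nw S L := by simp [nw]

theorem ra_nw_append (L L' : List R4) : nw S (L ++ L') = nw S L * nw S L' := by simp [nw]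

theorem Amb.ra_nw_rev (A : Amb S) (L : List R4) : nw S L.reverse = (nw S L)⁻¹ :=
  A.ra_ex (nw_mem _) (inv_mem (nw_mem _)) (A.ex_nw _) (A.ex_nw_inv L) fun _ => rfl

/-- a short root element acting on the hats of an orthogonal short root -/
theorem HS.ra_ot {t : G} {κ : F} {Z : R4 → Subgroup G} (h : HS S t κ Z) {d r m : R4} (hm : Ot d r m)
    {g : G} (hg : g ∈ Z r) {c : F} (e : g * t * g⁻¹ = t * S.x r c) (u : F) :
    S.x d u * g * (S.x d u)⁻¹ = S.x m (κ * c * u) * g := by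
  have k := h.mv d r m hm g hg c e u
  calc S.x d u * g * (S.x d u)⁻¹ = (S.x d u)⁻¹ * (g * S.x d u * g⁻¹) * g := by
        rw [h.amb.x_inv]; group
    _ = _ := by rw [k]; group

/-- the reflection in a short root orthogonal to `r` -/
theorem HS.n_ort {t : G} {κ : F} {Z : R4 → Subgroup G} (h : HS S t κ Z) {d r : R4} (hd : ¬ Lg d) (hr : ¬ Lg r)
    (hdr : ip4 d r = 0) {g : G} (hg : g ∈ Z r) {c : F} (e : g * t * g⁻¹ = t * S.x r c) :
    S.n d 1 * g * (S.n d 1)⁻¹ = S.x r (κ * c) * g := by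
  have A := h.amb
  obtain ⟨m, hm⟩ := exists_ot d r hd hr hdr
  obtain ⟨m', hm'⟩ := exists_ot d.rev r (mt (lg_rev d).1 hd) hr (by rw [ip4_rev, hdr]; rfl)
  have hl : Ls m d.rev r m' := ⟨hm.2.2.2, hm'.1, hm.2.2.1.symm.sub, hm'.2.2.1.symm⟩
  have k1 := h.ra_ot hm hg e 1
  have k2 := h.ra_ot hm' hg e 1
  have k3 := A.conj_sl hl (κ * c) 1
  simp only [mul_one, one_pow] at k1 k2 k3
  have c1 := A.com (a := d) (b := m) (by rw [hm.2.2.1.ip', hdr, (sh_iff d).1 hd]; decide) 1 (κ * c)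
  have c2 := A.com (a := d) (b := r) hdr.ge 1 (κ * c)
  have c3 := A.com (a := r) (b := m) (by rw [hm.2.2.1.ip', ip4_comm, hdr, (sh_iff r).1 hr]; decide) (κ * c) (κ * c)
  have s1 := A.x_sq m (κ * c)
  have s2 := A.x_sq m' (κ * c)
  rw [A.n_eq]
  generalize S.x d 1 = x at *
  generalize S.x d.rev 1 = x' at *
  generalize S.x m (κ * c) = a at *
  generalize S.x m' (κ * c) = a' at *
  generalize S.x r (κ * c) = b at *
  calc x * x' * x * g * (x * x' * x)⁻¹ = x * (x' * (x * g * x⁻¹) * x'⁻¹) * x⁻¹ := by group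
    _ = x * ((x' * a * x'⁻¹) * (x' * g * x'⁻¹)) * x⁻¹ := by rw [k1]; group
    _ = x * a * b * (a' * a') * g * x⁻¹ := by rw [k2, k3]; group
    _ = a * b * (x * g * x⁻¹) := by rw [s2, c1, mul_assoc a x b, c2]; group
    _ = a * (b * a) * g := by rw [k1]; group
    _ = b * g := by rw [c3, ← mul_assoc, s1, one_mul]

theorem Amb.ra_scal (A : Amb S) {a : G} (ha : a ∈ S.H) {r : R4} {c : F} (e : a * S.x r 1 * a⁻¹ = S.x r c) (u : F) :
    a * S.x r u * a⁻¹ = S.x r (c * u) := by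
  obtain ⟨d, h1, -, -, h2⟩ := A.H_conj ha
  rw [h2, mul_one] at e
  rw [h2, (A.x_inj (h1 r) e).2]

/-- torus elements which fix `X_r` centralise the hats -/
theorem HS.h_fix {t : G} {κ : F} {Z : R4 → Subgroup G} (h : HS S t κ Z) {r : R4} (hr : ¬ Lg r) {a : G}
    (ha : a ∈ S.H) (e : a * S.x r 1 = S.x r 1 * a) {g : G} (hg : g ∈ Z r) : a * g = g * a := by
  have A := h.amb
  have hx : ∀ u, a * S.x r u * a⁻¹ = S.x r u := fun u => by
    rw [A.ra_scal ha (c := 1) (by rw [e]; group), one_mul]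
  have ht : a * t = t * a := h.ra_tc (S.N_le_grp (S.H_le_N ha))
  obtain ⟨c, hc⟩ := h.toH1.ovr hr hg
  obtain ⟨u, hu⟩ := h.toH1.ovr_eq hr (h.toH1.conj_H ha hr hg) hg (by
    calc a * g * a⁻¹ * t * (a * g * a⁻¹)⁻¹ = a * g * (a⁻¹ * (t * a)) * g⁻¹ * a⁻¹ := by group
      _ = a * (g * t * g⁻¹) * a⁻¹ := by rw [← ht]; group
      _ = (a * t) * a⁻¹ * (a * S.x r c * a⁻¹) := by rw [hc]; group
      _ = _ := by rw [ht, hx, hc]; group)
  have k : Commute (a ^ 2) g := by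
    have : a ^ 2 * g * (a ^ 2)⁻¹ = g := by
      calc a ^ 2 * g * (a ^ 2)⁻¹ = a * (a * g * a⁻¹) * a⁻¹ := by rw [pow_two]; group
        _ = a * (g * S.x r u) * a⁻¹ := by rw [hu]
        _ = (a * g * a⁻¹) * (a * S.x r u * a⁻¹) := by group
        _ = g := by rw [hu, hx, mul_assoc, A.x_sq, mul_one]
    exact mul_inv_eq_iff_eq_mul.1 this
  obtain ⟨n, hn⟩ := BA.odd_q F
  have := k.pow_left (n + 1)
  rwa [← pow_mul, show 2 * (n + 1) = 2 * n + 1 + 1 by ring, pow_succ, ← hn, A.H_pow ha, one_mul] at this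

/-- words in reflections which fix `44` -/
theorem HS.ra_nw {t : G} {κ : F} {Z : R4 → Subgroup G} (h : HS S t κ Z) {r : R4} (hr : ¬ Lg r) {g : G}
    (hg : g ∈ Z r) {c : F} (e : g * t * g⁻¹ = t * S.x r c) : ∀ L : List R4, (∀ s ∈ L, ip4 s r = 0) →
      nw S L * g * (nw S L)⁻¹ = S.x r (if ra_par L then κ * c else 0) * g
  | [], _ => by simp [nw, ra_par, S.x_zero]
  | d :: L, hL => by
    have A := h.amb
    have hd := hL d (List.mem_cons_self ..)
    have ih := h.ra_nw hr hg e L fun s hs => hL s (List.mem_cons_of_mem _ hs)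
    have k : nw S (d :: L) * g * (nw S (d :: L))⁻¹ = S.x r (if ra_par L then κ * c else 0) *
        (S.n d 1 * g * (S.n d 1)⁻¹) := by
      conv_rhs => rw [← rf4_of_ip d r ((ip4_comm _ _).trans hd), ← A.ex_n d]
      rw [ra_nw_cons]
      calc S.n d 1 * nw S L * g * (S.n d 1 * nw S L)⁻¹ = S.n d 1 * (nw S L * g * (nw S L)⁻¹) * (S.n d 1)⁻¹ := by
            group
        _ = _ := by rw [ih]; group
    rw [k]
    by_cases l : Lg d
    · have c1 := h.toH1.cx' hr (s := d) (.inr ⟨hd, fun e => hr (e.1 l)⟩) hg 1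
      have c2 := h.toH1.cx' hr (s := d.rev) (.inr ⟨by rw [ip4_rev, hd]; rfl, fun e => hr (e.1 ((lg_rev d).2 l))⟩) hg 1
      have : Commute (S.n d 1) g := by
        rw [A.n_eq]
        exact ((Commute.symm c1).mul_left (Commute.symm c2)).mul_left (Commute.symm c1)
      rw [this.eq, mul_inv_cancel_right]
      simp only [ra_par, l, if_true]
    · rw [h.n_ort l hr hd hg e, ← mul_assoc, ← S.x_add]
      simp only [ra_par, l, if_false]
      cases ra_par L <;> simp [CharTwo.add_self_eq_zero]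

/-- the complement for one root -/
theorem HS.ra_rm0 {t : G} {κ : F} {Z : R4 → Subgroup G} (h : HS S t κ Z) : ∃ m : F → G, (∀ u, m u ∈ Z 44) ∧
    (∀ u v, m (u + v) = m u * m v) ∧ (∀ u, m u * t * (m u)⁻¹ = t * S.x 44 u) ∧
    ∀ a ∈ S.H, ∀ c, a * S.x 44 1 * a⁻¹ = S.x 44 c → ∀ u, a * m u * a⁻¹ = m (c * u) := by
  have A := h.amb
  have s40 : ¬ Lg 40 := by decide
  have s44 : ¬ Lg 44 := by decide
  obtain ⟨g, hg, e⟩ := h.surj 40 s40 1
  have hZ := fun u => h.cx 40 33 44 s40 ra_cm44 g hg u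
  refine ⟨fun u => g * S.x 33 u * g⁻¹ * (S.x 33 u)⁻¹, hZ, fun u v => ?_, fun u => ?_, fun a ha c hc u => ?_⟩
  · have k := h.toH1.cx' s44 (s := 33) (by decide) (hZ v) u
    beta_reduce
    rw [S.x_add]
    calc g * (S.x 33 u * S.x 33 v) * g⁻¹ * (S.x 33 u * S.x 33 v)⁻¹ =
          g * S.x 33 u * g⁻¹ * (S.x 33 u)⁻¹ * (S.x 33 u * (g * S.x 33 v * g⁻¹ * (S.x 33 v)⁻¹)) * (S.x 33 u)⁻¹ := by
          group
      _ = _ := by rw [← k]; group
  · simpa only [mul_one] using h.toH1.cx_ovr s40 ra_cm44 hg e u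
  · have hc0 : c ≠ 0 := by
      rintro rfl
      rw [S.x_zero, mul_inv_eq_one, mul_eq_left, A.x_eq_one] at hc
      exact one_ne_zero hc
    obtain ⟨b, hb, h1, h2⟩ := A.exists_H (a := 40) (b := 33) (by decide) (by decide) one_ne_zero hc0
    have h3 : b * S.x 44 1 * b⁻¹ = S.x 44 c := by
      have k := A.rel.cm 40 33 44 ra_cm44
      have k1 := k 1 1
      have k2 := k 1 c
      have k3 := h1 1
      have k4 := h2 1
      simp only [mul_one, one_mul] at k1 k2 k3 k4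
      rw [← k1, ← k2, ← k4]
      conv_rhs => rw [← k3]
      group
    have h4 : b * g = g * b := h.h_fix s40 hb (by
      have := h1 1
      rw [mul_one] at this
      exact mul_inv_eq_iff_eq_mul.1 this) hg
    have h5 := h.h_fix s44 (mul_mem (inv_mem hb) ha) (by
      calc b⁻¹ * a * S.x 44 1 = b⁻¹ * (a * S.x 44 1 * a⁻¹) * a := by group
        _ = _ := by rw [hc, ← h3]; group) (hZ u)
    beta_reduce
    rw [← h2]
    calc a * (g * S.x 33 u * g⁻¹ * (S.x 33 u)⁻¹) * a⁻¹ =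
          b * (b⁻¹ * a * (g * S.x 33 u * g⁻¹ * (S.x 33 u)⁻¹)) * a⁻¹ := by group
      _ = (b * g) * S.x 33 u * (b * g)⁻¹ * (b * (S.x 33 u)⁻¹ * b⁻¹) := by rw [h5]; group
      _ = _ := by rw [h4]; group

theorem HS.rm {t : G} {κ : F} {Z : R4 → Subgroup G} (h : HS S t κ Z) : ∃ m, RM S t κ Z m := by
  have A := h.amb
  have s44 : ¬ Lg 44 := by decide
  obtain ⟨m, hZ, hadd, ht, hH⟩ := h.ra_rm0
  have hx : ∀ r, ¬ Lg r → ∀ u, nw S (ra_L r) * S.x 44 u * (nw S (ra_L r))⁻¹ = S.x r u := fun r hr u => by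
    rw [A.ex_nw, ra_L_eq r hr]
  have hn : ∀ d r, ¬ Lg r → ∀ u, S.n d 1 * (nw S (ra_L r) * m u * (nw S (ra_L r))⁻¹) * (S.n d 1)⁻¹ =
      S.x (rf4 d r) (if Lg d then 0 else κ * u) *
        (nw S (ra_L (rf4 d r)) * m u * (nw S (ra_L (rf4 d r)))⁻¹) := fun d r hr u => by
    have hr' : ¬ Lg (rf4 d r) := mt ((iso_wd [d]).lg r).1 hr
    have k1 : nw S (ra_W d r) = nw S (ra_A d r) :=
      A.ra_ex (nw_mem _) (nw_mem _) (A.ex_nw _) (A.ex_nw _) (ra_WA hr d)
    have k2 := h.ra_nw s44 (hZ u) (ht u) _ (ra_tab5 r hr d).1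
    rw [← k1, (ra_tab5 r hr d).2, ra_W, ra_nw_append, ra_nw_cons, A.ra_nw_rev] at k2
    rw [← hx _ hr']
    calc _ = nw S (ra_L (rf4 d r)) * ((nw S (ra_L (rf4 d r)))⁻¹ * (S.n d 1 * nw S (ra_L r)) * m u *
          ((nw S (ra_L (rf4 d r)))⁻¹ * (S.n d 1 * nw S (ra_L r)))⁻¹) * (nw S (ra_L (rf4 d r)))⁻¹ := by group
      _ = _ := by
        rw [k2]
        by_cases l : Lg d <;> simp only [l, decide_true, decide_false, Bool.not_true, Bool.not_false, if_true,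
          if_false, Bool.false_eq_true] <;> group
  refine ⟨fun r u => nw S (ra_L r) * m u * (nw S (ra_L r))⁻¹, h, fun r hr u => ?_, fun r hr u v => ?_,
    fun r hr u => ?_, fun d r hd hr u => ?_, fun d r hd hr u => ?_, fun d r hr c hc u => ?_⟩
  · have := h.toH1.conj_nw (ra_L r) s44 (by rw [ra_L_eq r hr]; exact hr) (hZ u)
    rwa [ra_L_eq r hr] at this
  · rw [hadd]; group
  · have k := h.ra_tc (nw_mem (S := S) (ra_L r))
    rw [← hx r hr]
    generalize nw S (ra_L r) = n at *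
    calc n * m u * n⁻¹ * t * (n * m u * n⁻¹)⁻¹ = n * m u * (n⁻¹ * (t * n)) * (m u)⁻¹ * n⁻¹ := by group
      _ = n * (m u * t * (m u)⁻¹) * n⁻¹ := by rw [← k]; group
      _ = (n * t) * S.x 44 u * n⁻¹ := by rw [ht]; group
      _ = _ := by rw [k]; group
  · rw [hn d r hr, if_pos hd, S.x_zero, one_mul]
  · rw [hn d r hr, if_neg hd]
  · have k := hH _ (S.N_inv_conj_mem_H (nw_mem_N (ra_L r)) (S.h_mem_H d hc)) (c ^ cv r d) (by
      have k1 := A.h_conj d r hc 1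
      rw [mul_one, ← hx r hr, ← hx r hr] at k1
      calc _ = (nw S (ra_L r))⁻¹ * (S.h d c * (nw S (ra_L r) * S.x 44 1 * (nw S (ra_L r))⁻¹) * (S.h d c)⁻¹) *
            nw S (ra_L r) := by group
        _ = _ := by rw [k1]; group) u
    rw [← k]; group

end CfsgLib.SLF
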