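import Mathlib
import Cfsg.Agent.Lib.SLF.Ring1a

/-!
# The ring structure
-/

set_option autoImplicit false
set_option linter.unusedSectionVars false

namespace CfsgLib.SLF

open Cfsg.Lie CfsgLib.RGD CfsgLib.Stein CfsgLib.Semi CfsgLib.SLE CfsgLib.UFP Subgroup
open scoped commutatorElement Pointwise

universe u

variable {F : Type} [Field F] [Finite F] [CharP F 2] {G : Type u} [Group G] [Finite G]
  {S : StSys ΦF4 F G}

theorem rg1_conj {g x : G} (h : g * x = x * g) : g * x * g⁻¹ = x := by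
  rw [h, mul_inv_cancel_right]

theorem rg1_comm {n g k : G} : n * (g * k * g⁻¹ * k⁻¹) * n⁻¹ =
    n * g * n⁻¹ * (n * k * n⁻¹) * (n * g * n⁻¹)⁻¹ * (n * k * n⁻¹)⁻¹ := by group

theorem rg1_cm : ∀ a b : R4, ¬ Lg a → Cm a b (rf4 b a) → a ≠ b ∧ b ≠ a.rev ∧ a ≠ rf4 b a ∧
    Yr a b.rev ∧ Cm (rf4 b a) b.rev a := by decide +kernel

theorem rg1_k {a b k : R4} (ha : ¬ Lg a) (h : Cm a b k) : k = rf4 b a := by
  have hb : ¬ Lg b := fun e => ha (h.2.1.2 e)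
  have h1 := h.ip
  have h2 := (sh_iff a).1 ha
  refine wt_inj ?_
  rw [rf4_wt, cv, if_neg hb, ← h.1, show ip4 a b = -1 by omega]
  ring

theorem Cm.rg1_b {a b k : R4} (h : Cm a b k) (ha : ¬ Lg a) : ¬ Lg b := fun e => ha (h.2.1.2 e)

theorem Cm.rg1_c {a b k : R4} (h : Cm a b k) (ha : ¬ Lg a) : ¬ Lg k := fun e => ha (h.2.2.2 e)

namespace HS

variable {t : G} {κ : F} {Z : R4 → Subgroup G} (h : HS S t κ Z)
include h

theorem rg1_left {a b r : R4} (ha : ¬ Lg a) (hr : Cm a b r) {g g' k : G} (hg : g ∈ Z a) (hg' : g' ∈ Z a)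
    (hk : k ∈ Z b) :
    g * g' * k * (g * g')⁻¹ * k⁻¹ = g * k * g⁻¹ * k⁻¹ * (g' * k * g'⁻¹ * k⁻¹) := by
  have h1 := h.cz a b r ha hr g' hg' k hk
  have h2 := h.cz a b r ha hr g hg k hk
  rw [h.toH1.com_self (hr.rg1_c ha) h2 h1,
    ← rg1_conj (h.com a r ha (hr.rg1_c ha) hr.2.2 (BA4.cm_ip hr).2.1 g hg _ h1)]
  group

theorem rg1_right {a b r : R4} (ha : ¬ Lg a) (hr : Cm a b r) {g k k' : G} (hg : g ∈ Z a) (hk : k ∈ Z b)
    (hk' : k' ∈ Z b) :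
    g * (k * k') * g⁻¹ * (k * k')⁻¹ = g * k * g⁻¹ * k⁻¹ * (g * k' * g⁻¹ * k'⁻¹) := by
  have h1 := h.cz a b r ha hr g hg k' hk'
  rw [← rg1_conj (h.com b r (hr.rg1_b ha) (hr.rg1_c ha) hr.symm.2.2 (BA4.cm_ip hr).2.2 k hk _ h1)]
  group

theorem rg1_symm {a b r : R4} (ha : ¬ Lg a) (hr : Cm a b r) {g k : G} (hg : g ∈ Z a) (hk : k ∈ Z b) :
    k * g * k⁻¹ * g⁻¹ = g * k * g⁻¹ * k⁻¹ := by
  rw [← h.toH1.inv (hr.rg1_c ha) (h.cz a b r ha hr g hg k hk)]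
  group

theorem rg1_inf {a b : R4} (ha : ¬ Lg a) (hb : ¬ Lg b) (hab : a ≠ b) {g : G} (h1 : g ∈ Z a)
    (h2 : g ∈ Z b) : g = 1 := by
  obtain ⟨c, e1⟩ := h.toH1.ovr ha h1
  obtain ⟨d, e2⟩ := h.toH1.ovr hb h2
  have hc : c = 0 := by
    by_contra hc
    exact hab (h.amb.x_inj hc (mul_left_cancel (e1.symm.trans e2))).1
  rw [hc, S.x_zero, mul_one, mul_inv_eq_iff_eq_mul] at e1
  obtain ⟨u, e3⟩ := S.mem_X_iff.1 (h.ker a ha g h1 e1)
  obtain ⟨v, e4⟩ := S.mem_X_iff.1 (h.ker b hb g h2 e1)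
  by_contra hg
  exact hab (h.amb.x_inj (fun e => hg (by rw [e3, e, S.x_zero])) (e3.symm.trans e4)).1

/-- the reflection in `b` is the commutator with `x_b(1)` -/
theorem rg1_n {a b k : R4} (ha : ¬ Lg a) (hk : Cm a b k) {g : G} (hg : g ∈ Z a) :
    S.n b.rev 1 * g * (S.n b.rev 1)⁻¹ = g * S.x b 1 * g⁻¹ * (S.x b 1)⁻¹ := by
  have hc := hk.rg1_c ha
  obtain rfl := rg1_k ha hk
  obtain ⟨-, -, h3, h4, h5⟩ := rg1_cm a b ha hk
  have h0 : S.n b.rev 1 * g * (S.n b.rev 1)⁻¹ ∈ Z (rf4 b a) := by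
    have := h.toH1.conj_nw [b.rev] ha (r := a) (by simpa [wd, rf4_rev] using hc) hg
    simpa [wd, nw, rf4_rev] using this
  have h1 := h.cx a b _ ha hk g hg 1
  have h2 := h.cx _ _ _ hc h5 _ h1 1
  have c1 := h.toH1.cx' ha h4 hg 1
  have c2 := h.com a _ ha hc hk.2.2 (BA4.cm_ip hk).2.1 g hg _ h1
  have e0 : S.x b 1 * g * (S.x b 1)⁻¹ = g * (g * S.x b 1 * g⁻¹ * (S.x b 1)⁻¹) := by
    rw [← mul_assoc, ← mul_assoc, ← mul_assoc, h.toH1.sq ha hg, one_mul, h.toH1.inv ha hg]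
  generalize g * S.x b 1 * g⁻¹ * (S.x b 1)⁻¹ = c at h1 h2 c2 e0 ⊢
  have e1 : S.x b.rev 1 * c * (S.x b.rev 1)⁻¹ = c * (c * S.x b.rev 1 * c⁻¹ * (S.x b.rev 1)⁻¹) := by
    rw [← mul_assoc, ← mul_assoc, ← mul_assoc, h.toH1.sq hc h1, one_mul, h.toH1.inv hc h1]
  generalize c * S.x b.rev 1 * c⁻¹ * (S.x b.rev 1)⁻¹ = c' at h2 e1
  have e2 : S.n b.rev 1 * g * (S.n b.rev 1)⁻¹ = c * (g * c') := by
    rw [h.amb.n_eq, Fin.rev_rev]
    calc _ = S.x b.rev 1 * (S.x b 1 * (S.x b.rev 1 * g * (S.x b.rev 1)⁻¹) * (S.x b 1)⁻¹) * (S.x b.rev 1)⁻¹ := by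
          group
      _ = _ := by rw [rg1_conj c1.symm, e0, ← conj_mul, rg1_conj c1.symm, e1, ← mul_assoc, c2, mul_assoc]
  rw [e2] at h0 ⊢
  rw [h.rg1_inf ha hc h3 (mul_mem hg h2) ((mul_mem_cancel_left h1).1 h0), mul_one]

/-- a torus element acts on the hats like `h_d(c)` -/
theorem rg1_H {a : G} (ha : a ∈ S.H) {r : R4} (hr : ¬ Lg r) {c : F} (e : a * S.x r 1 * a⁻¹ = S.x r c) :
    c ≠ 0 ∧ ∃ d, cv r d = 1 ∧ ∀ g ∈ Z r, a * g * a⁻¹ = S.h d c * g * (S.h d c)⁻¹ := by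
  have hc : c ≠ 0 := fun e0 => by
    rw [e0, S.x_zero, conj_eq_one_iff] at e
    exact one_ne_zero (h.amb.x_eq_one.1 e)
  obtain ⟨d, hd⟩ := BA4.ex_cv1 r
  refine ⟨hc, d, hd, fun g hg => ?_⟩
  have e1 := h.amb.h_conj d r hc 1
  rw [hd, zpow_one, mul_one, ← e] at e1
  have e2 := h.h_fix hr (mul_mem (inv_mem ha) (S.h_mem_H d hc)) (by
    calc _ = a⁻¹ * (S.h d c * S.x r 1 * (S.h d c)⁻¹) * S.h d c := by group
      _ = _ := by rw [e1]; group) hg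
  calc _ = a * (g * (a⁻¹ * S.h d c)) * (S.h d c)⁻¹ := by group
    _ = _ := by rw [← e2]; group

end HS

namespace RM

variable {t : G} {κ : F} {Z : R4 → Subgroup G} {m : R4 → F → G} (h : RM S t κ Z m)
include h

theorem rg1_xZ {r : R4} (hr : ¬ Lg r) (p : F) : S.x r p ∈ Z r := h.toH1.xZ hr p

theorem rg1_yZ {r : R4} (hr : ¬ Lg r) (p q : F) : S.x r p * m r q ∈ Z r :=
  mul_mem (h.rg1_xZ hr p) (h.mZ r hr q)

theorem rg1_zero {r : R4} (hr : ¬ Lg r) : m r 0 = 1 := by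
  have := h.add r hr 0 0
  rw [add_zero] at this
  exact left_eq_mul.1 this

theorem rg1_add {r : R4} (hr : ¬ Lg r) (p q p' q' : F) :
    S.x r (p + p') * m r (q + q') = S.x r p * m r q * (S.x r p' * m r q') := by
  rw [S.x_add, h.add r hr, mul_assoc, mul_assoc, ← mul_assoc (S.x r p'),
    h.toH1.com_self hr (h.rg1_xZ hr p') (h.mZ r hr q), mul_assoc]

theorem rg1_t {r : R4} (hr : ¬ Lg r) (q : F) : t * m r q * t⁻¹ = S.x r q * m r q := by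
  have e := h.tm r hr q
  rw [mul_inv_eq_iff_eq_mul] at e
  rw [inv_eq_of_mul_eq_one_right h.t2, mul_assoc, e, ← mul_assoc, ← mul_assoc, h.t2, one_mul]

theorem rg1_ty {r : R4} (hr : ¬ Lg r) (p q : F) :
    t * (S.x r p * m r q) * t⁻¹ = S.x r (p + q) * m r q := by
  rw [← conj_mul, h.rg1_t hr, rg1_conj (h.toSit.com (S.x_mem_grp r p)).symm, S.x_add, mul_assoc]

theorem rg1_mH {a : G} (ha : a ∈ S.H) {r : R4} (hr : ¬ Lg r) {c : F} (e : a * S.x r 1 * a⁻¹ = S.x r c)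
    (u : F) : a * m r u * a⁻¹ = m r (c * u) := by
  obtain ⟨hc, d, hd, e1⟩ := h.toHS.rg1_H ha hr e
  rw [e1 _ (h.mZ r hr u), h.hm d r hr c hc, hd, zpow_one]

/-- a torus element with given values on `a` and `b` -/
theorem rg1_tor {a b k : R4} (ha : ¬ Lg a) (hk : Cm a b k) {u v : F} (hu : u ≠ 0) (hv : v ≠ 0) :
    ∃ s : G, (∀ w, s * S.x b w * s⁻¹ = S.x b (v * w)) ∧ (∀ w, s * S.x k w * s⁻¹ = S.x k (u * v * w)) ∧
      (∀ w, s * m a w * s⁻¹ = m a (u * w)) ∧ (∀ w, s * m b w * s⁻¹ = m b (v * w)) ∧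
      ∀ w, s * m k w * s⁻¹ = m k (u * v * w) := by
  have h0 := rg1_cm a b ha (rg1_k ha hk ▸ hk)
  obtain ⟨s, hs, e1, e2⟩ := h.amb.exists_H h0.1 h0.2.1 hu hv
  have e3 : ∀ w, s * S.x k w * s⁻¹ = S.x k (u * v * w) := fun w => by
    rw [← one_mul w, ← h.amb.rel.cm a b k hk, rg1_comm, e1, e2, h.amb.rel.cm a b k hk]
    congr 1
    ring
  exact ⟨s, e2, e3, h.rg1_mH hs ha (by rw [e1, mul_one]), h.rg1_mH hs (hk.rg1_b ha) (by rw [e2, mul_one]),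
    h.rg1_mH hs (hk.rg1_c ha) (by rw [e3, mul_one])⟩

theorem rg1_mx {a b k : R4} (ha : ¬ Lg a) (hk : Cm a b k) (u v : F) :
    m a u * S.x b v * (m a u)⁻¹ * (S.x b v)⁻¹ = S.x k (κ * (u * v)) * m k (u * v) := by
  by_cases hv : v = 0
  · simp [hv, S.x_zero, h.rg1_zero (hk.rg1_c ha)]
  have e := h.toHS.rg1_n ha hk (h.mZ a ha u)
  rw [h.ns _ a (by rw [lg_rev]; exact hk.rg1_b ha) ha, rf4_rev, ← rg1_k ha hk] at e
  obtain ⟨s, e2, e3, e4, -, e5⟩ := h.rg1_tor ha hk one_ne_zero hv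
  have e6 := congrArg (fun g => s * g * s⁻¹) e
  rw [rg1_comm, ← conj_mul, e2, e3, e4, e5, one_mul, one_mul, mul_one] at e6
  rw [← e6]
  congr 2 <;> ring

theorem rg1_xm {a b k : R4} (ha : ¬ Lg a) (hk : Cm a b k) (u v : F) :
    S.x a u * m b v * (S.x a u)⁻¹ * (m b v)⁻¹ = S.x k (κ * (u * v)) * m k (u * v) := by
  rw [h.toHS.rg1_symm (hk.rg1_b ha) hk.symm (h.mZ _ (hk.rg1_b ha) _) (h.rg1_xZ ha _),
    h.rg1_mx (hk.rg1_b ha) hk.symm, mul_comm v]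

/-- the bilinear expansion -/
theorem rg1_exp {a b k : R4} (ha : ¬ Lg a) (hk : Cm a b k) (p q p' q' : F) :
    S.x a p * m a q * (S.x b p' * m b q') * (S.x a p * m a q)⁻¹ * (S.x b p' * m b q')⁻¹ =
      S.x k (p * p' + κ * (p * q' + q * p')) * m k (p * q' + q * p') *
        (m a q * m b q' * (m a q)⁻¹ * (m b q')⁻¹) := by
  have H := h.toHS
  have hb := hk.rg1_b ha
  have hc := hk.rg1_c ha
  rw [H.rg1_left ha hk (h.rg1_xZ ha _) (h.mZ _ ha _) (h.rg1_yZ hb _ _),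
    H.rg1_right ha hk (h.rg1_xZ ha _) (h.rg1_xZ hb _) (h.mZ _ hb _),
    H.rg1_right ha hk (h.mZ _ ha _) (h.rg1_xZ hb _) (h.mZ _ hb _), h.amb.rel.cm _ _ _ hk, h.rg1_mx ha hk,
    h.rg1_xm ha hk, mul_add κ, ← add_assoc, h.rg1_add hc, S.x_add]
  simp only [mul_assoc]

theorem rg1_one {a b k : R4} (ha : ¬ Lg a) (hk : Cm a b k) :
    ∃ α, m a 1 * m b 1 * (m a 1)⁻¹ * (m b 1)⁻¹ = S.x k α * m k 1 := by
  have hb := hk.rg1_b ha
  have hc := hk.rg1_c ha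
  have h1 := h.cz a b k ha hk _ (h.mZ a ha 1) _ (h.mZ b hb 1)
  have e1 := h.rg1_exp ha hk 1 1 1 1
  rw [← h.rg1_t ha, ← h.rg1_t hb, ← rg1_comm, mul_one, CharTwo.add_self_eq_zero, mul_zero, add_zero,
    h.rg1_zero hc, mul_one] at e1
  generalize m a 1 * m b 1 * (m a 1)⁻¹ * (m b 1)⁻¹ = c at e1 h1 ⊢
  obtain ⟨α, e⟩ := S.mem_X_iff.1 (h.ker k hc _ (mul_mem h1 (inv_mem (h.mZ k hc 1))) (by
    have e2 : t * (c * (m k 1)⁻¹) * t⁻¹ = c * (m k 1)⁻¹ := by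
      rw [← conj_mul, e1, ← conj_inv, h.rg1_t hc, h.toH1.com_self hc (h.rg1_xZ hc 1) h1,
        h.toH1.com_self hc (h.rg1_xZ hc 1) (h.mZ k hc 1)]
      group
    rw [mul_inv_eq_iff_eq_mul] at e2
    exact e2.symm))
  exact ⟨α, by rw [← e]; group⟩

theorem rg1_rf (hκ : κ = 0 ∨ κ = 1) {α : F} {a b k : R4} (ha : ¬ Lg a) (hk : Cm a b k)
    (e : m a 1 * m b 1 * (m a 1)⁻¹ * (m b 1)⁻¹ = S.x k α * m k 1) (d : R4) :
    m (rf4 d a) 1 * m (rf4 d b) 1 * (m (rf4 d a) 1)⁻¹ * (m (rf4 d b) 1)⁻¹ =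
      S.x (rf4 d k) α * m (rf4 d k) 1 := by
  have hb := hk.rg1_b ha
  have hc := hk.rg1_c ha
  have e1 := congrArg (fun g => S.n d 1 * g * (S.n d 1)⁻¹) e
  rw [rg1_comm, ← conj_mul (a := S.x k α), h.amb.ex_n] at e1
  by_cases hd : Lg d
  · rwa [h.nl d a hd ha, h.nl d b hd hb, h.nl d k hd hc] at e1
  have hw : Iso4 (rf4 d) := rf4_ip d
  have ha' : ¬ Lg (rf4 d a) := by rwa [hw.lg]
  have hc' : ¬ Lg (rf4 d k) := by rwa [hw.lg]
  rw [h.ns d a hd ha, h.ns d b hd hb, h.ns d k hd hc, h.rg1_exp ha' (hw.cm hk), mul_one, mul_one, one_mul,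
    CharTwo.add_self_eq_zero, mul_zero, add_zero, h.rg1_zero hc', mul_one,
    show κ * κ = κ by rcases hκ with rfl | rfl <;> simp, ← mul_assoc (S.x _ α), ← S.x_add, add_comm, S.x_add,
    mul_assoc (S.x _ κ)] at e1
  exact mul_left_cancel e1

theorem rg1_all (hκ : κ = 0 ∨ κ = 1) : ∃ α, ∀ a b k, ¬ Lg a → Cm a b k → ∀ u v,
    m a u * m b v * (m a u)⁻¹ * (m b v)⁻¹ = S.x k (α * (u * v)) * m k (u * v) := by
  obtain ⟨a₀, h0, hk₀⟩ := h1_cm 44 (by decide)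
  generalize rf4 a₀ 44 = b₀ at hk₀
  obtain ⟨α, e⟩ := h.rg1_one h0 hk₀
  have key : ∀ L : List R4, m (wd L a₀) 1 * m (wd L b₀) 1 * (m (wd L a₀) 1)⁻¹ * (m (wd L b₀) 1)⁻¹ =
      S.x (wd L 44) α * m (wd L 44) 1 := fun L => by
    induction L with
    | nil => exact e
    | cons d L ih => exact h.rg1_rf hκ (by rwa [(iso_wd L).lg]) ((iso_wd L).cm hk₀) ih d
  refine ⟨α, fun a b k ha hk u v => ?_⟩
  have hb := hk.rg1_b ha
  have hc := hk.rg1_c ha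
  by_cases hu : u = 0
  · simp [hu, S.x_zero, h.rg1_zero ha, h.rg1_zero hc]
  by_cases hv : v = 0
  · simp [hv, S.x_zero, h.rg1_zero hb, h.rg1_zero hc]
  obtain ⟨L, e1, e2⟩ := ptrans (a := a₀) (b := b₀) (a' := a) (b' := b) (iff_of_false h0 ha)
    (iff_of_false (hk₀.rg1_b h0) hb) (by
      have := hk.ip; have := hk₀.ip; have := (sh_iff _).1 ha; have := (sh_iff _).1 h0; omega)
  have e3 := (iso_wd L).cm hk₀
  have e4 := key L
  rw [e1, e2] at e3 e4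
  rw [e3.1.uniq hk.1] at e4
  obtain ⟨s, -, s3, s4, s5, s6⟩ := h.rg1_tor ha hk hu hv
  have e6 := congrArg (fun g => s * g * s⁻¹) e4
  rw [rg1_comm, ← conj_mul (a := S.x k α), s3, s4, s5, s6, mul_one, mul_one, mul_one] at e6
  rw [e6, mul_comm α]

end RM

theorem rg1_tw_re {δ : F} (κ : F) (v : KK δ) : (tw κ v).re = v.re + κ * v.im := by
  simp only [tw, QuadraticAlgebra.re_add, QuadraticAlgebra.re_smul, QuadraticAlgebra.re_star, smul_eq_mul,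
    one_mul, ← add_assoc, CharTwo.add_self_eq_zero, zero_add]

theorem rg1_tw_im {δ : F} (κ : F) (v : KK δ) : (tw κ v).im = v.im := by
  simp only [tw, QuadraticAlgebra.im_add, QuadraticAlgebra.im_smul, QuadraticAlgebra.im_star, smul_eq_mul,
    add_neg_cancel, mul_zero, add_zero]

theorem RM.rd {t : G} {κ : F} {Z : R4 → Subgroup G} {m : R4 → F → G} (h : RM S t κ Z m) (hk : κ = 0 ∨ κ = 1) :
    ∃ δ y, RD S t κ Z δ y := by
  obtain ⟨α, hα⟩ := h.rg1_all hk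
  have h2 : (2 : F) = 0 := CharTwo.two_eq_zero
  refine ⟨α + κ, fun r v => S.x r v.re * m r v.im, { h.toHS with
    k01 := hk, add := fun r hr u v => h.rg1_add hr _ _ _ _, base := fun r hr c => ?_, ty := fun r hr v => ?_,
    rng := fun r hr g => ⟨fun hg => ?_, ?_⟩, r1 := fun a b k ha hk' u v => ?_, nl := fun d r hd hr v => ?_,
    ns := fun d r hd hr v => ?_, hy := fun d r hr c hc v => ?_ }⟩
  · simp only [QuadraticAlgebra.algebraMap_re, QuadraticAlgebra.algebraMap_im, h.rg1_zero hr, mul_one]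
  · simp only [QuadraticAlgebra.re_star, QuadraticAlgebra.im_star, one_mul, CharTwo.neg_eq, h.rg1_ty hr]
  · obtain ⟨q, hq⟩ := h.toH1.ovr hr hg
    obtain ⟨p, hp⟩ := h.toH1.ovr_eq hr hg (h.mZ r hr q) (hq.trans (h.tm r hr q).symm)
    exact ⟨⟨p, q⟩, hp.trans (h.toH1.com_self hr (h.mZ r hr q) (h.rg1_xZ hr p))⟩
  · rintro ⟨v, rfl⟩
    exact h.rg1_yZ hr _ _
  · simp only [rg1_tw_re, rg1_tw_im, QuadraticAlgebra.re_mul, QuadraticAlgebra.im_mul]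
    rw [h.rg1_exp ha hk', hα a b k ha hk', ← h.rg1_add (hk'.rg1_c ha)]
    congr 2
    · linear_combination (-(κ * u.im * v.im)) * h2
    · ring
  · rw [← conj_mul, h.amb.ex_n, h.nl d r hd hr]
  · simp only [rg1_tw_re, rg1_tw_im]
    rw [← conj_mul, h.amb.ex_n, h.ns d r hd hr, S.x_add, mul_assoc]
  · simp only [QuadraticAlgebra.re_smul, QuadraticAlgebra.im_smul, smul_eq_mul]
    rw [← conj_mul, h.amb.h_conj d r hc, h.hm d r hr c hc]

theorem tw_zero {δ : F} (v : KK δ) : tw 0 v = v := by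
  rw [tw, zero_smul, add_zero]

theorem tw_one {δ : F} (v : KK δ) : tw 1 v = star v := by
  ext
  · rw [rg1_tw_re, QuadraticAlgebra.re_star]
  · rw [rg1_tw_im, QuadraticAlgebra.im_star, CharTwo.neg_eq]

theorem KK.add_self {δ : F} (v : KK δ) : v + v = 0 := by
  ext
  · rw [QuadraticAlgebra.re_add, CharTwo.add_self_eq_zero, QuadraticAlgebra.re_zero]
  · rw [QuadraticAlgebra.im_add, CharTwo.add_self_eq_zero, QuadraticAlgebra.im_zero]

theorem KK.add_star {δ : F} (v : KK δ) : v + star v = algebraMap F _ v.im := by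
  ext
  · rw [QuadraticAlgebra.re_add, QuadraticAlgebra.re_star, one_mul, ← add_assoc, CharTwo.add_self_eq_zero,
      zero_add, QuadraticAlgebra.algebraMap_re]
  · rw [QuadraticAlgebra.im_add, QuadraticAlgebra.im_star, add_neg_cancel, QuadraticAlgebra.algebraMap_im]

theorem KK.card (δ : F) : Nat.card (KK δ) = Nat.card F ^ 2 := by
  rw [Nat.card_congr (QuadraticAlgebra.equivProd δ 1), Nat.card_prod, pow_two]

namespace RD

variable {t : G} {κ δ : F} {Z : R4 → Subgroup G} {y : R4 → KK δ → G} (h : RD S t κ Z δ y)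
include h

theorem yZ {r : R4} (hr : ¬ Lg r) (v : KK δ) : y r v ∈ Z r := by
  exact (h.rng r hr _).2 ⟨v, rfl⟩

theorem zero {r : R4} (hr : ¬ Lg r) : y r 0 = 1 := by
  have := h.add r hr 0 0
  rw [add_zero] at this
  exact left_eq_mul.1 this

theorem ovr {r : R4} (hr : ¬ Lg r) (v : KK δ) : y r v * t * (y r v)⁻¹ = t * S.x r v.im := by
  rw [← h.base r hr, ← KK.add_star, add_comm, h.add r hr, ← h.ty r hr, h.toH1.inv hr (h.yZ hr v),
    inv_eq_of_mul_eq_one_right h.t2]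
  simp only [← mul_assoc, h.t2, one_mul]

theorem inj {r : R4} (hr : ¬ Lg r) {u v : KK δ} (e : y r u = y r v) : u = v := by
  have e1 : y r (u + v) = 1 := by rw [h.add r hr, e, ← h.add r hr, KK.add_self, h.zero hr]
  have e2 := h.ovr hr (u + v)
  rw [e1, one_mul, inv_one, mul_one, left_eq_mul, h.amb.x_eq_one] at e2
  have e3 : u + v = algebraMap F _ (u + v).re := QuadraticAlgebra.ext rfl e2
  rw [e3, h.base r hr, h.amb.x_eq_one] at e1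
  rw [e1, map_zero] at e3
  rw [← add_zero u, ← KK.add_self v, ← add_assoc, e3, zero_add]

theorem conj_H {a : G} (ha : a ∈ S.H) {r : R4} (hr : ¬ Lg r) {c : F}
    (e : a * S.x r 1 * a⁻¹ = S.x r c) (v : KK δ) : a * y r v * a⁻¹ = y r (c • v) := by
  obtain ⟨hc, d, hd, e1⟩ := h.toHS.rg1_H ha hr e
  rw [e1 _ (h.yZ hr v), h.hy d r hr c hc, hd, zpow_one]

end RD

end CfsgLib.SLF
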