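import Mathlib
import Cfsg.Agent.Lib.SLF.Ring1
import Cfsg.Agent.Lib.SLF.Hat3

/-!
# The graph case: relations
-/

set_option autoImplicit false
set_option linter.unusedSectionVars false

namespace CfsgLib.SLF

open Cfsg.Lie CfsgLib.RGD CfsgLib.Stein CfsgLib.Semi CfsgLib.SLE CfsgLib.UFP Subgroup
open scoped commutatorElement Pointwise

universe u

variable {F : Type} [Field F] [Finite F] [CharP F 2] {G : Type u} [Group G] [Finite G]
  {S : StSys ΦF4 F G}

namespace RD

variable {t : G} {δ : F} {Z : R4 → Subgroup G} {y : R4 → KK δ → G} (h : RD S t 1 Z δ y)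
include h

theorem rg_r1 {a b k : R4} (ha : ¬ Lg a) (hk : Cm a b k) (u v : KK δ) :
    y a u * y b v * (y a u)⁻¹ * (y b v)⁻¹ = y k (star (u * v)) := by
  rw [h.r1 a b k ha hk, tw_one]

theorem rg_c1 {a b : R4} (ha : ¬ Lg a) (hb : ¬ Lg b) (hab : 0 < ip4 a b) (u v : KK δ) :
    Commute (y a u) (y b v) :=
  h.com a b ha hb (iff_of_false ha hb) hab _ (h.yZ ha u) _ (h.yZ hb v)

theorem rg_c2 {l b : R4} (hl : Lg l) (hb : ¬ Lg b) (hlb : 0 ≤ ip4 l b) (c : F) (v : KK δ) :
    Commute (S.x l c) (y b v) :=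
  (h.toHS.toH2.toH1.cx' hb (hlb.lt_or_eq.imp_right fun e => ⟨e.symm, fun k => hb (k.1 hl)⟩) (h.yZ hb v) c).symm

theorem rg_one {a : R4} (ha : ¬ Lg a) : y a 1 = S.x a 1 := by rw [← h.base a ha, map_one]

theorem rg_x {a b k : R4} (ha : ¬ Lg a) (hk : Cm a b k) (v : KK δ) :
    S.x a 1 * y b v * (S.x a 1)⁻¹ = y k (star v) * y b v := by
  have := h.rg_r1 ha hk 1 v
  rw [one_mul, h.rg_one ha] at this
  rw [← this]; group

theorem rg_r2 {a b m : R4} (hm : Ot a b m) (u v : KK δ) :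
    y a u * y b v * (y a u)⁻¹ * (y b v)⁻¹ = S.x m (u * star v).im := by
  obtain ⟨e, he, h1, h2⟩ := rg_ex2 a b hm.1 hm.2.1 hm.ip
  have hf := ra_cm a e hm.1 he h1
  have hd := ra_cm' e b he hm.2.1 h2
  generalize rf4 a e = f at hf
  generalize rf4 e b = d at hd
  have sf : ¬ Lg f := mt hf.2.2.2 hm.1
  have sd : ¬ Lg d := mt hd.2.1.2 he
  have ho : Ot d f m := ⟨sd, sf, by
    have := hf.1; have := hd.1; have := hm.2.2.1
    simp only [Ad] at *; omega, hm.2.2.2⟩
  have k1 := h.rg_r1 he hd (star v) 1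
  rw [mul_one, star_star, h.rg_one sd] at k1
  have k2 := h.rg_r1 hm.1 hf u (star v)
  have k3 := h.mv d f m ho _ (h.yZ sf (star (u * star v))) _ (h.ovr sf _) 1
  rw [one_mul, mul_one, QuadraticAlgebra.im_star, CharTwo.neg_eq] at k3
  have c1 := (h.rg_c1 hm.1 sd (by have := hd.1.ip' a; have := hm.ip; omega) u 1).eq
  rw [h.rg_one sd] at c1
  have c2 := (h.rg_c1 sf hm.2.1 (by have := hf.1.ip b; have := hm.ip; omega) (star (u * star v)) v).eq
  have c3 := (h.rg_c2 hm.2.2.2 hm.2.1 (by rw [hm.2.2.1.ip, hm.ip, (sh_iff b).1 hm.2.1]; decide) (u * star v).im v).eq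
  have c4 := h.amb.com (a := d) (b := m) (by rw [ho.2.2.1.ip', ho.ip, (sh_iff d).1 sd]; decide) 1 (u * star v).im
  generalize y f (star (u * star v)) = k at *
  generalize S.x m (u * star v).im = z at *
  generalize y a u = g at *
  generalize y e (star v) = p at *
  generalize S.x d 1 = j at *
  generalize y b v = w at *
  have c5 : g * j * g⁻¹ = j := by rw [c1]; group
  calc g * w * g⁻¹ * w⁻¹ = (g * p * g⁻¹ * p⁻¹) * p * (g * j * g⁻¹) * ((g * p * g⁻¹ * p⁻¹) * p)⁻¹ *
          (g * j * g⁻¹)⁻¹ * w⁻¹ := by rw [← k1]; group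
    _ = k * (p * j * p⁻¹ * j⁻¹) * j * k⁻¹ * j⁻¹ * w⁻¹ := by rw [c5, k2]; group
    _ = w * (k * j * k⁻¹) * j⁻¹ * w⁻¹ := by rw [k1, c2]; group
    _ = (w * z) * w⁻¹ := by rw [k3, c4]; group
    _ = z := by rw [← c3]; group

/-- the hat part of the action of a long root element -/
theorem rg_a {l b k m : R4} (hl : Ls l b k m) (v : KK δ) :
    ∃ e, S.x l 1 * y b v * (S.x l 1)⁻¹ = y b v * y k v * S.x m e := by
  have A := h.amb
  have sb := hl.2.1
  have sk := hl.ip.2.1
  have lm := hl.ip.2.2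
  obtain ⟨i1, i2, i3, i4, i5⟩ := BA4.ls_ip hl
  have key : ∀ v, ∃ w e, S.x l 1 * y b v * (S.x l 1)⁻¹ = y b v * y k w * S.x m e := fun v => by
    obtain ⟨g, hg, e, he⟩ := h.toHS.ls1 rfl hl (h.yZ sb v) 1
    obtain ⟨w, rfl⟩ := (h.rng k sk g).1 hg
    exact ⟨w, e, he⟩
  obtain ⟨w, e, he⟩ := key v
  obtain ⟨w', e', he'⟩ := key w
  suffices w = v from ⟨e, this ▸ he⟩
  have r1 : rf4 l b = k := (ra_ls l b hl.1 sb hl.ip.1).2.2.1.uniq hl.2.2.1
  have r2 : rf4 l k = b := by rw [← r1, rf4_rf4]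
  have n1 := fun v => h.nl l b hl.1 sb v
  have n2 := fun v => h.nl l k hl.1 sk v
  have n3 := A.ex_n l l 1
  have n4 := A.ex_n l m e'
  rw [r1] at n1
  rw [r2] at n2
  rw [rf4_self] at n3
  rw [rf4_of_ip l m ((ip4_comm _ _).trans i5)] at n4
  have k1 : S.x l.rev 1 * y k w * (S.x l.rev 1)⁻¹ = y k w * y b w' * S.x m e' := by
    rw [← n1 w, ← n2 w', ← n3, ← n4]
    calc _ = S.n l 1 * (S.x l 1 * y b w * (S.x l 1)⁻¹) * (S.n l 1)⁻¹ := by group
      _ = _ := by rw [he']; group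
  have k2 := n1 v
  have c1 := (h.rg_c2 hl.1 sk (by omega) 1 v).eq
  have c2 := (h.rg_c2 ((lg_rev l).2 hl.1) sb (by rw [ip4_rev, hl.ip.1]; decide) 1 v).eq
  have c3 := A.com (a := l.rev) (b := m) (by rw [ip4_rev, i5]; decide) 1 e
  have c4 := h.rg_r2 hl.ot w w'
  have c5 := fun c v => (h.rg_c2 lm sk (by rw [ip4_comm]; omega) c v).eq
  have c6 := fun c v => (h.rg_c2 lm sb (by rw [ip4_comm]; omega) c v).eq
  have s1 : (y k v)⁻¹ = y k v := h.toHS.toH2.toH1.inv sk (h.yZ sk v)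
  rw [A.n_eq] at k2
  have k3 : y b (v + w') * y k (w + v) * S.x m ((w * star w').im + e' + e) = 1 := by
    rw [h.add b sb, h.add k sk, S.x_add, S.x_add, ← s1]
    generalize S.x l 1 = x at *
    generalize S.x l.rev 1 = x' at *
    have k4 : y k v = y b v * (y k w * y b w' * S.x m e') * S.x m e := by
      calc y k v = x⁻¹ * (x * y k v) := by group
        _ = x⁻¹ * y k v * x := by rw [c1]; group
        _ = x' * (x * y b v * x⁻¹) * x'⁻¹ := by rw [← k2]; group
        _ = (x' * y b v) * x'⁻¹ * (x' * y k w * x'⁻¹) * (x' * S.x m e) * x'⁻¹ := by rw [he]; group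
        _ = _ := by rw [c2, c3, k1]; group
    have k5 : y k w * y b w' = y b w' * y k w * S.x m (w * star w').im := by
      calc y k w * y b w' = (y k w * y b w' * (y k w)⁻¹ * (y b w')⁻¹) * y b w' * y k w := by group
        _ = _ := by rw [c4, c6, mul_assoc, c5, mul_assoc]
    rw [k5] at k4
    have c7 : Commute (y k v) (S.x m (w * star w').im * S.x m e' * S.x m e) :=
      ((Commute.symm (c5 _ v)).mul_right (Commute.symm (c5 _ v))).mul_right (Commute.symm (c5 _ v))
    calc _ = y b v * y b w' * y k w * ((y k v)⁻¹ * (S.x m (w * star w').im * S.x m e' * S.x m e)) := by group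
      _ = y b v * (y b w' * y k w * S.x m (w * star w').im * S.x m e') * S.x m e * (y k v)⁻¹ := by
        rw [c7.inv_left.eq]; group
      _ = 1 := by rw [← k4]; group
  have k6 := (h.toHS.indep hl.ot.symm (h.yZ sb _) (h.yZ sk _) k3).2.1
  rw [← h.zero sk] at k6
  have := h.inj sk k6
  rw [← add_zero w, ← KK.add_self v, ← add_assoc, this, zero_add]

/-- the central part of the action of a long root element -/
theorem rg_b {l b k m : R4} (hl : Ls l b k m) (v : KK δ) :
    S.x l 1 * y b v * (S.x l 1)⁻¹ = y b v * y k v * S.x m v.norm := by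
  have A := h.amb
  have sb := hl.2.1
  have sk := hl.ip.2.1
  have lm := hl.ip.2.2
  obtain ⟨i1, i2, i3, i4, i5⟩ := BA4.ls_ip hl
  obtain ⟨a, sa, j1, j2⟩ := rg_ex3 l b hl.1 sb hl.ip.1
  have j3 : ip4 a k = -1 := by rw [hl.2.2.1.ip', j1, j2]; rfl
  have j4 : ip4 m a = -2 := by rw [ip4_comm, hl.2.2.2.ip', j3, j2]; rfl
  have hb := ra_cm a b sa sb j2
  have hk := ra_cm a k sa sk j3
  have hm := ra_ls m a lm sa j4
  generalize rf4 a b = b' at hb
  generalize rf4 a k = k' at hk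
  generalize rf4 m a = n at hm
  generalize rf4 a m = m' at hm
  have sb' : ¬ Lg b' := mt hb.2.2.2 sa
  have sk' : ¬ Lg k' := mt hk.2.2.2 sa
  have sn := hm.ip.2.1
  have lm' := hm.ip.2.2
  have a1 := hl.2.2.1
  have a2 := hl.2.2.2
  have a3 := hb.1
  have a4 := hk.1
  have a5 := hm.2.2.1
  have a6 := hm.2.2.2
  have hl' : Ls l b' k' m' := ⟨hl.1, sb', by simp only [Ad] at *; omega, by simp only [Ad] at *; omega⟩
  have hn : Cm k' b n := ⟨by simp only [Ad] at *; omega, iff_of_false sk' sb, iff_of_false sk' sn⟩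
  obtain ⟨e, he⟩ := h.rg_a hl v
  obtain ⟨e', he'⟩ := h.rg_a hl' (star v)
  suffices e = v.norm from this ▸ he
  have t1 := h.rg_x sa hb v
  have t2 := h.rg_x sa hk v
  have t3 := A.conj_sl hm e 1
  have t4 := h.rg_r1 sk' hn (star v) v
  rw [star_mul, star_star, mul_comm (star v), ← QuadraticAlgebra.algebraMap_norm_eq_mul_star, h.base n sn] at t4
  simp only [mul_one, one_pow] at t3
  have q1 := a6.ip b
  have q2 := a6.ip k
  have q3 := a5.ip b
  have q4 := a5.ip k
  have q5 := ip4_comm m b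
  have q6 := ip4_comm m k
  obtain ⟨p1, -, -, -, p2⟩ := BA4.ls_ip hm
  obtain ⟨-, -, p3, p4, -⟩ := BA4.ls_ip hm
  have c1 := A.com (a := a) (b := l) j1.ge 1 1
  have c2 : Commute (S.x m' e') (y b v * y k v * S.x m e) :=
    ((h.rg_c2 lm' sb (by omega) _ _).mul_right (h.rg_c2 lm' sk (by omega) _ _)).mul_right
      (A.com (by rw [ip4_comm]; omega) _ _)
  have cn : ∀ {r : R4}, ¬ Lg r → 0 < ip4 n r → ∀ w, Commute (S.x n v.norm) (y r w) := fun hr hi w => by
    rw [← h.base n sn]; exact h.rg_c1 sn hr hi _ _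
  have c3 : Commute (S.x n v.norm) (y b v * y k' (star v) * y k v * S.x m e) :=
    (((cn sb (by omega) _).mul_right (cn sk' (by rw [ip4_comm]; exact (BA4.cm_ip hn).2.1) _)).mul_right
      (cn sk (by omega) _)).mul_right (A.com (by rw [ip4_comm]; omega) _ _)
  have key : S.x n v.norm * S.x m' e' = S.x n e * S.x m' e := by
    generalize S.x a 1 = j at *
    generalize S.x l 1 = x at *
    have c4 : j * x * j⁻¹ = x := by rw [c1]; group
    have k1 : y b' (star v) * y k' (star v) * S.x m' e' * (y b v * y k v * S.x m e) =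
        y b' (star v) * y b v * (y k' (star v) * y k v) * (S.x m e * (S.x n e * S.x m' e)) := by
      calc _ = x * (j * y b v * j⁻¹) * x⁻¹ := by rw [← he, ← he', t1]; group
        _ = j * (x * y b v * x⁻¹) * j⁻¹ := by conv_lhs => rw [← c4]; ; group
        _ = _ := by rw [he, ← t1, ← t2, ← t3]; group
    calc _ = (y b v * y k' (star v) * y k v * S.x m e)⁻¹ *
          ((y b v * y k' (star v) * y k v * S.x m e) * S.x n v.norm) * S.x m' e' := by group
      _ = (y b v * y k' (star v) * y k v * S.x m e)⁻¹ * (y b' (star v))⁻¹ * (y b' (star v) * y k' (star v) *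
          ((y b v * y k v * S.x m e) * S.x m' e')) := by rw [← c3.eq, ← t4]; group
      _ = _ := by rw [← c2.eq, ← mul_assoc _ (S.x m' e'), k1]; group
  have k2 : S.x n (e + v.norm) * S.x m' (e' + e) = 1 := by
    rw [S.x_add, S.x_add]
    calc _ = S.x n e * (S.x n v.norm * S.x m' e') * S.x m' e := by group
      _ = (S.x n e * S.x n e) * (S.x m' e * S.x m' e) := by rw [key]; group
      _ = 1 := by rw [A.x_sq, A.x_sq, one_mul]
  have := (A.two_eq_one (a := n) (b := m') (fun e => sn (e ▸ lm')) (fun e => sn ((lg_rev n).1 (e ▸ lm'))) k2).1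
  exact CharTwo.add_eq_zero.1 this

theorem rg_r3 {l b k m : R4} (hl : Ls l b k m) (c : F) (v : KK δ) :
    S.x l c * y b v * (S.x l c)⁻¹ * (y b v)⁻¹ = y k (c • v) * S.x m (c * v.norm) := by
  have A := h.amb
  have sb := hl.2.1
  have sk := hl.ip.2.1
  obtain ⟨i1, i2, i3, i4, i5⟩ := BA4.ls_ip hl
  by_cases hc : c = 0
  · simp [hc, S.x_zero, h.zero sk]
  obtain ⟨a, ha, h1, h2⟩ := A.exists_H (a := l) (b := b) (fun e => sb (e ▸ hl.1))
    (fun e => sb (e ▸ (lg_rev l).2 hl.1)) hc one_ne_zero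
  obtain ⟨d, d0, -, d1, d2⟩ := A.H_conj ha
  have e1 : d l = c := by
    have := h1 1
    rw [d2, mul_one, mul_one] at this
    exact (A.x_inj (d0 l) this).2
  have e2 : d b = 1 := by
    have := h2 1
    rw [d2, mul_one, mul_one] at this
    exact (A.x_inj (d0 b) this).2
  have e3 : d k = c := by rw [d1 _ _ _ hl.2.2.1, e1, e2, mul_one]
  have e4 : d m = c := by rw [d1 _ _ _ hl.2.2.2, e3, e2, mul_one]
  have k1 := h.conj_H ha sb (c := 1) (by rw [d2, e2, mul_one]) v
  have k2 := h.conj_H ha sk (c := c) (by rw [d2, e3, mul_one]) v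
  have k3 := d2 m v.norm
  have k4 := h1 1
  rw [one_smul] at k1
  rw [e4] at k3
  rw [mul_one] at k4
  have k5 : S.x l c * y b v * (S.x l c)⁻¹ = y b v * (y k (c • v) * S.x m (c * v.norm)) := by
    calc _ = a * (S.x l 1 * y b v * (S.x l 1)⁻¹) * a⁻¹ := by
          rw [← k4]; conv_lhs => rw [← k1]
          group
      _ = _ := by
          rw [h.rg_b hl, ← k2, ← k3]; conv_rhs => rw [← k1]
          group
  have c1 : Commute (y b v) (y k (c • v)) := by
    have := h.rg_r2 hl.ot.symm v (c • v)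
    rw [show (v * star (c • v)).im = 0 by
      simp only [QuadraticAlgebra.im_mul, QuadraticAlgebra.im_star, QuadraticAlgebra.re_star,
        QuadraticAlgebra.re_smul, QuadraticAlgebra.im_smul, smul_eq_mul]; ring, S.x_zero] at this
    exact commutatorElement_eq_one_iff_commute.1 this
  rw [k5, (c1.mul_right (h.rg_c2 hl.ip.2.2 sb (by rw [ip4_comm]; omega) _ v).symm).eq, mul_inv_cancel_right]

end RD

theorem RD.relG {t : G} {δ : F} {Z : R4 → Subgroup G} {y : R4 → KK δ → G} (h : RD S t 1 Z δ y) :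
    RelG S.x y :=
  ⟨h.amb.rel, h.add, h.base, fun _ _ _ ha hk => h.rg_r1 ha hk, fun _ _ _ hm => h.rg_r2 hm,
    fun _ _ _ _ hl => h.rg_r3 hl, fun _ _ ha hb hab u v => (h.rg_c1 ha hb hab u v).eq,
    fun _ _ hl hb hlb c v => (h.rg_c2 hl hb hlb c v).eq⟩

end CfsgLib.SLF
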