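import Mathlib
import Cfsg.Agent.Lib.SLF.RingG
import Cfsg.Agent.Lib.SLF.NH

/-!
# The graph case: the unipotent group
-/

set_option autoImplicit false
set_option linter.unusedSectionVars false

namespace CfsgLib.SLF

open Cfsg.Lie CfsgLib.RGD CfsgLib.Stein CfsgLib.Semi CfsgLib.SLE CfsgLib.UFP Subgroup
open scoped commutatorElement Pointwise

universe u

variable {F : Type} [Field F] [Finite F] [CharP F 2] {G : Type u} [Group G] [Finite G]
  {S : StSys ΦF4 F G}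

/-- the relations of the twisted group with faithful root groups -/
structure RT (S : StSys ΦF4 F G) {δ : F} (y : R4 → KK δ → G) : Prop where
  amb : Amb S
  rel : RelG S.x y
  inj : ∀ r, ¬ Lg r → ∀ v, y r v = 1 → v = 0

/-- the big root groups -/
abbrev XG (S : StSys ΦF4 F G) {δ : F} (y : R4 → KK δ → G) (r : R4) : Subgroup G := UG S y {r}

/-- the big root groups of index at least `n` -/
abbrev UGe (S : StSys ΦF4 F G) {δ : F} (y : R4 → KK δ → G) (n : ℕ) : Subgroup G := UG S y {r | n ≤ r.1}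

abbrev UGL (S : StSys ΦF4 F G) {δ : F} (y : R4 → KK δ → G) (L : List R4) : Subgroup G := UG S y {r | r ∈ L}

/-- the group generated by all big root groups -/
abbrev GG0 (S : StSys ΦF4 F G) {δ : F} (y : R4 → KK δ → G) : Subgroup G := UG S y Set.univ

/-- the positive long root groups -/
abbrev Ulg (S : StSys ΦF4 F G) : Subgroup G := S.UU {r | 24 ≤ r.1 ∧ Lg r}

/-- the commutators of the big root groups of `a` and `b` lie in `UG K` -/
def Cg (K : Set R4) (a b : R4) : Prop := Cz K a b ∧ ∀ m, Ot a b m → m ∈ K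

/-- decidable form of `Cg` -/
def CgL (K : List R4) (a b : R4) : Prop := CzL K a b ∧ ∀ m, Ot a b m → m ∈ K

instance decCgL (K : List R4) (a b : R4) : Decidable (CgL K a b) := inferInstanceAs (Decidable (_ ∧ _))

/-- the big root group of `a` centralises the big root group of `b` -/
def Cc (a b : R4) : Prop := 0 ≤ ip4 a b ∧ (Lg a ∨ Lg b ∨ ip4 a b ≠ 0)

instance decCc (a b : R4) : Decidable (Cc a b) := inferInstanceAs (Decidable (_ ∧ _))

variable {δ : F} {y : R4 → KK δ → G} {T T' K : Set R4}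

theorem CgL.cg {K : List R4} {a b : R4} (h : CgL K a b) : Cg {r | r ∈ K} a b := ⟨h.1.cz, h.2⟩

theorem Cg.mono {K K' : Set R4} {a b : R4} (h : Cg K a b) (e : K ⊆ K') : Cg K' a b := ⟨h.1.mono e, fun m f => e (h.2 m f)⟩

theorem Cc.cg {a b : R4} (h : Cc a b) : Cg K a b :=  ⟨cz_iff.2 (.inl h.1), fun _ f => (h.2.elim f.1 fun e => e.elim f.2.1 fun e => e f.ip).elim⟩

theorem cg_pos {a b : R4} (ha : 24 ≤ a.1) (hb : 24 ≤ b.1) (h : ∀ k, wt a + wt b ≤ wt k → k ∈ K) :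
    Cg K a b := ⟨cz_pos ha hb h, fun m e => h m (Eq.le e.2.2.1)⟩

theorem Cg.symm {a b : R4} (h : Cg K a b) : Cg K b a :=
  ⟨⟨add_comm a.1 b.1 ▸ h.1.1, fun k e => h.1.2.1 k e.symm, h.1.2.2.2, h.1.2.2.1⟩, fun m e => h.2 m e.symm⟩

theorem Cg.inter {K K' : Set R4} {a b : R4} (h : Cg K a b) (h' : Cg K' a b) : Cg (K ∩ K') a b :=
  ⟨h.1.inter h'.1, fun m e => ⟨h.2 m e, h'.2 m e⟩⟩

theorem cg_lt {a b : R4} (ha : 24 ≤ a.1) (hb : 24 ≤ b.1) {n : ℕ} (h : n ≤ b.1 + 1) : Cg {r | n ≤ r.1} a b :=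
  cg_pos ha hb fun k e => by
    have := (wt_pos a).2 ha
    have : b.1 < k.1 := (wt_lt b k).1 (by omega)
    show n ≤ k.1
    omega

theorem UU_le_UG (T : Set R4) : S.UU T ≤ UG S y T := le_sup_left

theorem x_mem_UG {r : R4} (hr : r ∈ T) (c : F) : S.x r c ∈ UG S y T := UU_le_UG T (S.x_mem_UU hr c)

theorem y_mem_UG {r : R4} (hr : r ∈ T) (hs : ¬ Lg r) (v : KK δ) : y r v ∈ UG S y T :=  mem_sup_right (subset_closure ⟨r, hr, hs, v, rfl⟩)

theorem x_mem_XG (r : R4) (c : F) : S.x r c ∈ XG S y r := x_mem_UG (Set.mem_singleton r) c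

theorem y_mem_XG {r : R4} (hs : ¬ Lg r) (v : KK δ) : y r v ∈ XG S y r := y_mem_UG (Set.mem_singleton r) hs v

theorem UG_mono (h : T ⊆ T') : UG S y T ≤ UG S y T' :=  sup_le_sup (S.UU_mono h) (closure_mono fun _ ⟨r, hr, e⟩ => ⟨r, h hr, e⟩)

theorem UG_le {H : Subgroup G} (h : ∀ r ∈ T, XG S y r ≤ H) : UG S y T ≤ H :=  sup_le (S.UU_le_iff.2 fun r hr c => h r hr (x_mem_XG r c)) ((closure_le _).2 (by
    rintro _ ⟨r, hr, hs, v, rfl⟩; exact h r hr (y_mem_XG hs v)))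

theorem UG_le' {H : Subgroup G} (h1 : ∀ r ∈ T, ∀ c, S.x r c ∈ H) (h2 : ∀ r ∈ T, ¬ Lg r → ∀ v, y r v ∈ H) :
    UG S y T ≤ H :=  sup_le (S.UU_le_iff.2 h1) ((closure_le _).2 (by rintro _ ⟨r, hr, hs, v, rfl⟩; exact h2 r hr hs v))

theorem UG_long (h : ∀ r ∈ T, Lg r) : UG S y T = S.UU T :=  le_antisymm (UG_le' (fun _ hr c => S.x_mem_UU hr c) fun r hr hs => absurd (h r hr) hs) (UU_le_UG T)

theorem UGe_top : UGe S y 48 = ⊥ := eq_bot_iff.2 (UG_le fun r hr => absurd r.2 (not_lt.2 hr))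

theorem UGe_mono {m n : ℕ} (h : m ≤ n) : UGe S y n ≤ UGe S y m := UG_mono fun _ hr => h.trans hr

theorem U_le_UGe : S.U ≤ UGe S y 24 := U_eq_Ug.le.trans (UU_le_UG _)

theorem L_le_GG0 : S.grp ≤ GG0 S y := UU_le_UG _

theorem UGe_eq_wt (r : R4) : UGe S y (r + 1) = UG S y {s | wt r < wt s} :=  congrArg (UG S y) (Set.ext fun s => (wt_lt r s).symm)

theorem cc47 : ∀ a : R4, 24 ≤ a.1 → Cc a 47 := by decide +kernel

theorem XG_le {r : R4} (hr : r ∈ T) : XG S y r ≤ UG S y T := UG_mono (Set.singleton_subset_iff.2 hr)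

theorem UG_ind {P : G → Prop} (h1 : P 1)
    (h : ∀ r ∈ T, ∀ g ∈ XG S y r, ∀ u ∈ UG S y T, P u → P (u * g)) {u : G} (hu : u ∈ UG S y T) : P u := by
  have e : UG S y T = closure {g | ∃ r ∈ T, g ∈ XG S y r} := le_antisymm
    (UG_le fun r hr g hg => subset_closure ⟨r, hr, hg⟩) ((closure_le _).2 fun _ ⟨_, hr, hg⟩ => XG_le hr hg)
  rw [e] at hu
  induction hu using closure_induction_right with
  | one => exact h1
  | mul_right x hx z hz ih => exact hz.elim fun r hr => h r hr.1 z hr.2 x (e.ge hx) ih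
  | mul_inv_cancel x hx z hz ih => exact hz.elim fun r hr => h r hr.1 _ (inv_mem hr.2) x (e.ge hx) ih

/-- induction on the leading root -/
theorem ind_UGe {P : G → Prop} (h1 : P 1)
    (h : ∀ r : R4, 24 ≤ r.1 → ∀ u ∈ UGe S y r, (∀ v ∈ UGe S y (r + 1), P v) → P u) {u : G}
    (hu : u ∈ UGe S y 24) : P u := by
  have key : ∀ m ≤ 24, ∀ u ∈ UGe S y (48 - m), P u := fun m => by
    induction m with
    | zero => intro _ u hu; rw [UGe_top, mem_bot] at hu; exact hu ▸ h1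
    | succ m ih =>
      intro hm u hu
      exact h ⟨48 - (m + 1), by omega⟩ (by simp only; omega) u hu fun v hv =>
        ih (by omega) v (UGe_mono (by simp only; omega) hv)
  exact key 24 le_rfl u hu

namespace RT

variable (h : RT S y)
include h

theorem y_zero {r : R4} (hr : ¬ Lg r) : y r 0 = 1 := by simpa using h.rel.add r hr 0 0

theorem y_sq {r : R4} (hr : ¬ Lg r) (v : KK δ) : y r v * y r v = 1 := by
  rw [← h.rel.add r hr, show v + v = 0 by ext <;> simp [CharTwo.add_self_eq_zero], h.y_zero hr]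

theorem y_inv {r : R4} (hr : ¬ Lg r) (v : KK δ) : (y r v)⁻¹ = y r v := inv_eq_of_mul_eq_one_right (h.y_sq hr v)

theorem y_inj {r : R4} (hr : ¬ Lg r) {u v : KK δ} (e : y r u = y r v) : u = v := by
  have := h.inj r hr (u + v) (by rw [h.rel.add r hr, e, h.y_sq hr])
  rw [← add_zero u, ← this, ← add_assoc, show u + u = 0 by ext <;> simp [CharTwo.add_self_eq_zero], zero_add]

theorem mem_XG_long {r : R4} (hr : Lg r) {g : G} : g ∈ XG S y r ↔ ∃ c, g = S.x r c := by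
  have _ := h
  rw [XG, UG_long (by rintro _ rfl; exact hr)]
  exact S.mem_X_iff

theorem mem_XG_short {r : R4} (hr : ¬ Lg r) {g : G} : g ∈ XG S y r ↔ ∃ v, g = y r v := by
  refine ⟨fun hg => ?_, by rintro ⟨v, rfl⟩; exact y_mem_XG hr v⟩
  obtain ⟨v, e⟩ := UG_le' (H := (MonoidHom.mk' (fun v : Multiplicative (KK δ) => y r v.toAdd)
    fun u v => h.rel.add r hr _ _).range) (by rintro _ rfl c; exact ⟨.ofAdd _, h.rel.base _ hr c⟩)
    (by rintro _ rfl _ v; exact ⟨.ofAdd v, rfl⟩) hg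
  exact ⟨_, e.symm⟩

theorem XG_sq {r : R4} {g : G} (hg : g ∈ XG S y r) : g * g = 1 := by
  by_cases hr : Lg r
  · obtain ⟨c, rfl⟩ := (h.mem_XG_long hr).1 hg
    exact h.amb.x_sq r c
  · obtain ⟨c, rfl⟩ := (h.mem_XG_short hr).1 hg
    exact h.y_sq hr c

theorem comm_ls {a b : R4} (hc : Cg K a b) (ha : Lg a) (hb : ¬ Lg b) (c : F) (v : KK δ) :
    S.x a c * y b v * (S.x a c)⁻¹ * (y b v)⁻¹ ∈ UG S y K := by
  rcases cf_tab a b with e | e | e | e | e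
  · rw [h.rel.c2 a b ha hb e]; simp
  · exact absurd e hc.1.1
  · exact absurd (e.1.2.1.1 ha) hb
  · rw [h.rel.r3 _ _ _ _ e]
    exact mul_mem (y_mem_UG (hc.1.2.2.1 _ _ e).1 e.ip.2.1 _) (x_mem_UG (hc.1.2.2.1 _ _ e).2 _)
  · exact absurd e.1 hb

theorem comm_XG {a b : R4} (hc : Cg K a b) {g k : G} (hg : g ∈ XG S y a) (hk : k ∈ XG S y b) :
    g * k * g⁻¹ * k⁻¹ ∈ UG S y K := by
  by_cases ha : Lg a <;> by_cases hb : Lg b
  · obtain ⟨c, rfl⟩ := (h.mem_XG_long ha).1 hg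
    obtain ⟨d, rfl⟩ := (h.mem_XG_long hb).1 hk
    exact UU_le_UG K (h.amb.comm_x hc.1 c d)
  · obtain ⟨c, rfl⟩ := (h.mem_XG_long ha).1 hg
    obtain ⟨d, rfl⟩ := (h.mem_XG_short hb).1 hk
    exact h.comm_ls hc ha hb c d
  · obtain ⟨c, rfl⟩ := (h.mem_XG_short ha).1 hg
    obtain ⟨d, rfl⟩ := (h.mem_XG_long hb).1 hk
    exact comm_swap (h.comm_ls hc.symm hb ha d c)
  obtain ⟨c, rfl⟩ := (h.mem_XG_short ha).1 hg
  obtain ⟨d, rfl⟩ := (h.mem_XG_short hb).1 hk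
  rcases cf_tab a b with e | e | e | e | e
  · rcases e.eq_or_lt with e | e
    · obtain ⟨m, hm⟩ := exists_ot a b ha hb e.symm
      rw [h.rel.r2 a b m hm]
      exact x_mem_UG (hc.2 m hm) _
    · rw [h.rel.c1 a b ha hb e]; simp
  · exact absurd e hc.1.1
  · rw [h.rel.r1 _ _ _ ha e.1]
    exact y_mem_UG (hc.1.2.1 _ e.1) (fun f => ha (e.1.2.2.2 f)) _
  · exact absurd e.1 ha
  · exact absurd e.1 hb

theorem commute_XG {a b : R4} (hc : Cc a b) {g k : G} (hg : g ∈ XG S y a) (hk : k ∈ XG S y b) :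
    g * k = k * g := by
  have := UG_le (H := ⊥) (fun _ hr => hr.elim) (h.comm_XG (K := ∅) hc.cg hg hk)
  rwa [mem_bot, mul_inv_eq_one, mul_inv_eq_iff_eq_mul] at this

theorem commute_UG (hc : ∀ a ∈ T, ∀ b ∈ T', Cc a b) {g k : G} (hg : g ∈ UG S y T) (hk : k ∈ UG S y T') :
    g * k = k * g :=  UG_le (H := centralizer {g}) (fun b hb k hk => mem_centralizer_singleton_iff.2
    (UG_le (H := centralizer {k}) (fun a ha _ hg => mem_centralizer_singleton_iff.2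
      (h.commute_XG (hc a ha b hb) hg hk)) hg k rfl)) hk g rfl

theorem norm_UG (hc : ∀ a ∈ T, ∀ b ∈ K, Cg K a b) : UG S y T ≤ normalizer (UG S y K : Set G) := by
  refine UG_le fun a ha g hg => mem_normalizer_fintype fun u hu => ?_
  refine UG_le (H := (UG S y K).comap (MulAut.conj g).toMonoidHom) (fun b hb k hk => ?_) hu
  have := mul_mem (h.comm_XG (hc a ha b hb) hg hk) (XG_le hb hk)
  rwa [inv_mul_cancel_right] at this

theorem comm_UG (hc : ∀ a ∈ T, ∀ b ∈ T', Cg K a b) (h1 : UG S y T ≤ normalizer (UG S y K : Set G))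
    (h2 : UG S y T' ≤ normalizer (UG S y K : Set G)) {u v : G} (hu : u ∈ UG S y T) (hv : v ∈ UG S y T') :
    u * v * u⁻¹ * v⁻¹ ∈ UG S y K := by
  refine UG_ind (P := fun u => u * v * u⁻¹ * v⁻¹ ∈ UG S y K) (by simp) (fun a ha g hg w hw ih => ?_) hu
  have k : g * v * g⁻¹ * v⁻¹ ∈ UG S y K := by
    refine UG_ind (P := fun v => g * v * g⁻¹ * v⁻¹ ∈ UG S y K) (by simp) (fun b hb d hd z hz ih => ?_) hv
    convert mul_mem ih (UFP.conj_mem (h2 hz) (h.comm_XG (hc a ha b hb) hg hd)) using 1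
    group
  convert mul_mem (UFP.conj_mem (h1 hw) k) ih using 1
  group

theorem norm_UGe {n : ℕ} (hn : 24 ≤ n) : UGe S y 24 ≤ normalizer (UGe S y n : Set G) :=  h.norm_UG fun _ ha _ hb => cg_lt ha (hn.trans hb) (Nat.le_succ_of_le hb)

theorem comm_UGe {n : ℕ} (hn : 24 ≤ n) {u v : G} (hu : u ∈ UGe S y 24) (hv : v ∈ UGe S y n) :
    u * v * u⁻¹ * v⁻¹ ∈ UGe S y (n + 1) :=  h.comm_UG (fun _ ha _ hb => cg_lt ha (hn.trans hb) (Nat.succ_le_succ hb))
    (h.norm_UGe (by omega)) ((UGe_mono hn).trans (h.norm_UGe (by omega))) hu hv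

theorem comm_wt {m n : ℤ} (hm : 0 < m) (hn : 0 < n) {u v : G} (hu : u ∈ UG S y {r | m ≤ wt r})
    (hv : v ∈ UG S y {r | n ≤ wt r}) : u * v * u⁻¹ * v⁻¹ ∈ UG S y {r | m + n ≤ wt r} := by
  have p : ∀ {l : ℤ}, 0 < l → ∀ r ∈ {r | l ≤ wt r}, 24 ≤ r.1 := fun hl r hr => (wt_pos r).1 (hl.trans_le hr)
  have k : ∀ {l : ℤ}, 0 < l → UG S y {r | l ≤ wt r} ≤ normalizer (UG S y {r | m + n ≤ wt r} : Set G) :=
    fun hl => h.norm_UG fun a ha b hb => cg_pos (p hl a ha) (p (add_pos hm hn) b hb) fun k e => by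
      have h1 := hl.trans_le ha
      have h2 : m + n ≤ wt b := hb
      show m + n ≤ wt k
      omega
  exact h.comm_UG (fun a ha b hb => cg_pos (p hm a ha) (p hn b hb) fun k e => (add_le_add ha hb).trans e)
    (k hm) (k hn) hu hv

theorem peelT (hT : ∀ a ∈ T, ∀ b ∈ T, Cg T a b) (hp : ∀ r ∈ T, 24 ≤ r.1) {r : R4} (hr : ∀ s ∈ T, r ≤ s) {u : G}
    (hu : u ∈ UG S y T) : ∃ g ∈ UG S y (T ∩ {r}), g⁻¹ * u ∈ UG S y (T ∩ {s | r.1 + 1 ≤ s.1}) := by
  have hn : UG S y T ≤ normalizer (UG S y (T ∩ {s | r.1 + 1 ≤ s.1}) : Set G) := h.norm_UG fun a ha b hb =>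
    (hT a ha b hb.1).inter (cg_lt (hp a ha) (hp b hb.1) (Nat.le_succ_of_le hb.2))
  refine UG_ind (P := fun u => ∃ g ∈ UG S y (T ∩ {r}), g⁻¹ * u ∈ UG S y (T ∩ {s | r.1 + 1 ≤ s.1}))
    ⟨1, one_mem _, by simp⟩ ?_ hu
  rintro s hs d hd w - ⟨g, hg, hc⟩
  rcases (hr s hs).eq_or_lt with rfl | e
  · refine ⟨g * d, mul_mem hg (XG_le (by exact ⟨hs, rfl⟩) hd), ?_⟩
    convert UFP.conj_mem' (hn (XG_le hs hd)) hc using 1
    group
  · exact ⟨g, hg, by rw [← mul_assoc]; exact mul_mem hc (XG_le (by exact ⟨hs, e⟩) hd)⟩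

theorem peel {r : R4} (hr : 24 ≤ r.1) {u : G} (hu : u ∈ UGe S y r) :
    ∃ g ∈ XG S y r, g⁻¹ * u ∈ UGe S y (r + 1) := by
  obtain ⟨g, h1, h2⟩ := h.peelT (fun a ha b hb => cg_lt (hr.trans ha) (hr.trans hb) (Nat.le_succ_of_le hb))
    (fun _ ha => hr.trans ha) (r := r) (fun _ ha => ha) hu
  exact ⟨g, UG_mono Set.inter_subset_right h1, UG_mono Set.inter_subset_right h2⟩

theorem peel' {r : R4} (hr : 24 ≤ r.1) {u : G} (hu : u ∈ UGe S y r) :
    ∃ g ∈ XG S y r, u * g⁻¹ ∈ UGe S y (r + 1) := by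
  obtain ⟨g, h1, h2⟩ := h.peel hr hu
  refine ⟨g, h1, ?_⟩
  convert UFP.conj_mem (h.norm_UGe (by omega) (XG_le hr h1)) h2 using 1
  group

theorem sq_UGe {n : ℕ} (hn : 24 ≤ n) {u : G} (hu : u ∈ UGe S y n) : u * u ∈ UGe S y (n + 1) := by
  by_cases e : n < 48
  · obtain ⟨g, h1, h2⟩ := h.peel (r := ⟨n, e⟩) hn hu
    convert mul_mem (UFP.conj_mem' (h.norm_UGe (Nat.le_succ_of_le hn) (XG_le (r := ⟨n, e⟩) hn h1)) h2) h2 using 1
    rw [← one_mul (g⁻¹ * _ * _ * _), ← h.XG_sq h1]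
    group
  · rw [mem_bot.1 (UGe_top.le (UGe_mono (not_lt.1 e) hu)), one_mul]
    exact one_mem _

theorem pg : IsPGroup 2 (UGe S y 24) := fun u => by
  have : ∀ k : ℕ, (u : G) ^ 2 ^ k ∈ UGe S y (24 + k) := fun k => by
    induction k with
    | zero => simp
    | succ k ih => rw [pow_succ, pow_mul, pow_two]; exact h.sq_UGe (Nat.le_add_right 24 k) ih
  exact ⟨24, Subtype.ext (mem_bot.1 (UGe_top.le (this 24)))⟩

/-- the leading term of a commutator -/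
theorem lead_comm {r a : R4} (hr : 24 ≤ r.1) (ha : 24 ≤ a.1) {g u w : G} (hg : g ∈ XG S y r)
    (hu : g⁻¹ * u ∈ UGe S y (r + 1)) (hw : w ∈ XG S y a) :
    (g * w * g⁻¹ * w⁻¹)⁻¹ * (u * w * u⁻¹ * w⁻¹) ∈ UG S y {s | wt r + wt a < wt s} := by
  have h1 := (wt_pos r).2 hr
  have h2 := (wt_pos a).2 ha
  have N : UGe S y 24 ≤ normalizer (UG S y {s | wt r + wt a < wt s} : Set G) := h.norm_UG fun b hb c hc => by
    have h3 := (wt_pos b).2 hb
    have h4 : wt r + wt a < wt c := hc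
    exact cg_pos hb ((wt_pos c).1 (by omega)) fun k e => show wt r + wt a < wt k by omega
  rw [UGe_eq_wt] at hu
  have h3 : _ ∈ UG S y {s | wt r + wt a < wt s} := UG_mono (fun s (hs : wt r + 1 + wt a ≤ wt s) =>
    show wt r + wt a < wt s by omega) (h.comm_wt (m := wt r + 1) (by omega) h2 hu (XG_le (le_refl (wt a)) hw))
  have g1 : g ∈ UGe S y 24 := XG_le hr hg
  have w1 : w ∈ UGe S y 24 := XG_le ha hw
  convert UFP.conj_mem' (N (mul_mem (mul_mem (mul_mem g1 w1) (inv_mem g1)) (inv_mem w1)))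
    (UFP.conj_mem (N g1) h3) using 1
  group

theorem lead_x {r a k : R4} (hr : 24 ≤ r.1) (ha : 24 ≤ a.1) (hi : ip4 r a < 0) (hk : Ad r a k) {g : G}
    (hg : g ∈ XG S y r) : ∃ g' ∈ XG S y k, g'⁻¹ * (g * S.x a 1 * g⁻¹ * (S.x a 1)⁻¹) ∈ UGe S y (k + 1) ∧
      (g' = 1 → g = 1) := by
  have A := h.amb
  have hk' : 24 ≤ k.1 := hr.trans (hk.lt ha).le
  rcases cf_tab r a with e | e | e | e | e
  · omega
  · omega
  · rw [← hk.uniq e.1.1] at e
    refine ⟨_, h.comm_XG (K := {k}) ⟨⟨by omega, fun _ f => f.1.uniq hk, fun _ _ f => absurd (e.1.2.1.1 f.1) f.2.1,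
      fun _ _ f => absurd (e.1.2.1.2 f.1) f.2.1⟩, fun _ f => absurd f.ip hi.ne⟩ hg (x_mem_XG a 1),
      by rw [inv_mul_cancel]; exact one_mem _, fun f => ?_⟩
    by_cases hl : Lg r
    · obtain ⟨c, rfl⟩ := (h.mem_XG_long hl).1 hg
      rwa [A.rel.cm _ _ _ e.1, mul_one, A.x_eq_one, ← A.x_eq_one (r := r)] at f
    · obtain ⟨c, rfl⟩ := (h.mem_XG_short hl).1 hg
      rw [← h.rel.base a (fun f => hl (e.1.2.1.2 f)), h.rel.r1 _ _ _ hl e.1, map_one, mul_one] at f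
      rw [star_eq_zero.1 (h.inj k (fun f => hl (e.1.2.2.2 f)) _ f), h.y_zero hl]
  · rw [← hk.uniq e.2.2.1] at e
    obtain ⟨c, rfl⟩ := (h.mem_XG_long e.1).1 hg
    refine ⟨S.x k (c * 1), x_mem_XG _ _, ?_, fun f => ?_⟩
    · rw [A.rel.ls _ _ _ _ e, inv_mul_cancel_left]
      exact x_mem_UG (e.2.2.2.lt ha) _
    · rwa [mul_one, A.x_eq_one, ← A.x_eq_one (r := r)] at f
  · rw [← hk.symm.uniq e.2.2.1] at e
    obtain ⟨c, rfl⟩ := (h.mem_XG_short e.2.1).1 hg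
    refine ⟨y k c, y_mem_XG e.ip.2.1 _, ?_, fun f => ?_⟩
    · rw [show y r c * S.x a 1 * (y r c)⁻¹ * (S.x a 1)⁻¹ =
        (S.x a 1 * y r c * (S.x a 1)⁻¹ * (y r c)⁻¹)⁻¹ by group, h.rel.r3 _ _ _ _ e, one_smul, mul_inv_rev,
        ← mul_assoc]
      nth_rw 1 [h.y_inv e.ip.2.1]
      exact UFP.conj_mem (h.norm_UGe (by omega) (y_mem_UG hk' e.ip.2.1 _))
        (inv_mem (x_mem_UG (e.2.2.2.lt hr) _))
    · rw [h.inj k e.ip.2.1 _ f, h.y_zero e.2.1]

theorem x47_cen (c : F) : S.x 47 c ∈ centralizer (UGe S y 24 : Set G) := fun _ hg =>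
  h.commute_UG (T' := {47}) (fun a ha b hb => by
    rw [Set.mem_singleton_iff.1 hb]; exact cc47 a ha) hg (x_mem_XG 47 c)

/-- a subgroup normalised by `G0` which contains `L` contains `G0` -/
theorem le_of_norm {H : Subgroup G} (h1 : GG0 S y ≤ normalizer (H : Set G)) (h2 : S.grp ≤ H) : GG0 S y ≤ H := by
  refine UG_le' (fun r _ c => h2 (S.x_mem_grp r c)) fun r _ hr v => ?_
  obtain ⟨a, ha, e⟩ := h1_cm r hr
  have := h.rel.r1 _ _ _ ha e (star v) (algebraMap F _ 1)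
  rw [h.rel.base _ fun f => ha (e.2.1.2 f), map_one, mul_one, star_star] at this
  exact this ▸ mul_mem (UFP.conj_mem (h1 (y_mem_UG (Set.mem_univ _) ha _)) (h2 (S.x_mem_grp _ _)))
    (inv_mem (h2 (S.x_mem_grp _ _)))

theorem perf : GG0 S y ≤ ⁅GG0 S y, GG0 S y⁆ :=  h.le_of_norm (le_normalizer.trans fun _ hg => Core.normalizer_inf_le_normalizer_commutator _ _ ⟨hg, hg⟩)
    (h.amb.pf_grp.1.trans (commutator_mono L_le_GG0 L_le_GG0))

end RT

end CfsgLib.SLF
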