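import Mathlib
import Cfsg.Agent.Lib.SLF.GA

/-!
# The graph case: the action of `t`
-/

set_option autoImplicit false
set_option linter.unusedSectionVars false

namespace CfsgLib.SLF

open Cfsg.Lie CfsgLib.RGD CfsgLib.Stein CfsgLib.Semi CfsgLib.SLE CfsgLib.UFP Subgroup
open scoped commutatorElement Pointwise

universe u

variable {F : Type} [Field F] [Finite F] [CharP F 2] {G : Type u} [Group G] [Finite G]
  {S : StSys ΦF4 F G}

/-- the standard elements of `C(t)` -/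
def StS (S : StSys ΦF4 F G) (t : G) : Subgroup G where
  carrier := {s | s * t = t * s ∧ ∃ σ, Std S s σ}
  one_mem' := ⟨by simp, 1, fun r c => by simp⟩
  mul_mem' := fun {a b} ⟨h1, σ, h2⟩ ⟨h3, τ, h4⟩ =>
    ⟨by rw [mul_assoc, h3, ← mul_assoc, h1, mul_assoc], _, h2.mul h4⟩
  inv_mem' := fun {a} ⟨h1, σ, h2⟩ => ⟨(show Commute a t from h1).inv_left, _, h2.inv⟩

/-- the conditions of the elimination lemma -/
def ElG (T Z Z' : List R4) : Prop := (∀ r ∈ T, 24 ≤ r.1) ∧ (∀ r ∈ Z, ∀ a ∈ T, Cc r a) ∧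
  (∀ r ∈ Z', ∀ a ∈ T, 0 ≤ ip4 r a) ∧ ∀ r : R4, 24 ≤ r.1 → r ∈ Z ∨ (∃ a ∈ T, ip4 r a < 0) ∨
    (r ∈ Z' ∧ ¬ Lg r ∧ ∃ a ∈ T, ¬ Lg a ∧ ip4 r a = 0)

instance decElG (T Z Z' : List R4) : Decidable (ElG T Z Z') :=
  @instDecidableAnd _ _ inferInstance (@instDecidableAnd _ _ inferInstance
    (@instDecidableAnd _ _ inferInstance (@Nat.decidableForallFin _ _ fun _ => inferInstance)))

theorem gt_conj {δ : F} {y : R4 → KK δ → G} {n : G} {T T' : Set R4}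
    (h1 : ∀ r ∈ T, ∀ c, n * S.x r c * n⁻¹ ∈ UG S y T')
    (h2 : ∀ r ∈ T, ¬ Lg r → ∀ v, n * y r v * n⁻¹ ∈ UG S y T') {u : G} (hu : u ∈ UG S y T) :
    n * u * n⁻¹ ∈ UG S y T' :=
  UG_le' (H := (UG S y T').comap (MulAut.conj n).toMonoidHom) h1 h2 hu

theorem Amb.gt_x (A : Amb S) {r : R4} (hr : 24 ≤ r.1) {c : F} (h : S.x r c ∈ Ug S (r + 1)) : c = 0 := by
  rw [← A.cf_x_self hr c]
  exact A.cf_eq_zero (cl_Ug (by omega)) (fun s hs => by have : r.1 + 1 ≤ s.1 := hs; omega) h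
    (Nat.not_succ_le_self _)

theorem gt_cl : Cl {r : R4 | 24 ≤ r.1 ∧ Lg r} :=
  ⟨fun _ ha _ hb _ e => ⟨ha.1.trans (e.1.lt hb.1).le, e.2.2.1 ha.2⟩, fun _ _ _ hb _ _ e => absurd hb.2 e.2.1⟩

namespace Gr

variable {t : G} {Z : R4 → Subgroup G} {δ : F} {y : R4 → KK δ → G} (h : Gr S t Z δ y)
include h

theorem gt_h1 : H1 S t (fun r => ¬ Lg r) Z := h.toRD.toHS.toH2.toH1

theorem gt_xt (r : R4) (c : F) : S.x r c * t = t * S.x r c := h.gt_h1.toSit.com (S.x_mem_grp r c)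

theorem rt : RT S y :=
  ⟨h.amb, h.rel, fun _ hr _ e => h.toRD.inj hr (e.trans (h.toRD.zero hr).symm)⟩

theorem XG_eq {r : R4} (hr : ¬ Lg r) : XG S y r = Z r :=
  Subgroup.ext fun g => (h.rt.mem_XG_short hr).trans (h.rng r hr g).symm

theorem t_mem_StS : t ∈ StS S t := ⟨rfl, 1, std_one_iff.2 h.tC⟩

theorem StS_norm (T : Set R4) : StS S t ≤ normalizer (UG S y T : Set G) := by
  rintro s ⟨hs', σ, hs⟩
  refine mem_normalizer_fintype fun u hu => gt_conj (fun r hr c => ?_) (fun r hr hl v => ?_) hu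
  · rw [hs]; exact x_mem_UG hr _
  · exact XG_le hr ((h.XG_eq hl).ge (h.gt_h1.conj_std hs hs' hl (h.toRD.yZ hl v)))

theorem t_norm (T : Set R4) : t ∈ normalizer (UG S y T : Set G) := h.StS_norm T h.t_mem_StS

theorem H_norm (T : Set R4) : S.H ≤ normalizer (UG S y T : Set G) := fun a ha => by
  obtain ⟨d, -, -, -, hd⟩ := h.amb.H_conj ha
  refine mem_normalizer_fintype fun u hu => gt_conj (fun r hr c => ?_) (fun r hr hl v => ?_) hu
  · rw [hd]; exact x_mem_UG hr _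
  · rw [h.toRD.conj_H ha hl (hd r 1)]; exact y_mem_UG hr hl _

theorem ex_conj {n : G} {w : R4 → R4} (hw : Iso4 w) (hn : Ex S n w) (hn' : n ∈ S.grp) {T T' : Set R4}
    (hT : ∀ r ∈ T, w r ∈ T') {u : G} (hu : u ∈ UG S y T) : n * u * n⁻¹ ∈ UG S y T' := by
  refine gt_conj (fun r hr c => ?_) (fun r hr hl v => ?_) hu
  · rw [hn]; exact x_mem_UG (hT r hr) _
  · have hl' := mt (hw.lg r).1 hl
    exact XG_le (hT r hr) ((h.XG_eq hl').ge
      (h.gt_h1.conj_ex hw hn (h.gt_h1.toSit.com hn') hl hl' (h.toRD.yZ hl v)))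

/-- a standard element acts semilinearly on the big root groups -/
theorem std_y {s : G} {σ : F ≃+* F} (hs : Std S s σ) (hs' : s * t = t * s) {r : R4} (hr : ¬ Lg r) :
    ∃ f : KK δ →+ KK δ, (∀ v, s * y r v * s⁻¹ = y r (f v)) ∧ ∀ (c : F) v, f (c • v) = σ c • f v := by
  choose f hf using fun v => (h.rng r hr _).1 (h.gt_h1.conj_std hs hs' hr (h.toRD.yZ hr v))
  have fa : ∀ u v, f (u + v) = f u + f v := fun u v => h.toRD.inj hr (by
    rw [← hf, h.add r hr, h.add r hr, ← hf, ← hf]; group)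
  refine ⟨AddMonoidHom.mk' f fa, hf, fun c v => ?_⟩
  by_cases hc : c = 0
  · rw [hc, zero_smul, map_zero, map_zero, zero_smul]
  obtain ⟨d, hd⟩ := BA4.ex_cv1 r
  have e1 := h.hy d r hr c hc v
  have e2 := h.hy d r hr (σ c) ((map_ne_zero σ).2 hc) (f v)
  rw [hd, zpow_one] at e1 e2
  refine h.toRD.inj hr ?_
  show y r (f (c • v)) = y r (σ c • f v)
  rw [← hf, ← e1, ← e2, ← hs.conj_h d hc, ← hf]
  group

theorem gt_im {r : R4} (hr : ¬ Lg r) (v : KK δ) : t * y r v * t⁻¹ * (y r v)⁻¹ = S.x r v.im := by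
  rw [h.ty r hr, h.rt.y_inv hr, ← h.add r hr, add_comm, KK.add_star, h.base r hr]

theorem gt_re {r : R4} (hr : ¬ Lg r) {v : KK δ} (e : v.im = 0) : y r v = S.x r v.re := by
  rw [← h.base r hr]
  congr 1
  ext <;> simp [e]

theorem gt_X {r : R4} (hr : 24 ≤ r.1) (h0 : ∀ c, S.x r c ∈ UGe S y (r + 1) → c = 0) {g u : G}
    (hg : g ∈ XG S y r) (hu : g⁻¹ * u ∈ UGe S y (r + 1)) (h1 : t * u * t⁻¹ * u⁻¹ ∈ UGe S y (r + 1)) :
    ∃ c, g = S.x r c := by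
  by_cases hl : Lg r
  · exact (h.rt.mem_XG_long hl).1 hg
  obtain ⟨v, rfl⟩ := (h.rt.mem_XG_short hl).1 hg
  refine ⟨_, h.gt_re hl (h0 _ ?_)⟩
  rw [← h.gt_im hl]
  convert mul_mem h1 (inv_mem (UFP.conj_mem (h.rt.norm_UGe (by omega) (XG_le hr hg))
    (mul_mem (UFP.conj_mem (h.t_norm _) hu) (inv_mem hu)))) using 1
  group

theorem gt_fix {n : ℕ} (hn : 24 ≤ n) (hn' : n ≤ 48) : ∀ T : Set R4, (∀ a ∈ T, ∀ b ∈ T, Cg T a b) →
    (∀ r ∈ T, n ≤ r.1) → ∀ u ∈ UG S y T, u * t = t * u → u ∈ S.UU T := by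
  induction hn' using Nat.decreasingInduction with
  | self =>
    intro T _ hp u hu _
    rw [mem_bot.1 (UGe_top.le (UG_mono hp hu))]
    exact one_mem _
  | of_succ k hk ih =>
    intro T hT hp u hu ht
    obtain ⟨g, g1, g2⟩ := h.rt.peelT hT (fun r hr => hn.trans (hp r hr)) (r := ⟨k, hk⟩) hp hu
    obtain ⟨c, rfl⟩ := h.gt_X (r := ⟨k, hk⟩) hn (fun c hc => h.amb.gt_x (r := ⟨k, hk⟩) hn
      (ih (by omega) _ (fun a ha b hb => cg_lt (hn.trans (Nat.le_of_succ_le ha))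
        (hn.trans (Nat.le_of_succ_le hb)) (Nat.le_succ_of_le hb)) (fun _ e => e) _ hc (h.gt_xt _ _)))
      (UG_mono Set.inter_subset_right g1) (UG_mono Set.inter_subset_right g2) (by rw [← ht]; simp)
    have g3 := ih (by omega) _ (fun a ha b hb => (hT a ha.1 b hb.1).inter
      (cg_lt (hn.trans (hp a ha.1)) (hn.trans (hp b hb.1)) (Nat.le_succ_of_le hb.2))) (fun _ e => e.2) _ g2
      ((show Commute _ t from h.gt_xt _ c).inv_left.mul_left ht)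
    have g4 : S.x ⟨k, hk⟩ c ∈ S.UU T := by
      by_cases e : (⟨k, hk⟩ : R4) ∈ T
      · exact S.x_mem_UU e c
      · exact UG_le (fun r hr => absurd (hr.2 ▸ hr.1) e) g1
    exact (Subgroup.mul_mem_cancel_left _ (inv_mem g4)).1 (S.UU_mono Set.inter_subset_left g3)

theorem fix {n : ℕ} (hn : 24 ≤ n) {u : G} (hu : u ∈ UGe S y n) (ht : u * t = t * u) : u ∈ Ug S n :=
  h.gt_fix le_rfl (by omega) _ (fun _ ha _ hb => cg_lt (hn.trans ha) (hn.trans hb) (Nat.le_succ_of_le hb))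
    (fun _ e => hn.trans e) u hu ht

theorem fixT {T : Set R4} (hT : ∀ a ∈ T, ∀ b ∈ T, Cg T a b) (hp : ∀ r ∈ T, 24 ≤ r.1) {u : G}
    (hu : u ∈ UG S y T) (ht : u * t = t * u) : u ∈ S.UU T := h.gt_fix le_rfl (by omega) T hT hp u hu ht

theorem inf_L {n : ℕ} (hn : 24 ≤ n) {u : G} (hu : u ∈ UGe S y n) (hl : u ∈ S.grp) : u ∈ Ug S n :=
  h.fix hn hu (h.gt_h1.toSit.com hl)

theorem gt_x0 {r : R4} (hr : 24 ≤ r.1) (c : F) (h1 : S.x r c ∈ UGe S y (r + 1)) : c = 0 :=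
  h.amb.gt_x hr (h.fix (by omega) h1 (h.gt_xt r c))

theorem uniq {r : R4} (hr : 24 ≤ r.1) {g : G} (hg : g ∈ XG S y r) (h1 : g ∈ UGe S y (r + 1)) : g = 1 := by
  obtain ⟨c, rfl⟩ := h.gt_X hr (h.gt_x0 hr) hg (u := 1) (by simpa using h1) (by simp)
  rw [h.gt_x0 hr c h1, S.x_zero]

theorem lg_kill {k : R4} (hk : 24 ≤ k.1) (hs : ¬ Lg k) {v g : G} (hv : v ∈ Ulg S) (hg : g ∈ XG S y k)
    (h1 : v⁻¹ * g ∈ UGe S y (k + 1)) : g = 1 := by
  have h2 : v ∈ UGe S y k := by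
    have := mul_mem (XG_le (T := {r | k.1 ≤ r.1}) (le_refl k.1) hg) (inv_mem (UGe_mono (Nat.le_succ _) h1))
    rwa [mul_inv_rev, inv_inv, mul_inv_cancel_left] at this
  have h3 := h.amb.peel hk (h.inf_L hk h2 (S.UU_le_grp _ hv))
  rw [h.amb.cf_eq_zero gt_cl (fun _ e => e.1) hv (fun e => hs e.2), S.x_zero, inv_one, one_mul] at h3
  exact h.uniq hk hg ((Subgroup.mul_mem_cancel_left _ (inv_mem (UU_le_UG _ h3))).1 h1)

/-- an element of `UGe r` which is fixed by `t` modulo `UGe (r + 1)` -/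
theorem fix_mod {r : R4} (hr : 24 ≤ r.1) {u : G} (hu : u ∈ UGe S y r)
    (h1 : t * u * t⁻¹ * u⁻¹ ∈ UGe S y (r + 1)) : u ∈ UGe S y (r + 1) ⊔ S.X r := by
  obtain ⟨g, g1, g2⟩ := h.rt.peel hr hu
  obtain ⟨c, rfl⟩ := h.gt_X hr (h.gt_x0 hr) g1 g2 h1
  exact (Subgroup.mul_mem_cancel_left _ (inv_mem (mem_sup_right (S.mem_X_iff.2 ⟨c, rfl⟩)))).1
    (mem_sup_left g2)

theorem elimG {T A A' : List R4} (hc : ElG T A A') {u : G} (hu : u ∈ UGe S y 24)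
    (h1 : ∀ a ∈ T, u * S.x a 1 = S.x a 1 * u) : u ∈ UGL S y A ⊔ UL S A' := by
  refine ind_UGe (P := fun u => (∀ a ∈ T, u * S.x a 1 = S.x a 1 * u) → u ∈ UGL S y A ⊔ UL S A')
    (fun _ => one_mem _) (fun r hr u hu ih h1 => ?_) hu h1
  obtain ⟨g, g1, g2⟩ := h.rt.peel hr hu
  have strip : g ∈ UGL S y A ⊔ UL S A' → (∀ a ∈ T, g * S.x a 1 = S.x a 1 * g) →
      u ∈ UGL S y A ⊔ UL S A' := fun e1 e2 => (Subgroup.mul_mem_cancel_left _ (inv_mem e1)).1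
    (ih _ g2 fun a ha => (show Commute g _ from e2 a ha).inv_left.mul_left (h1 a ha))
  have lead : ∀ a ∈ T, ∀ k, Ad r a k → g * S.x a 1 * g⁻¹ * (S.x a 1)⁻¹ ∈ UGe S y (k + 1) :=
      fun a ha k hk => by
    have := h.rt.lead_comm hr (hc.1 a ha) g1 g2 (x_mem_XG a 1)
    rw [h1 a ha, show wt r + wt a = wt k from hk, ← UGe_eq_wt] at this
    simpa [mul_assoc] using inv_mem this
  rcases hc.2.2.2 r hr with e | ⟨a, ha, e⟩ | ⟨e, hl, a, ha, hl', e'⟩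
  · exact strip (mem_sup_left (XG_le e g1)) fun a ha => h.rt.commute_XG (hc.2.1 r e a ha) g1 (x_mem_XG a 1)
  · obtain ⟨k, hk, -⟩ := Amb.exists_st hr (hc.1 a ha) e
    obtain ⟨g', k1, k2, k3⟩ := h.rt.lead_x hr (hc.1 a ha) e hk g1
    have := k3 (h.uniq (hr.trans (hk.lt (hc.1 a ha)).le) k1
      (by simpa using inv_mem ((Subgroup.mul_mem_cancel_right _ (lead a ha k hk)).1 k2)))
    subst this
    exact strip (one_mem _) (by simp)
  · obtain ⟨m, hm⟩ := exists_ot r a hl hl' e'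
    obtain ⟨v, rfl⟩ := (h.rt.mem_XG_short hl).1 g1
    have := lead a ha m hm.2.2.1
    rw [← h.base a hl', h.rel.r2 r a m hm, map_one, star_one, mul_one] at this
    rw [h.gt_re hl (h.gt_x0 (hr.trans (hm.2.2.1.lt (hc.1 a ha)).le) _ this)] at strip
    exact strip (mem_sup_right (S.x_mem_UU e _)) fun a ha => h.amb.com (hc.2.2.1 r e a ha) _ _

/-- the leading root of `[a, t]` is short -/
theorem lead_t {a : G} (ha : a ∈ UGe S y 24) : a * t * a⁻¹ * t⁻¹ = 1 ∨ ∃ r : R4, 24 ≤ r.1 ∧ ¬ Lg r ∧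
    ∃ c, c ≠ 0 ∧ (S.x r c)⁻¹ * (a * t * a⁻¹ * t⁻¹) ∈ UGe S y (r + 1) := by
  refine ind_UGe (P := fun a => a * t * a⁻¹ * t⁻¹ = 1 ∨ ∃ r : R4, 24 ≤ r.1 ∧ ¬ Lg r ∧
    ∃ c, c ≠ 0 ∧ (S.x r c)⁻¹ * (a * t * a⁻¹ * t⁻¹) ∈ UGe S y (r + 1)) (.inl (by simp))
    (fun r hr a ha ih => ?_) ha
  obtain ⟨g, g1, g2⟩ := h.rt.peel' hr ha
  have key : ∀ c, g * t * g⁻¹ = t * S.x r c →
      a * t * a⁻¹ * t⁻¹ = a * g⁻¹ * S.x r c * t * (a * g⁻¹)⁻¹ * t⁻¹ := fun c e => by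
    rw [mul_assoc _ _ t, h.gt_xt, ← e]; group
  have k0 : g * t * g⁻¹ = t * S.x r 0 → _ := fun e => by
    have := ih _ g2
    rw [← mul_one (a * g⁻¹), ← S.x_zero r, mul_inv_rev (a * g⁻¹), S.x_zero r, inv_one, one_mul, ← S.x_zero r,
      ← key 0 e, S.x_zero r] at this
    exact this
  by_cases hl : Lg r
  · obtain ⟨c, rfl⟩ := (h.rt.mem_XG_long hl).1 g1
    exact k0 (by rw [h.gt_xt, S.x_zero]; group)
  obtain ⟨v, rfl⟩ := (h.rt.mem_XG_short hl).1 g1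
  by_cases e : v.im = 0
  · exact k0 (e ▸ h.toRD.ovr hl v)
  refine .inr ⟨r, hr, hl, _, e, ?_⟩
  rw [key _ (h.toRD.ovr hl v)]
  convert mul_mem (UFP.conj_mem' (h.rt.norm_UGe (by omega) (x_mem_UG hr v.im)) g2)
    (UFP.conj_mem (h.t_norm _) (inv_mem g2)) using 1
  group

theorem tlin {n : ℕ} (hn : 24 ≤ n) {a v : G} (ha : a ∈ UGe S y 24) (hv : v ∈ Ulg S)
    (h1 : v⁻¹ * (a * t * a⁻¹ * t⁻¹) ∈ UGe S y n) : a * t * a⁻¹ * t⁻¹ ∈ UGe S y n := by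
  rcases h.lead_t ha with e | ⟨r, hr, hl, c, hc, e⟩
  · rw [e]; exact one_mem _
  by_cases hrn : n ≤ r.1
  · exact (Subgroup.mul_mem_cancel_left _ (inv_mem (x_mem_UG hrn c))).1
      (UGe_mono (Nat.le_succ_of_le hrn) e)
  refine absurd (h.amb.x_eq_one.1 (h.lg_kill hr hl hv (x_mem_XG r c) ?_)) hc
  convert mul_mem (UGe_mono (not_le.1 hrn) h1) (inv_mem e) using 1
  group

theorem t_not_mem : t ∉ UGe S y 24 := fun e =>
  h.gt_h1.toSit.t_not_mem (S.UU_le_grp _ (h.fix le_rfl e rfl))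

theorem pg_S : IsPGroup 2 (UGe S y 24 ⊔ zpowers t : Subgroup G) :=
  IsPGroup.to_sup_of_normal_left' h.rt.pg (ou_pg (k := 1) (by rw [pow_one, pow_two, h.t2]))
    (zpowers_le.2 (h.t_norm _))

theorem S_norm {n : ℕ} (hn : 24 ≤ n) : UGe S y 24 ⊔ zpowers t ≤ normalizer (UGe S y n : Set G) :=
  sup_le (h.rt.norm_UGe hn) (zpowers_le.2 (h.t_norm _))

theorem G0_eq : GG0 S y = S.grp ⊔ Z 44 := by
  have h44 : ¬ Lg 44 := by decide
  refine le_antisymm (UG_le' (fun r _ c => mem_sup_left (S.x_mem_grp r c)) fun r _ hr v => ?_)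
    (sup_le L_le_GG0 ((h.XG_eq h44).ge.trans (XG_le (Set.mem_univ _))))
  obtain ⟨L, e⟩ := trans1 (a := r) (a' := 44) (iff_of_false hr h44)
  have := h.gt_h1.conj_nw L hr (e ▸ h44) (h.toRD.yZ hr v)
  rw [e] at this
  rw [show y r v = (nw S L)⁻¹ * (nw S L * y r v * (nw S L)⁻¹) * nw S L by group]
  exact mul_mem (mul_mem (mem_sup_left (inv_mem (nw_mem L))) (mem_sup_right this)) (mem_sup_left (nw_mem L))

/-- `C(t) = L St` -/
theorem cent_eq {g : G} (hg : g * t = t * g) : ∃ l ∈ S.grp, ∃ s ∈ StS S t, g = l * s := by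
  obtain ⟨l, hl, σ, hd⟩ := h.amb.aut (h.CN (mem_cent1.2 hg.symm))
  have h1 : l * g * t = t * (l * g) := by
    rw [mul_assoc, hg, ← mul_assoc, h.gt_h1.toSit.com hl, mul_assoc]
  rcases hd with hd | hd
  · exact ⟨l⁻¹, inv_mem hl, l * g, ⟨h1, σ, hd⟩, by group⟩
  obtain ⟨b, -, e⟩ := h.surj 44 (by decide) 1
  have e2 := hd 44 1
  rw [one_pow, map_one, show ρ 44 = 47 by decide] at e2
  refine absurd (isConj_iff.2 ⟨l * g * b, ?_⟩) h.nla
  calc _ = l * g * (b * t * b⁻¹) * (l * g)⁻¹ := by group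
    _ = _ := by rw [e, ← mul_assoc, h1, ← e2]; group

theorem cent_le : centralizer {t} ≤ normalizer (GG0 S y : Set G) := fun g hg => by
  obtain ⟨l, hl, s, hs, rfl⟩ := h.cent_eq (mem_cent1.1 hg).symm
  exact mul_mem (le_normalizer (L_le_GG0 hl)) (h.StS_norm _ hs)

theorem odd_W : Odd (Nat.card (centralizer (GG0 S y : Set G))) := by
  refine odd_of_inv h.t2 (norm_cent (h.t_norm _)) fun c hc c2 ct => ?_
  refine (h.gt_h1.toSit.eq_t (centralizer_le L_le_GG0 hc) c2 ct).resolve_right fun e => ?_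
  have h44 : ¬ Lg 44 := by decide
  obtain ⟨b, hb, h1⟩ := h.surj 44 h44 1
  rw [e] at hc
  rw [mem_cent.1 hc b (XG_le (Set.mem_univ _) ((h.XG_eq h44).ge hb)), mul_inv_cancel_right,
    left_eq_mul] at h1
  exact one_ne_zero (h.amb.x_eq_one.1 h1)

theorem mem_W {o : G} (h1 : o ∈ CL S) (h2 : o * t = t * o) (h3 : Odd (orderOf o)) :
    o ∈ centralizer (GG0 S y : Set G) := fun _ hg =>
  (mem_cent1.1 (UG_le' (H := centralizer {o}) (fun r _ c => mem_cent1.2 (h1 _ (S.x_mem_grp r c)).symm)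
    (fun r _ hr v => mem_cent1.2 (h.co r hr _ (h.toRD.yZ hr v) o h1 h2 h3).symm) hg)).symm

end Gr

end CfsgLib.SLF
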