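import Mathlib
import Cfsg.Agent.Lib.SLF.Out
import Cfsg.Agent.Lib.SLF.CenA

/-!
# Outer elements whose square is inner
-/

set_option autoImplicit false
set_option linter.unusedSectionVars false

namespace CfsgLib.SLF

open Cfsg.Lie CfsgLib.RGD CfsgLib.Stein CfsgLib.Semi CfsgLib.SLE CfsgLib.UFP Subgroup
open scoped commutatorElement Pointwise

universe u

variable {F : Type} [Field F] [Finite F] [CharP F 2] {G : Type u} [Group G] [Finite G]
  {S : StSys ΦF4 F G}

/-- a free action along a chain: the fixed points have order at most the square root -/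
theorem ou2_card {t : G} {U : Subgroup G} {k : ℕ} {M : ℕ → Subgroup G} (c : Chain t U k M) :
    Nat.card (U ⊓ centralizer {t} : Subgroup G) ^ 2 ≤ Nat.card U := by
  induction k generalizing U with
  | zero =>
    have : U = ⊥ := c.top.symm.trans c.zero
    subst this
    simp
  | succ k ih =>
    have h0 := ih (sm_chain_trunc c)
    have hU : M (k + 1) = U := c.top
    have hNU : M k ≤ U := c.le (by omega)
    have cen : ∀ u ∈ U, ∀ x ∈ U, u * x * u⁻¹ * x⁻¹ ∈ M k := fun u hu x hx =>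
      c.cen k (by omega) u hu x (hU ▸ hx)
    have tU : ∀ x ∈ U, t * x * t⁻¹ * x⁻¹ ∈ U := fun x hx =>
      U.mul_mem (sm_conj_mem c.tU hx) (U.inv_mem hx)
    haveI hN : ((M k).subgroupOf U).Normal :=
      (normal_subgroupOf_iff_le_normalizer hNU).2 (c.norm (by omega))
    let p := QuotientGroup.mk' ((M k).subgroupOf U)
    have peq : ∀ a b : U, p a = p b ↔ (a : G)⁻¹ * b ∈ M k := fun a b => QuotientGroup.eq
    let φ : U →* U ⧸ (M k).subgroupOf U := MonoidHom.mk' (fun x => p ⟨_, tU x x.2⟩) (by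
      intro x y
      rw [← map_mul, peq]
      have := cen x x.2 _ (U.inv_mem (tU y y.2))
      convert this using 1
      simp only [coe_mul]
      group)
    have hφ : ∀ x : U, φ x = p ⟨_, tU x x.2⟩ := fun _ => rfl
    have pk : ∀ a : U, p a = 1 ↔ (a : G) ∈ M k := fun a => QuotientGroup.eq_one_iff a
    let C := (centralizer {t}).subgroupOf U
    have e1 : C.map p ≤ φ.range := by
      rintro _ ⟨x, hx, rfl⟩
      have hx' : (x : G) * t = t * x := mem_centralizer_singleton_iff.1 hx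
      obtain ⟨y, hy, hm⟩ := c.free k (by omega) x (hU.ge x.2) (by
        rw [← hx']; simp)
      refine ⟨(⟨y, hU.le hy⟩ : U)⁻¹, ?_⟩
      rw [map_inv, inv_eq_iff_eq_inv, eq_inv_iff_mul_eq_one, ← eq_inv_iff_mul_eq_one,
        ← inv_eq_iff_eq_inv, inv_eq_iff_mul_eq_one, ← mul_eq_one_comm, hφ, ← map_mul, pk]
      exact hm
    have e2 : C.map p ≤ φ.ker.map p := by
      apply map_mono
      intro x hx
      have hx' : (x : G) * t = t * x := mem_centralizer_singleton_iff.1 hx
      rw [MonoidHom.mem_ker, hφ, pk]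
      show t * x * t⁻¹ * (x : G)⁻¹ ∈ M k
      rw [← hx']; simp
    have n1 := Core.card_map_mul_card_inf_ker φ ⊤
    have n2 := Core.card_map_mul_card_inf_ker p φ.ker
    have n3 := Core.card_map_mul_card_inf_ker p C
    have e3 : φ.ker ⊓ p.ker = (M k).subgroupOf U := by
      rw [QuotientGroup.ker_mk']
      refine inf_eq_right.2 fun x hx => ?_
      rw [MonoidHom.mem_ker, hφ, pk]
      exact (M k).mul_mem (sm_conj_mem (c.tn k (by omega)) hx) ((M k).inv_mem hx)
    have e4 : C ⊓ p.ker = (M k ⊓ centralizer {t}).subgroupOf U := by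
      rw [QuotientGroup.ker_mk', inf_comm]; rfl
    rw [← MonoidHom.range_eq_map, top_inf_eq, card_top] at n1
    rw [e3, Core.card_subgroupOf_of_le hNU] at n2
    rw [e4, Core.card_subgroupOf_of_le (inf_le_left.trans hNU)] at n3
    have e5 : Nat.card C = Nat.card (U ⊓ centralizer {t} : Subgroup G) := by
      rw [← Core.card_subgroupOf_of_le (inf_le_left : U ⊓ centralizer {t} ≤ U), inf_comm,
        inf_subgroupOf_right]
    rw [← e5, ← n3, ← n1, ← n2, mul_pow, pow_two, mul_assoc]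
    exact Nat.mul_le_mul (card_le_of_le e1) (Nat.mul_le_mul (card_le_of_le e2) h0)

/-- an involution acting on an elementary abelian group -/
theorem ou2_ab {s : G} {Z : Subgroup G} (s2 : s * s = 1) (hn : s ∈ normalizer (Z : Set G))
    (ab : ∀ a ∈ Z, ∀ b ∈ Z, a * b = b * a) (sq : ∀ a ∈ Z, a * a = 1) :
    Nat.card Z ≤ Nat.card (Z ⊓ centralizer {s} : Subgroup G) ^ 2 := by
  have si : s⁻¹ = s := inv_eq_of_mul_eq_one_right s2
  let φ : Z →* G := MonoidHom.mk' (fun x => s * x * s⁻¹ * x) fun x y => by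
    have := ab _ (sm_conj_mem hn y.2) _ x.2
    simp only [coe_mul]
    calc s * (x * y) * s⁻¹ * (x * y) = s * x * s⁻¹ * (s * y * s⁻¹ * x) * y := by group
      _ = _ := by rw [this]; group
  have e1 : φ.range ≤ Z ⊓ centralizer {s} := by
    rintro _ ⟨x, rfl⟩
    refine ⟨mul_mem (sm_conj_mem hn x.2) x.2, mem_centralizer_singleton_iff.2 ?_⟩
    show s * x * s⁻¹ * x * s = s * (s * x * s⁻¹ * x)
    have h := ab _ (sm_conj_mem hn x.2) _ x.2
    rw [si] at h ⊢
    rw [h]
    calc x * (s * x * s) * s = x * s * x * (s * s) := by group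
      _ = s * s * x * s * x := by rw [s2]; group
      _ = s * (s * x * s * x) := by group
      _ = _ := by rw [h]
  have e2 : φ.ker ≤ (Z ⊓ centralizer {s}).subgroupOf Z := fun x hx => by
    have h : s * x * s⁻¹ * x = 1 := hx
    refine mem_subgroupOf.2 ⟨x.2, mem_centralizer_singleton_iff.2 ?_⟩
    rw [← sq x x.2, mul_left_inj, mul_inv_eq_iff_eq_mul] at h
    exact h.symm
  have n1 := Core.card_map_mul_card_inf_ker φ ⊤
  rw [← MonoidHom.range_eq_map, top_inf_eq, card_top] at n1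
  rw [← n1, pow_two]
  exact Nat.mul_le_mul (card_le_of_le e1) ((card_le_of_le e2).trans_eq (Core.card_subgroupOf_of_le inf_le_left))

namespace Amb

variable (A : Amb S) {s : G}
include A

theorem chain' (hs : s ∈ NL S) (s2 : s * s ∈ S.U ⊔ CL S) (ho : s ∉ N0 S) (hU : s ∈ normalizer (S.U : Set G)) :
    ∃ k M, Chain s S.U k M := by
  obtain ⟨v, hv, k, hk, e⟩ := (Core.mem_sup_of_le_normalizer_left
    (fun k hk => (std_one_iff.2 hk).norm _ : CL S ≤ normalizer (S.U : Set G))).1 s2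
  exact A.ou_chain' hs hv hk e.symm ho hU

theorem sb' (hs : s ∈ NL S) (hp : IsPGroup 2 (zpowers s)) (s2 : s * s ∈ N0 S) (ho : s ∉ N0 S) {P : Subgroup G}
    (hP : IsPGroup 2 P) (h : P ≤ S.grp ⊓ centralizer {s}) : Nat.card P ≤ Nat.card F ^ 12 := by
  have cs : ∀ p ∈ P, s * p = p * s := fun p hp => (h hp).2 s rfl
  have hn : zpowers s ≤ normalizer (P : Set G) := zpowers_le.2 <| mem_normalizer_fintype fun p hp => by
    rwa [cs p hp, mul_inv_cancel_right]
  have hQ : IsPGroup 2 (P ⊔ zpowers s : Subgroup G) := hP.to_sup_of_normal_left' hp hn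
  obtain ⟨l, hl, hN⟩ := A.exists_norm_U hQ (sup_le (fun p hp => le_normalizer (h hp).1) (zpowers_le.2 hs))
  have hl' : l ∈ NL S := le_normalizer hl
  have n1 := hN s (mem_sup_right (mem_zpowers s))
  have a3 : l * s * l⁻¹ ∉ N0 S := fun h => ho ((mem_normalizer_iff.1 (norm_N0 hl') s).2 h)
  have a2 : l * s * l⁻¹ * (l * s * l⁻¹) ∈ S.U ⊔ CL S := by
    have b : l * s * l⁻¹ * (l * s * l⁻¹) ∈ N0 S := by
      rw [conj_mul]; exact sm_conj_mem (norm_N0 hl') s2
    obtain ⟨v, hv, k, hk, e⟩ := mem_N0.1 b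
    obtain ⟨n, hn⟩ := hp ⟨s, mem_zpowers s⟩
    have hn' : s ^ 2 ^ n = 1 := congrArg Subtype.val hn
    have e1 : (v * k) ^ 2 ^ n = 1 := by
      rw [← e, conj_mul, conj_pow, ← pow_two, ← pow_mul, mul_comm 2, pow_mul, hn']; group
    rw [e]
    refine mul_mem (mem_sup_left (A.mem_U_of_norm hv (ou_pg (A.au_pow hv hk e1).1) ?_)) (mem_sup_right hk)
    have := mul_mem (mul_mem n1 n1) (inv_mem ((std_one_iff.2 hk).norm _))
    rwa [e, mul_inv_cancel_right] at this
  obtain ⟨k, M, c⟩ := A.chain' (mul_mem (mul_mem hl' hs) (inv_mem hl')) a2 a3 n1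
  have b := ou2_card c
  rw [A.card_U, show 24 = 12 * 2 by norm_num, pow_mul] at b
  refine le_trans ?_ ((Nat.pow_le_pow_iff_left two_ne_zero).1 b)
  have m : ∀ p ∈ P, l * p * l⁻¹ ∈ (S.U ⊓ centralizer {l * s * l⁻¹} : Subgroup G) := fun p hp => by
    obtain ⟨k, hk⟩ := hP ⟨p, hp⟩
    have hk' : p ^ 2 ^ k = 1 := congrArg Subtype.val hk
    refine ⟨A.mem_U_of_norm (mul_mem (mul_mem hl (h hp).1) (inv_mem hl))
      (ou_pg (k := k) (by rw [conj_pow, hk']; group)) (hN p (mem_sup_left hp)), ?_⟩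
    rintro _ rfl
    rw [show l * s * l⁻¹ * (l * p * l⁻¹) = l * (s * p) * l⁻¹ by group, cs p hp]
    group
  refine Nat.card_le_card_of_injective (fun p : P => (⟨l * p * l⁻¹, m p p.2⟩ :
    (S.U ⊓ centralizer {l * s * l⁻¹} : Subgroup G))) fun p q e => Subtype.ext ?_
  simpa using congrArg Subtype.val e

theorem sb_ge (hs : s ∈ NL S) (s2 : s * s = 1) (ho : s ∉ N0 S) (hU : s ∈ normalizer (S.U : Set G)) :
    Nat.card F ^ 12 ≤ Nat.card (S.U ⊓ centralizer {s} : Subgroup G) := by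
  obtain ⟨k, M, c⟩ := A.chain hs s2 ho hU
  have := sm_chain_card s2 c
  rw [A.card_U, show 24 = 12 * 2 by norm_num, pow_mul] at this
  exact (Nat.pow_left_injective two_ne_zero this).ge

theorem sb_Z (s2 : s * s = 1) (hU : s ∈ normalizer (S.U : Set G)) :
    Nat.card F ≤ Nat.card (UL S [44, 47] ⊓ centralizer {s} : Subgroup G) := by
  have h0 : ∀ a ∈ posL4, ∀ b ∈ ([44, 47] : List R4), 0 ≤ ip4 a b := by decide +kernel
  have h1 : ∀ r ∈ ([44, 47] : List R4), 24 ≤ r.1 := by decide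
  have hZ : UL S [44, 47] ≤ S.U := UU_le_U4 h1
  have hc : ∀ u ∈ S.U, ∀ z ∈ UL S [44, 47], u * z = z * u := fun u hu z hz =>
    A.commute_UU (T := {r | r ∈ posL4}) h0 (U_eq_UL.le hu) hz
  have hn : s ∈ normalizer (UL S [44, 47] : Set G) := mem_normalizer_fintype fun z hz =>
    A.center_U (sm_conj_mem hU (hZ hz)) fun u hu => by
      have := hc _ (sm_conj_mem (inv_mem hU) hu) z hz
      calc u * (s * z * s⁻¹) = s * (s⁻¹ * u * s⁻¹⁻¹ * z) * s⁻¹ := by group
        _ = _ := by rw [this]; group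
  have hsq : ∀ a ∈ UL S [44, 47], a * a = 1 := fun a ha => by
    induction ha using closure_induction with
    | mem x hx => obtain ⟨r, -, c, rfl⟩ := hx; exact A.x_sq r c
    | one => exact mul_one 1
    | mul a b ha hb h1 h2 =>
      rw [mul_assoc, ← mul_assoc b, ← hc a (hZ ha) b hb, mul_assoc, ← mul_assoc, h1, h2, mul_one]
    | inv a _ h => rw [← mul_inv_rev, h, inv_one]
  have b := ou2_ab s2 hn (fun a ha b hb => hc a (hZ ha) b hb) hsq
  rw [A.card_UL (by decide +kernel)] at b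
  exact (Nat.pow_le_pow_iff_left two_ne_zero).1 b

/-- a 2-element outside `L C(L)` has a power outside whose square is inside -/
theorem exists_pow_out (hs : s ∈ NL S) (hp : IsPGroup 2 (zpowers s)) (ho : s ∉ N0 S) :
    ∃ k : ℕ, s ^ k ∉ N0 S ∧ s ^ k * s ^ k ∈ N0 S := by
  classical
  obtain ⟨n, hn⟩ := hp ⟨s, mem_zpowers s⟩
  have hn' : s ^ 2 ^ n = 1 := congrArg Subtype.val hn
  have ex : ∃ j, s ^ 2 ^ j ∈ N0 S := ⟨n, hn' ▸ one_mem _⟩
  have h0 : Nat.find ex ≠ 0 := fun h => ho (by simpa [h] using Nat.find_spec ex)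
  obtain ⟨j, hj⟩ := Nat.exists_eq_succ_of_ne_zero h0
  refine ⟨2 ^ j, Nat.find_min ex (by omega), ?_⟩
  have := Nat.find_spec ex
  rwa [hj, pow_succ, pow_mul, pow_two] at this

end Amb

end CfsgLib.SLF
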