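import Mathlib
import Cfsg.Agent.Lib.SLF.GT
import Cfsg.Agent.Lib.SLF.FusB
import Cfsg.Agent.Lib.SLF.Out2

/-!
# The graph case: the conjugates of `t`
-/

set_option autoImplicit false
set_option linter.unusedSectionVars false

namespace CfsgLib.SLF

open Cfsg.Lie CfsgLib.RGD CfsgLib.Stein CfsgLib.Semi CfsgLib.SLE CfsgLib.UFP Subgroup
open scoped commutatorElement Pointwise

universe u

variable {F : Type} [Field F] [Finite F] [CharP F 2] {G : Type u} [Group G] [Finite G]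
  {S : StSys ΦF4 F G}

namespace Gr

variable {t : G} {Z : R4 → Subgroup G} {δ : F} {y : R4 → KK δ → G} (h : Gr S t Z δ y)
include h

theorem gb_y {r : R4} (hr : ¬ Lg r) (c : F) : y r ⟨0, c⟩ * t * (y r ⟨0, c⟩)⁻¹ = t * S.x r c := h.toRD.ovr hr _

theorem gb_ya {r l : R4} (hr : ¬ Lg r) (hl : Lg l) (hi : 0 ≤ ip4 l r) :
    y r ⟨0, 1⟩ * (t * S.x l 1) * (y r ⟨0, 1⟩)⁻¹ = t * (S.x r 1 * S.x l 1) := by
  rw [← conj_mul, h.gb_y hr, ← h.rel.c2 l r hl hr hi, mul_inv_cancel_right, mul_assoc]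

theorem gb_cls {l : G} (hl : l ∈ S.grp) (l2 : l * l = 1) : l = 1 ∨ (∃ g ∈ S.grp, l = g * S.x 44 1 * g⁻¹) ∨
    ∃ g ∈ GG0 S y, t * l = g * (t * S.x 47 1) * g⁻¹ := by
  by_cases l1 : l = 1
  · exact Or.inl l1
  right
  obtain ⟨g, hg, e⟩ := h.amb.dc hl l2 l1
  have gt := h.toSit.com (inv_mem hg)
  have gG : g⁻¹ ∈ GG0 S y := L_le_GG0 (inv_mem hg)
  have tl : t * l = g⁻¹ * (t * (g * l * g⁻¹)) * g := by rw [← mul_assoc g⁻¹, gt]; group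
  rcases e with e | e | e | e
  · exact Or.inr ⟨g⁻¹, gG, by rw [tl, e, inv_inv]⟩
  · exact Or.inl ⟨g⁻¹, inv_mem hg, by rw [← e]; group⟩
  · refine Or.inr ⟨g⁻¹ * y 44 ⟨0, 1⟩, mul_mem gG (y_mem_UG (Set.mem_univ _) (by decide) _), ?_⟩
    rw [tl, e, ic, h.amb.com (a := 47) (b := 44) (by decide), ← h.gb_ya (by decide) (by decide) (by decide)]
    group
  · obtain ⟨a, ha, L, -, e'⟩ := h.amb.exists_conj_x (r := 47) (s := 45) (by decide) (one_ne_zero (α := F))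
    have hk : a * nw S L ∈ S.grp := mul_mem (S.H_le_grp ha) (nw_mem L)
    generalize a * nw S L = k at hk e'
    refine Or.inr ⟨g⁻¹ * y 39 ⟨0, 1⟩ * k,
      mul_mem (mul_mem gG (y_mem_UG (Set.mem_univ _) (by decide) _)) (L_le_GG0 hk), ?_⟩
    have e2 : t * S.x 45 1 = k * (t * S.x 47 1) * k⁻¹ := by
      rw [← conj_mul, e', h.toSit.com hk, mul_inv_cancel_right]
    rw [tl, e, id4, ← h.gb_ya (by decide) (by decide) (by decide), e2]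
    group

/-- the classes of `G0` in the coset `t L` -/
theorem cls_L {l : G} (hl : l ∈ S.grp) (l2 : l * l = 1) :
    (∃ g ∈ GG0 S y, t * l = g * t * g⁻¹) ∨ ∃ g ∈ GG0 S y, t * l = g * (t * S.x 47 1) * g⁻¹ := by
  rcases h.gb_cls hl l2 with rfl | ⟨g, hg, rfl⟩ | e
  · exact Or.inl ⟨1, one_mem _, by group⟩
  · refine Or.inl ⟨g * y 44 ⟨0, 1⟩, mul_mem (L_le_GG0 hg) (y_mem_UG (Set.mem_univ _) (by decide) _), ?_⟩
    rw [show g * y 44 ⟨0, 1⟩ * t * (g * y 44 ⟨0, 1⟩)⁻¹ = g * (y 44 ⟨0, 1⟩ * t * (y 44 ⟨0, 1⟩)⁻¹) * g⁻¹ by group,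
      h.gb_y (by decide), ← mul_assoc g, h.toSit.com hg]
    group
  · exact Or.inr e

theorem tl {l : G} (hl : l ∈ S.grp) (e : IsConj t (t * l)) : l = 1 ∨ ∃ g ∈ S.grp, l = g * S.x 44 1 * g⁻¹ := by
  rcases h.gb_cls hl (h.toSit.fa_l2 hl e) with e1 | e1 | ⟨g, -, e1⟩
  · exact Or.inl e1
  · exact Or.inr e1
  · exact absurd (e.trans (isConj_iff.2 ⟨g, e1.symm⟩).symm) h.nla

/-- no conjugate of `t` in `C(t)` is outer on `L` -/
theorem no {s : G} (hc : IsConj t s) (hs : s * t = t * s) : s ∈ N0 S := by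
  by_contra ho
  have sN := h.toSit.mem_NL hs
  have s2 := h.toSit.fa_sq hc
  obtain ⟨l, hl, s', ⟨-, σ, hσ⟩, e⟩ := h.cent_eq hs
  obtain ⟨k, hk, st⟩ := h.amb.exists_std sN s2 ho (inv_mem hl) (σ := σ) (by rw [e, inv_mul_cancel_left]; exact hσ)
  obtain ⟨sN', s2', ho'⟩ := ou_conj sN s2 ho hk
  have hs' : k * s * k⁻¹ * t = t * (k * s * k⁻¹) := by
    rw [mul_assoc, h.toSit.com (inv_mem hk), ← mul_assoc, mul_assoc k, hs, ← mul_assoc, h.toSit.com hk]; group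
  obtain ⟨g, hg⟩ := isConj_iff.1 (hc.trans (isConj_iff.2 ⟨k, rfl⟩))
  rw [← hg] at st sN' s2' ho' hs'
  have h' := h.toSit.cj g
  have aL : S.x 47 1 ∈ (SLE.cj S g).grp := by
    refine h'.amb.pf_le h'.cyc h.amb.pf_one (((closure_le _).2 ?_).trans h'.CN) (subset_closure ⟨47, rfl⟩)
    rintro _ ⟨r, rfl⟩
    have := st r 1
    rw [map_one, mul_inv_eq_iff_eq_mul] at this
    exact mem_centralizer_singleton_iff.2 this.symm
  have tN := h'.mem_NL hs'.symm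
  by_cases h0 : t ∈ N0 (SLE.cj S g)
  · obtain ⟨l', hl', c, hc', e1, l2, c2⟩ := h'.amb.inv_split h0 h.t2
    have ct : c * (g * t * g⁻¹) = g * t * g⁻¹ * c := mul_left_cancel (a := l') (by
      rw [← mul_assoc, ← e1, ← hs', ← mul_assoc, h'.com hl', mul_assoc _ l', ← e1])
    rcases h'.eq_t hc' c2 ct with k1 | k1
    · rw [k1, mul_one] at e1
      exact h'.nz (e1 ▸ hl') (isConj_iff.2 ⟨g⁻¹, by group⟩)
    · obtain ⟨P, h1, hP, h2⟩ := h'.amb.lb hl' l2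
      have pt : ∀ x ∈ P, x * t = t * x := fun x hx => by
        have a1 := mem_centralizer_singleton_iff.1 (h1 hx).2
        have a2 := h'.com (h1 hx).1
        rw [k1] at e1
        generalize g * t * g⁻¹ = s1 at e1 a2
        rw [e1, ← mul_assoc, a1, mul_assoc, a2, mul_assoc]
      have hb := h'.inf_CL (g := g⁻¹) hP fun x hx => ⟨(h1 hx).1, mem_centralizer_singleton_iff.2 (by
        rw [show g⁻¹ * (g * t * g⁻¹) * g⁻¹⁻¹ = t by group]; exact pt x hx)⟩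
      refine ho' (h.amb.inner_of_card sN' s2' hP (fun x hx => ⟨h.toSit.mem_NL (pt x hx),
        mem_centralizer_singleton_iff.2 (h'.com (h1 hx).1)⟩) (eq_bot_iff.2 fun x hx => hb.le ⟨hx.1, ?_⟩)
        ((Nat.pow_le_pow_right Nat.card_pos (by norm_num)).trans h2))
      refine mem_cj_CL.2 (mem_cj_CL.2 ?_)
      rw [show g⁻¹ * (g⁻¹⁻¹ * x * g⁻¹) * g = x by group]
      exact hx.2
  · obtain ⟨l', -, e1⟩ := h'.amb.out_conj tN h.t2 h0 aL (by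
      rw [mul_assoc, ← mul_assoc (S.x 47 1), h.toSit.com (S.x_mem_grp 47 1), mul_assoc, h.amb.x_sq, mul_one, h.t2])
    exact h.nla (isConj_iff.2 ⟨l', e1⟩)

omit h [Finite G] in
theorem gb_abs1 {B : Subgroup G} {v g g' x w : G} (vt : v * t = t * v) (ti : t⁻¹ = t) (gt : t * g * t⁻¹ = g')
    (e : g * g' = w) (h2 : v * (g * x) * t * (v * (g * x) * t) = 1) (hβ : w⁻¹ * (v⁻¹ * g * v⁻¹⁻¹ * g⁻¹)⁻¹ * w ∈ B)
    (hγ : g'⁻¹ * (v⁻¹ * x * v) * g' * (t * x * t⁻¹) ∈ B) : (v * v)⁻¹⁻¹ * w ∈ B := by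
  have e1 : v * v * (v⁻¹ * g * v⁻¹⁻¹ * g⁻¹) * w * (g'⁻¹ * (v⁻¹ * x * v) * g' * (t * x * t⁻¹)) = 1 := by
    rw [← e, ← h2, ← gt]
    calc _ = v * (g * x) * (v * t) * (g * x) * t⁻¹ := by group
      _ = _ := by rw [vt, ti]; group
  have := mul_mem (inv_mem hγ) hβ
  rw [← eq_inv_of_mul_eq_one_left e1] at this
  generalize v⁻¹ * g * v⁻¹⁻¹ * g⁻¹ = β at this
  convert this using 1
  simp only [mul_assoc, mul_inv_cancel_left, inv_inv]

omit h [Finite G] in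
theorem gb_abs2 {v g x Y : G} (e : g * t = Y * t * Y⁻¹) :
    v * (g * x) * t = Y * (v * (v⁻¹ * Y⁻¹ * v⁻¹⁻¹ * Y⁻¹⁻¹ * (Y⁻¹ * (g⁻¹⁻¹ * x * g⁻¹) * Y)) * t) * Y⁻¹ := by
  calc v * (g * x) * t = v * (g * x * g⁻¹) * (g * t) := by group
    _ = _ := by rw [e]; group

theorem gb_lg : Ulg S ≤ S.U := UU_le_U4 fun _ hr => hr.1

theorem gb_step {r : R4} (hr : 24 ≤ r.1) {v x : G} (hv : v ∈ Ulg S) (hx : x ∈ UGe S y r)
    (h2 : v * x * t * (v * x * t) = 1) : ∃ u ∈ UGe S y 24, ∃ v' ∈ Ulg S, ∃ x' ∈ UGe S y (r + 1),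
      v * x * t = u * (v' * x' * t) * u⁻¹ := by
  obtain ⟨g, hg, hx'⟩ := h.rt.peel hr hx
  obtain ⟨x, rfl⟩ : ∃ x', x = g * x' := ⟨g⁻¹ * x, by group⟩
  rw [inv_mul_cancel_left] at hx'
  by_cases hl : Lg r
  · obtain ⟨c, rfl⟩ := (h.rt.mem_XG_long hl).1 hg
    exact ⟨1, one_mem _, v * S.x r c, mul_mem hv (S.x_mem_UU (show r ∈ {r : R4 | 24 ≤ r.1 ∧ Lg r} from ⟨hr, hl⟩) c), x, hx', by group⟩
  obtain ⟨z, rfl⟩ := (h.rt.mem_XG_short hl).1 hg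
  have nB := h.rt.norm_UGe (n := r + 1) (by omega)
  have vU : v ∈ UGe S y 24 := U_le_UGe (h.gb_lg hv)
  have yr : ∀ z, y r z ∈ UGe S y r := fun z => y_mem_UG (show r ∈ {s : R4 | r.1 ≤ s.1} from le_refl r.1) hl z
  have yU : ∀ z, y r z ∈ UGe S y 24 := fun z => y_mem_UG (show r ∈ {s : R4 | 24 ≤ s.1} from hr) hl z
  have cB : ∀ {a b : G}, a ∈ UGe S y 24 → b ∈ UGe S y (r + 1) → a⁻¹ * b * a ∈ UGe S y (r + 1) :=
    fun ha hb => (mem_normalizer_iff''.1 (nB ha) _).1 hb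
  have vt := h.toSit.com (S.UU_le_grp _ hv)
  have ti : t⁻¹ = t := inv_eq_of_mul_eq_one_right h.t2
  have w : y r z * y r (star z) = S.x r z.im := by rw [← h.add r hl, KK.add_star, h.base r hl]
  have wU : S.x r z.im ∈ UGe S y 24 := x_mem_UG (show r ∈ {s : R4 | 24 ≤ s.1} from hr) _
  have hβ : v⁻¹ * y r z * v⁻¹⁻¹ * (y r z)⁻¹ ∈ UGe S y (r + 1) := h.rt.comm_UGe hr (inv_mem vU) (yr z)
  have hγ : (y r (star z))⁻¹ * (v⁻¹ * x * v) * y r (star z) * (t * x * t⁻¹) ∈ UGe S y (r + 1) :=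
    mul_mem (cB (yU _) (cB vU hx')) ((mem_normalizer_iff.1 (h.t_norm _) _).1 hx')
  have key := gb_abs1 vt ti (h.ty r hl z) w h2 (cB wU (inv_mem hβ)) hγ
  have w1 := h.lg_kill hr hl (inv_mem (mul_mem hv hv)) (x_mem_UG (Set.mem_singleton r) _) key
  have z0 : z = algebraMap F _ z.re := by
    ext
    · simp
    · simpa using h.amb.x_eq_one.1 w1
  have eg : y r z * t = y r ⟨0, z.re⟩ * t * (y r ⟨0, z.re⟩)⁻¹ := by
    rw [h.gb_y hl, ← h.toSit.com (S.x_mem_grp r _), ← h.base r hl, ← z0]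
  have m1 := h.rt.comm_UGe hr (inv_mem vU) (inv_mem (yr ⟨0, z.re⟩))
  have m2 := cB (yU ⟨0, z.re⟩) (cB (inv_mem (yU z)) hx')
  exact ⟨_, yU ⟨0, z.re⟩, v, hv, _, mul_mem m1 m2, gb_abs2 eg⟩

theorem cj0 {x : G} (hx : x ∈ UGe S y 24) (h2 : x * t * (x * t) = 1) :
    ∃ u ∈ UGe S y 24, ∃ v ∈ Ulg S, x * t = u * (v * t) * u⁻¹ := by
  have key : ∀ n, 24 ≤ n → n ≤ 48 → ∃ u ∈ UGe S y 24, ∃ v ∈ Ulg S, ∃ x' ∈ UGe S y n,
      x * t = u * (v * x' * t) * u⁻¹ := by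
    intro n hn
    induction n, hn using Nat.le_induction with
    | base => exact fun _ => ⟨1, one_mem _, 1, one_mem _, x, hx, by group⟩
    | succ n hn ih =>
      intro hn'
      obtain ⟨u, hu, v, hv, x', hx', e⟩ := ih (by omega)
      obtain ⟨u', hu', v', hv', x'', hx'', e'⟩ := h.gb_step (r := ⟨n, by omega⟩) hn hv hx' (by
        rw [e, conj_mul, conj_eq_one_iff] at h2; exact h2)
      exact ⟨u * u', mul_mem hu hu', v', hv', x'', hx'', by rw [e, e']; group⟩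
  obtain ⟨u, hu, v, hv, x', hx', e⟩ := key 48 (by norm_num) le_rfl
  rw [UGe_top, mem_bot] at hx'
  exact ⟨u, hu, v, hv, by rw [e, hx', mul_one]⟩

theorem cjt {x : G} (hx : x ∈ UGe S y 24) (hc : IsConj t (x * t)) : ∃ u ∈ UGe S y 24, x * t = u * t * u⁻¹ := by
  obtain ⟨u, hu, v, hv, e⟩ := h.cj0 hx (h.toSit.fa_sq hc)
  have vL := S.UU_le_grp _ hv
  rcases h.tl vL (hc.trans (isConj_iff.2 ⟨u, by rw [e, h.toSit.com vL]⟩).symm) with e1 | ⟨g, hg, e1⟩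
  · exact ⟨u, hu, by rw [e, e1, one_mul]⟩
  · obtain ⟨w, hw, r, hr, hl, c, -, e2⟩ := h.amb.src hg (r := 44) one_ne_zero (e1 ▸ h.gb_lg hv)
    have hl' : ¬ Lg r := fun a => absurd (hl.1 a) (by decide)
    refine ⟨u * w * y r ⟨0, c⟩, mul_mem (mul_mem hu (U_le_UGe hw)) (y_mem_UG hr hl' _), ?_⟩
    have e3 := h.gb_y hl' c
    rw [← h.toSit.com (S.x_mem_grp r c)] at e3
    rw [e, e1, e2, mul_assoc _ w⁻¹, h.toSit.com (inv_mem (S.UU_le_grp _ hw))]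
    generalize y r ⟨0, c⟩ = Y at e3 ⊢
    calc _ = u * w * (S.x r c * t) * w⁻¹ * u⁻¹ := by group
      _ = _ := by rw [← e3]; group

theorem outer {x : G} (hx : x ∈ UGe S y 24) (h2 : x * t * (x * t) = 1) :
    (∃ g ∈ GG0 S y, x * t = g * t * g⁻¹) ∨ ∃ g ∈ GG0 S y, x * t = g * (t * S.x 47 1) * g⁻¹ := by
  obtain ⟨u, hu, v, hv, e⟩ := h.cj0 hx h2
  have vL := S.UU_le_grp _ hv
  have uG : u ∈ GG0 S y := UG_mono (Set.subset_univ _) hu
  rw [e, conj_mul, conj_eq_one_iff, mul_assoc, ← mul_assoc t, ← h.toSit.com vL, mul_assoc, h.t2, mul_one] at h2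
  rw [e, h.toSit.com vL]
  rcases h.cls_L vL h2 with ⟨g, hg, e1⟩ | ⟨g, hg, e1⟩
  · exact Or.inl ⟨u * g, mul_mem uG hg, by rw [e1]; group⟩
  · exact Or.inr ⟨u * g, mul_mem uG hg, by rw [e1]; group⟩

end Gr

end CfsgLib.SLF
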