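import Mathlib
import Cfsg.Agent.Lib.SLF.GB

/-!
# The graph case: the Sylow 2-subgroup
-/

set_option autoImplicit false
set_option linter.unusedSectionVars false

namespace CfsgLib.SLF

open Cfsg.Lie CfsgLib.RGD CfsgLib.Stein CfsgLib.Semi CfsgLib.SLE CfsgLib.UFP Subgroup
open scoped commutatorElement Pointwise

universe u

variable {F : Type} [Field F] [Finite F] [CharP F 2] {G : Type u} [Group G] [Finite G]
  {S : StSys ΦF4 F G}

/-- `UGe 24` is a Sylow 2-subgroup of `G0` -/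
def Syl0 (S : StSys ΦF4 F G) {δ : F} (y : R4 → KK δ → G) : Prop :=
  ∀ P : Subgroup G, IsPGroup 2 P → P ≤ GG0 S y → UGe S y 24 ≤ P → P ≤ UGe S y 24

/-- the graph case with known Sylow subgroup -/
structure GS (S : StSys ΦF4 F G) (t : G) (Z : R4 → Subgroup G) (δ : F) (y : R4 → KK δ → G) (Gs : Subgroup G) :
    Prop extends Gr S t Z δ y where
  glob : Glob Gs t
  nt : t ∉ Gs
  syl : ∀ P : Subgroup G, IsPGroup 2 P → UGe S y 24 ≤ P → t ∈ P → P ≤ UGe S y 24 ⊔ zpowers t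

omit [Finite F] [CharP F 2] in
/-- Sylow subgroups of a product `N H` -/
theorem gc_syl {N H P Q : Subgroup G} (hN : H ≤ normalizer (N : Set G)) (hP : IsPGroup 2 P) (hPN : P ≤ N)
    (hP' : ∀ R : Subgroup G, IsPGroup 2 R → R ≤ N → P ≤ R → R ≤ P) (hQ : IsPGroup 2 Q) (hQH : Q ≤ H)
    (hQ' : ∀ R : Subgroup G, IsPGroup 2 R → R ≤ H → Q ≤ R → R ≤ Q) (hQP : Q ≤ normalizer (P : Set G))
    {R : Subgroup G} (hR : IsPGroup 2 R) (h1 : R ≤ N ⊔ H) (h2 : P ⊔ Q ≤ R) : R ≤ P ⊔ Q := by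
  have _ := hP
  have _ := hQP
  haveI : Fact (Nat.Prime 2) := ⟨Nat.prime_two⟩
  have hRN : R ≤ normalizer (N : Set G) := h1.trans (sup_le le_normalizer hN)
  have hQR : Q ≤ H ⊓ (N ⊔ R) := le_inf hQH (le_sup_of_le_right (le_sup_right.trans h2))
  obtain ⟨T, hT⟩ := (hQ.comap_subtype (K := H ⊓ (N ⊔ R))).exists_le_sylow
  have hTQ : (T : Subgroup (H ⊓ (N ⊔ R) : Subgroup G)).map (H ⊓ (N ⊔ R)).subtype ≤ Q :=
    hQ' _ (T.2.map _) ((map_subtype_le _).trans inf_le_left) fun x hx => ⟨⟨x, hQR hx⟩, hT hx, rfl⟩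
  haveI : (N.subgroupOf (H ⊓ (N ⊔ R))).Normal := ⟨fun n hn g => mem_subgroupOf.2 (UFP.conj_mem (hN g.2.1) (mem_subgroupOf.1 hn))⟩
  have hq : IsPGroup 2 ((H ⊓ (N ⊔ R) : Subgroup G) ⧸ N.subgroupOf (H ⊓ (N ⊔ R))) := by
    intro x
    obtain ⟨x, rfl⟩ := QuotientGroup.mk_surjective x
    obtain ⟨n, hn, r, hr, e⟩ := (Core.mem_sup_of_le_normalizer_left hRN).1 x.2.2
    obtain ⟨k, hk⟩ := hR ⟨r, hr⟩
    have key : ∀ m : ℕ, (n * r) ^ m * (r ^ m)⁻¹ ∈ N := fun m => by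
      induction m with
      | zero => simp
      | succ m ih =>
        have := mul_mem ih (UFP.conj_mem (hRN (pow_mem hr m)) hn)
        rwa [show (n * r) ^ m * (r ^ m)⁻¹ * (r ^ m * n * (r ^ m)⁻¹) =
          (n * r) ^ (m + 1) * (r ^ (m + 1))⁻¹ by rw [pow_succ, pow_succ]; group] at this
    refine ⟨k, ?_⟩
    rw [← QuotientGroup.mk_pow, QuotientGroup.eq_one_iff, mem_subgroupOf]
    have := key (2 ^ k)
    rwa [show r ^ 2 ^ k = 1 from congrArg Subtype.val hk, inv_one, mul_one, e] at this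
  have hs := Core.sylow_sup_eq_top_of_isPGroup_quotient T _ hq
  intro r hr
  obtain ⟨n, hn, a, ha, e⟩ := (Core.mem_sup_of_le_normalizer_left hN).1 (h1 hr)
  have ha' : a ∈ H ⊓ (N ⊔ R) := ⟨ha, by
    rw [show a = n⁻¹ * r by rw [← e]; group]
    exact mul_mem (mem_sup_left (inv_mem hn)) (mem_sup_right hr)⟩
  obtain ⟨q, hq, m, hm, e'⟩ := mem_sup_of_normal_right.1 (hs ▸ mem_top (⟨a, ha'⟩ : (H ⊓ (N ⊔ R) : Subgroup G)))
  have hqQ : (q : G) ∈ Q := hTQ ⟨q, hq, rfl⟩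
  have e2 : (q : G) * m = a := congrArg Subtype.val e'
  have h3 : r * (q : G)⁻¹ ∈ R ⊓ N := ⟨R.mul_mem hr (R.inv_mem (h2 (mem_sup_right hqQ))), by
    rw [← e, ← e2, show n * (q * m) * (q : G)⁻¹ = n * (q * m * (q : G)⁻¹) by group]
    exact mul_mem hn (UFP.conj_mem (hN q.2.1) hm)⟩
  have h4 := hP' (R ⊓ N) hR.to_inf_left inf_le_right (le_inf (le_sup_left.trans h2) hPN) h3
  simpa using mul_mem (mem_sup_left (T := Q) h4) (mem_sup_right (S := P) hqQ)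

omit [Finite F] [CharP F 2] in
theorem gc_max {P R : Subgroup G} {g : G} (h1 : ∀ p ∈ R, g * p * g⁻¹ ∈ P) (h2 : P ≤ R) : R ≤ P := by
  refine (eq_of_le_of_card_ge h2 (Nat.card_le_card_of_injective
    (fun p : R => (⟨g * p * g⁻¹, h1 p p.2⟩ : P)) fun a b e => Subtype.ext ?_)).ge
  simpa using e

theorem Std.gc_zpow {g : G} {σ : F ≃+* F} (h : Std S g σ) (n : ℤ) : Std S (g ^ n) (σ ^ n) := by
  induction n using Int.induction_on with
  | zero => intro r c; simp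
  | succ n ih => rw [zpow_add_one, zpow_add_one]; exact ih.mul h
  | pred n ih => rw [zpow_sub_one, zpow_sub_one]; exact ih.mul h.inv

namespace Gr

variable {t : G} {Z : R4 → Subgroup G} {δ : F} {y : R4 → KK δ → G} (h : Gr S t Z δ y)
include h

theorem st_comm {a b : G} (ha : a ∈ StS S t) (hb : b ∈ StS S t) :
    a * b * a⁻¹ * b⁻¹ ∈ centralizer (GG0 S y : Set G) := by
  have nW : StS S t ≤ normalizer ((centralizer (GG0 S y : Set G) : Subgroup G) : Set G) :=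
    (h.StS_norm _).trans (Core.normalizer_le_normalizer_centralizer _)
  have k0 : ∀ o ∈ centralizer (GG0 S y : Set G), ∀ a ∈ StS S t,
      o * a * o⁻¹ * a⁻¹ ∈ centralizer (GG0 S y : Set G) := fun o ho a ha => by
    have := mul_mem ho (UFP.conj_mem (nW ha) (inv_mem ho))
    rwa [← mul_assoc, ← mul_assoc] at this
  have k1 : ∀ c ∈ StS S t, c ∈ CL S → c ∈ cmod (StS S t) (centralizer (GG0 S y : Set G)) := by
    intro c hc hc'
    refine ⟨le_normalizer hc, nW hc, fun a ha => ?_⟩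
    rcases h.toSit.odd_or h.two hc' hc.1 with ho | ho
    · exact k0 c (h.mem_W hc' hc.1 ho) a ha
    · have := k0 _ (h.mem_W (mul_mem hc' h.tC) (by rw [mul_assoc, ← mul_assoc t, ← hc.1, mul_assoc]) ho) a ha
      rwa [show c * t * a * (c * t)⁻¹ * a⁻¹ = c * (t * a) * t⁻¹ * c⁻¹ * a⁻¹ by group, ← ha.1,
        show c * (a * t) * t⁻¹ * c⁻¹ * a⁻¹ = c * a * c⁻¹ * a⁻¹ by group] at this
  let Sg : Subgroup (F ≃+* F) :=
    { carrier := {σ | ∃ s ∈ StS S t, Std S s σ}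
      one_mem' := ⟨1, one_mem _, fun r c => by simp⟩
      mul_mem' := fun ⟨s, h1, h2⟩ ⟨s', h3, h4⟩ => ⟨_, mul_mem h1 h3, h2.mul h4⟩
      inv_mem' := fun ⟨s, h1, h2⟩ => ⟨_, inv_mem h1, h2.inv⟩ }
  haveI := isCyclic_aut (F := F)
  obtain ⟨⟨σ0, s0, h0, h0'⟩, hg⟩ := IsCyclic.exists_generator (α := Sg)
  have dec : ∀ a ∈ StS S t, ∃ i : ℤ, (s0 ^ i)⁻¹ * a ∈ cmod (StS S t) (centralizer (GG0 S y : Set G)) := by
    intro a ha
    obtain ⟨σ, hσ⟩ := ha.2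
    obtain ⟨i, hi⟩ := hg ⟨σ, a, ha, hσ⟩
    have e : σ0 ^ i = σ := congrArg Subtype.val hi
    refine ⟨i, k1 _ (mul_mem (inv_mem (zpow_mem h0 i)) ha) (std_one_iff.1 ?_)⟩
    have := (h0'.gc_zpow i).inv.mul hσ
    rwa [e, inv_mul_cancel] at this
  have k2 : s0 ∈ cmod (StS S t) (centralizer (GG0 S y : Set G)) := by
    refine ⟨le_normalizer h0, nW h0, fun a ha => comm_swap ?_⟩
    obtain ⟨i, hi⟩ := dec a ha
    have := UFP.conj_mem (nW (zpow_mem h0 i)) (hi.2.2 s0 h0)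
    rwa [show s0 ^ i * ((s0 ^ i)⁻¹ * a * s0 * ((s0 ^ i)⁻¹ * a)⁻¹ * s0⁻¹) * (s0 ^ i)⁻¹ =
      a * s0 * a⁻¹ * s0⁻¹ by group] at this
  obtain ⟨i, hi⟩ := dec a ha
  have := mul_mem (zpow_mem k2 i) hi
  rw [mul_inv_cancel_left] at this
  exact this.2.2 b hb

theorem st_inf {s : G} (hs : s ∈ StS S t) (hu : s ∈ UGe S y 24) : s = 1 := by
  have h1 : s ∈ S.grp := S.UU_le_grp _ (h.fix le_rfl hu hs.1)
  obtain ⟨σ, hσ⟩ := hs.2
  obtain rfl := h.amb.std_N0 hσ (mem_sup_left h1)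
  exact h.amb.eq_one h1 (std_one_iff.1 hσ)

/-- a field involution acts freely on the chain -/
theorem chain {s : G} {σ : F ≃+* F} (hs : Std S s σ) (hs' : s * t = t * s) (s2 : s * s = 1) (hσ : σ ≠ 1) :
    Chain s (UGe S y 24) 24 fun i => UGe S y (48 - i) := by
  have A := h.amb
  have R := h.rt
  have hS : s ∈ StS S t := ⟨hs', σ, hs⟩
  have key : ∀ i < 24, ∃ r : R4, 24 ≤ r.1 ∧ 48 - (i + 1) = r.1 ∧ 48 - i = r.1 + 1 := fun i hi =>
    ⟨⟨47 - i, by omega⟩, by simp only; omega, by simp only; omega, by simp only; omega⟩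
  refine ⟨UGe_top, rfl, fun i _ => UGe_mono (by omega), fun i _ => h.StS_norm _ hS,
    fun i hi u hu x hx => ?_, fun i hi x hx => ?_, fun i hi x hx h1 => ?_⟩
  all_goals
    obtain ⟨r, hr, e1, e2⟩ := key i hi
    simp only [e1, e2] at *
  · exact R.comm_UGe hr hu hx
  · exact R.sq_UGe hr hx
  obtain ⟨g, hg, h2⟩ := R.peel hr hx
  have le : XG S y r ≤ UGe S y r := UG_mono (Set.singleton_subset_iff.2 (le_refl r.1))
  have ng := R.norm_UGe (n := r + 1) (by omega) (UGe_mono hr (le hg))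
  have h3 : s * g * s⁻¹ * g⁻¹ = 1 := by
    refine h.uniq hr (mul_mem (UFP.conj_mem (h.StS_norm _ hS) hg) (inv_mem hg)) ?_
    have := mul_mem h1 (inv_mem (UFP.conj_mem ng
      (mul_mem (UFP.conj_mem (h.StS_norm _ hS) h2) (inv_mem h2))))
    convert this using 1
    group
  rw [mul_inv_eq_one] at h3
  obtain ⟨q, -, -, -, -, -, -, hq⟩ := aut_two (A.std_N0 (hs.mul hs) (by rw [s2]; exact one_mem _)) hσ
  obtain ⟨e, he⟩ := (hq 1 (by simp)).2 1 (by simp)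
  rw [one_mul, add_comm] at he
  obtain ⟨z, hz, e3⟩ : ∃ z ∈ XG S y r, s * z * s⁻¹ * z⁻¹ = g := by
    by_cases hl : Lg r
    · obtain ⟨c, rfl⟩ := (R.mem_XG_long hl).1 hg
      have hc : σ c = c := by
        rw [hs] at h3
        have : S.x r (σ c + c) = 1 := by rw [S.x_add, h3, A.x_sq]
        exact CharTwo.add_eq_zero.1 (A.x_eq_one.1 this)
      refine ⟨S.x r (e * c), x_mem_UG (Set.mem_singleton r) _, ?_⟩
      rw [hs, A.x_inv, ← S.x_add, map_mul, hc, ← add_mul, ← he, one_mul]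
    · obtain ⟨v, rfl⟩ := (R.mem_XG_short hl).1 hg
      obtain ⟨f, f1, f2⟩ := h.std_y hs hs' hl
      rw [f1] at h3
      refine ⟨y r (e • v), y_mem_UG (Set.mem_singleton r) hl _, ?_⟩
      rw [f1, f2, R.y_inj hl h3, R.y_inv hl, ← R.rel.add r hl, ← add_smul, ← he, one_smul]
  refine ⟨z, le hz, ?_⟩
  have := UFP.conj_mem ng h2
  rwa [e3, show x * g = g * (g⁻¹ * x) * g⁻¹ * (g * g) by group, R.XG_sq hg, mul_one]

theorem cjP {P : Subgroup G} (hP : IsPGroup 2 P) (h1 : P ≤ StS S t) (ht : t ∈ P) {s : G}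
    (hs : s ∈ UGe S y 24 ⊔ P) (hs' : s ∉ UGe S y 24) (hc : IsConj t s) : ∃ u ∈ UGe S y 24, s = u * t * u⁻¹ := by
  have _ := hP
  have _ := ht
  obtain ⟨x, hx, φ, hφ, rfl⟩ := (Core.mem_sup_of_le_normalizer_left (h1.trans (h.StS_norm _))).1 hs
  have s2 := h.toSit.fa_sq hc
  have hφ' := h1 hφ
  have φ2 : φ * φ = 1 := by
    refine h.st_inf (mul_mem hφ' hφ') ?_
    have := mul_mem (inv_mem (UFP.conj_mem (h.StS_norm _ hφ') hx)) (inv_mem hx)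
    rwa [show φ * φ = (φ * x * φ⁻¹)⁻¹ * x⁻¹ * (x * φ * (x * φ)) by simp [mul_assoc], s2, mul_one]
  obtain ⟨σ, hσ⟩ := hφ'.2
  by_cases e : σ = 1
  · subst e
    rcases h.toSit.eq_t (std_one_iff.1 hσ) φ2 hφ'.1 with rfl | rfl
    · exact absurd (by rwa [mul_one]) hs'
    · exact h.cjt hx hc
  · obtain ⟨u, -, hu⟩ := (h.chain hσ hφ'.1 φ2 e).conj φ2 hx s2
    refine absurd (h.amb.std_N0 hσ (h.no (hc.trans ?_) hφ'.1)) e
    rw [hu]
    exact (isConj_iff.2 ⟨u, rfl⟩).symm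

/-- a 2-element of `G0 W` lies in `G0` -/
theorem mem_G0 {g : G} (hg : g ∈ GG0 S y ⊔ centralizer (GG0 S y : Set G)) (hp : IsPGroup 2 (zpowers g)) :
    g ∈ GG0 S y := by
  obtain ⟨a, ha, w, hw, rfl⟩ := mem_sup_comm (fun a ha b hb => mem_cent.1 hb a ha) hg
  refine mem_of_odd_pow hp h.odd_W ?_
  have : w ^ Nat.card (centralizer (GG0 S y : Set G)) = 1 :=
    congrArg Subtype.val (pow_card_eq_one' (x := (⟨w, hw⟩ : centralizer (GG0 S y : Set G))))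
  rw [Commute.mul_pow (mem_cent.1 hw a ha), this, mul_one]
  exact pow_mem ha _

theorem G0_le {Gs : Subgroup G} (g : Glob Gs t) : GG0 S y ≤ Gs :=
  g.pf_le h.rt.perf

theorem exists_P (h0 : Syl0 S y) : ∃ P ≤ StS S t, IsPGroup 2 P ∧ t ∈ P ∧
    (∀ R : Subgroup G, IsPGroup 2 R → R ≤ GG0 S y ⊔ StS S t → UGe S y 24 ⊔ P ≤ R → R ≤ UGe S y 24 ⊔ P) ∧
    ∀ R ≤ GG0 S y ⊔ StS S t, IsPGroup 2 R → ∃ g ∈ GG0 S y ⊔ StS S t, ∀ p ∈ R, g * p * g⁻¹ ∈ UGe S y 24 ⊔ P := by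
  obtain ⟨P, h1, h2, hP, h3⟩ := exists_syl (pgroup_zpowers_of_sq h.t2) (zpowers_le.2 h.t_mem_StS)
  have hU : UGe S y 24 ≤ GG0 S y := UG_mono (Set.subset_univ _)
  have key : ∀ R : Subgroup G, IsPGroup 2 R → R ≤ GG0 S y ⊔ StS S t → UGe S y 24 ⊔ P ≤ R →
      R ≤ UGe S y 24 ⊔ P := fun R hR =>
    gc_syl (h.StS_norm _) h.rt.pg hU h0 hP h2 (fun R' a b c => by
      obtain ⟨g, -, hg⟩ := h3 R' b a
      exact gc_max hg c) (h2.trans (h.StS_norm _)) hR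
  obtain ⟨T, t1, t2, hT, t3⟩ := exists_syl (h.rt.pg.to_sup_of_normal_left' hP (h2.trans (h.StS_norm _)))
    (sup_le_sup hU h2)
  exact ⟨P, h2, hP, h1 (mem_zpowers t), key, fun R a b =>
    (t3 R a b).imp fun g hg => ⟨hg.1, fun p hp => key T hT t2 t1 (hg.2 p hp)⟩⟩

theorem gc_G2 (h0 : Syl0 S y) {g : G} (h1 : g * t * g⁻¹ ∈ GG0 S y ⊔ StS S t)
    (h2 : ∀ k ∈ GG0 S y ⊔ StS S t, k * (g * t * g⁻¹) * k⁻¹ ∉ UGe S y 24) : g ∈ GG0 S y ⊔ StS S t := by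
  obtain ⟨P, p1, hP, p2, -, p3⟩ := h.exists_P h0
  obtain ⟨k, hk, e⟩ := p3 _ (zpowers_le.2 h1) (pgroup_zpowers_of_sq (h.toSit.fa_sq (isConj_iff.2 ⟨g, rfl⟩)))
  obtain ⟨u, hu, e'⟩ := h.cjP hP p1 p2 (e _ (mem_zpowers _)) (h2 k hk) (isConj_iff.2 ⟨k * g, by group⟩)
  obtain ⟨l, hl, s, hs, e2⟩ := h.cent_eq (g := u⁻¹ * k * g) (by
    calc _ = u⁻¹ * (k * (g * t * g⁻¹) * k⁻¹) * k * g := by group
      _ = _ := by rw [e']; group)
  rw [show g = k⁻¹ * (u * (u⁻¹ * k * g)) by group, e2]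
  exact mul_mem (inv_mem hk) (mul_mem (mem_sup_left (UG_mono (Set.subset_univ _) hu))
    (mul_mem (mem_sup_left (L_le_GG0 hl)) (mem_sup_right hs)))

theorem gc_hom : ∃ (A : Type u) (_ : CommGroup A) (_ : Finite A) (l : (GG0 S y ⊔ StS S t : Subgroup G) →* A),
    IsPGroup 2 A ∧ ∀ g, l g = 1 ↔ ∃ m, Odd m ∧ (g : G) ^ m ∈ GG0 S y ⊔ centralizer (GG0 S y : Set G) := by
  have n0 : GG0 S y ⊔ StS S t ≤ normalizer (GG0 S y : Set G) := sup_le le_normalizer (h.StS_norm _)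
  have n1 : GG0 S y ⊔ StS S t ≤
      normalizer ((GG0 S y ⊔ centralizer (GG0 S y : Set G) : Subgroup G) : Set G) := fun g hg => by
    have : GG0 S y ⊔ centralizer (GG0 S y : Set G) ≤
        (GG0 S y ⊔ centralizer (GG0 S y : Set G)).comap (MulAut.conj g).toMonoidHom :=
      sup_le (fun x hx => mem_comap.2 (mem_sup_left (UFP.conj_mem (n0 hg) hx))) fun x hx => mem_comap.2
        (mem_sup_right (UFP.conj_mem (Core.normalizer_le_normalizer_centralizer _ (n0 hg)) hx))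
    exact Core.mem_normalizer_of_forall_conj_mem fun a ha => this ha
  have key : GG0 S y ⊔ StS S t ≤ cmod (GG0 S y ⊔ StS S t) (GG0 S y ⊔ centralizer (GG0 S y : Set G)) := by
    refine sup_le (fun l hl => ⟨le_normalizer (mem_sup_left hl), n1 (mem_sup_left hl), fun a ha => ?_⟩)
      fun s hs => ⟨le_normalizer (mem_sup_right hs), n1 (mem_sup_right hs), fun a ha => ?_⟩
    · have := mul_mem hl (UFP.conj_mem (n0 ha) (inv_mem hl))
      rw [← mul_assoc, ← mul_assoc] at this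
      exact mem_sup_left this
    · obtain ⟨l, hl, s', hs', rfl⟩ := (Core.mem_sup_of_le_normalizer_left (h.StS_norm _)).1 ha
      rw [show s * (l * s') * s⁻¹ * (l * s')⁻¹ = s * l * s⁻¹ * (s * s' * s⁻¹ * s'⁻¹) * l⁻¹ by group]
      exact mul_mem (mul_mem (mem_sup_left (UFP.conj_mem (h.StS_norm _ hs) hl))
        (mem_sup_right (h.st_comm hs hs'))) (mem_sup_left (inv_mem hl))
  obtain ⟨A, _, _, l, hA, hl⟩ := exists_two_hom (G1 := GG0 S y ⊔ StS S t)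
    (N0 := (GG0 S y ⊔ centralizer (GG0 S y : Set G)) ⊓ (GG0 S y ⊔ StS S t)) inf_le_right fun a ha b hb =>
      ⟨(key ha).2.2 b hb, Subgroup.mul_mem _ (mul_mem (mul_mem ha hb) (inv_mem ha)) (inv_mem hb)⟩
  exact ⟨A, _, ‹_›, l, hA, fun g => (hl g).trans (exists_congr fun m => and_congr_right fun _ =>
    ⟨fun a => a.1, fun a => ⟨a, pow_mem g.2 m⟩⟩)⟩

theorem gc_one (h0 : Syl0 S y) {φ : G} (h1 : φ ∈ StS S t) (hp : IsPGroup 2 (zpowers φ)) {m : ℕ} (hm : Odd m)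
    (h2 : φ ^ m ∈ GG0 S y ⊔ centralizer (GG0 S y : Set G)) : φ = 1 :=
  h.st_inf h1 (h0 _ (h.rt.pg.to_sup_of_normal_left' hp (zpowers_le.2 (h.StS_norm _ h1)))
    (sup_le (UG_mono (Set.subset_univ _)) (zpowers_le.2 (h.mem_G0 (mem_of_odd_pow hp hm h2) hp)))
    le_sup_left (mem_sup_right (mem_zpowers φ)))

theorem nt (h0 : Syl0 S y) {Gs : Subgroup G} (g : Glob Gs t) : t ∉ Gs := by
  obtain ⟨A, _, _, l, -, hl⟩ := h.gc_hom
  refine g.not_mem (not_mem_commutator h.t2 (mem_sup_right h.t_mem_StS) l (fun e => ?_)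
    fun x hx e => h.gc_G2 h0 hx fun k hk hu => e ?_)
  · obtain ⟨m, hm, h1⟩ := (hl _).1 e
    exact h.t1 (h.gc_one h0 h.t_mem_StS (pgroup_zpowers_of_sq h.t2) hm h1)
  · have := (hl (⟨k, hk⟩ * ⟨_, hx⟩ * ⟨k, hk⟩⁻¹)).2 ⟨1, odd_one, by
      rw [pow_one]; exact mem_sup_left (UG_mono (Set.subset_univ _) hu)⟩
    rwa [map_mul, map_mul, map_inv, mul_inv_cancel_comm] at this

theorem gs (h0 : Syl0 S y) {Gs : Subgroup G} (g : Glob Gs t) : GS S t Z δ y Gs := by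
  have ht := h.nt h0 g
  have hU : UGe S y 24 ≤ GG0 S y := UG_mono (Set.subset_univ _)
  have hu : U (GG0 S y ⊔ StS S t) t := ⟨h.t2, mem_sup_right h.t_mem_StS, fun x hx =>
    h.gc_G2 h0 hx fun k _ hk => ht (by
      simpa [mul_assoc] using g.nrm.conj_mem _ (h.G0_le g (hU hk)) (k * x)⁻¹)⟩
  obtain ⟨A, _, _, l, hA, hl⟩ := h.gc_hom
  have key := hu.ker_of_cover (g.index ht) ht g.perf l hA (fun x hx => by
    obtain ⟨m, hm, h1⟩ := (hl _).1 hx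
    obtain ⟨j, hj, h2⟩ := exists_two_pow ((x : G) ^ m)
    exact g.mem_of_odd hm (g.mem_of_odd hj (h.G0_le g (h.mem_G0 (pow_mem h1 j) h2)))) fun x => by
    obtain ⟨a, ha, s, hs, e⟩ := (Core.mem_sup_of_le_normalizer_left (h.StS_norm _)).1 x.2
    refine ⟨⟨s, mem_sup_right hs⟩, hs.1.symm, ?_⟩
    rw [show x = ⟨a, mem_sup_left ha⟩ * ⟨s, mem_sup_right hs⟩ from Subtype.ext e.symm, map_mul,
      (hl ⟨a, mem_sup_left ha⟩).2 ⟨1, odd_one, by rw [pow_one]; exact mem_sup_left ha⟩, one_mul]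
  obtain ⟨P, p1, hP, p2, p3, -⟩ := h.exists_P h0
  have k1 : ∀ φ ∈ P, φ ∈ Gs → φ = 1 := fun φ hφ hs => by
    obtain ⟨m, hm, h1⟩ := (hl _).1 (key ⟨φ, mem_sup_right (p1 hφ)⟩ hs)
    exact h.gc_one h0 (p1 hφ) (pg_zpowers hP hφ) hm h1
  have k2 : P ≤ zpowers t := fun φ hφ => by
    rcases g.gen φ with e | e
    · rw [k1 φ hφ e]; exact one_mem _
    · rw [eq_inv_of_mul_eq_one_left (k1 _ (mul_mem hφ p2) e)]
      exact inv_mem (mem_zpowers t)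
  exact ⟨h, g, ht, fun R hR r1 r2 => (p3 R hR (hu.le_of_pgroup hR r2)
    (sup_le r1 (k2.trans (zpowers_le.2 r2)))).trans (sup_le_sup_left k2 _)⟩

end Gr

end CfsgLib.SLF
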