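import Mathlib
import Cfsg.Agent.Lib.SLF.GC
import Cfsg.Agent.Lib.UFP.NUb

/-!
# The graph case: `U` and `UW`
-/

set_option autoImplicit false
set_option linter.unusedSectionVars false

namespace CfsgLib.SLF

open Cfsg.Lie CfsgLib.RGD CfsgLib.Stein CfsgLib.Semi CfsgLib.SLE CfsgLib.UFP Subgroup
open scoped commutatorElement Pointwise

universe u

variable {F : Type} [Field F] [Finite F] [CharP F 2] {G : Type u} [Group G] [Finite G]
  {S : StSys ΦF4 F G}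

omit [Finite F] [CharP F 2] in
theorem hat_conj {t x u : G} {U0 : Subgroup G} (h : Hat t U0 x) (hu : u ∈ U0) (ht : u * t = t * u) :
    Hat t U0 (u * x * u⁻¹) := by
  obtain ⟨w, B, e, hx, hB, hc, hV⟩ := h
  have ht' : u * t * u⁻¹ = t := by rw [ht, mul_inv_cancel_right]
  refine ⟨u * w * u⁻¹, MulAut.conj u • B, ?_, smul_mem_pointwise_smul _ _ _ hx, ?_, ?_, fun V h1 h2 h3 v hv => ?_⟩
  · calc _ = u * (u⁻¹ * (u * t * u⁻¹) * u * x) * u⁻¹ := by rw [ht']; group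
      _ = u * (w * (u⁻¹ * (u * t * u⁻¹) * u) * w⁻¹) * u⁻¹ := by
        rw [show u⁻¹ * (u * t * u⁻¹) * u = t by group, e]
      _ = _ := by rw [ht']; group
  · rintro _ ⟨b, hb, rfl⟩
    exact mul_mem (mul_mem hu (hB hb)) (inv_mem hu)
  · rintro _ ⟨b, hb, rfl⟩
    refine mem_cent1.2 ?_
    show u * w * u⁻¹ * (u * b * u⁻¹) = u * b * u⁻¹ * (u * w * u⁻¹)
    calc _ = u * (w * b) * u⁻¹ := by group
      _ = _ := by rw [mem_cent1.1 (hc hb)]; group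
  · have k := hV (MulAut.conj u⁻¹ • V) (by rwa [← Nat.card_congr (equivSMul (MulAut.conj u⁻¹) V).toEquiv])
      (by
        rintro _ ⟨a, ha, rfl⟩
        refine mem_cent1.2 ?_
        show t * (u⁻¹ * a * u⁻¹⁻¹) = u⁻¹ * a * u⁻¹⁻¹ * t
        calc _ = u⁻¹ * (u * t * u⁻¹ * a) * u := by group
          _ = u⁻¹ * (a * (u * t * u⁻¹)) * u := by rw [ht', mem_cent1.1 (h2 ha)]
          _ = _ := by group)
      (fun b hb => by
        have := norm_conj (g := u⁻¹) (h3 (smul_mem_pointwise_smul _ (MulAut.conj u) _ hb))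
        rwa [show u⁻¹ * (MulAut.conj u • b) * u⁻¹⁻¹ = b by
          show u⁻¹ * (u * b * u⁻¹) * u⁻¹⁻¹ = b; group] at this)
      (smul_mem_pointwise_smul _ (MulAut.conj u⁻¹) _ hv)
    have k' : x * (u⁻¹ * v * u⁻¹⁻¹) = u⁻¹ * v * u⁻¹⁻¹ * x := mem_cent1.1 k
    refine mem_cent1.2 ?_
    calc _ = u * (x * (u⁻¹ * v * u⁻¹⁻¹)) * u⁻¹ := by group
      _ = _ := by rw [k']; group

omit [Finite G] in
/-- an abelian group generated by involutions is elementary -/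
theorem ge_omega {M : Subgroup G} (ab : ∀ a ∈ M, ∀ b ∈ M, a * b = b * a) :
    ∃ Ω : Subgroup G, ∀ g, g ∈ Ω ↔ g ∈ M ∧ g * g = 1 :=
  ⟨{ carrier := {g | g ∈ M ∧ g * g = 1}
     one_mem' := ⟨one_mem _, one_mul 1⟩
     mul_mem' := fun {a b} ha hb => ⟨mul_mem ha.1 hb.1, by
       calc _ = a * (b * a) * b := by group
         _ = a * a * (b * b) := by rw [← ab a ha.1 b hb.1]; group
         _ = 1 := by rw [ha.2, hb.2, one_mul]⟩
     inv_mem' := fun {a} ha => ⟨inv_mem ha.1, by rw [← mul_inv_rev, ha.2, inv_one]⟩ }, fun _ => Iff.rfl⟩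

omit [Finite G] in
theorem ge_dec {A B : Subgroup G} (h : A ≤ normalizer (B : Set G)) {g : G} (hg : g ∈ A ⊔ B) :
    ∃ a ∈ A, ∃ b ∈ B, a * b = g := by
  have : g ∈ ((A ⊔ B : Subgroup G) : Set G) := hg
  rwa [coe_mul_of_left_le_normalizer_right _ _ h] at this

/-- the data of the two parabolic subgroups -/
def geT : Bool → List R4
  | false => [33, 34, 35, 36, 37, 38, 39, 40, 41, 42, 43, 44, 45, 46, 47]
  | true => [30, 31, 32, 37, 38, 39, 40, 41, 42, 43, 44, 45, 46, 47]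

def geA : Bool → List R4
  | false => [41, 42, 43, 44, 45, 46, 47]
  | true => [40, 44, 45, 46, 47]

def geA' : Bool → List R4
  | false => []
  | true => [37, 38, 39]

def geP : Bool → List R4
  | false => [15, 16, 17, 18, 19, 20, 21, 22, 23] ++ posL4
  | true => 14 :: posL4

theorem ge_el : ∀ i, ElG (geT i) (geA i) (geA' i) := by decide +kernel

theorem ge_el' : ∀ i, (∀ a ∈ geA i ++ geA' i, a ∈ geT i) ∧ (∀ a ∈ geA i, ∀ b ∈ geA i ++ geA' i, Cc a b) ∧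
    (∀ a ∈ geA' i, ∀ b ∈ geA' i, 0 ≤ ip4 a b) ∧ ∀ a : R4, 24 ≤ a.1 → ∀ b ∈ geT i, CzL (geT i) a b :=
  fun i => ⟨by revert i; decide +kernel, by revert i; decide +kernel, by revert i; decide +kernel,
    by revert i; decide +kernel⟩

theorem ge_tab : ∀ i, (∀ a ∈ geP i, ∀ b ∈ geT i, CzL (geT i) a b) ∧ (∀ r ∈ posL4, r ∈ geP i) ∧
    ∀ r ∈ geT i, 27 ≤ r.1 ∧ Yr 44 r := by
  decide +kernel

theorem ge_ls : ∀ m : R4, 27 ≤ m.1 → Lg m → ∃ b : R4, 24 ≤ b.1 ∧ 24 ≤ (rf4 b m).1 ∧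
    24 ≤ (rf4 (rf4 b m) b).1 ∧ Ls (rf4 b m) b (rf4 (rf4 b m) b) m := by
  decide +kernel

theorem ge_simple : ∀ i : Fin 4, ΦF4.simple i ∈ geP true ∧ ∃ j, (ΦF4.simple i).rev ∈ geP j := by
  obtain ⟨e0, e1, e2, e3⟩ := simple4
  intro i
  fin_cases i
  · show ΦF4.simple 0 ∈ geP true ∧ ∃ j, (ΦF4.simple 0).rev ∈ geP j
    rw [e0]; decide
  · show ΦF4.simple 1 ∈ geP true ∧ ∃ j, (ΦF4.simple 1).rev ∈ geP j
    rw [e1]; decide
  · show ΦF4.simple 2 ∈ geP true ∧ ∃ j, (ΦF4.simple 2).rev ∈ geP j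
    rw [e2]; decide
  · show ΦF4.simple 3 ∈ geP true ∧ ∃ j, (ΦF4.simple 3).rev ∈ geP j
    rw [e3]; decide

/-- `S₀ ∩ L = U` -/
theorem Gr.ge_inf {t : G} {Z : R4 → Subgroup G} {δ : F} {y : R4 → KK δ → G} (h : Gr S t Z δ y) {x : G}
    (h1 : x ∈ UGe S y 24 ⊔ zpowers t) (h2 : x ∈ S.grp) : x ∈ S.U := by
  rcases mem_sup_inv h.t2 (h.t_norm _) h1 with e | e
  · exact U_eq_Ug.ge (h.inf_L le_rfl e h2)
  · have := S.UU_le_grp _ (h.fix le_rfl e (by rw [← mul_assoc, ← h.toSit.com h2]))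
    exact absurd ((Subgroup.mul_mem_cancel_left _ h2).1 this) h.toSit.t_not_mem

namespace GS

variable {t : G} {Z : R4 → Subgroup G} {δ : F} {y : R4 → KK δ → G} {Gs : Subgroup G} (h : GS S t Z δ y Gs)
include h

theorem cj {g : G} (hg : g * t * g⁻¹ ∈ UGe S y 24 ⊔ zpowers t) : ∃ u ∈ UGe S y 24, g * t * g⁻¹ = u * t * u⁻¹ := by
  rcases mem_sup_inv h.t2 (h.t_norm _) hg with e | e
  · have := h.glob.nrm.conj_mem _ (h.G0_le h.glob (UG_mono (Set.subset_univ _) e)) g⁻¹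
    rw [show g⁻¹ * (g * t * g⁻¹) * g⁻¹⁻¹ = t by group] at this
    exact absurd this h.nt
  · have k : g * t * g⁻¹ * t * t = g * t * g⁻¹ := by rw [mul_assoc _ t t, h.t2, mul_one]
    obtain ⟨u, hu, e'⟩ := h.cjt e (isConj_iff.2 ⟨g, k.symm⟩)
    exact ⟨u, hu, k ▸ e'⟩

theorem S_le : UGe S y 24 ⊔ zpowers t ≤ normalizer (GG0 S y : Set G) :=
  sup_le ((UG_mono (Set.subset_univ _)).trans le_normalizer) (zpowers_le.2 (h.t_norm _))

theorem sylG {K : Subgroup G} (hK : UGe S y 24 ⊔ zpowers t ≤ K) {P : Subgroup G} (h1 : P ≤ K) (hP : IsPGroup 2 P) :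
    ∃ g ∈ K, ∀ p ∈ P, g * p * g⁻¹ ∈ UGe S y 24 ⊔ zpowers t := by
  obtain ⟨S', k1, -, k3, k4⟩ := exists_syl h.pg_S hK
  obtain ⟨g, hg, e⟩ := k4 P h1 hP
  exact ⟨g, hg, fun p hp => h.syl S' k3 (le_sup_left.trans k1) (k1 (mem_sup_right (mem_zpowers t))) (e p hp)⟩

/-- **(U)** -/
theorem u : U (normalizer (GG0 S y : Set G)) t := by
  refine ⟨h.t2, h.t_norm _, fun g hg => ?_⟩
  obtain ⟨k, hk, e⟩ := h.sylG h.S_le (zpowers_le.2 hg) (pgroup_zpowers_of_sq (by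
    rw [conj_mul, h.t2]; group))
  obtain ⟨u, hu, e'⟩ := h.cj (g := k * g) (by simpa [mul_assoc] using e _ (mem_zpowers _))
  have := h.cent_le (x := u⁻¹ * (k * g)) (mem_cent1.2 (by
    calc _ = u⁻¹ * (u * t * u⁻¹) * (k * g) := by group
      _ = _ := by rw [← e']; group))
  exact (Subgroup.mul_mem_cancel_left _ hk).1
    ((Subgroup.mul_mem_cancel_left _ (inv_mem (h.S_le (mem_sup_left hu)))).1 this)

/-- `U ⟨t⟩` lies in a unique Sylow subgroup -/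
theorem uniq_syl {P : Subgroup G} (hP : IsPGroup 2 P) (hU : S.U ≤ P) (ht : t ∈ P) :
    P ≤ UGe S y 24 ⊔ zpowers t := by
  have A := h.amb
  obtain ⟨g, -, e⟩ := h.sylG (K := ⊤) le_top le_top hP
  obtain ⟨u, hu, e'⟩ := h.cj (e t ht)
  have hc : u⁻¹ * g * t = t * (u⁻¹ * g) := by
    calc _ = u⁻¹ * (g * t * g⁻¹) * g := by group
      _ = _ := by rw [e']; group
  have hS : ∀ p ∈ P, u⁻¹ * g * p * (u⁻¹ * g)⁻¹ ∈ UGe S y 24 ⊔ zpowers t := fun p hp => by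
    have := mul_mem (mul_mem (inv_mem (mem_sup_left hu)) (e p hp)) (mem_sup_left hu)
    rwa [show u⁻¹ * (g * p * g⁻¹) * u = u⁻¹ * g * p * (u⁻¹ * g)⁻¹ by group] at this
  generalize u⁻¹ * g = k at hc hS
  obtain ⟨l, hl, s, hs, rfl⟩ := h.cent_eq hc
  obtain ⟨-, σ, hσ⟩ := id hs
  have hn : l ∈ normalizer (S.U : Set G) := mem_normalizer_fintype fun x hx => by
    have := hS _ (hU (conj_mem' (hσ.norm _) hx))
    rw [show l * s * (s⁻¹ * x * s) * (l * s)⁻¹ = l * x * l⁻¹ by group] at this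
    exact h.ge_inf this (mul_mem (mul_mem hl (S.U_le_grp hx)) (inv_mem hl))
  obtain ⟨v, hv, a, ha, τ, hτ⟩ := A.aut_B (le_normalizer hl) hn
  have hL : a * v * l ∈ S.grp := mul_mem (mul_mem (S.H_le_grp ha) (S.U_le_grp hv)) hl
  have h1 := h.StS_norm {r | 24 ≤ r.1} (x := a * v * l)
    ⟨h.toSit.com hL, τ, hτ.resolve_right fun e => A.stG_N0 e (mem_sup_left hL)⟩
  have h2 := (Subgroup.mul_mem_cancel_left _ (mul_mem (h.H_norm _ ha) (le_normalizer (U_le_UGe hv)))).1 h1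
  have h3 := norm_sup_zpowers (e := t) (mul_mem h2 (h.StS_norm _ hs))
    (by rw [hc, mul_inv_cancel_right]; exact mem_sup_right (mem_zpowers t))
  exact fun p hp => (mem_normalizer_iff.1 h3 p).2 (hS p hp)

theorem iso_of {E G1 : Subgroup G} (hE : E ≤ UGe S y 24 ⊔ zpowers t) (hU : S.U ≤ normalizer (E : Set G))
    (ht : t ∈ normalizer (E : Set G)) (h1 : ∀ m ∈ centralizer (E : Set G), ∀ u ∈ UGe S y 24,
      m * t * m⁻¹ = u * t * u⁻¹ → t⁻¹ * (m * t * m⁻¹) ∈ E) : Iso G1 t E := by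
  intro m _ hm P hP _ hP2 hP3
  have h0 : E ⊔ (S.U ⊔ zpowers t) ≤ UGe S y 24 ⊔ zpowers t := sup_le hE (sup_le_sup_right U_le_UGe _)
  have hN : E ⊔ (S.U ⊔ zpowers t) ≤ normalizer (E : Set G) :=
    sup_le le_normalizer (sup_le hU (zpowers_le.2 ht))
  have hT : t ∈ E ⊔ (S.U ⊔ zpowers t) := mem_sup_right (mem_sup_right (mem_zpowers t))
  obtain ⟨S', k1, -, k3, k4⟩ := exists_syl (K := E ⊔ (S.U ⊔ zpowers t) ⊔ centralizer (E : Set G))
    (h.pg_S.to_le h0) le_sup_left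
  have k5 := h.uniq_syl k3 ((le_sup_left.trans le_sup_right).trans k1) (k1 hT)
  obtain ⟨g, hg, e⟩ := k4 (P ⊓ _) inf_le_right hP.to_inf_left
  obtain ⟨p, hp, c, hc, rfl⟩ := ge_dec (hN.trans (Core.normalizer_le_normalizer_centralizer _)) hg
  have key : ∀ n ∈ centralizer (E : Set G), n * t * n⁻¹ ∈ P → t⁻¹ * (c * n * t * (c * n)⁻¹) ∈ E :=
    fun n hn hn' => by
      have e1 := k5 (e _ ⟨hn', mul_mem (mul_mem (mem_sup_right hn) (mem_sup_left hT))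
        (Subgroup.inv_mem _ (mem_sup_right hn))⟩)
      have e2 := mul_mem (mul_mem (inv_mem (h0 hp)) e1) (h0 hp)
      rw [show p⁻¹ * (p * c * (n * t * n⁻¹) * (p * c)⁻¹) * p = c * n * t * (c * n)⁻¹ by group] at e2
      obtain ⟨u, hu, e3⟩ := h.cj e2
      exact h1 _ (mul_mem hc hn) u hu e3
  have := conj_mem' (centralizer_le_normalizer _ hc)
    (mul_mem (inv_mem (key 1 (one_mem _) (by simpa using hP2))) (key m hm hP3))
  rwa [show c⁻¹ * ((t⁻¹ * (c * 1 * t * (c * 1)⁻¹))⁻¹ * (t⁻¹ * (c * m * t * (c * m)⁻¹))) * c =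
    t⁻¹ * (m * t * m⁻¹) by group] at this

theorem iso_el {T A A' : List R4} (hc : ElG T A A') (h1 : (∀ a ∈ A ++ A', a ∈ T) ∧ (∀ a ∈ A, ∀ b ∈ A ++ A', Cc a b) ∧
    (∀ a ∈ A', ∀ b ∈ A', 0 ≤ ip4 a b) ∧ ∀ a : R4, 24 ≤ a.1 → ∀ b ∈ T, CzL T a b) {G1 : Subgroup G} :
    Iso G1 t (UL S T) := by
  have R := h.rt
  obtain ⟨k1, k2, k3, k4⟩ := h1
  have hU : UL S T ≤ S.U := UU_le_U4 hc.1
  have ht : t ∈ centralizer (UL S T : Set G) := mem_cent.2 fun e he => h.toSit.com (S.UU_le_grp _ he)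
  refine h.iso_of ((hU.trans U_le_UGe).trans le_sup_left)
    (U_eq_Ug.le.trans (h.amb.norm_UU fun a ha b hb => (k4 a ha b hb).cz))
    (centralizer_le_normalizer _ ht) fun m hm u hu e => ?_
  have x1 : t⁻¹ * (m * t * m⁻¹) ∈ UGe S y 24 := by
    rw [e, ← mul_assoc, ← mul_assoc]
    exact mul_mem (conj_mem' (h.t_norm _) hu) (inv_mem hu)
  have x2 := mul_mem (inv_mem ht) (mul_mem (mul_mem hm ht) (inv_mem hm))
  have x3 : t⁻¹ * (m * t * m⁻¹) * (t⁻¹ * (m * t * m⁻¹)) = 1 →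
      t⁻¹ * (m * t * m⁻¹) * t = t * (t⁻¹ * (m * t * m⁻¹)) := fun e1 => by
    have ti : t⁻¹ = t := inv_eq_of_mul_eq_one_right h.t2
    rw [ti] at e1 ⊢
    calc _ = t * (m * t * m⁻¹) * (t * (m * t * m⁻¹)) * (m * t⁻¹ * m⁻¹) := by group
      _ = _ := by rw [e1, ti, ← mul_assoc t t, h.t2]
  generalize t⁻¹ * (m * t * m⁻¹) = x at x1 x2 x3 ⊢
  have c1 : ∀ a ∈ UGL S y A, ∀ b ∈ UL S A', a * b = b * a := fun a ha b hb =>
    R.commute_UG (fun r hr s hs => k2 r hr s (List.mem_append_right _ hs)) ha (UU_le_UG _ hb)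
  obtain ⟨a, ha, b, hb, rfl⟩ := ge_dec (fun a ha => centralizer_le_normalizer _
    (mem_cent.2 fun b hb => (c1 a ha b hb).symm))
    (h.elimG hc x1 fun a ha => (mem_cent.1 x2 _ (S.x_mem_UU ha 1)).symm)
  obtain ⟨Ω, hΩ⟩ := ge_omega (M := UGL S y A) fun a ha b hb =>
    R.commute_UG (fun r hr s hs => k2 r hr s (List.mem_append_left _ hs)) ha hb
  obtain ⟨Ω', hΩ'⟩ := ge_omega (M := UL S A') fun a ha b hb => h.amb.commute_UU k3 ha hb
  have a2 := ((hΩ a).1 (UG_le (fun r hr g hg => (hΩ g).2 ⟨XG_le hr hg, R.XG_sq hg⟩) ha)).2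
  have b2 := ((hΩ' b).1 (S.UU_le_iff.2
    (fun r hr c => (hΩ' _).2 ⟨S.x_mem_UU hr c, h.amb.x_sq r c⟩) hb)).2
  have x4 := x3 (by
    calc _ = a * (b * a) * b := by group
      _ = a * a * (b * b) := by rw [← c1 a ha b hb]; group
      _ = 1 := by rw [a2, b2, one_mul])
  rw [mul_assoc, h.toSit.com (S.UU_le_grp _ hb), ← mul_assoc, ← mul_assoc, mul_left_inj] at x4
  exact mul_mem (S.UU_mono (fun r hr => k1 r (List.mem_append_left _ hr))
    (h.fixT (fun r hr s hs => (k2 r hr s (List.mem_append_left _ hs)).cg)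
      (fun r hr => hc.1 r (k1 r (List.mem_append_left _ hr))) ha x4))
    (S.UU_mono (fun r hr => k1 r (List.mem_append_right _ hr)) hb)

theorem uw : UW (normalizer (GG0 S y : Set G)) t S.U := by
  have A := h.amb
  obtain ⟨X, hX⟩ : ∃ X : Set G, X = {x | ∃ u ∈ S.U, ∃ r : R4, 24 ≤ r.1 ∧ ¬ Lg r ∧ ∃ c, c ≠ 0 ∧
    x = u * S.x r c * u⁻¹} := ⟨_, rfl⟩
  have x0 : ∀ u ∈ S.U, ∀ r : R4, 24 ≤ r.1 → ¬ Lg r → ∀ c, u * S.x r c * u⁻¹ ∈ closure X :=
    fun u hu r hr hs c => by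
      by_cases hc : c = 0
      · rw [hc, S.x_zero, mul_one, mul_inv_cancel]; exact one_mem _
      · exact subset_closure (hX ▸ ⟨u, hu, r, hr, hs, c, hc, rfl⟩)
  have x1 : ∀ r : R4, 24 ≤ r.1 → ¬ Lg r → ∀ c, S.x r c ∈ closure X := fun r hr hs c => by
    simpa using x0 1 (one_mem _) r hr hs c
  have x2 : ∀ r : R4, 27 ≤ r.1 → ∀ c, S.x r c ∈ closure X := fun r hr c => by
    by_cases hs : Lg r
    · obtain ⟨b, h1, h2, h3, h4⟩ := ge_ls r hr hs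
      have := x0 _ (x_mem_U4 h2 c) b h1 h4.2.1 1
      rw [A.conj_ls h4, one_pow, mul_one] at this
      exact (Subgroup.mul_mem_cancel_left _ (x1 _ h3 h4.ip.2.1 c)).1
        ((Subgroup.mul_mem_cancel_left _ (x1 b h1 h4.2.1 1)).1 this)
    · exact x1 r (by omega) hs c
  have hRU : ∀ i, UL S (geT i) ≤ S.U := fun i => UU_le_U4 (ge_el i).1
  have s44 : ¬ Lg 44 := by decide
  refine UWData.uw (L := S.grp) (Zh := Z 44) (X := X) (R := fun i => UL S (geT i)) (P := fun i => UL S (geP i))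
    ⟨⟨true⟩, ?_, fun l hl => mem_cent1.2 (h.toSit.com hl).symm,
      fun i => U_eq_UL.le.trans (S.UU_mono (ge_tab i).2.1), fun i => S.UU_le_grp _, ?_, fun K hK h1 => ?_,
      fun i => S.UU_le_iff.2 fun r hr => x2 r ((ge_tab i).2.2 r hr).1, fun i => A.pg_U.to_le (hRU i),
      fun i => A.norm_UL (ge_tab i).1, fun i hi => h.toSit.t_not_mem (S.UU_le_grp _ hi),
      fun i => h.iso_el (ge_el i) (ge_el' i),
      fun i z hz => h0_cen fun r hr c => h.toH1.cx' s44 ((ge_tab i).2.2 r hr).2 hz c,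
      fun z hz => ?_, fin_of (fun K hK h1 => ?_) ?_⟩ h.u
  · rw [hX]
    rintro _ ⟨u, hu, r, hr, hs, c, hc, rfl⟩
    exact hat_conj (h.toH1.hat hs hr hc) hu (h.toSit.com (S.U_le_grp hu))
  · have e := S.UU_simple_eq Set.univ
    rw [show {r | ΦF4.InSub Set.univ r} = Set.univ from Set.eq_univ_of_forall ΦF4.inSub_univ] at e
    rw [StSys.grp, ← e]
    refine S.UU_le_iff.2 ?_
    rintro r ⟨i, -, rfl | rfl⟩ c
    · exact mem_iSup_of_mem true (S.x_mem_UU (ge_simple i).1 c)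
    · obtain ⟨j, hj⟩ := (ge_simple i).2
      rw [neg4]
      exact mem_iSup_of_mem j (S.x_mem_UU hj c)
  · refine S.UU_le_iff.2 fun r _ c => ?_
    obtain ⟨L, e⟩ := trans1 (Amb.bru_lg_top r)
    rw [← e, ← A.ex_nw L]
    refine conj_mem (hK (nw_mem L)) ((closure_le K).2 h1 (x2 _ ?_ c))
    unfold top
    split_ifs <;> decide
  · obtain ⟨c, hc⟩ := h.toH1.ovr s44 hz
    rw [hc, inv_mul_cancel_left]
    exact x2 _ (by decide) c
  · rw [← h.G0_eq] at hK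
    exact (le_sup_right.trans h.G0_eq.ge).trans (h.rt.le_of_norm hK h1)
  · rw [← h.G0_eq]
    exact centralizer_le_normalizer _

end GS

end CfsgLib.SLF
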