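import Mathlib
import Cfsg.Agent.Lib.SLF.GE

/-!
# The graph case: linearity lemmas
-/

set_option autoImplicit false
set_option linter.unusedSectionVars false

namespace CfsgLib.SLF

open Cfsg.Lie CfsgLib.RGD CfsgLib.Stein CfsgLib.Semi CfsgLib.SLE CfsgLib.UFP Subgroup
open scoped commutatorElement Pointwise

universe u

variable {F : Type} [Field F] [Finite F] [CharP F 2] {G : Type u} [Group G] [Finite G]
  {S : StSys ΦF4 F G}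

/-- the long roots `b + r`, `r` positive -/
abbrev gfK (b : R4) : Set R4 := {m | Lg m ∧ ip4 m b = 2 ∧ b < m}

theorem gf_k : ∀ b : R4, ¬ Lg b → ∀ s : R4, 24 ≤ s.1 → 0 ≤ ip4 s b → ∀ m, Lg m → ip4 m b = 2 → b < m →
    0 ≤ ip4 s m ∨ (s.1 + m.1 ≠ 47 ∧ (Lg (rf4 s m) ∧ ip4 (rf4 s m) b = 2 ∧ b < rf4 s m) ∧
      Lg (rf4 m s) ∧ ip4 (rf4 m s) b = 2 ∧ b < rf4 m s) := by decide +kernel

theorem gf_neg : ∀ b : R4, 24 ≤ b.1 → ¬ Lg b → ∀ s : R4, 24 ≤ s.1 → ip4 s b < 0 →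
    Ad s b (rf4 s b) ∧ ¬ Lg (rf4 s b) := by decide +kernel

theorem gf_y : ∀ b : R4, ¬ Lg b → ∀ s : R4, 0 ≤ ip4 s b → ∀ m, Lg m → ip4 m b = 2 →
    0 ≤ ip4 s m ∨ (s.1 + m.1 ≠ 47 ∧ (rf4 s m = b ∨ Lg (rf4 s m) ∧ ip4 (rf4 s m) b = 2) ∧
      (rf4 m s = b ∨ Lg (rf4 m s) ∧ ip4 (rf4 m s) b = 2)) := by decide +kernel

theorem gf_44 : ∀ m : R4, Lg m → ip4 m 44 = 2 → 24 ≤ m.1 ∧ ∀ m', Lg m' → ip4 m' 44 = 2 → 0 ≤ ip4 m m' := by
  decide +kernel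

theorem Ot.ip2 {a b m : R4} (h : Ot a b m) : ip4 m b = 2 := by
  rw [h.2.2.1.ip, h.ip, (sh_iff b).1 h.2.1]; rfl

theorem Iso4.cl {w : R4 → R4} (hw : Iso4 w) : Cl {r | 24 ≤ r.1 ∧ 24 ≤ (w r).1} := by
  have k : ∀ {a b k : R4}, Ad a b k → 24 ≤ a.1 → 24 ≤ b.1 → 24 ≤ k.1 := fun e ha hb => ha.trans (e.lt hb).le
  refine ⟨fun a ha b hb c e => ⟨k e.1 ha.1 hb.1, k (hw.ad e.1) ha.2 hb.2⟩, fun a ha b hb c m e => ?_⟩
  have h1 := k e.2.2.1 ha.1 hb.1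
  have h2 := k (hw.ad e.2.2.1) ha.2 hb.2
  exact ⟨⟨h1, h2⟩, k e.2.2.2 h1 hb.1, k (hw.ad e.2.2.2) h2 hb.2⟩

namespace Gr

variable {t : G} {Z : R4 → Subgroup G} {δ : F} {y : R4 → KK δ → G} (h : Gr S t Z δ y)
include h

theorem gf_U : Ulg S ≤ UGe S y 24 := (S.UU_mono fun _ hr => hr.1).trans (UU_le_UG _)

theorem gf_split {T : Set R4} {n : ℕ} (hn : 24 ≤ n) (hT : ∀ r ∈ T, (24 ≤ r.1 ∧ Lg r) ∨ n ≤ r.1) {u : G}
    (hu : u ∈ UG S y T) : ∃ w ∈ Ulg S, w⁻¹ * u ∈ UGe S y n := by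
  refine UG_ind (P := fun u => ∃ w ∈ Ulg S, w⁻¹ * u ∈ UGe S y n) ⟨1, one_mem _, by simp⟩ ?_ hu
  rintro r hr g hg u - ⟨w, hw, e⟩
  rcases hT r hr with k | k
  · obtain ⟨c, rfl⟩ := (h.rt.mem_XG_long k.2).1 hg
    have m : S.x r c ∈ Ulg S := S.x_mem_UU k c
    refine ⟨w * S.x r c, mul_mem hw m, ?_⟩
    have := UFP.conj_mem' (h.rt.norm_UGe hn (h.gf_U m)) e
    rwa [show (S.x r c)⁻¹ * (w⁻¹ * u) * S.x r c = (w * S.x r c)⁻¹ * (u * S.x r c) by group] at this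
  · exact ⟨w, hw, mul_assoc w⁻¹ u g ▸ mul_mem e (XG_le (T := {r | n ≤ r.1}) k hg)⟩

theorem linG {b : R4} (hb : 24 ≤ b.1) (hs : ¬ Lg b) {n : ℕ} (hn : 24 ≤ n) {a : G} (ha : a ∈ UGe S y 24)
    (h1 : a * S.x b 1 * a⁻¹ * (S.x b 1)⁻¹ ∈ UGe S y n) (v : KK δ) :
    ∃ w ∈ Ulg S, w⁻¹ * (a * y b v * a⁻¹ * (y b v)⁻¹) ∈ UGe S y n := by
  have R := h.rt
  obtain ⟨T, hT⟩ : ∃ T : Set R4, T = gfK b ∪ {r | n ≤ r.1} := ⟨_, rfl⟩
  have sp : ∀ {u}, u ∈ UG S y T → ∃ w ∈ Ulg S, w⁻¹ * u ∈ UGe S y n := h.gf_split hn fun r hr => by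
    rw [hT] at hr
    exact hr.imp (fun k => ⟨hb.trans k.2.2.le, k.1⟩) id
  have l1 : gfK b ⊆ T := hT ▸ Set.subset_union_left
  have l2 : {r : R4 | n ≤ r.1} ⊆ T := hT ▸ Set.subset_union_right
  refine sp ?_
  replace h1 := UG_mono l2 h1
  revert h1
  refine ind_UGe (P := fun a => a * S.x b 1 * a⁻¹ * (S.x b 1)⁻¹ ∈ UG S y T →
    a * y b v * a⁻¹ * (y b v)⁻¹ ∈ UG S y T) (fun _ => by simp) (fun s hs' u hu ih h1 => ?_) ha
  obtain ⟨g, hg, h3⟩ := R.peel hs' hu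
  by_cases e : 0 ≤ ip4 s b
  · obtain ⟨u', rfl⟩ : ∃ u', u = g * u' := ⟨_, (mul_inv_cancel_left _ _).symm⟩
    rw [inv_mul_cancel_left] at h3
    have N : g ∈ normalizer (UG S y T : Set G) := R.norm_UG (T := {s}) (fun _ e1 m hm => by
      obtain rfl : _ = s := e1
      rw [hT] at hm
      rcases hm with hm | hm
      · exact Cg.mono ⟨cz_iff.2 (gf_k b hs _ hs' e m hm.1 hm.2.1 hm.2.2), fun _ k => absurd hm.1 k.2.1⟩ l1
      · exact (cg_lt hs' (hn.trans hm) (Nat.le_succ_of_le hm)).mono l2) hg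
    have C : ∀ {w}, w ∈ XG S y b → g * w * g⁻¹ * w⁻¹ ∈ UG S y T := R.comm_XG
      ⟨cz_iff.2 (Or.inl e), fun m k => l1 ⟨k.2.2.2, k.ip2, k.2.2.1.symm.lt hs'⟩⟩ hg
    have k : ∀ w, g * u' * w * (g * u')⁻¹ * w⁻¹ = g * (u' * w * u'⁻¹ * w⁻¹) * g⁻¹ * (g * w * g⁻¹ * w⁻¹) :=
      fun w => by group
    rw [k] at h1 ⊢
    rw [mul_mem_cancel_right (C (x_mem_XG b 1))] at h1
    exact mul_mem (UFP.conj_mem N (ih u' h3 ((mem_normalizer_iff.1 N _).2 h1))) (C (y_mem_XG hs v))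
  obtain ⟨f, fs⟩ := gf_neg b hb hs s hs' (not_le.1 e)
  generalize rf4 s b = k at f fs
  have e0 : wt s + wt b = wt k := f
  have hk : 24 ≤ k.1 := hs'.trans (f.lt hb).le
  by_cases hn' : n ≤ k.1
  · have wl : ∀ r s : R4, wt r ≤ wt s ↔ r.1 ≤ s.1 := fun r s => by
      rw [← not_lt, wt_lt, not_lt, Fin.le_def]
    have h4 := R.comm_wt ((wt_pos s).2 hs') ((wt_pos b).2 hb)
      (UG_mono (T := {r | s.1 ≤ r.1}) (T' := {r | wt s ≤ wt r}) (fun r hr => (wl s r).2 hr) hu)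
      (y_mem_UG (T := {r | wt b ≤ wt r}) (le_refl (wt b)) hs v)
    rw [e0] at h4
    exact UG_mono (T := {r | wt k ≤ wt r}) (fun r hr => l2 (hn'.trans ((wl k r).1 hr))) h4
  · have h4 := R.lead_comm hs' hb hg h3 (x_mem_XG b 1)
    rw [e0, ← UGe_eq_wt] at h4
    obtain ⟨g', hg', h5, h6⟩ := R.lead_x hs' hb (not_le.1 e) f hg
    obtain ⟨w, hw, h7⟩ := sp h1
    have h8 := mul_mem (UGe_mono (show k.1 + 1 ≤ n by omega) h7) (inv_mem (mul_mem h5 h4))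
    rw [h6 (h.lg_kill hk fs hw hg' (by convert h8 using 1; group)), inv_one, one_mul] at h3
    exact ih u h3 h1

theorem Y_conj {b : R4} (hs : ¬ Lg b) {p : G} (hp : p ∈ Y4 S b) (v : KK δ) :
    ∃ v', ∃ z ∈ S.UU {m | Lg m ∧ ip4 m b = 2}, p * y b v * p⁻¹ = y b v' * z := by
  have R := h.rt
  have N := R.norm_UG (T := {s | 0 ≤ ip4 s b}) (K := {m | m = b ∨ Lg m ∧ ip4 m b = 2}) fun s e m hm => by
    rcases hm with rfl | hm
    · exact ⟨cz_iff.2 (Or.inl e), fun m k => Or.inr ⟨k.2.2.2, k.ip2⟩⟩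
    · exact ⟨cz_iff.2 (gf_y b hs s e m hm.1 hm.2), fun _ k => absurd hm.1 k.2.1⟩
  refine UG_ind (P := fun u => ∃ v', ∃ z ∈ S.UU {m | Lg m ∧ ip4 m b = 2}, u = y b v' * z)
    ⟨0, 1, one_mem _, by rw [R.y_zero hs, one_mul]⟩ ?_
    (UFP.conj_mem (N (UU_le_UG _ hp)) (y_mem_UG (Or.inl rfl) hs v))
  rintro r hr g hg - - ⟨v', z, hz, rfl⟩
  rcases hr with rfl | hr
  · obtain ⟨w, rfl⟩ := (R.mem_XG_short hs).1 hg
    refine ⟨v' + w, z, hz, ?_⟩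
    rw [h.add _ hs, mul_assoc, mul_assoc, R.commute_UG (T' := {r}) (fun a ha c hc => ?_) (UU_le_UG _ hz) hg]
    obtain rfl : c = r := hc
    exact ⟨ha.2 ▸ by decide, Or.inl ha.1⟩
  · obtain ⟨c, rfl⟩ := (R.mem_XG_long hr.1).1 hg
    exact ⟨v', z * S.x r c, mul_mem hz (S.x_mem_UU hr c), mul_assoc _ _ _⟩

theorem inf_long {b : R4} (hs : ¬ Lg b) {z : G} (h1 : z ∈ S.UU {m | Lg m ∧ ip4 m b = 2}) (h2 : z ∈ S.U) :
    z ∈ Ulg S := by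
  have A := h.amb
  obtain ⟨L, e⟩ := trans1 (a := b) (a' := 44) (iff_of_false hs (by decide))
  have h3 : nw S L * z * (nw S L)⁻¹ ∈ S.UU {m | Lg m ∧ ip4 m 44 = 2} := (A.ex_nw L).conj_mem
    (T := {m | Lg m ∧ ip4 m b = 2}) (T' := {m | Lg m ∧ ip4 m 44 = 2})
    (fun r hr => And.intro (((iso_wd L).lg r).2 hr.1) (by rw [← e, iso_wd L, hr.2])) h1
  have p : ∀ r ∈ {m : R4 | Lg m ∧ ip4 m 44 = 2}, 24 ≤ r.1 := fun r hr => (gf_44 r hr.1 hr.2).1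
  have h4 := A.mem_of_ex (iso_wd L.reverse) (A.ex_nw_inv L) (UU_le_U4 p h3) (by simpa [mul_assoc] using h2)
  have h5 := (A.UU_inf (cl_of fun a ha c hc => cz_iff.2 (Or.inl ((gf_44 a ha.1 ha.2).2 c hc.1 hc.2))) p
    (iso_wd L.reverse).cl fun _ k => k.1).le ⟨h3, h4⟩
  have h6 := (A.ex_nw_inv L).conj_mem (T' := {r | 24 ≤ r.1 ∧ Lg r})
    (fun r hr => And.intro hr.2.2 (((iso_wd _).lg r).2 hr.1.1)) h5
  simpa [mul_assoc] using h6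

theorem gf_lead {r : R4} (hr : 24 ≤ r.1) (c : F) {w : G} (hw : w ∈ UGe S y 24) :
    w * S.x r c * w⁻¹ * (S.x r c)⁻¹ ∈ UGe S y (r + 1) :=
  h.rt.comm_UGe hr hw (x_mem_UG (T := {s | r.1 ≤ s.1}) (le_refl r.1) c)

theorem gf_zero {r : R4} (hr : 24 ≤ r.1) {c : F} (e : S.x r c ∈ UGe S y (r + 1)) : c = 0 :=
  h.amb.x_eq_one.1 (h.uniq hr (x_mem_XG r c) e)

theorem gf_lt {r s : R4} (hr : 24 ≤ r.1) (hs : 24 ≤ s.1) {c d : F} {u w : G} (hu : u ∈ UGe S y 24)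
    (hw : w ∈ UGe S y 24) (e : u * S.x r c * u⁻¹ = w * S.x s d * w⁻¹) (k : r < s) : c = 0 := by
  have h1 := h.gf_lead hr c hu
  have h2 : w * S.x s d * w⁻¹ ∈ UGe S y (r + 1) := UFP.conj_mem (h.rt.norm_UGe (by omega) hw)
    (x_mem_UG (T := {s | r.1 + 1 ≤ s.1}) k d)
  rw [e, mul_mem_cancel_left h2, inv_mem_iff] at h1
  exact h.gf_zero hr h1

/-- the reduction to `L` -/
theorem gf_red {m u : G} (hu : u ∈ UGe S y 24) (e : m * t * m⁻¹ = u * t * u⁻¹) :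
    ∃ l ∈ S.grp, ∃ s σ, Std S s σ ∧ s * t = t * s ∧ m = u * l * s := by
  obtain ⟨l, hl, s, ⟨h1, σ, h2⟩, e'⟩ := h.cent_eq (g := u⁻¹ * m) (by
    calc _ = u⁻¹ * (m * t * m⁻¹) * m := by group
      _ = _ := by rw [e]; group)
  exact ⟨l, hl, s, σ, h2, h1, by rw [mul_assoc, ← e', mul_inv_cancel_left]⟩

theorem lin2G {b : R4} (hb : 24 ≤ b.1) (hs : ¬ Lg b) {v : KK δ} {m u : G} (h1 : m * S.x b 1 = S.x b 1 * m)
    (h2 : m * (y b v * t) = y b v * t * m) (hu : u ∈ UGe S y 24) (e : m * t * m⁻¹ = u * t * u⁻¹) :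
    t⁻¹ * (m * t * m⁻¹) ∈ UGe S y b := by
  have R := h.rt
  have A := h.amb
  obtain ⟨l, hl, s, σ, sd, st, rfl⟩ := h.gf_red hu e
  have e1 : l * S.x b 1 * l⁻¹ = u⁻¹ * S.x b 1 * u⁻¹⁻¹ := by
    calc _ = u⁻¹ * (u * l * (s * S.x b 1 * s⁻¹)) * l⁻¹ := by rw [sd, map_one]; group
      _ = u⁻¹ * (u * l * s * S.x b 1) * s⁻¹ * l⁻¹ := by group
      _ = _ := by rw [h1]; group
  have xb : S.x b 1 ∈ UGe S y 24 := x_mem_UG (T := {s | 24 ≤ s.1}) hb 1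
  obtain ⟨w, hw, b', hb', -, c, hc, e2⟩ := A.src hl (r := b) one_ne_zero (U_eq_Ug.ge (h.inf_L le_rfl
    (e1 ▸ mul_mem (mul_mem (inv_mem hu) xb) (inv_mem (inv_mem hu)))
    (mul_mem (mul_mem hl (S.x_mem_grp _ _)) (inv_mem hl))))
  have hw' := U_le_UGe (y := y) hw
  have e3 := e1.symm.trans e2
  obtain rfl : b' = b := le_antisymm (not_lt.1 fun k => one_ne_zero (h.gf_lt hb hb' (inv_mem hu) hw' e3 k))
    (not_lt.1 fun k => hc (h.gf_lt hb' hb hw' (inv_mem hu) e3.symm k))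
  obtain rfl : c = 1 := by
    have k := mul_mem (inv_mem (h.gf_lead hb 1 (inv_mem hu))) (h.gf_lead hb c hw')
    rw [e3, mul_inv_rev, inv_inv, mul_assoc, inv_mul_cancel_left, A.x_inv, ← S.x_add] at k
    linear_combination (exp := 1) (h.gf_zero hb k) - (CharTwo.two_eq_zero : (2 : F) = 0)
  obtain ⟨p, rfl⟩ : ∃ p, l = w * p := ⟨_, (mul_inv_cancel_left _ _).symm⟩
  have hp : p ∈ S.grp := (mul_mem_cancel_left (S.U_le_grp hw)).1 hl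
  have pY : p ∈ Y4 S b' := A.cent_x b' one_ne_zero ▸ ⟨hp, mem_cent1.2 (by
    calc _ = w⁻¹ * (w * S.x b' 1 * w⁻¹) * w * p := by group
      _ = _ := by rw [← e2]; group)⟩
  obtain ⟨f, hf, -⟩ := h.std_y sd st hs
  obtain ⟨v', z, hz, e4⟩ := h.Y_conj hs pY (f v)
  have pt := h.toSit.com hp
  obtain ⟨a, ha⟩ : ∃ a, a = (u * w)⁻¹ := ⟨_, rfl⟩
  have ha' : a ∈ UGe S y 24 := ha ▸ inv_mem (mul_mem hu hw')
  have em : u * (w * p) * s = a⁻¹ * p * s := by rw [ha]; group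
  rw [em] at h2 ⊢
  have et : p * s * t * (p * s)⁻¹ = t := by
    rw [mul_assoc p, st, ← mul_assoc, pt, mul_assoc t, mul_inv_cancel_right]
  have e5 : a * t * a⁻¹ * t⁻¹ = (a * y b' v * a⁻¹)⁻¹ * y b' v' * z := by
    calc _ = (a * y b' v * a⁻¹)⁻¹ * (a * (y b' v * t * (a⁻¹ * p * s)) * (p * s)⁻¹ * t⁻¹) := by group
      _ = (a * y b' v * a⁻¹)⁻¹ * (p * (s * y b' v * s⁻¹) * p⁻¹ * (p * s * t * (p * s)⁻¹) * t⁻¹) := by
        rw [← h2]; group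
      _ = _ := by rw [hf, e4, et]; group
  have yb : ∀ v, y b' v ∈ UGe S y b' := y_mem_UG (T := {s | b'.1 ≤ s.1}) (le_refl b'.1) hs
  have N := R.norm_UGe hb
  have hY := mul_mem (inv_mem (UFP.conj_mem (N ha') (yb v))) (yb v')
  have c1 : a * t * a⁻¹ * t⁻¹ ∈ UGe S y 24 := by
    have := mul_mem ha' (UFP.conj_mem (h.t_norm _) (inv_mem ha'))
    rwa [← mul_assoc, ← mul_assoc] at this
  have zU : z ∈ UGe S y 24 := by rwa [e5, mul_mem_cancel_left (UGe_mono hb hY)] at c1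
  have c2 := h.tlin hb ha' (h.inf_long hs hz (U_eq_Ug.ge (h.inf_L le_rfl zU (S.UU_le_grp _ hz)))) (by
    rw [e5, ← mul_assoc]
    exact UFP.conj_mem' (N zU) hY)
  have ti : t⁻¹ = t := inv_eq_of_mul_eq_one_right h.t2
  have c3 := UFP.conj_mem' (N ha') c2
  rw [show a⁻¹ * p * s * t * (a⁻¹ * p * s)⁻¹ = a⁻¹ * (p * s * t * (p * s)⁻¹) * a by group, et, ti]
  rwa [ti, show a⁻¹ * (a * t * a⁻¹ * t) * a = t * (a⁻¹ * t * a) by group] at c3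

theorem eq_of_ta {m u : G} (h1 : m * (t * S.x 47 1) = t * S.x 47 1 * m) (hu : u ∈ UGe S y 24)
    (e : m * t * m⁻¹ = u * t * u⁻¹) : m * t * m⁻¹ = t := by
  have R := h.rt
  have A := h.amb
  obtain ⟨l, hl, s, σ, sd, st, rfl⟩ := h.gf_red hu e
  have ti : t⁻¹ = t := inv_eq_of_mul_eq_one_right h.t2
  have ca := mem_cent.1 (R.x47_cen 1)
  have a47 : ∀ {n}, n ≤ 47 → S.x 47 1 ∈ UGe S y n := fun hn => x_mem_UG (T := {s | _ ≤ s.1}) hn 1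
  have e1 : l * S.x 47 1 * l⁻¹ = (u⁻¹ * t * u⁻¹⁻¹ * t⁻¹)⁻¹ * S.x 47 1 := by
    calc _ = t⁻¹ * (t * l) * (s * S.x 47 1 * s⁻¹) * l⁻¹ := by rw [sd, map_one]; group
      _ = t⁻¹ * l * (t * s) * S.x 47 1 * s⁻¹ * l⁻¹ := by rw [← h.toSit.com hl]; group
      _ = t⁻¹ * u⁻¹ * (u * l * s * (t * S.x 47 1)) * s⁻¹ * l⁻¹ := by rw [← st]; group
      _ = t⁻¹ * u⁻¹ * t * (S.x 47 1 * u) := by rw [h1]; group
      _ = t * u⁻¹ * t⁻¹ * u * S.x 47 1 := by rw [← ca u hu, ti]; group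
      _ = _ := by group
  have c1 : u⁻¹ * t * u⁻¹⁻¹ * t⁻¹ ∈ UGe S y 24 := by
    have := mul_mem (inv_mem hu) (UFP.conj_mem (h.t_norm _) (inv_mem (inv_mem hu)))
    rwa [← mul_assoc, ← mul_assoc] at this
  obtain ⟨w, hw, r, hr, lr, c, hc, e2⟩ := A.src hl (r := 47) one_ne_zero (U_eq_Ug.ge (h.inf_L le_rfl
    (e1 ▸ mul_mem (inv_mem c1) (a47 (by decide))) (mul_mem (mul_mem hl (S.x_mem_grp _ _)) (inv_mem hl))))
  have k := inv_mem (h.gf_lead hr c (U_le_UGe hw))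
  rw [← e2, e1, show ∀ a b c : G, (a⁻¹ * b * c⁻¹)⁻¹ = (b * c⁻¹)⁻¹ * a by intros; group] at k
  have k2 := h.tlin (by omega) (inv_mem hu) (mul_mem (S.x_mem_UU (show 24 ≤ (47 : R4).1 ∧ Lg 47 by decide) 1)
    (inv_mem (S.x_mem_UU (show 24 ≤ r.1 ∧ Lg r from ⟨hr, lr.2 (by decide)⟩) c))) k
  by_cases r47 : r.1 + 1 ≤ 47
  · rw [mul_mem_cancel_right k2, inv_mem_iff, mul_mem_cancel_left (a47 r47), inv_mem_iff] at k
    exact absurd (h.gf_zero hr k) hc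
  · have k3 := UGe_mono (show 48 ≤ r.1 + 1 by omega) k2
    rw [UGe_top, mem_bot, mul_inv_eq_one] at k3
    calc _ = u * (u⁻¹ * t * u⁻¹⁻¹) * u⁻¹ * u * u⁻¹ := by rw [e, k3]; group
      _ = u * (u⁻¹ * t * u⁻¹⁻¹) * u⁻¹ := by group
      _ = _ := by group

end Gr

namespace GS

variable {t : G} {Z : R4 → Subgroup G} {δ : F} {y : R4 → KK δ → G} {Gs : Subgroup G} (h : GS S t Z δ y Gs)
include h

theorem gf_sq : t * S.x 47 1 * (t * S.x 47 1) = 1 := by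
  rw [mul_assoc, ← mul_assoc _ t, h.toSit.com (S.x_mem_grp _ _), mul_assoc, h.amb.x_sq, mul_one, h.t2]

theorem cent_ta : centralizer {t * S.x 47 1} ≤ normalizer (GG0 S y : Set G) := by
  have c : centralizer {t * S.x 47 1} ≤ centralizer (zpowers (t * S.x 47 1) : Set G) := fun g hg =>
    mem_cent.2 fun a ha => by
      rcases mem_zpowers_inv h.gf_sq ha with rfl | rfl
      exacts [by simp, mem_cent1.1 hg]
  have n := c.trans (centralizer_le_normalizer _)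
  have n1 : t ∈ normalizer (zpowers (t * S.x 47 1) : Set G) := n (mem_cent1.2 (by
    rw [mul_assoc, h.toSit.com (S.x_mem_grp _ _)]))
  have n2 : S.U ≤ normalizer (zpowers (t * S.x 47 1) : Set G) := fun u hu => n (mem_cent1.2 (by
    rw [mul_assoc, ← mem_cent.1 (h.toGr.rt.x47_cen 1) u (U_le_UGe hu), ← mul_assoc,
      ← h.toSit.com (S.U_le_grp hu), mul_assoc]))
  have l : zpowers (t * S.x 47 1) ≤ UGe S y 24 ⊔ zpowers t := zpowers_le.2 (mul_mem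
    (mem_sup_right (mem_zpowers t)) (mem_sup_left (x_mem_UG (T := {s | 24 ≤ s.1}) (show 24 ≤ 47 by decide) 1)))
  refine c.trans (h.u.cent_le h.uw (h.toGr.pg_S.to_le l) n1 n2 (fun k => ?_)
    (h.iso_of l n2 n1 fun m hm u hu e => ?_))
  · rcases mem_zpowers_inv h.gf_sq k with k | k
    exacts [h.t1 k, one_ne_zero (h.amb.x_eq_one.1 (left_eq_mul.1 k))]
  · rw [h.toGr.eq_of_ta (mem_cent.1 hm _ (mem_zpowers _)).symm hu e, inv_mul_cancel]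
    exact one_mem _

theorem u_ta : U (normalizer (GG0 S y : Set G)) (t * S.x 47 1) := by
  have a0 : S.x 47 1 ∈ GG0 S y := L_le_GG0 (S.x_mem_grp _ _)
  refine ⟨h.gf_sq, mul_mem h.u.mem (le_normalizer a0), fun g hg => ?_⟩
  have sq : ∀ g : G, g * (t * S.x 47 1) * g⁻¹ * (g * (t * S.x 47 1) * g⁻¹) = 1 := fun g => by
    rw [conj_mul, h.gf_sq]; simp
  obtain ⟨k, hk, e⟩ := h.sylG h.S_le (zpowers_le.2 hg) (pgroup_zpowers_of_sq (sq g))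
  have e1 := e _ (mem_zpowers _)
  rw [show k * (g * (t * S.x 47 1) * g⁻¹) * k⁻¹ = k * g * (t * S.x 47 1) * (k * g)⁻¹ by group] at e1
  rw [← mul_mem_cancel_left hk]
  generalize k * g = m at e1
  have l := h.toGr.G0_le h.glob
  rcases mem_sup_inv h.t2 (h.toGr.t_norm _) e1 with e2 | e2
  · have := h.glob.nrm.conj_mem _ (l (UG_mono (Set.subset_univ _) e2)) m⁻¹
    rw [show m⁻¹ * (m * (t * S.x 47 1) * m⁻¹) * m⁻¹⁻¹ = t * S.x 47 1 by group, mul_mem_cancel_right (l a0)] at this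
    exact absurd this h.nt
  have e3 : m * (t * S.x 47 1) * m⁻¹ * t * t = m * (t * S.x 47 1) * m⁻¹ := by rw [mul_assoc, h.t2, mul_one]
  rcases h.toGr.outer e2 (by rw [e3, sq]) with ⟨a, ha, e4⟩ | ⟨a, ha, e4⟩ <;> rw [e3] at e4
  · refine absurd (isConj_iff.2 ⟨m⁻¹ * a, ?_⟩) h.nla
    calc _ = m⁻¹ * (a * t * a⁻¹) * m := by group
      _ = _ := by rw [← e4]; group
  · rw [← mul_mem_cancel_left (inv_mem (le_normalizer ha))]
    refine h.cent_ta (mem_cent1.2 ?_)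
    calc _ = a⁻¹ * (a * (t * S.x 47 1) * a⁻¹) * m := by group
      _ = _ := by rw [← e4]; group

end GS

end CfsgLib.SLF
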