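import Mathlib
import Cfsg.Agent.Lib.SLF.GF
import Cfsg.Agent.Lib.UFP.NU

/-!
# The graph case: `G0 = Gs`
-/

set_option autoImplicit false
set_option linter.unusedSectionVars false

namespace CfsgLib.SLF

open Cfsg.Lie CfsgLib.RGD CfsgLib.Stein CfsgLib.Semi CfsgLib.SLE CfsgLib.UFP Subgroup
open scoped commutatorElement Pointwise

universe u

variable {F : Type} [Field F] [Finite F] [CharP F 2] {G : Type u} [Group G] [Finite G]
  {S : StSys ΦF4 F G}

namespace Gr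

variable {t : G} {Z : R4 → Subgroup G} {δ : F} {y : R4 → KK δ → G} (h : Gr S t Z δ y)
include h

theorem gg_mem {r : R4} (hr : 24 ≤ r.1) {w : G} : w ∈ UGe S y (r + 1) ⊔ S.X r ↔
    w ∈ UGe S y r ∧ t * w * t⁻¹ * w⁻¹ ∈ UGe S y (r + 1) := by
  refine ⟨fun hw => ?_, fun hw => h.fix_mod hr hw.1 hw.2⟩
  have hX : S.X r ≤ UGe S y r := fun g hg => by
    obtain ⟨c, rfl⟩ := S.mem_X_iff.1 hg
    exact x_mem_UG (le_refl r.1) _
  obtain ⟨a, ha, b, hb, rfl⟩ := (Core.mem_sup_of_le_normalizer_left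
    (hX.trans ((UGe_mono hr).trans (h.rt.norm_UGe (by omega))))).1 hw
  refine ⟨mul_mem (UGe_mono (by omega) ha) (hX hb), ?_⟩
  have := h.toSit.com (S.UU_le_grp _ hb)
  rw [show t * (a * b) * t⁻¹ * (a * b)⁻¹ = t * a * (b * t⁻¹) * b⁻¹ * a⁻¹ by group,
    (Commute.inv_right this :), show t * a * (t⁻¹ * b) * b⁻¹ * a⁻¹ = t * a * t⁻¹ * a⁻¹ by group]
  exact mul_mem (UFP.conj_mem (h.t_norm _) ha) (inv_mem ha)

theorem gg_inv {r : R4} (hr : 24 ≤ r.1) {z : G} (hz : z ∈ UGe S y r) (e : t * z * t⁻¹ = z⁻¹) :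
    z ∈ UGe S y (r + 1) ⊔ S.X r :=
  h.fix_mod hr hz (by rw [e]; exact h.rt.sq_UGe hr (inv_mem hz))

theorem gg_comm {r : R4} (hr : 24 ≤ r.1) {w s : G} (hw : w ∈ UGe S y r) (hs : s ∈ UGe S y 24 ⊔ zpowers t) :
    s * w * s⁻¹ * w⁻¹ ∈ UGe S y (r + 1) ⊔ S.X r ∧
      (w ∈ UGe S y (r + 1) ⊔ S.X r → s * w * s⁻¹ * w⁻¹ ∈ UGe S y (r + 1)) := by
  have t2 := h.t2
  rcases mem_sup_inv t2 (h.t_norm _) hs with h1 | h1
  · exact ⟨mem_sup_left (h.rt.comm_UGe hr h1 hw), fun _ => h.rt.comm_UGe hr h1 hw⟩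
  · have m := h.rt.comm_UGe hr h1 (UFP.conj_mem (h.t_norm _) hw)
    have e : s * w * s⁻¹ * w⁻¹ = s * t * (t * w * t⁻¹) * (s * t)⁻¹ * (t * w * t⁻¹)⁻¹ *
        (t * w * t⁻¹ * w⁻¹) := by
      rw [show s * t * (t * w * t⁻¹) * (s * t)⁻¹ = s * (t * t) * w * (t * t)⁻¹ * s⁻¹ by group, t2]
      group
    rw [e]
    refine ⟨mul_mem (mem_sup_left m) (h.gg_inv hr (mul_mem (UFP.conj_mem (h.t_norm _) hw) (inv_mem hw)) ?_),
      fun hc => mul_mem m ((h.gg_mem hr).1 hc).2⟩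
    rw [show t * (t * w * t⁻¹ * w⁻¹) * t⁻¹ = t * t * w * (t * t)⁻¹ * (t * w⁻¹ * t⁻¹) by group, t2]
    group

theorem gg_norm {r : R4} (hr : 24 ≤ r.1) :
    UGe S y 24 ⊔ zpowers t ≤ normalizer ((UGe S y (r + 1) ⊔ S.X r : Subgroup G) : Set G) := fun s hs =>
  mem_normalizer_fintype fun x hx => by
    have := mul_mem (h.gg_comm hr ((h.gg_mem hr).1 hx).1 hs).1 hx
    rwa [inv_mul_cancel_right] at this

end Gr

namespace GS

variable {t : G} {Z : R4 → Subgroup G} {δ : F} {y : R4 → KK δ → G} {Gs D : Subgroup G} (h : GS S t Z δ y Gs)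
include h

theorem no_inv (b : Bad (normalizer (GG0 S y : Set G)) Gs t D) {x : G} (hx : x ∈ UGe S y 24)
    (h2 : x * t * (x * t) = 1) : x * t ∉ D := by
  intro hD
  rcases h.toGr.outer hx h2 with ⟨g, -, e⟩ | ⟨g, hg, e⟩
  · exact b.nconj g (e ▸ hD)
  · obtain ⟨-, -, d, -, n1, -, hn, -⟩ := b.star t h.u.mem b.nt (by simpa using b.nconj 1)
      (by rw [h.t2]; exact one_mem _)
    exact n1 ((h.u_ta.conj (le_normalizer hg)).uniq d (e ▸ b.le (UFP.conj_mem hn hD)))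

theorem gg_Us : UGe S y 24 ≤ Gs := (UG_mono (Set.subset_univ _)).trans (h.toGr.G0_le h.glob)

theorem core (hD : IsPGroup 2 D) (hDS : D ≤ UGe S y 24 ⊔ zpowers t) (htD : t ∉ D) {b : R4} (hb : 24 ≤ b.1)
    (hs : ¬ Lg b) (hC : UGe S y (b + 1) ⊔ S.X b ≤ D) {v : KK δ} (he : y b v * t ∈ D) {d : G}
    (ho : Odd (orderOf d)) (hn : d ∈ normalizer (D : Set G)) (hinv : t * d * t⁻¹ = d⁻¹) :
    d ∈ normalizer (GG0 S y : Set G) := by
  have g := h.toGr
  have R := g.rt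
  have t2 := h.t2
  haveI hN := h.glob.nrm
  have xb : y b v ∈ UGe S y b := y_mem_UG (le_refl b.1) hs v
  have xb' : y b (star v) ∈ UGe S y b := y_mem_UG (le_refl b.1) hs _
  have ex : y b v * t = t * y b (star v) := by
    have := h.ty b hs (star v)
    rw [star_star] at this
    rw [← this]; group
  have x1D : S.x b 1 ∈ D := hC (mem_sup_right (S.x_mem_X b 1))
  have lin := fun n hn a ha h1 => g.linG hb hs (n := n) hn (a := a) ha h1 (star v)
  have lin2 := fun m u h1 h2 => g.lin2G hb hs (v := v) (m := m) (u := u) h1 h2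
  have xi := R.y_inv hs v
  generalize y b v = x at *
  generalize y b (star v) = x' at *
  have xS : x ∈ UGe S y 24 ⊔ zpowers t := mem_sup_left (UGe_mono hb xb)
  have tS : t ∈ UGe S y 24 ⊔ zpowers t := mem_sup_right (mem_zpowers t)
  have xD : ∀ a ∈ D, x * a * x⁻¹ * a⁻¹ ∈ UGe S y (b + 1) ⊔ S.X b := fun a ha =>
    comm_swap (g.gg_comm hb xb (hDS ha)).1
  have xn : x ∈ normalizer (D : Set G) := norm_of_comm hC xD
  have tn : t ∈ normalizer (D : Set G) := by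
    simpa using mul_mem (inv_mem xn) (le_normalizer he)
  have hGs : ∀ g : G, g ∈ normalizer (Gs : Set G) := fun g => by
    rw [normalizer_eq_top]; exact mem_top g
  have D0U : D ⊓ Gs ≤ UGe S y 24 := fun a ha => (mem_sup_inv t2 (g.t_norm _) (hDS ha.1)).resolve_right
    fun hh => h.nt ((Gs.mul_mem_cancel_left ha.2).1 (h.gg_Us hh))
  have nD0 : ∀ g ∈ normalizer (D : Set G), g ∈ normalizer ((D ⊓ Gs : Subgroup G) : Set G) :=
    fun g hg => norm_inf hg (hGs g)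
  have cD0 : ∀ a ∈ normalizer (D : Set G), ∀ c ∈ D, a * c * a⁻¹ * c⁻¹ ∈ D ⊓ Gs := fun a ha c hc =>
    ⟨D.mul_mem (UFP.conj_mem ha hc) (D.inv_mem hc),
      h.glob.comm_le (commutator_mem_commutator (mem_top a) (mem_top c))⟩
  have step : ∀ n : R4, b.1 ≤ n.1 → d ∈ centralizer ((UGe S y (n + 1) ⊓ D : Subgroup G) : Set G) →
      d ∈ centralizer ((UGe S y n ⊓ D : Subgroup G) : Set G) := by
    intro n hbn ih
    have hn' : 24 ≤ n.1 := hb.trans hbn
    have MD : UGe S y (n + 1) ≤ D := (UGe_mono (by omega)).trans (le_sup_left.trans hC)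
    rw [inf_eq_left.2 MD] at ih
    have nM : UGe S y 24 ⊔ zpowers t ≤ normalizer (UGe S y (n + 1) : Set G) := g.S_norm (by omega)
    have cS := fun w s hw hs => g.gg_comm hn' (w := w) (s := s) hw hs
    have cU := fun u w hu hw => R.comm_UGe hn' (u := u) (v := w) hu hw
    have tl := fun a w ha hw h1 => g.tlin (n := n + 1) (by omega) (a := a) (v := w) ha hw h1
    have lin' := lin (n + 1) (by omega)
    have gm := fun w => g.gg_mem hn' (w := w)
    generalize UGe S y (n + 1) = B at *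
    have dM := centralizer_le_normalizer _ ih
    have nA : ∀ g ∈ normalizer (D : Set G), g ∈ normalizer (B : Set G) →
        g ∈ normalizer ((D ⊓ Gs ⊓ cmod D B : Subgroup G) : Set G) :=
      fun g h1 h2 => norm_inf (nD0 g h1) (mem_norm_cmod h1 h2)
    have nA' : ∀ g ∈ normalizer (D : Set G), g ∈ normalizer (B : Set G) →
        g ∈ normalizer ((D ⊓ Gs ⊓ cmod (D ⊓ Gs) B : Subgroup G) : Set G) :=
      fun g h1 h2 => norm_inf (nD0 g h1) (mem_norm_cmod (nD0 g h1) h2)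
    have tr := triv_of_triv (A := D ⊓ Gs ⊓ cmod D B) (B := B) (x := t) hD ho hinv
      (by rw [inv_mul_cancel]; exact one_mem _) hn
      (fun a ha => nA a (le_normalizer ha) (nM (hDS ha))) (hDS.trans nM) (nA t tn (nM tS))
      (nM tS) (nA d hn dM) dM fun a ha => comm_swap (by
        obtain ⟨w, hw, h1⟩ := lin' a (D0U ha.1) (ha.2.2.2 _ x1D)
        have wU : w ∈ UGe S y 24 := U_le_UGe (UU_le_U4 (fun r hr => hr.1) hw)
        refine tl a w⁻¹ (D0U ha.1) (inv_mem hw) ?_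
        have h2 := ha.2.2.2 _ he
        rw [ex] at h2
        have := UFP.conj_mem (nM (mem_sup_left wU)) (mul_mem h2 (inv_mem (UFP.conj_mem (nM tS) h1)))
        have wt : w * t = t * w := g.toSit.com (S.UU_le_grp _ hw)
        rwa [show w * (a * (t * x') * a⁻¹ * (t * x')⁻¹ * (t * (w⁻¹ * (a * x' * a⁻¹ * x'⁻¹)) * t⁻¹)⁻¹) * w⁻¹ =
          w * (a * t * a⁻¹ * t⁻¹) * (t * w) * t⁻¹ * w⁻¹ by group, ← wt,
          show w * (a * t * a⁻¹ * t⁻¹) * (w * t) * t⁻¹ * w⁻¹ = w⁻¹⁻¹ * (a * t * a⁻¹ * t⁻¹) by group] at this)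
    have cA : d ∈ centralizer ((D ⊓ Gs ⊓ cmod D B : Subgroup G) : Set G) :=
      mem_cent.2 fun a ha => comm_of_layer (hD.to_le MD) ho ih (tr a ha)
    refine mem_cent.2 fun a ha => comm_of_layer (hD.to_inf_left.to_inf_left) ho cA ?_
    have aU : a ∈ UGe S y 24 := UGe_mono hn' ha.1
    have aA : a ∈ D ⊓ Gs ⊓ cmod (D ⊓ Gs) B := ⟨⟨ha.2, h.gg_Us aU⟩, nD0 a (le_normalizer ha.2),
      nM (mem_sup_left aU), fun c hc => comm_swap (cU c a (D0U hc) ha.1)⟩
    have bA := UFP.conj_mem (nA' d hn dM) aA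
    have eG : x * t * t ∈ Gs := by rw [mul_assoc, t2, mul_one]; exact h.gg_Us (UGe_mono hb xb)
    generalize x * t = e at *
    have eD := le_normalizer he
    have eB := nM (hDS he)
    have p1 := (cS a e ha.1 (hDS he)).1
    have p2 : e * a * e⁻¹ * a⁻¹ ∈ D ⊓ Gs ⊓ cmod D B := ⟨cD0 e eD a ha.2,
      le_normalizer (cD0 e eD a ha.2).1, nM (hDS (cD0 e eD a ha.2).1), fun c hc =>
        comm_swap ((cS _ c ((gm _).1 p1).1 (hDS hc)).2 p1)⟩
    have p3 := mem_cent.1 cA _ p2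
    have kD := cD0 d hn e he
    have cA' := mul_mem bA (inv_mem aA)
    have p4 := mul_mem (UFP.conj_mem (nA' e eD eB) bA) (inv_mem bA)
    -- `[e, d a d⁻¹] ≡ [e, a]` modulo `B`
    have p5 : e * (d * a * d⁻¹) * e⁻¹ * (d * a * d⁻¹)⁻¹ * (e * a * e⁻¹ * a⁻¹)⁻¹ ∈ B := by
      have q3 := mul_mem (UFP.conj_mem p4.2.2.1 (bA.2.2.2 _ kD)) (p4.2.2.2 _ kD)
      have q4 : e * a * e⁻¹ * a⁻¹ = d * (e * a * e⁻¹ * a⁻¹) * d⁻¹ := by rw [← p3]; group
      rw [q4]
      convert q3 using 1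
      group
    have p6 : d * a * d⁻¹ * a⁻¹ * e * (d * a * d⁻¹ * a⁻¹)⁻¹ * e⁻¹ ∈ B := by
      refine comm_swap ?_
      have := mul_mem p5 (comm_swap (cA'.2.2.2 _ p2.1))
      convert this using 1
      group
    refine ⟨cA'.1, le_normalizer cA'.1.1, cA'.2.2.1, fun c hc => ?_⟩
    rcases h.glob.gen c with c1 | c1
    · exact cA'.2.2.2 c ⟨hc, c1⟩
    · have c0 : c * e⁻¹ ∈ D ⊓ Gs := ⟨D.mul_mem hc (D.inv_mem he), by
        simpa [mul_assoc] using Gs.mul_mem c1 (Gs.inv_mem eG)⟩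
      have := mul_mem (cA'.2.2.2 _ c0) (UFP.conj_mem (nM (hDS c0.1)) p6)
      convert this using 1
      group
  have key : ∀ k : ℕ, b.1 + k ≤ 48 → d ∈ centralizer ((UGe S y (48 - k) ⊓ D : Subgroup G) : Set G) := by
    intro k
    induction k with
    | zero =>
      intro _
      rw [Nat.sub_zero, UGe_top, bot_inf_eq]
      exact mem_cent.2 fun e he => by rw [mem_bot.1 he, one_mul, mul_one]
    | succ k ih =>
      intro hk
      have := step ⟨47 - k, by omega⟩ (by simp only; omega)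
        (by rw [show (⟨47 - k, by omega⟩ : R4).1 + 1 = 48 - k by simp only; omega]; exact ih (by omega))
      rwa [show (⟨47 - k, by omega⟩ : R4).1 = 48 - (k + 1) by simp only; omega] at this
  have cK := key (48 - b.1) (by omega)
  rw [show 48 - (48 - b.1) = b.1 by omega] at cK
  have nK : ∀ g ∈ UGe S y 24 ⊔ zpowers t, g ∈ normalizer (D : Set G) →
      g ∈ normalizer ((UGe S y b ⊓ D : Subgroup G) : Set G) :=
    fun a h1 h2 => norm_inf (g.S_norm hb h1) h2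
  have tr := triv_of_triv (A := D) (B := UGe S y b ⊓ D) (x := x) hD ho hinv (by rwa [xi]) hn le_normalizer
    (fun a ha => nK a (hDS ha) (le_normalizer ha)) xn (nK x xS xn) hn
    (centralizer_le_normalizer _ cK) fun a ha => ⟨((g.gg_mem hb).1 (xD a ha)).1, hC (xD a ha)⟩
  have cD : d ∈ centralizer (D : Set G) :=
    mem_cent.2 fun a ha => comm_of_layer hD.to_inf_right ho cK (tr a ha)
  have ED : UGe S y (b + 1) ⊔ S.X b ⊔ zpowers (x * t) ≤ D := sup_le hC (zpowers_le.2 he)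
  have nE : ∀ a ∈ UGe S y 24 ⊔ zpowers t, t * a = a * t →
      a ∈ normalizer ((UGe S y (b + 1) ⊔ S.X b ⊔ zpowers (x * t) : Subgroup G) : Set G) := by
    intro a ha hat
    refine norm_sup_zpowers (g.gg_norm hb ha) ?_
    rw [show a * (x * t) * a⁻¹ = a * x * a⁻¹ * x⁻¹ * (x * (a * t) * a⁻¹) by group, ← hat,
      show x * (t * a) * a⁻¹ = x * t by group]
    exact mul_mem (mem_sup_left (g.gg_comm hb xb ha).1) (mem_sup_right (mem_zpowers _))
  have nU := fun u (hu : u ∈ S.U) => nE u (mem_sup_left (U_le_UGe hu)) (g.toSit.com (S.U_le_grp hu)).symm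
  refine h.u.mem_of_cent h.uw (hD.to_le ED) (nE t tS rfl) nU (fun hh => htD (ED hh))
    (h.iso_of (ED.trans hDS) nU (nE t tS rfl) fun m hm u hu e => ?_) (centralizer_le ED cD) ho hinv
  refine mem_sup_left (g.gg_inv hb (lin2 m u
    (mem_cent.1 hm _ (mem_sup_left (mem_sup_right (S.x_mem_X b 1)))).symm
    (mem_cent.1 hm _ (mem_sup_right (mem_zpowers _))).symm hu e) ?_)
  have ti := inv_eq_of_mul_eq_one_right t2
  rw [show (t⁻¹ * (m * t * m⁻¹))⁻¹ = m * t⁻¹ * m⁻¹ * t by group, ti]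
  rw [← mul_assoc, t2, one_mul]

theorem not_bad (b : Bad (normalizer (GG0 S y : Set G)) Gs t D) : False := by
  have g := h.toGr
  have R := g.rt
  have t2 := h.t2
  haveI hN := h.glob.nrm
  have U1 : UGe S y 24 ≤ normalizer (GG0 S y : Set G) := le_sup_left.trans h.S_le
  wlog hDS : D ≤ UGe S y 24 ⊔ zpowers t generalizing D
  · obtain ⟨a, ha, hs⟩ := h.sylG h.S_le (P := D ⊔ zpowers t) (sup_le b.le (zpowers_le.2 h.u.mem))
      (b.pg.to_sup_of_normal_left' (pgroup_zpowers_of_sq t2) (zpowers_le.2 b.nt))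
    obtain ⟨u, hu, e⟩ := h.cj (hs t (mem_sup_right (mem_zpowers t)))
    refine this (b.conj (mul_mem (inv_mem (U1 hu)) ha) ?_)
      (Coprime.conj_smul_le_iff.2 fun c hc => ?_)
    · have := norm_conj (g := u⁻¹ * a) b.nt
      rwa [show u⁻¹ * a * t * (u⁻¹ * a)⁻¹ = u⁻¹ * (a * t * a⁻¹) * u by group, e,
        show u⁻¹ * (u * t * u⁻¹) * u = t by group] at this
    · rw [show u⁻¹ * a * c * (u⁻¹ * a)⁻¹ = u⁻¹ * (a * c * a⁻¹) * u by group]
      exact mul_mem (mul_mem (inv_mem (mem_sup_left hu)) (hs c (mem_sup_left hc))) (mem_sup_left hu)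
  have htD : t ∉ D := by simpa using b.nconj 1
  have hUD : ¬ UGe S y 24 ≤ D := fun hle =>
    b.nle fun a ha => h.gg_Us ((mem_sup_inv t2 (g.t_norm _) (hDS ha)).resolve_right fun hh =>
      htD ((D.mul_mem_cancel_left ha).1 (hle hh)))
  obtain ⟨r, hr, h1, h2⟩ : ∃ r : R4, 24 ≤ r.1 ∧ UGe S y (r + 1) ≤ D ∧ ¬ UGe S y r ≤ D := by
    by_contra hc
    push Not at hc
    have : ∀ i ≤ 24, UGe S y (48 - i) ≤ D := by
      intro i
      induction i with
      | zero => intro _; rw [Nat.sub_zero, UGe_top]; exact bot_le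
      | succ i ih =>
        intro hi
        have := hc ⟨47 - i, by omega⟩ (by simp only; omega)
          (by rw [show (⟨47 - i, by omega⟩ : R4).1 + 1 = 48 - i by simp only; omega]; exact ih (by omega))
        rwa [show (⟨47 - i, by omega⟩ : R4).1 = 48 - (i + 1) by simp only; omega] at this
    exact hUD (this 24 le_rfl)
  have main : ∀ x ∈ UGe S y r, x * x = 1 → x ∉ D → (∀ a ∈ D, a * x * a⁻¹ * x⁻¹ ∈ D) →
      ∃ u ∈ UGe S y 24, ∃ d, u * (x * t) * u⁻¹ ∈ D ∧ d ∉ normalizer (GG0 S y : Set G) ∧ Odd (orderOf d) ∧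
        d ∈ normalizer (D : Set G) ∧ u * t * u⁻¹ * d * (u * t * u⁻¹)⁻¹ = d⁻¹ := by
    intro x hx x2 hxD hxa
    have xU := UGe_mono hr hx
    obtain ⟨a, -, d, e1, n1, ho, hn, hinv, -⟩ := b.star x (U1 xU)
      (norm_of_comm le_rfl fun a ha => comm_swap (hxa a ha)) hxD (by rw [x2]; exact one_mem _)
    obtain ⟨u, hu, e⟩ := h.cj
      (((UGe S y 24 ⊔ zpowers t).mul_mem_cancel_left (inv_mem (mem_sup_left xU))).1 (hDS e1))
    rw [e] at e1 hinv
    refine ⟨u, hu, d, ?_, n1, ho, hn, hinv⟩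
    have := mul_mem (h1 (R.comm_UGe hr hu hx)) e1
    rwa [show u * (x * t) * u⁻¹ = u * x * u⁻¹ * x⁻¹ * (x * x) * (x⁻¹ * (u * t * u⁻¹)) by group, x2, mul_one]
  have hC : UGe S y (r + 1) ⊔ S.X r ≤ D := by
    refine sup_le h1 fun x hx => ?_
    obtain ⟨c, rfl⟩ := S.mem_X_iff.1 hx
    by_contra hxD
    have xC : S.x r c ∈ UGe S y (r + 1) ⊔ S.X r := mem_sup_right (S.x_mem_X r c)
    have hx := ((g.gg_mem hr).1 xC).1
    obtain ⟨u, hu, d, e1, -⟩ := main _ hx (h.amb.x_sq r c) hxD fun a ha =>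
      h1 ((g.gg_comm hr hx (hDS ha)).2 xC)
    have ct := g.toSit.com (S.x_mem_grp r c)
    have sq := h.amb.x_sq r c
    generalize S.x r c = x at *
    refine h.no_inv b (x := u * x * (t * u⁻¹ * t⁻¹)) (mul_mem (mul_mem hu (UGe_mono hr hx))
      (UFP.conj_mem (g.t_norm _) (inv_mem hu))) ?_ (by convert e1 using 1; group)
    calc _ = u * (x * (t * x) * t) * u⁻¹ := by group
      _ = u * (x * x * (t * t)) * u⁻¹ := by rw [← ct]; group
      _ = 1 := by rw [sq, t2]; group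
  obtain ⟨w, hw, hwD⟩ := SetLike.not_le_iff_exists.1 h2
  obtain ⟨x, hx, e0⟩ := R.peel hr hw
  have hxD : x ∉ D := fun hh => hwD (by simpa using mul_mem hh (h1 e0))
  have hs : ¬ Lg r := fun hl => by
    obtain ⟨c, rfl⟩ := (R.mem_XG_long hl).1 hx
    exact hxD (hC (mem_sup_right (S.x_mem_X r c)))
  have x2 := R.XG_sq hx
  obtain ⟨v, rfl⟩ := (R.mem_XG_short hs).1 hx
  have hx' : y r v ∈ UGe S y r := y_mem_UG (le_refl r.1) hs v
  obtain ⟨u, hu, d, e1, n1, ho, hn, hinv⟩ := main _ hx' x2 hxD fun a ha => hC (g.gg_comm hr hx' (hDS ha)).1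
  have uS : u ∈ UGe S y 24 ⊔ zpowers t := mem_sup_left hu
  have := h.core (D := MulAut.conj u⁻¹ • D) (b.pg.map _) (Coprime.conj_smul_le_iff.2
    fun a ha => mul_mem (mul_mem (inv_mem uS) (hDS ha)) (inv_mem (inv_mem uS)))
    (fun hh => b.nconj u (by simpa using Coprime.mem_conj_smul_iff.1 hh)) hr hs
    (fun z hz => Coprime.mem_conj_smul_iff.2 (hC (by
      simpa using UFP.conj_mem (g.gg_norm hr uS) hz)))
    (v := v) (d := u⁻¹ * d * u⁻¹⁻¹) (Coprime.mem_conj_smul_iff.2 (by rwa [inv_inv]))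
    (by rwa [← MulAut.conj_apply, MulEquiv.orderOf_eq]) (norm_conj hn) (by
      calc _ = u⁻¹ * (u * t * u⁻¹ * d * (u * t * u⁻¹)⁻¹) * u := by group
        _ = _ := by rw [hinv]; group)
  exact n1 (by simpa [mul_assoc] using mul_mem (mul_mem (U1 hu) this) (inv_mem (U1 hu)))

/-- **Graph case** -/
theorem eq : GG0 S y = Gs := by
  have h0 := h.toGr.G0_le h.glob
  have h1 : S.x 47 1 ≠ 1 := fun e => one_ne_zero (h.amb.x_eq_one.1 e)
  have h2 : S.x 47 1 ∈ GG0 S y := L_le_GG0 (S.x_mem_grp _ _)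
  refine h.glob.eq_of_norm h0 (le_of_invol h.glob.simple (h0 h2) h1 (h.amb.x_sq _ _)
    fun u h3 h4 => by_contra fun h5 => ?_) h2 h1
  obtain ⟨D, b⟩ := h.u.exists_bad (h.glob.index h.nt) h.nt h3 h4 h5
  exact h.not_bad b

end GS

end CfsgLib.SLF
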