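import Mathlib
import Cfsg.Agent.Lib.SLF.Hat1

/-!
# Commutators of hats
-/

set_option autoImplicit false
set_option linter.unusedSectionVars false

namespace CfsgLib.SLF

open Cfsg.Lie CfsgLib.RGD CfsgLib.Stein CfsgLib.Semi CfsgLib.SLE CfsgLib.UFP Subgroup
open scoped commutatorElement Pointwise

universe u

variable {F : Type} [Field F] [Finite F] [CharP F 2] {G : Type u} [Group G] [Finite G]
  {S : StSys ΦF4 F G}

theorem ht2_inv {a : G} (ha : a * a = 1) : a⁻¹ = a := inv_eq_of_mul_eq_one_right ha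

theorem ht2_comm {a b : G} (ha : a * a = 1) (hb : b * b = 1) (hab : a * b * (a * b) = 1) :
    a * b = b * a := by
  rw [← ht2_inv hab, mul_inv_rev, ht2_inv ha, ht2_inv hb]

theorem ht2_odd {o : G} (ho : Odd (orderOf o)) (h : o * o = 1) : o = 1 := by
  have h1 : orderOf o ∣ 2 := orderOf_dvd_of_pow_eq_one (by rw [pow_two, h])
  rcases (Nat.dvd_prime Nat.prime_two).1 h1 with h2 | h2
  · exact orderOf_eq_one_iff.1 h2
  · rw [h2] at ho; exact absurd ho (by decide)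

theorem ht2_conj {g x : G} (h : g * x = x * g) : g * x * g⁻¹ = x := by
  rw [h, mul_inv_cancel_right]

theorem ht2_of_conj {g x : G} (h : g * x * g⁻¹ = x) : g * x = x * g := by
  rw [← mul_inv_eq_iff_eq_mul]; exact h

theorem ht2_sq {x g k n : G} (h1 : g * x = x * g) (h2 : x * k * x⁻¹ = k * n) (h3 : g * n = n * g)
    (h4 : k * n = n * k) (h5 : n * n = 1) : x * (g * k * (g * k)) = g * k * (g * k) * x := by
  refine ht2_of_conj ?_
  rw [← conj_mul, ← conj_mul, h2, ht2_conj h1.symm]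
  calc g * (k * n) * (g * (k * n)) = g * k * (n * g) * (k * n) := by simp only [mul_assoc]
    _ = g * k * g * (n * k) * n := by rw [← h3]; simp only [mul_assoc]
    _ = g * k * (g * k) * (n * n) := by rw [← h4]; simp only [mul_assoc]
    _ = _ := by rw [h5, mul_one]

theorem ht2_sub : ∀ a b : R4, ¬ Lg a → ¬ Lg b → 0 < ip4 a b →
    a = b ∨ Cm a (rf4 a b) b ∧ Yr a b ∧ Yr b a := by decide +kernel

theorem ht2_cm {a b r : R4} (ha : ¬ Lg a) (h : Cm a b r) : ¬ Lg b ∧ ¬ Lg r ∧ a ≠ b ∧ 0 < ip4 a r ∧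
    0 < ip4 b r ∧ Yr r a ∧ Yr r b ∧ Yr a a ∧ Yr b b := by
  obtain ⟨h1, h2, h3⟩ := BA4.cm_ip h
  exact ⟨fun e => ha (h.2.1.2 e), fun e => ha (h.2.2.2 e), fun e => by
    have := BA4.ip_self b; rw [e] at h1; omega, h2, h3, .inl h2, .inl h3, .inl (BA4.ip_self a),
    .inl (BA4.ip_self b)⟩

theorem ht2_Q : ∀ a b : R4, ¬ Lg a → ¬ Lg b → ip4 a b = -1 → ∀ s : R4, 1 ≤ ip4 s a + ip4 s b →
    Yr a s ∧ (Yr b s ∨ s = a ∨ ∃ m, Ot s b m ∧ Yr a m ∧ Yr b m ∧ 0 ≤ ip4 s m) ∨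
      Yr b s ∧ (s = b ∨ ∃ m, Ot s a m ∧ Yr a m ∧ Yr b m ∧ 0 ≤ ip4 s m) := by decide +kernel

theorem ht2_ort : ∀ a b : R4, ¬ Lg a → ¬ Lg b → ip4 a b = 0 → ∀ m, Ot a b m → Yr b m ∧ 0 ≤ ip4 m b ∧
    ∃ d, Cm (rf4 d b) d b ∧ Cm a (rf4 d b) (rf4 (rf4 d b) a) ∧ Ot d (rf4 (rf4 d b) a) m ∧ Yr a d ∧
      0 < ip4 (rf4 (rf4 d b) a) b ∧ 0 ≤ ip4 d m ∧ ¬ Lg (rf4 d b) := by decide +kernel

namespace H1

variable {t : G} {p : R4 → Prop} {Z : R4 → Subgroup G} (h : H1 S t p Z)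
include h

theorem ht2_zero {r : R4} (hr : p r) {g : G} (hg : g ∈ Z r) (e : g * t * g⁻¹ = t * S.x r 0) : g ∈ S.X r :=
  h.ker r hr g hg (ht2_of_conj (by rw [e, S.x_zero, mul_one]))

/-- a hat commutes with its commutators -/
theorem ht2_cx {a b r : R4} (ha : p a) (hr' : p r) (hr : Cm a b r) {g : G} (hg : g ∈ Z a) (u : F) :
    g * (g * S.x b u * g⁻¹ * (S.x b u)⁻¹) = g * S.x b u * g⁻¹ * (S.x b u)⁻¹ * g := by
  have g2 := h.sq ha hg
  refine ht2_comm g2 (h.sq hr' (h.cx a b r ha hr g hg u)) ?_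
  have e : g * (g * S.x b u * g⁻¹ * (S.x b u)⁻¹) = S.x b u * g⁻¹ * (S.x b u)⁻¹ := by
    simp only [← mul_assoc, g2, one_mul]
  rw [e, conj_mul, ← mul_inv_rev, g2]
  group

theorem ht2_core {a b : R4} (ha : p a) (hb : p b) (hab : a ≠ b) {g k m q : G} (hg : g ∈ Z a)
    (hk : k ∈ Z b) (m2 : m * m = 1) (gm : g * m = m * g) (km : k * m = m * k) (mo : CO S t m)
    (hq : q ∈ CL S) (ht : q * t = t * q) (e : g * k * g⁻¹ * k⁻¹ = m * q) : q = 1 ∨ g ∈ S.X a := by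
  have g2 := h.sq ha hg
  have k2 := h.sq hb hk
  have i1 : g * (m * q) * g⁻¹ = (m * q)⁻¹ := by
    rw [← e, ht2_inv g2, ht2_inv k2]
    simp only [mul_inv_rev, ht2_inv g2, ht2_inv k2, ← mul_assoc, g2, one_mul]
  have i2 : k * (m * q) * k⁻¹ = (m * q)⁻¹ := by
    rw [← e, ht2_inv g2, ht2_inv k2]
    simp only [mul_inv_rev, ht2_inv g2, ht2_inv k2, mul_assoc, k2, mul_one]
  obtain ⟨o, ho, ot, oo, rfl | rfl⟩ : ∃ o ∈ CL S, o * t = t * o ∧ Odd (orderOf o) ∧ (q = o ∨ q = o * t) := by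
    rcases h.toSit.odd_or h.two hq ht with h1 | h1
    · exact ⟨q, hq, ht, h1, Or.inl rfl⟩
    · refine ⟨q * t, mul_mem hq h.tC, by rw [mul_assoc, ← mul_assoc t, ← ht, mul_assoc], h1, Or.inr ?_⟩
      rw [mul_assoc, h.t2, mul_one]
  · left
    have go := h.co a ha g hg q ho ot oo
    rw [ht2_conj (Commute.mul_right gm go), eq_inv_iff_mul_eq_one] at i1
    refine ht2_odd oo ?_
    rw [mul_assoc, ← mul_assoc q, ← mo q ho ot oo, ← mul_assoc, ← mul_assoc, m2, one_mul] at i1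
    exact i1
  · right
    obtain ⟨c, hc⟩ := h.ovr ha hg
    obtain ⟨c', hc'⟩ := h.ovr hb hk
    rw [← conj_mul, ← conj_mul, ht2_conj gm, ht2_conj (h.co a ha g hg o ho ot oo), hc] at i1
    rw [← conj_mul, ← conj_mul, ht2_conj km, ht2_conj (h.co b hb k hk o ho ot oo), hc', ← i1] at i2
    have e1 : S.x a c = S.x b c' := by simpa using i2.symm
    by_cases c0 : c = 0
    · subst c0; exact h.ht2_zero ha hg hc
    · exact absurd (h.amb.x_inj c0 e1).1 hab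

end H1

namespace HS1

variable {t : G} {κ : F} {Z : R4 → Subgroup G} (h : HS1 S t κ Z)
include h

theorem ht2_com {a r : R4} (ha : ¬ Lg a) (hr : ¬ Lg r) (hi : 0 < ip4 a r) {g k : G} (hg : g ∈ Z a)
    (hk : k ∈ Z r) : g * k = k * g := by
  have H := h.toH1
  obtain rfl | ⟨hb, y1, y2⟩ := ht2_sub a r ha hr hi
  · exact H.com_self ha hg hk
  obtain ⟨c, hc⟩ := H.ovr ha hg
  by_cases c0 : c = 0
  · subst c0
    obtain ⟨e, rfl⟩ := S.mem_X_iff.1 (H.ht2_zero ha hg hc)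
    exact (H.cx' hr y2 hk e).symm
  obtain ⟨c', hc'⟩ := H.ovr hr hk
  have h1 := H.cx_ovr ha hb hg hc (c' / c)
  rw [div_mul_cancel₀ _ c0, ← hc'] at h1
  obtain ⟨e, rfl⟩ := H.ovr_eq hr hk (h.cx a _ r ha hb g hg _) h1.symm
  exact Commute.mul_right (H.ht2_cx ha hr hb hg _) (H.cx' ha y1 hg e)

theorem ht2_aux {a b r s : R4} (ha : ¬ Lg a) (hr : Cm a b r) {g k : G} (hg : g ∈ Z a) (hk : k ∈ Z b)
    (h1 : Yr a s) (h2 : Yr b s ∨ s = a ∨ ∃ m, Ot s b m ∧ Yr a m ∧ Yr b m ∧ 0 ≤ ip4 s m) (u : F) :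
    S.x s u * (g * k * (g * k)) = g * k * (g * k) * S.x s u := by
  have H := h.toH1
  have A := h.amb
  obtain ⟨hb, hr', -, ar, br, -⟩ := ht2_cm ha hr
  have gx := H.cx' ha h1 hg u
  have k2 := H.sq hb hk
  rcases h2 with h2 | rfl | ⟨m, h2, h3, h4, h5⟩
  · exact ht2_sq (n := 1) gx (by rw [mul_one, ht2_conj (H.cx' hb h2 hk u).symm]) (by simp) (by simp) (by simp)
  · have hy := h.cx b s r hb hr.symm k hk u
    exact ht2_sq gx (by simp only [← mul_assoc, k2, one_mul, ht2_inv k2]) (h.ht2_com ha hr' ar hg hy)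
      (h.ht2_com hb hr' br hk hy) (H.sq hr' hy)
  · obtain ⟨c, hc⟩ := H.ovr hb hk
    have e := h.mv s b m h2 k hk c hc u
    refine ht2_sq gx ?_ (H.cx' ha h3 hg (κ * c * u)) (H.cx' hb h4 hk _) (A.x_sq ..)
    rw [A.com h5, ht2_inv k2] at e
    rw [← mul_inv_eq_iff_eq_mul.2 e]
    simp only [← mul_assoc, k2, one_mul]

theorem ht2_cz {a b r : R4} (ha : ¬ Lg a) (hr : Cm a b r) {g k : G} (hg : g ∈ Z a) (hk : k ∈ Z b) :
    g * k * g⁻¹ * k⁻¹ ∈ Z r := by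
  have H := h.toH1
  have A := h.amb
  obtain ⟨hb, hr', ne, ar, br, ra, rb, aa, bb⟩ := ht2_cm ha hr
  have g2 := H.sq ha hg
  have k2 := H.sq hb hk
  have xt : ∀ r c, S.x r c * t = t * S.x r c := fun r c => h.toSit.com (S.x_mem_grp r c)
  have e0 : g * k * g⁻¹ * k⁻¹ = g * k * (g * k) := by
    rw [ht2_inv g2, ht2_inv k2]; simp only [mul_assoc]
  have cQ : g * k * g⁻¹ * k⁻¹ ∈ centralizer (Q4 S r : Set G) := by
    refine mem_cent_UU.2 fun s hs u => ?_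
    have hs' : 1 ≤ ip4 s r := hs
    rw [hr.1.ip'] at hs'
    have ab := hr.ip
    rw [(sh_iff a).1 ha] at ab
    rcases ht2_Q a b ha hb (by omega) s hs' with ⟨h1, h2⟩ | ⟨h1, h2⟩
    · rw [e0]; exact h.ht2_aux ha hr hg hk h1 h2 u
    · have := h.ht2_aux hb hr.symm hk hg h1 (.inr (h2.imp_right fun ⟨m, h3, h4, h5, h6⟩ =>
        ⟨m, h3, h5, h4, h6⟩)) u
      have e : g * k * g⁻¹ * k⁻¹ = (k * g * (k * g))⁻¹ := by
        simp only [mul_inv_rev, ht2_inv g2, ht2_inv k2, mul_assoc]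
      rw [e]
      exact Commute.inv_right this
  obtain ⟨c, hc⟩ := H.ovr ha hg
  obtain ⟨c', hc'⟩ := H.ovr hb hk
  have hk₁ := h.cx a b r ha hr g hg c'
  have hk₂ := h.cx b a r hb hr.symm k hk c
  have j1 : g * S.x b c' * g⁻¹ = g * S.x b c' * g⁻¹ * (S.x b c')⁻¹ * S.x b c' := by group
  have j2 : k * S.x a c * k⁻¹ = k * S.x a c * k⁻¹ * (S.x a c)⁻¹ * S.x a c := by group
  generalize g * S.x b c' * g⁻¹ * (S.x b c')⁻¹ = k₁ at hk₁ j1
  generalize k * S.x a c * k⁻¹ * (S.x a c)⁻¹ = k₂ at hk₂ j2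
  have gZ : ∀ {z}, z ∈ Z r → g * z = z * g := fun hz => h.ht2_com ha hr' ar hg hz
  have kZ : ∀ {z}, z ∈ Z r → k * z = z * k := fun hz => h.ht2_com hb hr' br hk hz
  have aZ : ∀ {z}, z ∈ Z r → z * S.x a c = S.x a c * z := fun hz => H.cx' hr' ra hz c
  have bZ : ∀ {z}, z ∈ Z r → z * S.x b c' = S.x b c' * z := fun hz => H.cx' hr' rb hz c'
  have e1 : g * k * t * (g * k)⁻¹ = t * (S.x a c * (k₁ * S.x b c')) := by
    rw [show g * k * t * (g * k)⁻¹ = g * (k * t * k⁻¹) * g⁻¹ by group, hc', ← conj_mul, hc, j1,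
      mul_assoc]
  have hm : k₂ * k₁ * S.x r (c' * c) ∈ Z r := mul_mem (mul_mem hk₂ hk₁) (H.xZ hr' _)
  have e2 : k * (t * (S.x a c * (k₁ * S.x b c'))) * k⁻¹ =
      t * (S.x a c * (k₂ * k₁ * S.x r (c' * c))) := by
    rw [← conj_mul, ← conj_mul, ← conj_mul, hc', j2, ht2_conj (kZ hk₁),
      ht2_conj (H.cx' hb bb hk c'), mul_assoc, mul_right_inj,
      ← aZ hm, mul_assoc (k₂ * k₁), ← A.com ar.le c (c' * c), ← A.conj_cm hr.symm, A.x_inv,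
      ← mul_assoc, ← mul_assoc, ← mul_assoc, ← bZ hk₂, mul_assoc _ (S.x a c), ← aZ hk₁, ← mul_assoc,
      mul_assoc _ (S.x b c') k₁, ← bZ hk₁]
    simp only [mul_assoc]
  have e3 : g * k * g⁻¹ * k⁻¹ * t * (g * k * g⁻¹ * k⁻¹)⁻¹ = t * (k₂ * k₁ * S.x r (c' * c)) := by
    rw [e0, show g * k * (g * k) * t * (g * k * (g * k))⁻¹ =
      g * (k * (g * k * t * (g * k)⁻¹) * k⁻¹) * g⁻¹ by group, e1, e2, ← conj_mul, ← conj_mul, hc,
      ht2_conj (H.cx' ha aa hg c), ht2_conj (gZ hm), mul_assoc, ← mul_assoc (S.x a c), A.x_sq, one_mul]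
  generalize k₂ * k₁ * S.x r (c' * c) = m at hm e3
  have mt : m * t = t * m := by
    refine (ht2_comm h.t2 (H.sq hr' hm) ?_).symm
    rw [← e3, conj_mul, h.t2]; group
  obtain ⟨c₀, rfl⟩ := S.mem_X_iff.1 (h.ker r hr' m hm mt)
  obtain ⟨k₀, hk₀, e4⟩ := h.surj r hr' c₀
  have e5 : k₀⁻¹ * (g * k * g⁻¹ * k⁻¹) * t = t * (k₀⁻¹ * (g * k * g⁻¹ * k⁻¹)) := by
    refine ht2_of_conj ?_
    rw [show ∀ x y z : G, x⁻¹ * y * z * (x⁻¹ * y)⁻¹ = x⁻¹ * (y * z * y⁻¹) * x from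
      fun x y z => by group, e3, ← e4]
    group
  obtain ⟨u, y, hy, e6⟩ := A.cen_QA (h.CN (mem_centralizer_singleton_iff.2 e5)) ha hr
    (mul_mem (inv_mem (mem_cent_UU.2 fun s hs u => (H.cx' hr' (.inl hs) hk₀ u).symm)) cQ)
    fun s hs s1 s2 u => by
      have c1 : Commute g (S.x s u) := H.cx' ha (.inr ⟨s1, fun e => ha (e.1 hs)⟩) hg u
      have c2 : Commute k (S.x s u) := H.cx' hb (.inr ⟨s2, fun e => hb (e.1 hs)⟩) hk u
      have c3 : Commute k₀ (S.x s u) :=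
        H.cx' hr' (.inr ⟨by rw [hr.1.ip', s1, s2, add_zero], fun e => hr' (e.1 hs)⟩) hk₀ u
      exact c3.inv_left.mul_left (((c1.mul_left c2).mul_left c1.inv_left).mul_left c2.inv_left)
  have yt : y * t = t * y := by
    rw [e6, mul_assoc, ← mul_assoc t, ← xt, mul_assoc] at e5
    exact mul_left_cancel e5
  have hm' : k₀ * S.x r u ∈ Z r := mul_mem hk₀ (H.xZ hr' u)
  have e7 : g * k * g⁻¹ * k⁻¹ = k₀ * S.x r u * y := by rw [mul_assoc k₀, ← e6]; group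
  rcases H.ht2_core ha hb ne hg hk (H.sq hr' hm') (gZ hm') (kZ hm') (h.co r hr' _ hm') hy yt e7
    with h1 | h1
  · rw [e7, h1, mul_one]; exact hm'
  · obtain ⟨v, rfl⟩ := S.mem_X_iff.1 h1
    have := inv_mem (h.cx b a r hb hr.symm k hk v)
    simpa only [mul_inv_rev, inv_inv, mul_assoc] using this

theorem ht2_ot {a b m : R4} (hm : Ot a b m) {g k : G} (hg : g ∈ Z a) (hk : k ∈ Z b) :
    ∃ e, g * k * g⁻¹ * k⁻¹ = S.x m (κ * e) := by
  have H := h.toH1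
  have A := h.amb
  have ha := hm.1
  have hb := hm.2.1
  obtain ⟨bm, mb, d, h1, h2, h3, ad, fb, dm, he⟩ := ht2_ort a b ha hb hm.ip m hm
  generalize rf4 d b = e at *
  generalize rf4 e a = f at *
  obtain ⟨c, hc⟩ := H.ovr ha hg
  obtain ⟨c', hc'⟩ := H.ovr hb hk
  obtain ⟨g', hg', e1⟩ := h.surj e he c'
  have e2 := H.cx_ovr he h1 hg' e1 1
  rw [one_mul, ← hc'] at e2
  have hk₀ := h.cx e d b he h1 g' hg' 1
  obtain ⟨v, e3⟩ := H.ovr_eq hb hk hk₀ e2.symm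
  have hy := h.ht2_cz ha h2 hg hg'
  obtain ⟨cy, hcy⟩ := H.ovr h3.2.1 hy
  have e4 := h.mv d f m h3 _ hy cy hcy 1
  have e5 := h.ht2_com h3.2.1 hb fb hy hk₀
  have e6 := h.mv b a m hm.symm g hg c hc v
  have e7 := H.cx' ha ad hg 1
  have e8 : g * (g' * S.x d 1 * g'⁻¹ * (S.x d 1)⁻¹) * g⁻¹ =
      g' * S.x d 1 * g'⁻¹ * (S.x d 1)⁻¹ * S.x m (κ * cy * 1) := by
    generalize e9 : g * g' * g⁻¹ * g'⁻¹ = y at e4 e5
    calc _ = g * g' * g⁻¹ * g'⁻¹ * (g' * (g * S.x d 1 * g⁻¹) * g'⁻¹ * (S.x d 1)⁻¹) * S.x d 1 *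
          (g * g' * g⁻¹ * g'⁻¹)⁻¹ * (g * S.x d 1 * g⁻¹)⁻¹ := by group
      _ = g' * S.x d 1 * g'⁻¹ * (S.x d 1)⁻¹ * (y * S.x d 1 * y⁻¹) * (S.x d 1)⁻¹ := by
        rw [e9, ht2_conj e7, e5]; group
      _ = _ := by rw [e4, A.com dm]; group
  refine ⟨cy + c * v, ?_⟩
  rw [mul_inv_eq_iff_eq_mul, ← H.cx' hb bm hk, e3, ← conj_mul, e8, e6, mul_assoc, ← mul_assoc (S.x m _),
    A.com mb, mul_assoc (S.x b v), ← S.x_add, ← mul_assoc]
  congr 2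
  ring

end HS1

theorem HS1.hs {t : G} {κ : F} {Z : R4 → Subgroup G} (h : HS1 S t κ Z) : HS S t κ Z :=
  { h with
    com := fun _ _ ha hb _ hi _ hg _ hk => h.ht2_com ha hb hi hg hk
    cz := fun _ _ _ ha hr _ hg _ hk => h.ht2_cz ha hr hg hk
    ort := fun _ _ _ hm _ hg _ hk => h.ht2_ot hm hg hk }

end CfsgLib.SLF
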