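import Mathlib
import Cfsg.Agent.Lib.SLF.GA
import Cfsg.Agent.Lib.SLE.Root
import Cfsg.Agent.Lib.SLE.Top

/-!
# Folding the roots of `E₆`
-/

set_option autoImplicit false
set_option linter.unusedSectionVars false
set_option Elab.async false

namespace CfsgLib.SLF

open Cfsg.Lie CfsgLib.RGD CfsgLib.Stein CfsgLib.Semi CfsgLib.SLE CfsgLib.UFP Subgroup
open scoped commutatorElement Pointwise

universe u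

variable {F : Type} [Field F] [Finite F] [CharP F 2] {G : Type u} [Group G] [Finite G]
  {S : StSys ΦF4 F G}

/-- the root system of type `E₆` -/
abbrev Φ6 := Weyl.rootSys Weyl.rtOKE6

abbrev R6 := Fin chevE6.nroots

/-- the folding map -/
def pi6 (r : R6) : R4 := ⟨[0, 1, 2, 3, 7, 3, 4, 8, 5, 9, 11, 6, 10, 12, 13, 14, 7, 8, 15, 9, 16, 18, 11, 18, 21, 23, 10, 17, 19, 20, 12, 19, 22, 13, 20, 14, 33, 27, 34, 25, 28, 35, 27, 28, 30, 37, 24, 26, 29, 36, 29, 31, 38, 32, 39, 40, 33, 34, 35, 37, 41, 36, 38, 42, 39, 43, 44, 40, 44, 45, 46, 47].getD r.1 0 % 48, Nat.mod_lt _ (by decide)⟩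

/-- the sign of a root over a short root -/
def sg6 (r : R6) : Bool := [1, 1, 1, 0, 1, 1, 1, 0, 1, 0, 1, 1, 0, 1, 1, 0, 0, 1, 1, 1, 1, 0, 0, 1, 1, 1, 1, 1, 0, 0, 0, 1, 1, 0, 1, 1, 0, 0, 1, 1, 0, 1, 1, 1, 1, 0, 1, 1, 0, 1, 1, 1, 0, 1, 0, 1, 1, 0, 0, 1, 1, 0, 1, 1, 1, 1, 0, 0, 1, 1, 1, 1].getD r.1 0 == 1

/-- the roots over a root of `F₄` -/
def lf6 (b : R4) (s : Bool) : R6 := ⟨(if s then [0, 1, 2, 5, 6, 8, 11, 4, 17, 19, 26, 10, 13, 14, 35, 18, 20, 27, 23, 31, 34, 24, 32, 25, 46, 39, 47, 42, 43, 50, 44, 51, 53, 56, 38, 41, 49, 59, 62, 64, 55, 60, 63, 65, 68, 69, 70, 71] else [0, 1, 2, 3, 6, 8, 11, 16, 7, 9, 12, 22, 30, 33, 15, 18, 20, 27, 21, 28, 29, 24, 32, 25, 46, 39, 47, 37, 40, 48, 44, 51, 53, 36, 57, 58, 61, 45, 52, 54, 67, 60, 63, 65, 66, 69, 70, 71]).getD b.1 0 % 72, Nat.mod_lt _ (by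 decide)⟩

theorem pi_lf : ∀ b s, pi6 (lf6 b s) = b := by decide +kernel

theorem sg_lf : ∀ b s, ¬ Lg b → sg6 (lf6 b s) = s := by decide +kernel

theorem lf_pi : ∀ r, lf6 (pi6 r) (sg6 r) = r := by decide +kernel

theorem lf_long : ∀ b s, Lg b → lf6 b s = lf6 b true := by decide +kernel

theorem rho_lf : ∀ b s, rhoE6 (lf6 b s) = lf6 b (!s) := by decide +kernel

theorem idt_ip (r s : R6) : ip Φ6 r s = fN 72 tI6 r s := (tab6 _).ip r s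

theorem idt_add (r s k : R6) : RAdd Φ6 r s k ↔ NAdd (fN 72 tI6) r s k := (tab6 _).radd r s k

theorem pos6 (r : R6) : Φ6.Pos r ↔ 24 ≤ (pi6 r).1 := by
  rw [pos_val]
  revert r
  decide +kernel

theorem add6 {r s k : R6} (h : RAdd Φ6 r s k) : (Lg (pi6 r) ∧ Cm (pi6 r) (pi6 s) (pi6 k)) ∨
    (∃ m, Ls (pi6 r) (pi6 s) (pi6 k) m ∧ sg6 k = sg6 s) ∨ (∃ m, Ls (pi6 s) (pi6 r) (pi6 k) m ∧ sg6 k = sg6 r) ∨
    (¬ Lg (pi6 r) ∧ Cm (pi6 r) (pi6 s) (pi6 k) ∧ sg6 s = sg6 r ∧ sg6 k = !sg6 r) ∨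
    (Ot (pi6 r) (pi6 s) (pi6 k) ∧ sg6 s = !sg6 r) := by
  have : ∀ r s : R6, fN 72 tI6 r s = -1 → ∀ k : R6, fN 72 tI6 r k = 1 → fN 72 tI6 s k = 1 →
      (Lg (pi6 r) ∧ Cm (pi6 r) (pi6 s) (pi6 k)) ∨
      (Ls (pi6 r) (pi6 s) (pi6 k) (rf4 (pi6 s) (pi6 r)) ∧ sg6 k = sg6 s) ∨
      (Ls (pi6 s) (pi6 r) (pi6 k) (rf4 (pi6 r) (pi6 s)) ∧ sg6 k = sg6 r) ∨
      (¬ Lg (pi6 r) ∧ Cm (pi6 r) (pi6 s) (pi6 k) ∧ sg6 s = sg6 r ∧ sg6 k = !sg6 r) ∨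
      (Ot (pi6 r) (pi6 s) (pi6 k) ∧ sg6 s = !sg6 r) := by decide +kernel
  obtain ⟨h1, h2, h3⟩ := (idt_add r s k).1 h
  exact (this r s h1 k h2 h3).imp_right (Or.imp (fun e => ⟨_, e⟩) (Or.imp_left fun e => ⟨_, e⟩))

theorem com6 {r s : R6} (h : 0 ≤ ip Φ6 r s) : Cc (pi6 r) (pi6 s) ∨
    (¬ Lg (pi6 r) ∧ (∃ k, Cm (pi6 r) (pi6 s) k) ∧ sg6 s = !sg6 r) ∨
    ((∃ m, Ot (pi6 r) (pi6 s) m) ∧ sg6 s = sg6 r) ∨ (¬ Lg (pi6 r) ∧ pi6 s = (pi6 r).rev ∧ sg6 s = sg6 r) := by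
  have : ∀ r s : R6, 0 ≤ fN 72 tI6 r s → Cc (pi6 r) (pi6 s) ∨
      (¬ Lg (pi6 r) ∧ Cm (pi6 r) (pi6 s) (rf4 (pi6 r) (pi6 s)) ∧ sg6 s = !sg6 r) ∨
      (¬ Lg (pi6 r) ∧ ¬ Lg (pi6 s) ∧ ip4 (pi6 r) (pi6 s) = 0 ∧ sg6 s = sg6 r) ∨
      (¬ Lg (pi6 r) ∧ pi6 s = (pi6 r).rev ∧ sg6 s = sg6 r) := by decide +kernel
  exact (this r s (idt_ip r s ▸ h)).imp_right (Or.imp (fun e => ⟨e.1, ⟨_, e.2.1⟩, e.2.2⟩)
    (Or.imp_left fun e => ⟨exists_ot _ _ e.1 e.2.1 e.2.2.1, e.2.2.2⟩))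

theorem cc6 {a b : R4} (h : Cc a b) (s s' : Bool) : 0 ≤ ip Φ6 (lf6 a s) (lf6 b s') := by
  rw [idt_ip]
  revert a b s s'
  decide +kernel

theorem cmL6 {a b k : R4} (ha : Lg a) (h : Cm a b k) : RAdd Φ6 (lf6 a true) (lf6 b true) (lf6 k true) := by
  rw [idt_add]
  exact (by decide +kernel : ∀ a : R4, Lg a → ∀ b k, Cm a b k →
    NAdd (fN 72 tI6) (lf6 a true) (lf6 b true) (lf6 k true)) a ha b k h

theorem cmS6 {a b k : R4} (ha : ¬ Lg a) (h : Cm a b k) (s : Bool) :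
    RAdd Φ6 (lf6 a s) (lf6 b s) (lf6 k !s) ∧ 0 ≤ ip Φ6 (lf6 a s) (lf6 b !s) := by
  rw [idt_add, idt_ip]
  exact (by decide +kernel : ∀ a : R4, ¬ Lg a → ∀ b k, Cm a b k → ∀ s,
    NAdd (fN 72 tI6) (lf6 a s) (lf6 b s) (lf6 k !s) ∧ 0 ≤ fN 72 tI6 (lf6 a s) (lf6 b !s)) a ha b k h s

theorem ls6 {l b k m : R4} (h : Ls l b k m) (s : Bool) : RAdd Φ6 (lf6 l true) (lf6 b s) (lf6 k s) := by
  rw [idt_add]
  exact (by decide +kernel : ∀ l : R4, Lg l → ∀ b, ¬ Lg b → ∀ k, Ad l b k → ∀ s,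
    NAdd (fN 72 tI6) (lf6 l true) (lf6 b s) (lf6 k s)) l h.1 b h.2.1 k h.2.2.1 s

theorem ot6 {a b m : R4} (h : Ot a b m) (s : Bool) :
    RAdd Φ6 (lf6 a s) (lf6 b !s) (lf6 m true) ∧ 0 ≤ ip Φ6 (lf6 a s) (lf6 b s) := by
  rw [idt_add, idt_ip]
  exact (by decide +kernel : ∀ a : R4, ¬ Lg a → ∀ b, ¬ Lg b → ∀ m, Ad a b m → Lg m → ∀ s,
    NAdd (fN 72 tI6) (lf6 a s) (lf6 b !s) (lf6 m true) ∧ 0 ≤ fN 72 tI6 (lf6 a s) (lf6 b s))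
    a h.1 b h.2.1 m h.2.2.1 h.2.2.2 s

end CfsgLib.SLF
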