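import Mathlib
import Cfsg.Agent.Lib.SLF.IdT
import Cfsg.Agent.Lib.Twist.E6

/-!
# The model of the twisted group
-/

set_option autoImplicit false
set_option linter.unusedSectionVars false

namespace CfsgLib.SLF

open Cfsg.Lie CfsgLib.RGD CfsgLib.Stein CfsgLib.Semi CfsgLib.SLE CfsgLib.UFP Subgroup
open scoped commutatorElement Pointwise

universe u

variable {F : Type} [Field F] [Finite F] [CharP F 2] {G : Type u} [Group G] [Finite G]
  {S : StSys ΦF4 F G}

namespace IdMA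

theorem comm4 {a₁ a₂ b₁ b₂ : G} (h1 : Commute a₁ a₂) (h2 : Commute a₁ b₂) (h3 : Commute b₁ a₂)
    (h4 : Commute b₁ b₂) : a₁ * a₂ * (b₁ * b₂) * (a₁ * a₂)⁻¹ * (b₁ * b₂)⁻¹ =
      a₁ * b₁ * a₁⁻¹ * b₁⁻¹ * (a₂ * b₂ * a₂⁻¹ * b₂⁻¹) := by
  have c : ∀ g : G, Commute g a₂ → Commute g b₂ → Commute g (a₂ * b₂ * a₂⁻¹ * b₂⁻¹) := fun g k k' =>
    ((k.mul_right k').mul_right k.inv_right).mul_right k'.inv_right
  have c1 := (c a₁ h1 h2).inv_left
  have c2 := (c b₁ h3 h4).inv_left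
  calc a₁ * a₂ * (b₁ * b₂) * (a₁ * a₂)⁻¹ * (b₁ * b₂)⁻¹
      = a₁ * (a₂ * b₁) * b₂ * a₂⁻¹ * (a₁⁻¹ * b₂⁻¹) * b₁⁻¹ := by group
    _ = a₁ * b₁ * ((a₂ * b₂ * a₂⁻¹ * b₂⁻¹) * a₁⁻¹) * b₁⁻¹ := by
        rw [← h3.eq, h2.inv_left.inv_right.eq]; group
    _ = a₁ * b₁ * a₁⁻¹ * ((a₂ * b₂ * a₂⁻¹ * b₂⁻¹) * b₁⁻¹) := by rw [← c1.eq]; group
    _ = _ := by rw [← c2.eq]; group

theorem cc_self (b : R4) (hb : ¬ Lg b) : Cc b b := by
  have := (sh_iff b).1 hb
  exact ⟨by omega, .inr (.inr (by omega))⟩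

theorem star_alg {δ : F} (c : F) : star (algebraMap F (KK δ) c) = algebraMap F _ c := by
  ext <;> simp

theorem add_star {δ : F} (z : KK δ) : z + star z = algebraMap F _ z.im := by
  ext
  · simp [← add_assoc, CharTwo.add_self_eq_zero]
  · simp

theorem lf_ne : ∀ b, ¬ Lg b → lf6 b true ≠ lf6 b false := by decide +kernel

theorem eps : ∀ r < chevE6.nroots, epsE6 r = 1 ∨ epsE6 r = -1 := by decide +kernel

theorem gens : (lf6 33 true).1 = e6p1 ∧ (lf6 33 false).1 = e6p6 ∧ (lf6 27 true).1 = e6p3 ∧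
    (lf6 27 false).1 = e6p5 ∧ (lf6 14 false).1 = e6m1 ∧ (lf6 14 true).1 = e6m6 ∧ (lf6 20 false).1 = e6m3 ∧
    (lf6 20 true).1 = e6m5 ∧ (lf6 24 true).1 = e6p2 ∧ (lf6 25 true).1 = e6p4 ∧ (lf6 23 true).1 = e6m2 ∧
    (lf6 22 true).1 = e6m4 ∧
    ¬ Lg 33 ∧ ¬ Lg 27 ∧ ¬ Lg 14 ∧ ¬ Lg 20 ∧ Lg 24 ∧ Lg 25 ∧ Lg 23 ∧ Lg 22 ∧ Lg 47 := by decide +kernel

end IdMA

theorem relG_of_rel {δ : F} [Fact (∀ r : F, r ^ 2 ≠ δ + 1 * r)] {X : R6 → KK δ → G} (hX : SLE.Rel Φ6 X) :
    RelG (fun r c => if Lg r then X (lf6 r true) (algebraMap F _ c) else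
      X (lf6 r true) (algebraMap F _ c) * X (lf6 r false) (algebraMap F _ c))
      fun r v => X (lf6 r true) v * X (lf6 r false) (star v) := by
  set x : R4 → F → G := fun r c => if Lg r then X (lf6 r true) (algebraMap F _ c) else
      X (lf6 r true) (algebraMap F _ c) * X (lf6 r false) (algebraMap F _ c) with hx
  set y : R4 → KK δ → G := fun r v => X (lf6 r true) v * X (lf6 r false) (star v) with hy
  have xl : ∀ r, Lg r → ∀ c, x r c = X (lf6 r true) (algebraMap F _ c) := fun r hr c => if_pos hr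
  have yv : ∀ r v, y r v = X (lf6 r true) v * X (lf6 r false) (star v) := fun _ _ => rfl
  have cc : ∀ {a b : R4}, Cc a b → ∀ s s' u v, Commute (X (lf6 a s) u) (X (lf6 b s') v) :=
    fun h s s' u v => hX.com _ _ (cc6 h s s') u v
  have base : ∀ r, ¬ Lg r → ∀ c, y r (algebraMap F _ c) = x r c := fun r hr c => by
    rw [yv, IdMA.star_alg]
    exact (if_neg hr).symm
  have add : ∀ r, ¬ Lg r → ∀ u v, y r (u + v) = y r u * y r v := fun r hr u v => by
    rw [yv, yv, yv, star_add, hX.add, hX.add, mul_assoc, mul_assoc, ← mul_assoc (X _ v),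
      (cc (IdMA.cc_self r hr) true false v _).eq, mul_assoc]
  have r1 : ∀ a b k, ¬ Lg a → Cm a b k → ∀ u v,
      y a u * y b v * (y a u)⁻¹ * (y b v)⁻¹ = y k (star (u * v)) := fun a b k ha h u v => by
    have hb : ¬ Lg b := fun e => ha (h.2.1.2 e)
    have hk : ¬ Lg k := fun e => ha (h.2.2.2 e)
    have i1 : 0 ≤ ip Φ6 (lf6 a true) (lf6 b false) := (cmS6 ha h true).2
    have i2 : 0 ≤ ip Φ6 (lf6 a false) (lf6 b true) := (cmS6 ha h false).2
    rw [yv, yv, yv, IdMA.comm4 (cc (IdMA.cc_self a ha) _ _ _ _) (hX.com _ _ i1 _ _)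
      (hX.com _ _ i2 _ _).symm (cc (IdMA.cc_self b hb) _ _ _ _),
      hX.cm _ _ _ (cmS6 ha h true).1, hX.cm _ _ _ (cmS6 ha h false).1, star_star, star_mul', Bool.not_true,
      Bool.not_false, (cc (IdMA.cc_self k hk) _ _ _ _).eq]
  have r2 : ∀ a b m, Ot a b m → ∀ u v,
      y a u * y b v * (y a u)⁻¹ * (y b v)⁻¹ = x m (u * star v).im := fun a b m h u v => by
    rw [yv, yv, xl m h.2.2.2, (cc (IdMA.cc_self b h.2.1) true false _ _).eq,
      IdMA.comm4 (cc (IdMA.cc_self a h.1) _ _ _ _) (hX.com _ _ (ot6 h true).2 _ _)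
      (hX.com _ _ (ot6 h false).2 _ _).symm (cc (IdMA.cc_self b h.2.1) _ _ _ _)]
    have e1 := hX.cm _ _ _ (ot6 h true).1 u (star v)
    have e2 := hX.cm _ _ _ (ot6 h false).1 (star u) v
    rw [Bool.not_true] at e1
    rw [Bool.not_false] at e2
    rw [e1, e2, ← hX.add, ← IdMA.add_star, star_mul', star_star]
  have r3 : ∀ l b k m, Ls l b k m → ∀ c v,
      x l c * y b v * (x l c)⁻¹ * (y b v)⁻¹ = y k (c • v) * x m (c * v.norm) := fun l b k m h c v => by
    have e1 := hX.cm _ _ _ (ls6 h true) (algebraMap F _ c) v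
    have e2 := hX.cm _ _ _ (ls6 h false) (algebraMap F _ c) (star v)
    have e3 := hX.cm _ _ _ (ot6 h.ot.symm true).1 v (algebraMap F _ c * star v)
    have e4 := cc (a := m) (b := k) ⟨by rw [ip4_comm, (BA4.ls_ip h).1]; omega, .inl h.ip.2.2⟩ true false
      (v * (algebraMap F _ c * star v)) (algebraMap F _ c * star v)
    rw [Bool.not_true] at e3
    rw [yv, yv, xl l h.1, xl m h.ip.2.2, Algebra.smul_def, star_mul', IdMA.star_alg, map_mul,
      QuadraticAlgebra.algebraMap_norm_eq_mul_star, mul_left_comm (algebraMap F _ c), mul_assoc _ _ (X _ _),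
      ← e4.eq, ← e3, ← e2, ← e1]
    group
  have c1 : ∀ a b, Cc a b → ∀ u v, y a u * y b v = y b v * y a u := fun a b h u v =>
    ((cc h _ _ _ _).mul_right (cc h _ _ _ _)).mul_left ((cc h _ _ _ _).mul_right (cc h _ _ _ _))
  have c2 : ∀ l b, Lg l → Cc l b → ∀ c v, x l c * y b v = y b v * x l c := fun l b hl h c v => by
    rw [xl l hl]
    exact (cc h _ _ _ _).mul_right (cc h _ _ _ _)
  refine ⟨⟨fun r u v => ?_, fun a b k h u v => ?_, fun l b k m h c v => ?_, fun a b h u v => ?_⟩, add, base,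
    r1, r2, r3, fun a b _ _ h => c1 a b ⟨h.le, .inr (.inr h.ne')⟩, fun l b hl _ h => c2 l b hl ⟨h, .inl hl⟩⟩
  · by_cases hr : Lg r
    · rw [xl r hr, xl r hr, xl r hr, map_add, hX.add]
    · rw [← base r hr, ← base r hr, ← base r hr, map_add, add r hr]
  · by_cases ha : Lg a
    · rw [xl a ha, xl b (h.2.1.1 ha), xl k (h.2.2.1 ha), hX.cm _ _ _ (cmL6 ha h), map_mul]
    · rw [← base a ha, ← base b fun e => ha (h.2.1.2 e), ← base k fun e => ha (h.2.2.2 e), r1 a b k ha h,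
        ← map_mul, IdMA.star_alg]
  · rw [← base b h.2.1, r3 l b k m h, ← base k h.ip.2.1, Algebra.smul_def, map_mul,
      QuadraticAlgebra.norm_algebraMap]
  · by_cases ha : Lg a
    · by_cases hb : Lg b
      · rw [xl a ha, xl b hb]
        exact cc ⟨h, .inl ha⟩ _ _ _ _
      · rw [← base b hb, c2 a b ha ⟨h, .inl ha⟩]
    · by_cases hb : Lg b
      · rw [← base a ha, c2 b a hb ⟨ip4_comm a b ▸ h, .inl hb⟩]
      · rw [← base a ha, ← base b hb]
        by_cases h0 : ip4 a b = 0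
        · obtain ⟨m, hm⟩ := exists_ot a b ha hb h0
          have := r2 a b m hm (algebraMap F _ u) (algebraMap F _ v)
          have z := hX.add (lf6 m true) 0 0
          rw [add_zero, left_eq_mul] at z
          rw [IdMA.star_alg, ← map_mul, QuadraticAlgebra.algebraMap_im, xl m hm.2.2.2, map_zero, z,
            mul_inv_eq_one, mul_inv_eq_iff_eq_mul] at this
          exact this
        · exact c1 a b ⟨h, .inr (.inr h0)⟩ _ _

theorem star_eq_pow {δ : F} (hδ : ∀ e : F, e * e + e ≠ δ) (v : KK δ) : star v = v ^ Nat.card F := by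
  have h2 : (2 : F) = 0 := CharTwo.two_eq_zero
  have : Fact (∀ r : F, r ^ 2 ≠ δ + 1 * r) := ⟨fun r e => hδ r (by linear_combination e + r * h2)⟩
  have : Finite (KK δ) := Finite.of_equiv _ (QuadraticAlgebra.equivProd δ 1).symm
  let _ := Fintype.ofFinite F
  let _ := Fintype.ofFinite (KK δ)
  have hK : Fintype.card (KK δ) = Nat.card F ^ 2 := by
    rw [← Nat.card_eq_fintype_card, Nat.card_congr (QuadraticAlgebra.equivProd δ 1), Nat.card_prod, pow_two]
  let φ := FiniteField.frobeniusAlgHom F (KK δ)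
  have hφ : ∀ t, φ t = t ^ Nat.card F := fun t => by
    rw [Nat.card_eq_fintype_card]
    rfl
  have e : (φ v - v) * (φ v - star v) = 0 := by
    have e1 := φ.commutes v.im
    have e2 := φ.commutes v.norm
    rw [← IdMA.add_star, map_add] at e1
    rw [QuadraticAlgebra.algebraMap_norm_eq_mul_star, map_mul] at e2
    linear_combination φ v * e1 - e2
  rcases mul_eq_zero.1 e with e | e
  · rw [sub_eq_zero] at e
    let j : F → {t : KK δ // t ^ Nat.card F = t} := fun c => ⟨algebraMap F _ c, by rw [← hφ, φ.commutes]⟩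
    have hj : Function.Bijective j := (Nat.bijective_iff_injective_and_card j).2
      ⟨fun a b h => (algebraMap F (KK δ)).injective (congrArg Subtype.val h),
        (Twist.card_fixed hK Nat.card_pos).symm⟩
    obtain ⟨c, hc⟩ := hj.2 ⟨v, (hφ v).symm.trans e⟩
    have hc' : algebraMap F _ c = v := congrArg Subtype.val hc
    rw [← hφ, e, ← hc', IdMA.star_alg]
  · rw [← hφ, sub_eq_zero.1 e]

theorem exists_model {δ : F} (hδ : ∀ e : F, e * e + e ≠ δ) : ∃ (K : Type) (_ : Field K) (_ : Fintype K),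
    Fintype.card K = Nat.card F ^ 2 ∧ ∃ (M : Type) (_ : Group M) (_ : Finite M) (S' : StSys ΦF4 F M)
      (y' : R4 → KK δ → M), RT S' y' ∧ IsSimpleGroup (GG0 S' y') ∧
      Nonempty (GG0 S' y' ≃* twistedE6 K (Nat.card F)) := by
  have h2 : (2 : F) = 0 := CharTwo.two_eq_zero
  have : Fact (∀ r : F, r ^ 2 ≠ δ + 1 * r) := ⟨fun r e => hδ r (by linear_combination e + r * h2)⟩
  have : Finite (KK δ) := Finite.of_equiv _ (QuadraticAlgebra.equivProd δ 1).symm
  have : CharP (KK δ) 2 := charP_of_injective_algebraMap (QuadraticAlgebra.algebraMap_injective (R := F)) 2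
  let _ := Fintype.ofFinite (KK δ)
  have hK : Fintype.card (KK δ) = Nat.card F ^ 2 := by
    rw [← Nat.card_eq_fintype_card, Nat.card_congr (QuadraticAlgebra.equivProd δ 1), Nat.card_prod, pow_two]
  obtain ⟨E, hE⟩ := exists_er6
  have hX : SLE.Rel Φ6 fun r (c : KK δ) => xG chevE6 (KK δ) r c := hE.rel_xG
  have RG := relG_of_rel hX
  have hS := Twist.sharp_stSys Weyl.rtOKE6 (KK δ)
  obtain ⟨g1, g2, g3, g4, g5, g6, g7, g8, g9, g10, g11, g12, s1, s2, s3, s4, l1, l2, l3, l4, l5⟩ := IdMA.gens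
  obtain ⟨S', hS', A⟩ := kit RG.rx ⟨47, 1, by
    rw [if_pos l5, map_one]
    exact fun e => one_ne_zero (hS.x_eq_zero (lf6 47 true) (congrArg Subtype.val e))⟩
  set y : R4 → KK δ → chevE6.group (KK δ) :=
    fun r v => xG chevE6 (KK δ) (lf6 r true) v * xG chevE6 (KK δ) (lf6 r false) (star v) with hy
  have R : RT S' y := ⟨A, hS' ▸ RG, fun r hr v e => (hS.x2_inj (IdMA.lf_ne r hr) (b := star v) (c := 0) (d := 0) (by
    rw [StSys.x_zero, StSys.x_zero, mul_one]
    exact congrArg Subtype.val e)).1⟩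
  let φ : KK δ →+* KK δ := starRingEnd _
  have hφ : ∀ t, φ t = t ^ Nat.card F := star_eq_pow hδ
  have hφ2 : ∀ t, φ (φ t) = t := star_star
  have σx : ∀ (b : R4) s t, (Twist.twE6 φ).σ (Chev.xU chevE6 (KK δ) (lf6 b s) t) =
      Chev.xU chevE6 (KK δ) (lf6 b !s) (star t) := fun b s t => by
    rw [Twist.twE6_σ_x φ (lf6 b s).2, rho_lf]
    rcases IdMA.eps _ (lf6 b s).2 with e | e <;> rw [e]
    · rw [Int.cast_one, one_mul]; rfl
    · rw [Int.cast_neg, Int.cast_one, CharTwo.neg_eq, one_mul]; rfl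
  have xg : ∀ (r : R6) t, Chev.xU chevE6 (KK δ) r t ∈ (Chev.stSys Weyl.rtOKE6 (KK δ)).grp := fun r t =>
    (Chev.stSys Weyl.rtOKE6 (KK δ)).x_mem_grp r t
  have yf : ∀ r, ¬ Lg r → ∀ v, (y r v).1 ∈ (Twist.twE6 φ).Fix := fun r hr v =>
    ⟨mul_mem (xg _ _) (xg _ _), by
      change (Twist.twE6 φ).σ (Chev.xU _ _ _ _ * Chev.xU _ _ _ _) = _
      rw [(Twist.twE6 φ).σ_mul _ (xg _ _) _ (xg _ _), σx, σx, star_star]
      exact congrArg Subtype.val (hX.com _ _ (cc6 (IdMA.cc_self r hr) false true) (star v) v)⟩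
  have xl : ∀ r, Lg r → ∀ c, S'.x r c = xG chevE6 (KK δ) (lf6 r true) (algebraMap F _ c) := fun r hr c => by
    rw [hS']
    exact if_pos hr
  have key : (GG0 S' y).map (chevE6.group (KK δ)).subtype = twistedE6 (KK δ) (Nat.card F) := by
    apply le_antisymm
    · rw [Twist.eq_FixE6 hφ hφ2, map_le_iff_le_comap]
      refine UG_le' (fun r _ c => ?_) fun r _ hr v => yf r hr v
      by_cases hr : Lg r
      · rw [xl r hr]
        refine ⟨xg _ _, ?_⟩
        change (Twist.twE6 φ).σ (Chev.xU _ _ _ _) = Chev.xU _ _ _ _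
        rw [σx, lf_long r _ hr, IdMA.star_alg]
      · rw [← R.rel.base r hr]
        exact yf r hr _
    · have m1 : ∀ r, Lg r → ∀ t : KK δ, t ^ Nat.card F = t →
          Chev.xU chevE6 (KK δ) (lf6 r true) t ∈ (GG0 S' y).map (chevE6.group (KK δ)).subtype := by
        intro r hr t ht
        rw [← star_eq_pow hδ] at ht
        have e1 := congrArg QuadraticAlgebra.re ht
        rw [QuadraticAlgebra.re_star, one_mul, add_eq_left] at e1
        refine ⟨_, x_mem_UG (Set.mem_univ r) t.re, ?_⟩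
        rw [xl r hr, show algebraMap F (KK δ) t.re = t from QuadraticAlgebra.ext rfl e1.symm]
        rfl
      have m2 : ∀ r, ¬ Lg r → ∀ t : KK δ, Chev.xU chevE6 (KK δ) (lf6 r true) t *
          Chev.xU chevE6 (KK δ) (lf6 r false) (t ^ Nat.card F) ∈
            (GG0 S' y).map (chevE6.group (KK δ)).subtype := fun r hr t =>
        ⟨_, y_mem_UG (Set.mem_univ r) hr t, by rw [← star_eq_pow hδ]; rfl⟩
      have m3 : ∀ r, ¬ Lg r → ∀ t : KK δ, Chev.xU chevE6 (KK δ) (lf6 r false) t *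
          Chev.xU chevE6 (KK δ) (lf6 r true) (t ^ Nat.card F) ∈
            (GG0 S' y).map (chevE6.group (KK δ)).subtype := fun r hr t =>
        ⟨_, y_mem_UG (Set.mem_univ r) hr (star t), by
          rw [← star_eq_pow hδ]
          have := congrArg Subtype.val (hX.com _ _ (cc6 (IdMA.cc_self r hr) true false) (star t) t)
          rw [hy]
          simp only [star_star]
          exact this⟩
      refine Twist.gen_le ?_
      rintro _ (⟨t, ht, r, hr, rfl⟩ | ⟨t, ⟨r, s⟩, hr, rfl⟩)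
      · simp only [Chev.wordU, List.map_cons, List.map_nil, List.prod_cons, List.prod_nil, mul_one]
        simp only [List.mem_cons, List.not_mem_nil, or_false] at hr
        rcases hr with rfl | rfl | rfl | rfl
        · exact g9 ▸ m1 24 l1 t ht
        · exact g11 ▸ m1 23 l3 t ht
        · exact g10 ▸ m1 25 l2 t ht
        · exact g12 ▸ m1 22 l4 t ht
      · simp only [Chev.wordU, List.map_cons, List.map_nil, List.prod_cons, List.prod_nil, mul_one]
        simp only [List.mem_cons, List.not_mem_nil, or_false, Prod.mk.injEq] at hr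
        rcases hr with ⟨rfl, rfl⟩ | ⟨rfl, rfl⟩ | ⟨rfl, rfl⟩ | ⟨rfl, rfl⟩
        · exact g1 ▸ g2 ▸ m2 33 s1 t
        · exact g5 ▸ g6 ▸ m3 14 s3 t
        · exact g3 ▸ g4 ▸ m2 27 s2 t
        · exact g7 ▸ g8 ▸ m3 20 s4 t
  have e : GG0 S' y ≃* twistedE6 (KK δ) (Nat.card F) :=
    ((GG0 S' y).equivMapOfInjective _ (subtype_injective _)).trans (MulEquiv.subgroupCongr key)
  have := (Twist.simpleE6 hφ hK).1
  exact ⟨KK δ, inferInstance, inferInstance, hK, chevE6.group (KK δ), inferInstance, inferInstance, S', y, R,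
    e.isSimpleGroup, ⟨e⟩⟩

end CfsgLib.SLF
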