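import Mathlib
import Cfsg.Agent.Lib.SLF.GA

/-!
# The Weyl elements of the twisted group
-/

set_option autoImplicit false
set_option linter.unusedSectionVars false

namespace CfsgLib.SLF

open Cfsg.Lie CfsgLib.RGD CfsgLib.Stein CfsgLib.Semi CfsgLib.SLE CfsgLib.UFP Subgroup
open scoped commutatorElement Pointwise

universe u

variable {F : Type} [Field F] [Finite F] [CharP F 2] {G : Type u} [Group G] [Finite G]
  {S : StSys ΦF4 F G}

/-- the elements which act by scalars on the big root groups -/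
def Dg (S : StSys ΦF4 F G) {δ : F} (y : R4 → KK δ → G) : Subgroup G where
  carrier := {g | (∀ r, Lg r → ∃ d : Fˣ, ∀ c, g * S.x r c * g⁻¹ = S.x r (d * c)) ∧
    ∀ r, ¬ Lg r → ∃ d : (KK δ)ˣ, ∀ v, g * y r v * g⁻¹ = y r (d * v)}
  one_mem' := ⟨fun r _ => ⟨1, fun c => by simp⟩, fun r _ => ⟨1, fun c => by simp⟩⟩
  mul_mem' := fun {a b} ⟨h1, h2⟩ ⟨h3, h4⟩ => ⟨fun r hr => by
    obtain ⟨d, k⟩ := h1 r hr
    obtain ⟨d', k'⟩ := h3 r hr
    exact ⟨d * d', fun c => by rw [Units.val_mul, mul_assoc (d : F), ← k, ← k']; group⟩, fun r hr => by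
    obtain ⟨d, k⟩ := h2 r hr
    obtain ⟨d', k'⟩ := h4 r hr
    exact ⟨d * d', fun c => by rw [Units.val_mul, mul_assoc (d : KK δ), ← k, ← k']; group⟩⟩
  inv_mem' := fun {a} ⟨h1, h2⟩ => ⟨fun r hr => by
    obtain ⟨d, k⟩ := h1 r hr
    exact ⟨d⁻¹, fun c => by rw [← d.mul_inv_cancel_left c, ← k, d.mul_inv_cancel_left]; group⟩, fun r hr => by
    obtain ⟨d, k⟩ := h2 r hr
    exact ⟨d⁻¹, fun c => by rw [← d.mul_inv_cancel_left c, ← k, d.mul_inv_cancel_left]; group⟩⟩

/-- `g` permutes the big root groups like `w`, semilinearly with respect to `τ` -/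
def Pm (S : StSys ΦF4 F G) {δ : F} (y : R4 → KK δ → G) (g : G) (w : R4 → R4) (τ : KK δ → KK δ) : Prop :=
  (∀ r, Lg r → ∃ d : Fˣ, ∀ c, g * S.x r c * g⁻¹ = S.x (w r) (d * c)) ∧
    ∀ r, ¬ Lg r → ∃ d : (KK δ)ˣ, ∀ v, g * y r v * g⁻¹ = y (w r) (d * τ v)

section Alg

variable {δ : F}

theorem in_two (z : KK δ) : z + z = 0 := by ext <;> simp [CharTwo.add_self_eq_zero]

theorem in_im (z : KK δ) : algebraMap F (KK δ) z.im = z + star z := by
  ext
  · simp [← add_assoc, CharTwo.add_self_eq_zero]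
  · simp

theorem in_star (c : F) : star (algebraMap F (KK δ) c) = algebraMap F (KK δ) c := by ext <;> simp

theorem in_inj {a b : F} (h : algebraMap F (KK δ) a = algebraMap F (KK δ) b) : a = b :=
  QuadraticAlgebra.algebraMap_injective h

theorem in_tau {τ : KK δ → KK δ} (hτ : τ = id ∨ τ = star) :
    (∀ a b, τ (a * b) = τ a * τ b) ∧ (∀ a, τ (τ a) = a) ∧
      ∀ d : (KK δ)ˣ, ∃ d' : (KK δ)ˣ, (d' : KK δ) = τ d := by
  rcases hτ with rfl | rfl
  · exact ⟨fun _ _ => rfl, fun _ => rfl, fun d => ⟨d, rfl⟩⟩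
  · exact ⟨star_mul', star_star, fun d => ⟨star d, rfl⟩⟩

theorem in_ex : ∀ r : R4, ¬ Lg r → ∃ a, ¬ Lg a ∧ ip4 r a = 1 ∧ ¬ Lg (rf4 a r) ∧ ip4 r (rf4 a r) = 1 ∧
    Cm a (rf4 a r) r := by decide +kernel

end Alg

omit [Finite G] in
theorem in_conj3 (p q x : G) : p * q * p * x * (p * q * p)⁻¹ = p * (q * (p * x * p⁻¹) * q⁻¹) * p⁻¹ := by
  group

omit [Finite G] in
theorem in_cm (g a b : G) : g * (a * b) * g⁻¹ = g * a * g⁻¹ * (g * b * g⁻¹) := by group

omit [Finite G] in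
theorem in_sq {p q : G} (hp : p * p = 1) (hq : q * q = 1) : p * q * p * (p * q * p) = 1 := by
  rw [show p * q * p * (p * q * p) = p * (q * (p * p) * q) * p by group, hp, mul_one, hq, mul_one, hp]

omit [Finite G] in
theorem in_flip {g a b : G} (g2 : g * g = 1) (e : g * a * g⁻¹ = b) : g * b * g⁻¹ = a := by
  rw [← e, show g * (g * a * g⁻¹) * g⁻¹ = g * g * a * (g * g)⁻¹ by group, g2, one_mul, inv_one, mul_one]

theorem iso_rf4 (d : R4) : Iso4 (rf4 d) := fun r s => rf4_ip d r s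

theorem in_neg (d r : R4) : ip4 d (rf4 d r) = -ip4 d r := by
  rw [← rf4_ip d, rf4_rf4, rf4_self, ip4_rev]

namespace RT

variable {δ : F} {y : R4 → KK δ → G} (h : RT S y)
include h

theorem inA {l b k m : R4} (e : Ls l b k m) (c : F) (v : KK δ) :
    S.x l c * y b v * (S.x l c)⁻¹ = y k (c • v) * S.x m (c * v.norm) * y b v := by
  rw [← h.rel.r3 _ _ _ _ e, inv_mul_cancel_right]

theorem inB {l b k m : R4} (e : Ls l b k m) (c : F) (v : KK δ) :
    y b v * S.x l c * (y b v)⁻¹ = S.x l c * (y k (c • v) * S.x m (c * v.norm)) := by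
  rw [← h.rel.r3 _ _ _ _ e, h.amb.x_inv, ← mul_assoc, ← mul_assoc, ← mul_assoc, h.amb.x_sq, one_mul]

theorem inC {a b m : R4} (e : Ot a b m) (u v : KK δ) :
    y a u * y b v * (y a u)⁻¹ = S.x m (u * star v).im * y b v := by
  rw [← h.rel.r2 _ _ _ e, inv_mul_cancel_right]

theorem inD {a b k : R4} (ha : ¬ Lg a) (e : Cm a b k) (u v : KK δ) :
    y a u * y b v * (y a u)⁻¹ = y k (star (u * v)) * y b v := by
  rw [← h.rel.r1 _ _ _ ha e, inv_mul_cancel_right]

theorem cxy {l b : R4} (hl : Lg l) (hb : ¬ Lg b) (e : 0 ≤ ip4 l b) (c : F) (v : KK δ) :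
    Commute (S.x l c) (y b v) := h.rel.c2 l b hl hb e c v

theorem cyy {a b : R4} (ha : ¬ Lg a) (hb : ¬ Lg b) (e : 0 < ip4 a b) (u v : KK δ) :
    Commute (y a u) (y b v) := h.rel.c1 a b ha hb e u v

theorem cxx {a b : R4} (e : 0 ≤ ip4 a b) (u v : F) : Commute (S.x a u) (S.x b v) := h.amb.com e u v

theorem nl_short {d r k m : R4} (e1 : Ls d r k m) {c e : F} (hc : c * e = 1) (w : KK δ) :
    S.x d c * S.x d.rev e * S.x d c * y r w * (S.x d c * S.x d.rev e * S.x d c)⁻¹ = y k (c • w) := by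
  have hd := e1.1
  have hr := e1.2.1
  obtain ⟨i0, hk, hm⟩ := e1.ip
  obtain ⟨i1, i2, i3, i4, i5⟩ := BA4.ls_ip e1
  have e2 : Ls d.rev k r m := ⟨(lg_rev d).2 hd, hk, e1.2.2.1.symm.sub.symm, e1.2.2.2.symm⟩
  have a1 : e • c • w = w := by rw [smul_smul, mul_comm, hc, one_smul]
  have a2 : e * (c • w).norm = c * w.norm := in_inj (δ := δ) (by
    have := congrArg (algebraMap F (KK δ)) hc
    simp only [map_mul, map_one, QuadraticAlgebra.algebraMap_norm_eq_mul_star, Algebra.smul_def,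
      star_mul', in_star] at this ⊢
    linear_combination (algebraMap F (KK δ) c * w * star w) * this)
  have a3 : (w * star (c • w)).im = 0 := in_inj (δ := δ) (by
    simp only [in_im, map_zero, Algebra.smul_def, star_mul', in_star, star_star]
    linear_combination in_two (algebraMap F (KK δ) c * w * star w))
  rw [in_conj3, h.inA e1, in_cm (S.x d.rev e), in_cm (S.x d.rev e) (y k _),
    h.inA e2, a1, a2,
    (h.cxx (by rw [ip4_rev]; omega) _ _).mul_inv_cancel,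
    (h.cxy e2.1 hr (by rw [ip4_rev]; omega) _ _).mul_inv_cancel,
    mul_assoc (y r w * _), ← (h.cxy hm hk (by rw [ip4_comm]; omega) _ _).eq, ← mul_assoc (y r w * _),
    mul_assoc (y r w), h.amb.x_sq, mul_one]
  nth_rw 2 [← h.y_inv hr]
  rw [h.inC e1.ot.symm, a3, S.x_zero, one_mul, (h.cxy hd hk (by omega) _ _).mul_inv_cancel]

theorem ns_long {l b k m : R4} (e1 : Ls l b k m) {v u : KK δ} (hv : star v * u = 1) (c : F) :
    y b v * y b.rev u * y b v * S.x l c * (y b v * y b.rev u * y b v)⁻¹ = S.x m (v.norm * c) := by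
  have hl := e1.1
  have hb := e1.2.1
  have hb' : ¬ Lg b.rev := fun e => hb ((lg_rev b).1 e)
  obtain ⟨i0, hk, hm⟩ := e1.ip
  obtain ⟨i1, i2, i3, i4, i5⟩ := BA4.ls_ip e1
  have e2 : Ls m b.rev k l := ⟨hm, hb', e1.2.2.2.sub, e1.2.2.1.sub⟩
  have hv' : v * star u = 1 := by rw [← star_star v, ← star_mul', hv, star_one]
  have a1 : (u * star (c • v)).im = 0 := in_inj (δ := δ) (by
    simp only [in_im, map_zero, Algebra.smul_def, star_mul', in_star, star_star]
    linear_combination algebraMap F (KK δ) c * hv + algebraMap F (KK δ) c * hv' +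
      in_two (algebraMap F (KK δ) c))
  have a2 : (c * v.norm) • u = c • v := by
    simp only [map_mul, QuadraticAlgebra.algebraMap_norm_eq_mul_star, Algebra.smul_def]
    linear_combination (algebraMap F (KK δ) c * v) * hv
  have a3 : c * v.norm * u.norm = c := in_inj (δ := δ) (by
    simp only [map_mul, QuadraticAlgebra.algebraMap_norm_eq_mul_star]
    linear_combination (algebraMap F (KK δ) c * v * star u) * hv + algebraMap F (KK δ) c * hv')
  rw [in_conj3, h.inB e1, in_cm (y b.rev u), in_cm (y b.rev u) (y k _),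
    h.inB e2, h.inC e2.ot.symm, a1, a2, a3, S.x_zero,
    one_mul, (h.cxy hl hb' (by rw [ip4_rev']; omega) _ _).symm.mul_inv_cancel,
    ← mul_assoc (y k _), ← (h.cxy hm hk (by rw [ip4_comm]; omega) _ _).eq, mul_assoc (S.x m _),
    ← mul_assoc (y k _), h.y_sq hk, one_mul, ← (h.cxx (a := l) (b := m) (by omega) _ _).eq,
    ← mul_assoc (S.x l c), h.amb.x_sq, one_mul,
    (h.cxy hm hb (by rw [ip4_comm]; omega) _ _).symm.mul_inv_cancel, mul_comm]

theorem ns_orth {l b k m : R4} (e1 : Ls l b k m) {v u : KK δ} (hv : star v * u = 1) (w : KK δ) :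
    y b v * y b.rev u * y b v * y k w * (y b v * y b.rev u * y b v)⁻¹ = y k (v * u * star w) := by
  have hl := e1.1
  have hb := e1.2.1
  have hb' : ¬ Lg b.rev := fun e => hb ((lg_rev b).1 e)
  obtain ⟨i0, hk, hm⟩ := e1.ip
  obtain ⟨i1, i2, i3, i4, i5⟩ := BA4.ls_ip e1
  have e2 : Ls m b.rev k l := ⟨hm, hb', e1.2.2.2.sub, e1.2.2.1.sub⟩
  have hv' : v * star u = 1 := by rw [← star_star v, ← star_mul', hv, star_one]
  have a1 : (v * star w).im * u.norm = (u * star w).im := in_inj (δ := δ) (by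
    simp only [map_mul, in_im, QuadraticAlgebra.algebraMap_norm_eq_mul_star, star_mul', star_star]
    linear_combination (u * star w) * hv' + (star u * w) * hv)
  have a2 : (v * star w).im • u + w = v * u * star w := by
    simp only [in_im, Algebra.smul_def, star_mul', star_star]
    linear_combination w * hv + in_two w
  have a3 : (v * star (v * u * star w)).im = (v * star w).im := in_inj (δ := δ) (by
    simp only [in_im, star_mul', star_star]
    linear_combination (star v * w) * hv' + (v * star w) * hv)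
  rw [in_conj3, h.inC e1.ot.symm, in_cm (y b.rev u), h.inB e2, h.inC e2.ot.symm, a1, mul_assoc (S.x m _),
    mul_assoc (y k _), ← mul_assoc (S.x l _), h.amb.x_sq, one_mul, ← h.rel.add k hk, a2, in_cm (y b v),
    h.inC e1.ot.symm, a3, (h.cxy hm hb (by rw [ip4_comm]; omega) _ _).symm.mul_inv_cancel,
    ← mul_assoc, h.amb.x_sq, one_mul]

theorem ns_cm {b r k : R4} (hb : ¬ Lg b) (e1 : Cm b r k) {v u : KK δ} (hv : star v * u = 1)
    (w : KK δ) :
    y b v * y b.rev u * y b v * y r w * (y b v * y b.rev u * y b v)⁻¹ = y k (star v * star w) := by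
  have hb' : ¬ Lg b.rev := fun e => hb ((lg_rev b).1 e)
  have hr : ¬ Lg r := fun e => hb (e1.2.1.2 e)
  have hk : ¬ Lg k := fun e => hb (e1.2.2.2 e)
  obtain ⟨i1, i2, i3⟩ := BA4.cm_ip e1
  have e2 : Cm b.rev k r := ⟨e1.1.symm.sub.symm, iff_of_false hb' hk, iff_of_false hb' hr⟩
  have hv' : v * star u = 1 := by rw [← star_star v, ← star_mul', hv, star_one]
  have a1 : star (u * star (v * w)) = w := by
    rw [star_mul', star_star]
    linear_combination w * hv'
  rw [in_conj3, h.inD hb e1, in_cm (y b.rev u), h.inD hb' e2, a1,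
    (h.cyy hb' hr (by rw [ip4_rev]; omega) _ _).mul_inv_cancel, (h.cyy hr hk i3 _ _).eq,
    mul_assoc (y k _), h.y_sq hr, mul_one, (h.cyy hb hk i2 _ _).mul_inv_cancel, star_mul']

theorem pm_long {d : R4} (hd : Lg d) {c e : F} (hc : c * e = 1) :
    Pm S y (S.x d c * S.x d.rev e * S.x d c) (rf4 d) id := by
  have c0 : c ≠ 0 := left_ne_zero_of_mul_eq_one hc
  have hc' : e * c = 1 := (mul_comm e c).trans hc
  refine ⟨fun r _ => ⟨Units.mk0 _ (zpow_ne_zero (-cv r d) c0), fun a => ?_⟩, fun r hr => ?_⟩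
  · rw [Units.val_mk0, ← h.amb.n_conj d r c0, StSys.n, neg4, CharTwo.neg_eq,
      ← eq_inv_of_mul_eq_one_right hc]
  have k := ((ip4_vals d r).2.1 hd hr)
  have u1 : algebraMap F (KK δ) c * algebraMap F (KK δ) e = 1 := by rw [← map_mul, hc, map_one]
  have u2 : algebraMap F (KK δ) e * algebraMap F (KK δ) c = 1 := by rw [← map_mul, hc', map_one]
  simp only [List.mem_cons, List.not_mem_nil, or_false] at k
  rcases k with k | k | k
  · have hr' : ¬ Lg (rf4 d r) := fun f => hr (((iso_rf4 d).lg r).1 f)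
    have e1 := ra_ls d _ hd hr' (by rw [in_neg, k])
    rw [rf4_rf4] at e1
    refine ⟨⟨_, _, u2, u1⟩, fun w => in_flip (in_sq (h.amb.x_sq _ _) (h.amb.x_sq _ _)) ?_⟩
    rw [h.nl_short e1 hc, Algebra.smul_def, ← mul_assoc, u1, one_mul, id]
  · refine ⟨1, fun w => ?_⟩
    rw [rf4_of_ip d r (by rw [ip4_comm, k]), Units.val_one, one_mul, id]
    exact (((h.cxy hd hr k.ge _ _).mul_left (h.cxy ((lg_rev d).2 hd) hr
      (by rw [ip4_rev]; omega) _ _)).mul_left (h.cxy hd hr k.ge _ _)).mul_inv_cancel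
  · exact ⟨⟨_, _, u1, u2⟩, fun w => by rw [h.nl_short (ra_ls d r hd hr k) hc, Algebra.smul_def, id]⟩

theorem pm_short {b : R4} (hb : ¬ Lg b) {v u : KK δ} (hv : star v * u = 1) :
    Pm S y (y b v * y b.rev u * y b v) (rf4 b) star := by
  have hb' : ¬ Lg b.rev := fun e => hb ((lg_rev b).1 e)
  have hv' : v * star u = 1 := by rw [← star_star v, ← star_mul', hv, star_one]
  have n2 := in_sq (h.y_sq hb v) (h.y_sq hb' u)
  have I := iso_rf4 b
  have u1 : v.norm * u.norm = 1 := in_inj (δ := δ) (by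
    simp only [map_mul, map_one, QuadraticAlgebra.algebraMap_norm_eq_mul_star]
    linear_combination (v * star u) * hv + hv')
  have u2 : u.norm * v.norm = 1 := (mul_comm _ _).trans u1
  have ls : ∀ m, Lg m → ip4 m b = 2 → Ls (rf4 b m) b (rf4 (rf4 b m) b) m := fun m hm k => by
    have := ra_ls _ b ((I.lg m).2 hm) hb (by rw [ip4_comm, in_neg, ip4_comm, k])
    rwa [rf4_rf4] at this
  refine ⟨fun r hr => ?_, ?_⟩
  · have k := ((ip4_vals r b).2.1 hr hb)
    simp only [List.mem_cons, List.not_mem_nil, or_false] at k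
    rcases k with k | k | k
    · refine ⟨⟨_, _, u2, u1⟩, fun c => in_flip n2 ?_⟩
      rw [h.ns_long (ls r hr k) hv, ← mul_assoc, u1, one_mul]
    · refine ⟨1, fun c => ?_⟩
      rw [rf4_of_ip b r k, Units.val_one, one_mul]
      exact (((h.cxy hr hb k.ge _ _).symm.mul_left (h.cxy hr hb'
        (by rw [ip4_rev']; omega) _ _).symm).mul_left (h.cxy hr hb k.ge _ _).symm).mul_inv_cancel
    · exact ⟨⟨_, _, u1, u2⟩, h.ns_long (ra_ls r b hr hb k) hv⟩
  have key : ∀ r, ¬ Lg r → ip4 b r = 1 ∨ ip4 b r = 0 ∨ ip4 b r = -1 → ∃ d : (KK δ)ˣ, ∀ w,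
      y b v * y b.rev u * y b v * y r w * (y b v * y b.rev u * y b v)⁻¹ =
        y (rf4 b r) (d * star w) := by
    rintro r hr (k | k | k)
    · have e1 := ra_cm' b r hb hr k
      refine ⟨⟨star u, v, (mul_comm _ _).trans hv', hv'⟩, fun w => in_flip n2 ?_⟩
      rw [h.ns_cm hb e1 hv, star_mul', star_star, star_star, ← mul_assoc, hv, one_mul]
    · obtain ⟨m, hm⟩ := exists_ot r b hr hb (by rw [ip4_comm, k])
      have e1 := ls m hm.2.2.2 (by
        rw [hm.2.2.1.ip, (sh_iff b).1 hb, ip4_comm, k]; rfl)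
      have e2 : rf4 (rf4 b m) b = r := e1.2.2.2.sub.uniq hm.2.2.1.sub
      rw [e2] at e1
      refine ⟨⟨v * u, star u * star v, by linear_combination (u * star v) * hv' + hv,
        by linear_combination (u * star v) * hv' + hv⟩, fun w => ?_⟩
      rw [rf4_of_ip b r (by rw [ip4_comm, k])]
      exact h.ns_orth e1 hv w
    · exact ⟨⟨star v, u, hv, (mul_comm _ _).trans hv⟩, h.ns_cm hb (ra_cm b r hb hr k) hv⟩
  intro r hr
  by_cases k : ip4 b r = 1 ∨ ip4 b r = 0 ∨ ip4 b r = -1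
  · exact key r hr k
  have k2 : ∀ a, ip4 r a = 1 → ip4 b a = 1 ∨ ip4 b a = 0 ∨ ip4 b a = -1 := fun a ha => by
    have k1 := (ip4_vals b r).2.2 hb hr
    simp only [List.mem_cons, List.not_mem_nil, or_false] at k1
    have k3 := (sh_iff b).1 hb
    have : ip4 b r = 2 ∨ ip4 b r = -2 := by omega
    rcases this with k4 | k4
    · rw [eq_of_ip b r (iff_of_false hb hr) (k4.trans k3.symm)]
      exact Or.inl ha
    · rw [← eq_of_ip b.rev r (iff_of_false hb' hr) (by rw [(sh_iff _).1 hb', ip4_rev, k4]; rfl),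
        ip4_rev] at ha
      omega
  obtain ⟨a, ha, i1, ha', i2, e⟩ := in_ex r hr
  obtain ⟨d, hd⟩ := key a ha (k2 a i1)
  obtain ⟨d', hd'⟩ := key _ ha' (k2 _ i2)
  refine ⟨star (d * d'), fun w => ?_⟩
  have e1 := h.rel.r1 _ _ _ ha e (star w) 1
  rw [mul_one, star_star] at e1
  rw [← e1, ← conj_mul, ← conj_mul, ← conj_mul, ← conj_inv, ← conj_inv, hd, hd',
    h.rel.r1 _ _ _ (fun f => ha ((I.lg a).1 f)) (I.cm e), star_star, star_one, mul_one,
    Units.coe_star, Units.val_mul, ← star_mul', mul_right_comm]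

omit h in
theorem pm_dg {g g' : G} {d : R4} {τ : KK δ → KK δ} (hτ : τ = id ∨ τ = star) (h1 : Pm S y g (rf4 d) τ)
    (h2 : Pm S y g' (rf4 d) τ) : g * g' ∈ Dg S y := by
  obtain ⟨t1, t2, t3⟩ := in_tau hτ
  refine ⟨fun r hr => ?_, fun r hr => ?_⟩
  · obtain ⟨a, ha⟩ := h2.1 r hr
    obtain ⟨a', ha'⟩ := h1.1 _ (((iso_rf4 d).lg r).2 hr)
    refine ⟨a' * a, fun c => ?_⟩
    rw [show g * g' * S.x r c * (g * g')⁻¹ = g * (g' * S.x r c * g'⁻¹) * g⁻¹ by group, ha, ha', rf4_rf4,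
      Units.val_mul, mul_assoc]
  · obtain ⟨a, ha⟩ := h2.2 r hr
    obtain ⟨a', ha'⟩ := h1.2 _ fun f => hr (((iso_rf4 d).lg r).1 f)
    obtain ⟨a'', e⟩ := t3 a
    refine ⟨a' * a'', fun c => ?_⟩
    rw [show g * g' * y r c * (g * g')⁻¹ = g * (g' * y r c * g'⁻¹) * g⁻¹ by group, ha, ha', rf4_rf4,
      Units.val_mul, mul_assoc, t1, t2, e]

omit h in
theorem pm_conj_dg {g a : G} {d : R4} {τ : KK δ → KK δ} (hτ : τ = id ∨ τ = star) (h1 : Pm S y g (rf4 d) τ)
    (g2 : g * g = 1) (ha : a ∈ Dg S y) : g * a * g⁻¹ ∈ Dg S y := by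
  rw [inv_eq_of_mul_eq_one_right g2, mul_assoc]
  refine pm_dg hτ h1 ⟨fun r hr => ?_, fun r hr => ?_⟩
  · obtain ⟨p, hp⟩ := h1.1 r hr
    obtain ⟨p', hp'⟩ := ha.1 _ (((iso_rf4 d).lg r).2 hr)
    refine ⟨p' * p, fun c => ?_⟩
    rw [show a * g * S.x r c * (a * g)⁻¹ = a * (g * S.x r c * g⁻¹) * a⁻¹ by group, hp, hp',
      Units.val_mul, mul_assoc]
  · obtain ⟨p, hp⟩ := h1.2 r hr
    obtain ⟨p', hp'⟩ := ha.2 _ fun f => hr (((iso_rf4 d).lg r).1 f)
    refine ⟨p' * p, fun c => ?_⟩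
    rw [show a * g * y r c * (a * g)⁻¹ = a * (g * y r c * g⁻¹) * a⁻¹ by group, hp, hp',
      Units.val_mul, mul_assoc]

theorem pm_conj_XG {g x : G} {w : R4 → R4} (hw : Iso4 w) {τ : KK δ → KK δ} (h1 : Pm S y g w τ) {r : R4}
    (hx : x ∈ XG S y r) : g * x * g⁻¹ ∈ XG S y (w r) := by
  by_cases hr : Lg r
  · obtain ⟨c, rfl⟩ := (h.mem_XG_long hr).1 hx
    obtain ⟨d, hd⟩ := h1.1 r hr
    rw [hd]
    exact x_mem_XG _ _
  · obtain ⟨c, rfl⟩ := (h.mem_XG_short hr).1 hx
    obtain ⟨d, hd⟩ := h1.2 r hr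
    rw [hd]
    exact y_mem_XG (fun f => hr ((hw.lg r).1 f)) _

theorem dg_conj {g x : G} (hg : g ∈ Dg S y) {T : Set R4} (hx : x ∈ UG S y T) : g * x * g⁻¹ ∈ UG S y T := by
  exact UG_le (H := (UG S y T).comap (MulAut.conj g).toMonoidHom) (fun r hr _ hk =>
    XG_le hr (h.pm_conj_XG (w := id) (τ := id) (fun _ _ => rfl) hg hk)) hx

theorem dg_pow (hδ : ∀ e : F, e * e + e ≠ δ) {g : G} (hg : g ∈ Dg S y) :
    g ^ (Nat.card F ^ 2 - 1) ∈ centralizer (GG0 S y : Set G) := by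
  have h2 : (2 : F) = 0 := CharTwo.two_eq_zero
  have : Fact (∀ r : F, r ^ 2 ≠ δ + 1 * r) := ⟨fun r e => hδ r (by linear_combination e + r * h2)⟩
  have : Finite (KK δ) := Finite.of_equiv _ (QuadraticAlgebra.equivProd δ 1).symm
  have hK : Nat.card (KK δ) = Nat.card F ^ 2 := by
    rw [Nat.card_congr (QuadraticAlgebra.equivProd δ 1), Nat.card_prod, pow_two]
  have key : ∀ {R : Type} [Monoid R] (z : R → G) (d : Rˣ), (∀ c, g * z c * g⁻¹ = z (d * c)) →
      ∀ n c, g ^ n * z c * (g ^ n)⁻¹ = z ((d ^ n : Rˣ) * c) := fun {R} _ z d hd n c => by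
    induction n with
    | zero => simp
    | succ n ih =>
      rw [pow_succ', pow_succ', Units.val_mul, mul_assoc (d : R), ← hd, ← ih]
      group
  refine le_centralizer_iff.1 (UG_le fun r _ k hk => ?_) (mem_zpowers _)
  refine le_centralizer_iff.1 (zpowers_le.2 ?_) (mem_zpowers k)
  rw [mem_centralizer_iff]
  refine fun k' hk' => (mem_centralizer_singleton_iff.1 (zpowers_le.2
    (mem_centralizer_singleton_iff.2 (mul_inv_eq_iff_eq_mul.1 ?_).symm) hk'))
  by_cases hr : Lg r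
  · obtain ⟨c, rfl⟩ := (h.mem_XG_long hr).1 hk
    obtain ⟨d, hd⟩ := hg.1 r hr
    obtain ⟨m, hm⟩ : Nat.card Fˣ ∣ Nat.card F ^ 2 - 1 := by
      rw [Nat.card_units]
      exact Nat.sub_one_dvd_pow_sub_one _ _
    rw [key (S.x r) d hd, hm, pow_mul, pow_card_eq_one', one_pow, Units.val_one, one_mul]
  · obtain ⟨c, rfl⟩ := (h.mem_XG_short hr).1 hk
    obtain ⟨d, hd⟩ := hg.2 r hr
    rw [key (y r) d hd, ← hK, ← Nat.card_units, pow_card_eq_one', Units.val_one, one_mul]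

end RT

end CfsgLib.SLF
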