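import Mathlib
import Cfsg.Agent.Lib.SLF.IdN
import Cfsg.Agent.Lib.SLF.GC
import Cfsg.Agent.Lib.LieMult.RGC

/-!
# The root group system of the twisted group
-/

set_option autoImplicit false
set_option linter.unusedSectionVars false

namespace CfsgLib.SLF

open Cfsg.Lie CfsgLib.RGD CfsgLib.Stein CfsgLib.Semi CfsgLib.SLE CfsgLib.UFP Subgroup
open scoped commutatorElement Pointwise

universe u

variable {F : Type} [Field F] [Finite F] [CharP F 2] {G : Type u} [Group G] [Finite G]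
  {S : StSys ΦF4 F G}

open CfsgLib.LieMult

theorem idr_s : ∀ (i : Fin 4) (r : R4), ΦF4.s i r = rf4 (ΦF4.simple i) r := by
  decide +kernel

theorem idr_pos : {r | ΦF4.Pos r} = {r : R4 | 24 ≤ r.1} := Set.ext pos4

namespace RT

variable {δ : F} {y : R4 → KK δ → G} (h : RT S y)
include h

omit h in
theorem UX_eq (T : Set R4) : UX (XG S y) T = UG S y T :=
  le_antisymm (UX_le fun _ => XG_le) (UG_le fun _ => le_UX _)

theorem commRel : CommRel ΦF4 (XG S y) := by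
  intro r s hr hs _ x hx z hz
  have a : ∀ {a b k}, Ad a b k → ΦF4.IsSum a b k := fun e =>
    ⟨1, 1, one_pos, one_pos, fun j => by simpa using ad_iff.1 e j⟩
  rw [UX_eq, commutatorElement_def]
  refine h.comm_XG ⟨⟨?_, fun k e => .inl (a e.1), fun k m e => ⟨.inl (a e.2.2.1), .inl ⟨1, 2, one_pos, two_pos,
    fun j => ?_⟩⟩, fun k m e => ⟨.inl (a e.2.2.1.symm), .inl ⟨2, 1, two_pos, one_pos, fun j => ?_⟩⟩⟩,
    fun m e => .inl (a e.2.2.1)⟩ hx hz
  · have := (pos4 r).1 hr; have := (pos4 s).1 hs; omega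
  all_goals rw [ad_iff.1 e.2.2.2 j, ad_iff.1 e.2.2.1 j]; push_cast; ring

theorem not_le_U {r : R4} (hr : r.1 < 24) : S.x r 1 ∉ UGe S y 24 := fun k => by
  have k1 := h.amb.le_U (P := UGe S y 24 ⊓ S.grp) (h.pg.to_le inf_le_left) inf_le_right
    (le_inf U_le_UGe S.U_le_grp) ⟨k, S.x_mem_grp r 1⟩
  exact one_ne_zero (h.amb.x_eq_one.1 (h.amb.nd.eq_one_of_mem_B_of_mem_V (S.U_le_B k1)
    (S.x_mem_V (ΦF4.neg_iff_not_pos.2 fun e => by have := (pos4 r).1 e; omega) 1)))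

variable (hδ : ∀ e : F, e * e + e ≠ δ)
include hδ

theorem idr_pm (d : R4) : ∃ τ : KK δ → KK δ, (τ = id ∨ τ = star) ∧ Pm S y (S.n d 1) (rf4 d) τ ∧
    ∀ z ∈ XG S y d.rev, z ≠ 1 → ∃ a ∈ XG S y d, Pm S y (a * z * a) (rf4 d) τ := by
  rw [h.amb.n_eq]
  by_cases hd : Lg d
  · refine ⟨id, .inl rfl, h.pm_long hd (one_mul 1), fun z hz z1 => ?_⟩
    obtain ⟨e, rfl⟩ := (h.mem_XG_long ((lg_rev d).2 hd)).1 hz
    exact ⟨_, x_mem_XG d e⁻¹, h.pm_long hd (inv_mul_cancel₀ fun k => z1 (h.amb.x_eq_one.2 k))⟩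
  · have hd' : ¬ Lg d.rev := mt (lg_rev d).1 hd
    have h2 : (2 : F) = 0 := CharTwo.two_eq_zero
    have : Fact (∀ r : F, r ^ 2 ≠ δ + 1 * r) := ⟨fun r e => hδ r (by linear_combination e + r * h2)⟩
    refine ⟨star, .inr rfl, ?_, fun z hz z1 => ?_⟩
    · rw [← h.rel.base d hd, ← h.rel.base _ hd', map_one]
      exact h.pm_short hd (by simp)
    · obtain ⟨u, rfl⟩ := (h.mem_XG_short hd').1 hz
      refine ⟨_, y_mem_XG hd (star u⁻¹), h.pm_short hd ?_⟩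
      rw [star_star, inv_mul_cancel₀ fun k => z1 (by rw [k, h.y_zero hd'])]

theorem rgs : ∃ R : RGSys (toData ΦF4) G, R.X = XG S y ∧ R.U = UGe S y 24 ∧ R.Tor ≤ Dg S y ∧ R.grp = GG0 S y := by
  have nX : ∀ i r, ∀ x ∈ XG S y r, S.n (ΦF4.simple i) 1 * x * (S.n (ΦF4.simple i) 1)⁻¹ ∈ XG S y (ΦF4.s i r) :=
    fun i r x hx => by
      obtain ⟨τ, -, k, -⟩ := h.idr_pm hδ (ΦF4.simple i)
      exact idr_s i r ▸ h.pm_conj_XG (rf4_ip _) k hx
  have nm : ∀ d, S.n d 1 ∈ XG S y d ⊔ XG S y (ΦF4.neg d) := fun d => by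
    rw [h.amb.n_eq, neg4]
    exact mul_mem (mul_mem (mem_sup_left (x_mem_XG _ _)) (mem_sup_right (x_mem_XG _ _))) (mem_sup_left (x_mem_XG _ _))
  let R : RGSys (toData ΦF4) G :=
    { X := XG S y
      U := UGe S y 24
      n := fun i => S.n (ΦF4.simple i) 1
      T := fun i => (XG S y (ΦF4.simple i) ⊔ XG S y (ΦF4.neg (ΦF4.simple i))) ⊓ Dg S y
      X_le_U := fun r hr => XG_le ((pos4 r).1 hr)
      X_not_le_U := fun r hr k => h.not_le_U (not_le.1 (mt (pos4 r).2 hr)) (k (x_mem_XG r 1))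
      U_fact := fun i u hu => by
        rw [UGe, ← idr_pos, ← UX_eq] at hu ⊢
        obtain ⟨x, hx, v, hv, rfl⟩ := h.commRel.split cClosed_pos (ΦF4.pos_simple i) (fun _ => ht_simple_le i) hu
        refine ⟨x, hx, ?_⟩
        have := conj_mem_UX (Y := XG S y) (Ψ' := {r | ΦF4.Pos r})
          (fun r hr z hz => le_UX _ (ΦF4.pos_s hr.1 hr.2) (nX i r z hz)) v hv
        rw [inv_eq_of_mul_eq_one_right (h.amb.n_sq _)] at this ⊢
        rwa [inv_mul_cancel_left]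
      n_X := nX
      T_X := fun i t ht r x hx => h.dg_conj ht.2 hx
      T_U := fun i t ht u hu => h.dg_conj ht.2 hu
      n_mem := fun i => nm _
      T_le := fun i => inf_le_left
      n_T := fun i t ht => by
        obtain ⟨τ, k1, k2, -⟩ := h.idr_pm hδ (ΦF4.simple i)
        exact mem_inf.2 ⟨mul_mem (mul_mem (nm _) (mem_inf.1 ht).1) (inv_mem (nm _)),
          pm_conj_dg k1 k2 (h.amb.n_sq _) ht.2⟩
      n_sq := fun i => (h.amb.n_sq _).symm ▸ one_mem _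
      rank_one := fun i z hz z1 => by
        obtain ⟨τ, k1, k2, k3⟩ := h.idr_pm hδ (ΦF4.simple i)
        obtain ⟨a, ha, k4⟩ := k3 z (neg4 _ ▸ hz) z1
        refine ⟨a, ha, _, ⟨mul_mem (nm _) (mul_mem (mul_mem (mem_sup_left ha) (mem_sup_right hz))
          (mem_sup_left ha)), pm_dg k1 k2 k4⟩, a, ha, ?_⟩
        rw [mul_assoc a, ← mul_assoc (S.n _ 1), h.amb.n_sq, one_mul, ← mul_assoc, ← mul_assoc, h.XG_sq ha, one_mul,
          mul_assoc, h.XG_sq ha, mul_one] }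
  refine ⟨R, rfl, rfl, iSup_le fun i => inf_le_right, le_antisymm (sup_le (UG_mono (Set.subset_univ _))
    ((closure_le _).2 ?_)) (UG_le fun r _ => ?_)⟩
  · rintro _ ⟨i, rfl⟩
    exact L_le_GG0 (S.n_mem_grp _ _)
  · obtain ⟨w, hw, i, rfl⟩ := ΦF4.exists_eq_apply_simple r
    obtain ⟨L, hL⟩ := ΦF4.mem_W_iff.1 (inv_mem hw)
    refine R.X_le_grp L ?_
    rw [toData_w, ← hL]
    simpa [toData] using ΦF4.pos_simple i

theorem syl0F (hW : Odd (Nat.card (centralizer (GG0 S y : Set G)))) : Syl0 S y := by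
  intro P hP h1 h2
  have := Fact.mk Nat.prime_two
  by_contra k
  obtain ⟨x, hx, k1, k2⟩ := Tech.exists_mem_normalizer_of_lt hP (lt_of_le_not_ge h2 k)
  obtain ⟨R, -, e1, e2, e3⟩ := h.rgs hδ
  obtain ⟨u, hu, t, ht, rfl⟩ := R.exists_of_conj_U (e3 ▸ h1 hx) fun u hu =>
    e1 ▸ (mem_normalizer_iff.1 k2 u).1 (e1 ▸ hu)
  rw [e1] at hu
  obtain ⟨n, hn⟩ := Tech.isPGroup_iff_mem.1 hP t ((mul_mem_cancel_left (h2 hu)).1 hx)
  have o1 : Odd (Nat.card F ^ 2 - 1) := by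
    obtain ⟨m, hm⟩ := BA.odd_q F
    exact Nat.Even.sub_odd (Nat.one_le_pow _ _ Nat.card_pos) (Nat.even_pow.2 ⟨⟨m + 1, by omega⟩, two_ne_zero⟩) odd_one
  have e : t ^ ((Nat.card F ^ 2 - 1) * Nat.card (centralizer (GG0 S y : Set G))) = 1 := by
    rw [pow_mul]
    exact orderOf_dvd_iff_pow_eq_one.1 (orderOf_dvd_natCard _ (h.dg_pow hδ (e2 ht)))
  have : t = 1 := by
    simpa [Nat.Coprime.gcd_eq_one ((Nat.coprime_two_left.2 (o1.mul hW)).pow_left n)] using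
      pow_gcd_eq_one.2 ⟨hn, e⟩
  exact k1 (by rwa [this, mul_one])

end RT

end CfsgLib.SLF
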