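import Mathlib
import Cfsg.Agent.Lib.SLF.IdR
import Cfsg.Agent.Lib.SLF.IdM

/-!
# The nonsplit graph case gives `²E₆(q)`
-/

set_option autoImplicit false
set_option linter.unusedSectionVars false

namespace CfsgLib.SLF

open Cfsg.Lie CfsgLib.RGD CfsgLib.Stein CfsgLib.Semi CfsgLib.SLE CfsgLib.UFP Subgroup
open scoped commutatorElement Pointwise

universe u

variable {F : Type} [Field F] [Finite F] [CharP F 2] {G : Type u} [Group G] [Finite G]
  {S : StSys ΦF4 F G}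

open CfsgLib.LieMult

theorem idf_map {δ : F} {y : R4 → KK δ → G} {G' : Type*} [Group G'] [Finite G'] {S' : StSys ΦF4 F G'}
    {y' : R4 → KK δ → G'} (f : G →* G') (fx : ∀ r c, f (S.x r c) = S'.x r c) (fy : ∀ r v, f (y r v) = y' r v)
    (T : Set R4) : (UG S y T).map f = UG S' y' T :=
  le_antisymm (map_le_iff_le_comap.2 (UG_le' (fun r hr c => mem_comap.2 (fx r c ▸ x_mem_UG hr c))
    fun r hr hs v => mem_comap.2 (fy r v ▸ y_mem_UG hr hs v)))
    (UG_le' (fun r hr c => ⟨_, x_mem_UG hr c, fx r c⟩) fun r hr hs v => ⟨_, y_mem_UG hr hs v, fy r v⟩)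

theorem idf_iso {G' : Type*} [Group G'] (f : G →* G') {H : Subgroup G} (h : ∀ g ∈ H, f g = 1 → g = 1) :
    Nonempty (H ≃* H.map f) :=
  ⟨MulEquiv.ofBijective (f.subgroupMap H) ⟨(injective_iff_map_eq_one _).2 fun a k =>
    Subtype.ext (h a a.2 (congrArg Subtype.val k)), f.subgroupMap_surjective H⟩⟩

namespace RT

variable {δ : F} {y : R4 → KK δ → G} (h : RT S y)
include h

theorem prod {G' : Type*} [Group G'] [Finite G'] {S' : StSys ΦF4 F G'} {y' : R4 → KK δ → G'} (h' : RT S' y') :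
    ∃ T : StSys ΦF4 F (G × G'), (∀ r c, T.x r c = (S.x r c, S'.x r c)) ∧ RT T fun r v => (y r v, y' r v) := by
  have a := h.rel
  have b := h'.rel
  obtain ⟨T, e, A⟩ := kit (y := fun r c => (S.x r c, S'.x r c))
    ⟨fun r u v => Prod.ext (a.rx.add r u v) (b.rx.add r u v),
      fun p q k m u v => Prod.ext (a.rx.cm p q k m u v) (b.rx.cm p q k m u v),
      fun p q k l m u v => Prod.ext (a.rx.ls p q k l m u v) (b.rx.ls p q k l m u v),
      fun p q m u v => Prod.ext (a.rx.com p q m u v) (b.rx.com p q m u v)⟩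
    ⟨0, 1, fun k => one_ne_zero (h.amb.x_eq_one.1 (congrArg Prod.fst k))⟩
  refine ⟨T, fun r c => by rw [e], A, ?_, fun r hr v k => h.inj r hr v (congrArg Prod.fst k)⟩
  rw [e]
  exact ⟨e ▸ A.rel, fun r m u v => Prod.ext (a.add r m u v) (b.add r m u v),
    fun r m c => Prod.ext (a.base r m c) (b.base r m c),
    fun p q k m n u v => Prod.ext (a.r1 p q k m n u v) (b.r1 p q k m n u v),
    fun p q k m u v => Prod.ext (a.r2 p q k m u v) (b.r2 p q k m u v),
    fun p q k l m u v => Prod.ext (a.r3 p q k l m u v) (b.r3 p q k l m u v),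
    fun p q k l m u v => Prod.ext (a.c1 p q k l m u v) (b.c1 p q k l m u v),
    fun p q k l m u v => Prod.ext (a.c2 p q k l m u v) (b.c2 p q k l m u v)⟩

theorem center_eq (hs : IsSimpleGroup (GG0 S y)) {g : G} (h1 : g ∈ GG0 S y)
    (h2 : g ∈ centralizer (GG0 S y : Set G)) : g = 1 := by
  rcases hs.eq_bot_or_eq_top_of_normal (center (GG0 S y)) inferInstance with k | k
  · exact congrArg Subtype.val (k.le (mem_center_iff.2 fun a => Subtype.ext (h2 a a.2)) : (⟨g, h1⟩ : GG0 S y) ∈ ⊥)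
  · exact (h.perf.trans (commutator_le.2 fun a ha b hb => commutatorElement_eq_one_iff_mul_comm.2
      (congrArg Subtype.val (mem_center_iff.1 (k.ge (mem_top ⟨b, hb⟩)) ⟨a, ha⟩))) : _ ≤ ⊥) h1

variable (hδ : ∀ e : F, e * e + e ≠ δ)
include hδ

/-- a homomorphism between two systems is injective if both groups are centreless -/
theorem inj_of {G' : Type*} [Group G'] [Finite G'] {S' : StSys ΦF4 F G'} {y' : R4 → KK δ → G'} (h' : RT S' y')
    (f : G →* G') (fx : ∀ r c, f (S.x r c) = S'.x r c) (fy : ∀ r v, f (y r v) = y' r v)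
    (hs : ∀ g ∈ GG0 S' y', g ∈ centralizer (GG0 S' y' : Set G') → g = 1) {g : G} (hg : g ∈ GG0 S y) (h1 : f g = 1) :
    g ∈ centralizer (GG0 S y : Set G) := by
  obtain ⟨R, e0, e1, e2, e3⟩ := h.rgs hδ
  obtain ⟨R', e0', e1', -, -⟩ := h'.rgs hδ
  have m := idf_map f fx fy
  obtain ⟨u, hu, t, ht, rfl⟩ := R.exists_of_mem_ker f (fun r hr k => by
    rw [e0, e1, m, m] at k
    exact h'.not_le_U (not_le.1 (mt (pos4 r).2 hr)) (k (x_mem_XG r 1))) (e3 ▸ hg) h1
  rw [e1] at hu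
  rw [map_mul, mul_eq_one_iff_inv_eq] at h1
  have o1 : Odd (Nat.card F ^ 2 - 1) := by
    obtain ⟨m, hm⟩ := BA.odd_q F
    exact Nat.Even.sub_odd (Nat.one_le_pow _ _ Nat.card_pos) (Nat.even_pow.2 ⟨⟨m + 1, by omega⟩, two_ne_zero⟩) odd_one
  have k1 : f t ^ (Nat.card F ^ 2 - 1) = 1 := by
    refine hs _ (pow_mem ((m _).le ⟨t, (mul_mem_cancel_left (UG_mono (Set.subset_univ _) hu)).1 hg, rfl⟩) _) ?_
    rw [GG0, ← m]
    rintro _ ⟨a, ha, rfl⟩
    rw [← map_pow, ← map_mul, h.dg_pow hδ (e2 ht) a ha, map_mul]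
  obtain ⟨n, hn⟩ := Tech.isPGroup_iff_mem.1 h'.pg (f t) (h1 ▸ inv_mem ((m _).le ⟨u, hu, rfl⟩))
  have k2 : f t = 1 := by
    simpa [Nat.Coprime.gcd_eq_one ((Nat.coprime_two_left.2 o1).pow_left n)] using pow_gcd_eq_one.2 ⟨hn, k1⟩
  have k3 : u = 1 := (compl_of_commRel R' (by rw [e0', e1', UX_eq, idr_pos]) (e0' ▸ h'.commRel) (π := f) h.commRel
    (fun r => by rw [e0', m]) fun r a ha k => by
      by_cases hr : Lg r
      · obtain ⟨c, rfl⟩ := (h.mem_XG_long hr).1 ha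
        exact h.amb.x_eq_one.2 (h'.amb.x_eq_one.1 (fx r c ▸ k))
      · obtain ⟨v, rfl⟩ := (h.mem_XG_short hr).1 ha
        rw [h'.inj r hr v (fy r v ▸ k), h.y_zero hr]).1 u (by rwa [UX_eq, idr_pos]) (inv_eq_one.1 (h1.trans k2))
  have ky : ∀ r, ¬ Lg r → ∀ v, y r v ∈ centralizer {t} := fun r hr v => by
    obtain ⟨d, k⟩ := (e2 ht).2 r hr
    have := congrArg f (k v)
    rw [map_mul, map_mul, map_inv, k2, one_mul, inv_one, mul_one, fy, fy] at this
    rw [mem_centralizer_singleton_iff, eq_comm, ← mul_inv_eq_iff_eq_mul, k, ← h'.y_inj hr this]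
  rw [k3, one_mul]
  refine fun a ha => mem_centralizer_singleton_iff.1 (UG_le' (fun r _ c => ?_) (fun r _ => ky r) ha)
  by_cases hr : Lg r
  · obtain ⟨d, k⟩ := (e2 ht).1 r hr
    have := congrArg f (k c)
    rw [map_mul, map_mul, map_inv, k2, one_mul, inv_one, mul_one, fx, fx] at this
    rw [mem_centralizer_singleton_iff, eq_comm, ← mul_inv_eq_iff_eq_mul, k, ← h'.amb.nd.x_injective r this]
  · exact h.rel.base r hr c ▸ ky r hr _

theorem iso {G' : Type*} [Group G'] [Finite G'] {S' : StSys ΦF4 F G'} {y' : R4 → KK δ → G'} (h' : RT S' y')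
    (hs : IsSimpleGroup (GG0 S y)) (hs' : IsSimpleGroup (GG0 S' y')) : Nonempty (GG0 S y ≃* GG0 S' y') := by
  obtain ⟨T, e, p⟩ := h.prod h'
  have m1 := idf_map (S := T) (S' := S) (y := fun r v => (y r v, y' r v)) (y' := y) (MonoidHom.fst G G')
    (fun r c => by rw [e]; rfl) (fun _ _ => rfl) Set.univ
  have m2 := idf_map (S := T) (S' := S') (y := fun r v => (y r v, y' r v)) (y' := y') (MonoidHom.snd G G')
    (fun r c => by rw [e]; rfl) (fun _ _ => rfl) Set.univ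
  obtain ⟨a⟩ := idf_iso (MonoidHom.fst G G') fun g hg k => Prod.ext k (h'.center_eq hs' (m2.le ⟨g, hg, rfl⟩) (by
    rw [GG0, ← m2]
    rintro _ ⟨c, hc, rfl⟩
    exact congrArg Prod.snd (p.inj_of hδ h _ (fun r c => by rw [e]; rfl) (fun _ _ => rfl)
      (fun _ => h.center_eq hs) hg k c hc)))
  obtain ⟨b⟩ := idf_iso (MonoidHom.snd G G') fun g hg k => Prod.ext (h.center_eq hs (m1.le ⟨g, hg, rfl⟩) (by
    rw [GG0, ← m1]
    rintro _ ⟨c, hc, rfl⟩
    exact congrArg Prod.fst (p.inj_of hδ h' _ (fun r c => by rw [e]; rfl) (fun _ _ => rfl)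
      (fun _ => h'.center_eq hs') hg k c hc))) k
  exact ⟨((MulEquiv.subgroupCongr m1.symm).trans a.symm).trans (b.trans (MulEquiv.subgroupCongr m2))⟩

theorem idF (hs : IsSimpleGroup (GG0 S y)) : ∃ (K : Type) (_ : Field K) (_ : Fintype K),
    Fintype.card K = Nat.card F ^ 2 ∧ Nonempty (GG0 S y ≃* twistedE6 K (Nat.card F)) := by
  obtain ⟨K, _, _, hK, M, _, _, S', y', h', hs', ⟨e⟩⟩ := exists_model hδ
  obtain ⟨a⟩ := h.iso hδ h' hs hs'
  exact ⟨K, _, _, hK, ⟨a.trans e⟩⟩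

end RT

end CfsgLib.SLF
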