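import Mathlib
import Cfsg.Agent.Lib.SLF.IdT
import Cfsg.Agent.Lib.SLF.GC

/-!
# The split graph case gives `E₆(q)`
-/

set_option autoImplicit false
set_option linter.unusedSectionVars false

namespace CfsgLib.SLF

open Cfsg.Lie CfsgLib.RGD CfsgLib.Stein CfsgLib.Semi CfsgLib.SLE CfsgLib.UFP Subgroup
open scoped commutatorElement Pointwise

universe u

variable {F : Type} [Field F] [Finite F] [CharP F 2] {G : Type u} [Group G] [Finite G]
  {S : StSys ΦF4 F G}

/-- multiples of the two idempotents -/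
def idsE (δ e : F) (s : Bool) (c : F) : KK δ := ⟨c * bif s then e else e + 1, c⟩

section eps

variable {δ e : F}

theorem idsE_add (s : Bool) (c d : F) : idsE δ e s (c + d) = idsE δ e s c + idsE δ e s d := by
  ext <;> simp [idsE, add_mul]

theorem idsE_smul (s : Bool) (c d : F) : c • idsE δ e s d = idsE δ e s (c * d) := by
  ext <;> simp [idsE, mul_assoc]

theorem idsE_star (s : Bool) (c : F) : star (idsE δ e s c) = idsE δ e (!s) c := by
  cases s <;> ext <;> simp [idsE, mul_add, CharTwo.neg_eq, add_assoc, CharTwo.add_self_eq_zero]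

theorem idsE_dec (v : KK δ) : ∃ a b, v = idsE δ e true a + idsE δ e false b := by
  have h2 : (2 : F) = 0 := CharTwo.two_eq_zero
  refine ⟨v.im + (v.re + v.im * e), v.re + v.im * e, ?_⟩
  ext <;> simp only [idsE, QuadraticAlgebra.re_add, QuadraticAlgebra.im_add, cond_true, cond_false]
  · linear_combination -(v.im * e + v.re * e + v.im * e * e) * h2
  · linear_combination -(v.re + v.im * e) * h2

variable (he : e * e + e = δ)
include he

theorem idsE_mul (s : Bool) (c d : F) : idsE δ e s c * idsE δ e s d = idsE δ e s (c * d) := by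
  have h2 : (2 : F) = 0 := CharTwo.two_eq_zero
  cases s <;> ext <;> simp only [idsE, QuadraticAlgebra.re_mul, QuadraticAlgebra.im_mul, cond_true, cond_false]
  · linear_combination -(c * d) * he + c * d * (e * e + e) * h2
  · linear_combination (c * d * (e + 1)) * h2
  · linear_combination -(c * d) * he + c * d * e * e * h2
  · linear_combination (c * d * e) * h2

theorem idsE_mul' (s : Bool) (c d : F) : idsE δ e s c * idsE δ e (!s) d = 0 := by
  have h2 : (2 : F) = 0 := CharTwo.two_eq_zero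
  cases s <;> ext <;> simp only [idsE, QuadraticAlgebra.re_mul, QuadraticAlgebra.im_mul, cond_true, cond_false,
    Bool.not_true, Bool.not_false, QuadraticAlgebra.re_zero, QuadraticAlgebra.im_zero]
  · linear_combination -(c * d) * he + c * d * (e * e + e) * h2
  · linear_combination c * d * (e + 1) * h2
  · linear_combination -(c * d) * he + c * d * (e * e + e) * h2
  · linear_combination c * d * (e + 1) * h2

theorem idsE_norm (s : Bool) (c : F) : (idsE δ e s c).norm = 0 := by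
  have h2 : (2 : F) = 0 := CharTwo.two_eq_zero
  cases s <;> simp only [idsE, QuadraticAlgebra.norm_def, cond_true, cond_false]
  · linear_combination (c * c) * he + c * c * (e + 1) * h2
  · linear_combination (c * c) * he

end eps

/-- the root elements of type `E₆` -/
def idsX (S : StSys ΦF4 F G) {δ : F} (y : R4 → KK δ → G) (e : F) (r : R6) (c : F) : G :=
  if Lg (pi6 r) then S.x (pi6 r) c else y (pi6 r) (idsE δ e (sg6 r) c)

theorem idsX_mem {δ : F} (y : R4 → KK δ → G) (e : F) (r : R6) (c : F) : idsX S y e r c ∈ XG S y (pi6 r) := by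
  unfold idsX
  split_ifs with l
  exacts [x_mem_XG _ _, y_mem_XG l _]

namespace RT

variable {δ : F} {y : R4 → KK δ → G} (h : RT S y) {e : F} (he : e * e + e = δ)
include h he

theorem ids_cm {a b k : R4} (ha : ¬ Lg a) (hc : Cm a b k) (s : Bool) (u v : F) :
    Commute (y a (idsE δ e s u)) (y b (idsE δ e (!s) v)) := by
  have := h.rel.r1 a b k ha hc (idsE δ e s u) (idsE δ e (!s) v)
  rwa [idsE_mul' he, star_zero, h.y_zero fun l => ha (hc.2.2.2 l), mul_inv_eq_one, mul_inv_eq_iff_eq_mul] at this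

theorem ids_ls {l b k m : R4} (hc : Ls l b k m) (s : Bool) (u v : F) :
    S.x l u * y b (idsE δ e s v) * (S.x l u)⁻¹ * (y b (idsE δ e s v))⁻¹ = y k (idsE δ e s (u * v)) := by
  rw [h.rel.r3 _ _ _ _ hc, idsE_norm he, mul_zero, S.x_zero, mul_one, idsE_smul]

theorem ids_rel : SLE.Rel Φ6 (idsX S y e) := by
  refine ⟨fun r u v => ?_, fun a b k hk u v => ?_, fun a b hi u v => ?_⟩
  · unfold idsX
    split_ifs with l
    exacts [S.x_add _ _ _, by rw [idsE_add, h.rel.add _ l]]
  · unfold idsX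
    rcases add6 hk with ⟨l, c⟩ | ⟨m, c, e1⟩ | ⟨m, c, e1⟩ | ⟨l, c, e1, e2⟩ | ⟨c, e1⟩
    · rw [if_pos l, if_pos (c.2.1.1 l), if_pos (c.2.2.1 l), h.rel.rx.cm _ _ _ c]
    · rw [if_pos c.1, if_neg c.2.1, if_neg c.ip.2.1, h.ids_ls he c, e1]
    · rw [if_pos c.1, if_neg c.2.1, if_neg c.ip.2.1, e1, ← h.y_inv c.ip.2.1, mul_comm u, ← h.ids_ls he c]
      group
    · rw [if_neg l, if_neg (mt c.2.1.2 l), if_neg (mt c.2.2.2 l), h.rel.r1 _ _ _ l c, e1, e2, idsE_mul he, idsE_star]
    · rw [if_neg c.1, if_neg c.2.1, if_pos c.2.2.2, h.rel.r2 _ _ _ c, e1, idsE_star, Bool.not_not, idsE_mul he]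
      rfl
  · rcases com6 hi with c | ⟨l, ⟨k, c⟩, e1⟩ | ⟨⟨m, c⟩, e1⟩ | ⟨l, c, e1⟩
    · exact h.commute_XG c (idsX_mem y e a u) (idsX_mem y e b v)
    · rw [idsX, idsX, if_neg l, if_neg (mt c.2.1.2 l), e1]
      exact h.ids_cm he l c _ u v
    · rw [idsX, idsX, if_neg c.1, if_neg c.2.1, e1, ← mul_inv_eq_iff_eq_mul, ← mul_inv_eq_one, h.rel.r2 _ _ _ c,
        idsE_star, idsE_mul' he]
      exact S.x_zero m
    · obtain ⟨p, q, c1, c2, c3⟩ := (by decide +kernel : ∀ a : R4, ¬ Lg a →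
        ∃ p q, Cm p q a.rev ∧ Cm a p (rf4 a p) ∧ Cm a q (rf4 a q)) _ l
      have k1 := h.ids_cm he l c2 (sg6 a) u v
      have k2 := h.ids_cm he l c3 (sg6 a) u 1
      have := ((k1.mul_right k2).mul_right k1.inv_right).mul_right k2.inv_right
      rw [h.rel.r1 _ _ _ (mt c2.2.1.2 l) c1, idsE_mul he, idsE_star, Bool.not_not, mul_one] at this
      rw [idsX, idsX, c, if_neg l, if_neg (mt (lg_rev _).1 l), e1]
      exact this

omit he in
theorem ids_UU {T : StSys Φ6 F G} (hT : T.x = idsX S y e) {A : Set R6} {B : Set R4} (hA : ∀ r, r ∈ A ↔ pi6 r ∈ B) :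
    T.UU A = UG S y B := by
  have k : ∀ r ∈ B, ∀ s c, idsX S y e (lf6 r s) c ∈ T.UU A := fun r hr s c =>
    hT ▸ T.x_mem_UU ((hA _).2 (by rwa [pi_lf])) c
  have k2 : ∀ r ∈ B, ¬ Lg r → ∀ v, y r v ∈ T.UU A := fun r hr l v => by
    obtain ⟨a, b, rfl⟩ := idsE_dec (e := e) v
    have := mul_mem (k r hr true a) (k r hr false b)
    rwa [idsX, idsX, pi_lf, pi_lf, if_neg l, if_neg l, sg_lf _ _ l, sg_lf _ _ l, ← h.rel.add r l] at this
  refine le_antisymm (T.UU_le_iff.2 fun r hr c => hT ▸ XG_le ((hA r).1 hr) (idsX_mem y e r c))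
    (UG_le' (fun r hr c => ?_) k2)
  by_cases l : Lg r
  · have := k r hr true c
    rwa [idsX, pi_lf, if_pos l] at this
  · exact h.rel.base r l c ▸ k2 r hr l _

theorem exists_T {E : ER Φ6} (hE : Mod chevE6 Weyl.rtOKE6 E) :
    ∃ T : StSys Φ6 F G, SLE.Amb E T ∧ T.grp = GG0 S y ∧ T.U = UGe S y 24 := by
  obtain ⟨T, hT, A⟩ := hE.kit F G _ (h.ids_rel he) ⟨lf6 47 true, 1, by
    rw [idsX, pi_lf, if_pos (by decide +kernel)]
    exact fun e => one_ne_zero (h.amb.x_eq_one.1 e)⟩
  exact ⟨T, A, h.ids_UU hT fun _ => Iff.rfl, h.ids_UU hT pos6⟩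

theorem syl0S : Syl0 S y := by
  obtain ⟨E, hE⟩ := exists_er6
  obtain ⟨T, A, e1, e2⟩ := h.exists_T he hE
  intro P hP h1 h2
  rw [← e2] at h2 ⊢
  exact A.le_U hP (e1 ▸ h1) h2

theorem idS (hs : IsSimpleGroup (GG0 S y)) : Nonempty (GG0 S y ≃* chevE6.group F) := by
  obtain ⟨E, hE⟩ := exists_er6
  obtain ⟨T, A, e1, -⟩ := h.exists_T he hE
  rw [← e1] at hs ⊢
  exact hE.equiv A hs

end RT

end CfsgLib.SLF
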