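import Mathlib
import Cfsg.Agent.Lib.SLF.NH
import Cfsg.Agent.Lib.SLF.Out
import Cfsg.Agent.Lib.SLE.NF

/-!
# The field case: `G0` is normal
-/

set_option autoImplicit false
set_option linter.unusedSectionVars false

namespace CfsgLib.SLF

open Cfsg.Lie CfsgLib.RGD CfsgLib.Stein CfsgLib.Semi CfsgLib.SLE CfsgLib.UFP Subgroup
open scoped commutatorElement Pointwise

universe u

variable {F : Type} [Field F] [Finite F] [CharP F 2] {G : Type u} [Group G] [Finite G]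
  {S : StSys ΦF4 F G}

theorem Amb.nf_inf {P : Subgroup G} (A : Amb S) (hP : IsPGroup 2 P) (h : S.U ≤ P) :
    P ⊓ S.grp ≤ S.U :=
  A.le_U hP.to_inf_left inf_le_right (le_inf h S.U_le_grp)

namespace DblF

variable {t : G} {Z : R4 → Subgroup G} {K : Type} [Field K] [Finite K] [CharP K 2]
  {T : StSys ΦF4 K G} {f : F →+* K} {τ : K ≃+* K} (d : DblF S t Z T f τ)
include d

theorem G0_eq : ⨆ r, Z r = T.grp :=
  le_antisymm (iSup_le fun r => d.ZT r ▸ T.UU_le_grp _)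
    (T.UU_le_iff.2 fun r _ c => le_iSup Z r (d.ZT r ▸ T.x_mem_X r c))

theorem τ_ne : τ ≠ 1 := fun e => by
  have h1 : Function.Surjective f := fun v => ((d.fix v).1 (by rw [e]; rfl)).imp fun _ h => h.symm
  have h2 := Nat.card_le_card_of_surjective f h1
  have h3 := two_le_card (F := F)
  rw [d.card] at h2
  nlinarith

theorem x_one (r : R4) : T.x r 1 = S.x r 1 := by rw [← d.ext, map_one]

theorem cent : centralizer {t} ≤ NL T := by
  have := d.toH0.cent_le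
  rwa [NZ4, d.G0_eq] at this

theorem odd : Odd (Nat.card (CL T)) := by
  have := d.toH0.odd_W
  rwa [d.G0_eq] at this

theorem UU_le (Ψ : Set R4) : S.UU Ψ ≤ T.UU Ψ :=
  S.UU_le_iff.2 fun r hr c => d.ext r c ▸ T.x_mem_UU hr _

theorem pg : IsPGroup 2 (T.U ⊔ zpowers t : Subgroup G) :=
  IsPGroup.to_sup_of_normal_left' d.ambT.pg_U (pgroup_zpowers_of_sq d.t2)
    (zpowers_le.2 (d.tT.norm _))

theorem τ2 : τ * τ = 1 :=
  d.ambT.std_N0 (d.tT.mul d.tT) (by rw [d.t2]; exact one_mem _)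

theorem t_out : t ∉ N0 T := fun h => d.τ_ne (d.ambT.std_N0 d.tT h)

theorem chain : Chain t T.U 24 fun i => Ug T (48 - i) := by
  have A := d.ambT
  have key : ∀ i < 24, ∃ r : R4, 24 ≤ r.1 ∧ 48 - (i + 1) = r.1 ∧ 48 - i = r.1 + 1 := fun i hi =>
    ⟨⟨47 - i, by omega⟩, by simp only; omega, by simp only; omega, by simp only; omega⟩
  have N : ∀ {r : R4}, 24 ≤ r.1 → ∀ c, ∀ y ∈ Ug T (r + 1), T.x r c * y * T.x r c ∈ Ug T (r + 1) :=
    fun hr c y hy => by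
      have := UFP.conj_mem (A.U_norm_Ug _ (by omega) (x_mem_U4 hr c)) hy
      rwa [A.x_inv] at this
  refine ⟨Ug_top, U_eq_Ug.symm, fun i _ => Ug_mono (by omega), fun i _ => d.tT.norm _,
    fun i hi u hu x hx => ?_, fun i hi x hx => ?_, fun i hi x hx h => ?_⟩
  all_goals
    obtain ⟨r, hr, e1, e2⟩ := key i hi
    simp only [e1, e2] at *
  · exact A.comm_Ug hr hu hx
  · have h1 := A.peel hr hx
    generalize cf4 T x r = c at h1
    have := mul_mem (N hr c _ h1) h1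
    rwa [show T.x r c * ((T.x r c)⁻¹ * x) * T.x r c * ((T.x r c)⁻¹ * x) = x * x by group] at this
  · have h1 := A.peel hr hx
    generalize cf4 T x r = c at h1
    obtain ⟨y, rfl⟩ : ∃ y, x = T.x r c * y := ⟨(T.x r c)⁻¹ * x, by group⟩
    rw [inv_mul_cancel_left] at h1
    have h2 : T.x r (τ c + c) ∈ Ug T (r + 1) := by
      have h3 := N hr (τ c) _ (mul_mem (UFP.conj_mem (d.tT.norm _) h1) (inv_mem h1))
      have h4 := mul_mem (inv_mem h3) h
      rw [T.x_add, ← A.x_inv r c, ← A.x_inv r (τ c)]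
      convert h4 using 1
      rw [← d.tT]; group
    have h3 : τ c = c := by
      have := A.cf_lead hr (c := τ c + c) (u := 1) (by rw [mul_one]; exact inv_mem h2)
      rw [A.cf_one] at this
      exact CharTwo.add_eq_zero.1 this.symm
    obtain ⟨q, -, -, -, -, -, -, hq⟩ := aut_two d.τ2 d.τ_ne
    obtain ⟨a, ha⟩ := (hq 1 (by simp)).2 c (by rw [one_mul, h3])
    refine ⟨T.x r a, T.x_mem_UU (le_refl r.1) a, ?_⟩
    rw [d.tT, A.x_inv, ← T.x_add, add_comm (τ a), ← one_mul (τ a), ← ha]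
    exact N hr c y h1

/-- **(U)** -/
theorem u : U (NL T) t := by
  have A := d.ambT
  have ht := d.cent (mem_cent1.2 rfl)
  refine ⟨d.t2, ht, fun g0 hg0 => ?_⟩
  have sq : ∀ g : G, g * t * g⁻¹ * (g * t * g⁻¹) = 1 := fun g => by
    rw [show g * t * g⁻¹ * (g * t * g⁻¹) = g * (t * t) * g⁻¹ by group, d.t2]; group
  obtain ⟨k, hk, P, hP1, hP, hP2, hP3⟩ := exists_conj_pgroup d.pg
    (sup_le (T.U_le_grp.trans le_normalizer) (zpowers_le.2 ht)) hg0 (sq g0)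
  rw [← Subgroup.mul_mem_cancel_left _ hk]
  obtain ⟨g, hg⟩ : ∃ g, g = k * g0 := ⟨_, rfl⟩
  rw [show k * (g0 * t * g0⁻¹) * k⁻¹ = g * t * g⁻¹ by rw [hg]; group] at hP3
  rw [← hg]
  rcases A.one_of_three (hP1 hP3) ht (by rw [sq]; exact one_mem _) (by rw [d.t2]; exact one_mem _)
    with h | h | h2
  · exfalso
    obtain ⟨R, hR1, hR, hR2⟩ := A.lb (A.mem_grp d.odd h (pg_zpowers hP hP3)) (sq g)
    have h1 := (d.toSit.cj g).amb.card_le (d.two.cj g) hR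
      (hR1.trans (inf_le_right.trans (d.toSit.cj g).CN))
    have h2 : 2 ^ 15 ≤ Nat.card F ^ 15 := Nat.pow_le_pow_left two_le_card _
    rw [d.card, ← pow_mul, show 2 * 20 = 15 + 25 from rfl, pow_add] at hR2
    have h3 : 0 < Nat.card F ^ 25 := pow_pos Nat.card_pos _
    nlinarith
  · exact absurd h d.t_out
  have h3 := P.mul_mem hP3 (hP2 (mem_sup_right (mem_zpowers t)))
  have h4 := A.nf_inf hP (le_sup_left.trans hP2) ⟨h3, A.mem_grp d.odd h2 (pg_zpowers hP h3)⟩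
  have e : g * t * g⁻¹ * t * t = g * t * g⁻¹ := by rw [mul_assoc, d.t2, mul_one]
  obtain ⟨v, hv, h5⟩ := d.chain.conj d.t2 h4 (by rw [e, sq])
  rw [e] at h5
  refine (Subgroup.mul_mem_cancel_left _ (inv_mem (le_normalizer (T.U_le_grp hv)))).1
    (d.cent (mem_cent1.2 ?_))
  calc _ = v⁻¹ * (v * t * v⁻¹) * g := by group
    _ = _ := by rw [← h5]; group

theorem comm_CL {g : G} {σ : K ≃+* K} (hg : Std T g σ) : g * t * g⁻¹ * t⁻¹ ∈ CL T := by
  refine std_one_iff.1 ?_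
  have := ((hg.mul d.tT).mul hg.inv).mul d.tT.inv
  rwa [aut_mul_comm σ, mul_inv_cancel_right, mul_inv_cancel] at this

theorem conj_ab {Ψ : Set R4} (h : ∀ a ∈ Ψ, ∀ b ∈ Ψ, 0 ≤ ip4 a b) {v : G} (hv : v ∈ T.UU Ψ) :
    ∃ e ∈ S.UU Ψ, v * t * v⁻¹ = t * e := by
  have A := d.ambT
  refine T.UU_induction_left (p := fun v => ∃ e ∈ S.UU Ψ, v * t * v⁻¹ = t * e)
    ⟨1, one_mem _, by group⟩ ?_ hv
  rintro s hs c g - ⟨e, he, h1⟩
  have ττ : τ (τ c) = c := DFunLike.congr_fun d.τ2 c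
  obtain ⟨a, ha⟩ := (d.fix (τ c + c)).1 (by rw [map_add, ττ, add_comm])
  refine ⟨S.x s a * e, mul_mem (S.x_mem_UU hs a) he, ?_⟩
  have h2 := A.commute_UU h (T.x_mem_UU hs c) (d.UU_le _ he)
  have h3 := d.tT s (τ c)
  rw [ττ] at h3
  rw [← d.ext, ← ha, T.x_add]
  calc _ = T.x s c * (g * t * g⁻¹) * (T.x s c)⁻¹ := by group
    _ = T.x s c * t * (e * T.x s c) := by rw [h1, A.x_inv]; group
    _ = _ := by rw [← h2]; nth_rewrite 1 [← h3]; group

theorem conj_t {Ψ : Set R4} (h : ∀ a ∈ Ψ, ∀ b ∈ Ψ, 0 ≤ ip4 a b) {m u : G} {σ : K ≃+* K}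
    (hu : u ∈ T.UU Ψ) (hs : Std T (u * m) σ) :
    ∃ e ∈ S.UU Ψ, ∃ k ∈ CL T, m * t * m⁻¹ = k * (t * e) := by
  obtain ⟨e, he, h1⟩ := d.conj_ab h (inv_mem hu)
  refine ⟨e, he, _, d.comm_CL hs, ?_⟩
  have := mem_cent.1 (d.comm_CL hs) _ (inv_mem (T.UU_le_grp _ hu))
  rw [← h1, ← mul_assoc _ (u⁻¹ * t), ← mul_assoc _ u⁻¹, ← this]
  group

theorem uw : UW (NL T) t S.U := by
  have A := d.ambT
  have h := d.toH0.uw
  rw [NZ4, d.G0_eq] at h
  refine h d.u (fun m hm h1 => ?_) fun m hm h1 => ?_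
  · obtain ⟨u, hu, σ, h2⟩ := A.cen_Q1 hm fun r hr => by
      rw [d.x_one]; exact (mem_cent_UU.1 h1 r hr 1).symm
    rw [A.V47_eq] at hu
    obtain ⟨e, he, h3⟩ := d.conj_t (by decide) hu h2
    exact ⟨e, d.amb.V_le_Q 47 (d.amb.V47_eq ▸ he), h3⟩
  · obtain ⟨u, hu, σ, h2⟩ := A.cen_R1 hm fun r hr => by
      rw [d.x_one]; exact (mem_cent_UU.1 h1 r hr 1).symm
    obtain ⟨e, he, h3⟩ := d.conj_t (by decide) hu h2
    exact ⟨e, S.UU_mono (show ∀ r : R4, r ∈ ([44, 46, 47] : List R4) → 25 ≤ r.1 by decide) he, h3⟩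

end DblF

theorem DblF.eq {t : G} {Z : R4 → Subgroup G} {K : Type} [Field K] [Finite K] [CharP K 2] {T : StSys ΦF4 K G}
    {f : F →+* K} {τ : K ≃+* K} (d : DblF S t Z T f τ) {Gs : Subgroup G} (g : Glob Gs t) : T.grp = Gs := by
  have A := d.ambT
  have hu := d.u
  have h0 : T.grp ≤ Gs := g.pf_le A.pf_grp.1
  obtain ⟨B, _, _, l, hB, hl⟩ := exists_two_hom (N0_le (S := T)) fun _ ha _ hb => A.comm_mem_N0 ha hb
  have ht : t ∉ Gs := g.not_mem (not_mem_commutator d.t2 hu.mem l (fun h => by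
    obtain ⟨m, hm, h1⟩ := (hl _).1 h
    exact d.t_out (mem_of_odd_pow (pgroup_zpowers_of_sq d.t2) hm h1))
    fun x hx _ => hu.uniq x hx)
  have hU1 : T.U ≤ NL T := T.U_le_grp.trans le_normalizer
  obtain ⟨P, hP1, hP2, hP, hP3⟩ := exists_syl d.pg (sup_le hU1 (zpowers_le.2 hu.mem))
  have hP4 := d.chain.syl hu (g.index ht) ht g.perf hP3 hP2 (hP1 (mem_sup_right (mem_zpowers t)))
    hU1 l hB (fun x hx => by
      obtain ⟨m, hm, h1⟩ := (hl _).1 hx
      obtain ⟨j, hj, h2⟩ := exists_two_pow ((x : G) ^ m)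
      exact g.mem_of_odd hm (g.mem_of_odd hj (h0 (A.mem_grp d.odd (pow_mem h1 j) h2))))
    (fun x hx => (hl x).2 ⟨1, odd_one, by rw [pow_one]; exact mem_sup_left (T.U_le_grp hx)⟩)
    fun x hx h => by
      obtain ⟨m, hm, h1⟩ := (hl _).1 h
      exact A.nf_inf hP (le_sup_left.trans hP1) ⟨hx, A.mem_grp d.odd
        (mem_of_odd_pow (pg_zpowers hP hx) hm h1) (pg_zpowers hP hx)⟩
  have fix : ∀ r (M : Subgroup G), t * T.x r 1 * t⁻¹ * (T.x r 1)⁻¹ ∈ M := fun r M => by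
    rw [d.tT, map_one, mul_inv_cancel]; exact one_mem _
  have D : FldData (NL T) Gs t T.U _ _ := ⟨d.chain, hU1, T.U_le_grp.trans h0,
    fun R h1 h2 => (hP3 R h1 h2).imp fun x hx => ⟨hx.1, fun p hp => hP4 (hx.2 p hp)⟩,
    fun i hi j hj w hw h => comm_closure (Ug_le_U (n := 48 - (i + 1)) (by omega))
      (A.U_norm_Ug _ (by omega)) (by
      rintro _ ⟨r, hr, c, rfl⟩
      exact A.linf (by omega) (le_trans (by omega) hr) hw (h _ (T.x_mem_UU hr 1) (fix r _)) c),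
    fun i _ m hm h x hx => UFP.conj_mem (norm_closure (by
      rintro _ ⟨r, hr, c, rfl⟩
      exact T.UU_mono (Set.singleton_subset_iff.2 hr) (UFP.conj_mem (A.norm_of_cent_x hm one_ne_zero
        (h _ (T.x_mem_UU hr 1) (fix r _)).symm).1 (T.x_mem_X r c)))) hx,
    d.uw.mono (le_inf (d.UU_le _) fun x hx => mem_cent1.2 (d.toSit.com (S.U_le_grp hx)).symm)⟩
  have h1 : T.x 47 1 ≠ 1 := fun e => one_ne_zero (A.x_eq_one.1 e)
  exact g.eq_of_norm h0 (le_of_invol g.simple (h0 (T.x_mem_grp _ _)) h1 (A.x_sq _ _)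
    fun u h2 h3 => D.mem hu (g.index ht) ht h2 h3) (T.x_mem_grp _ _) h1

end CfsgLib.SLF
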