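import Mathlib
import Cfsg.Agent.Lib.SLF.Defs

/-!
# The residual product case when the centre of `U` is not minimal normal
-/

set_option autoImplicit false
set_option linter.unusedSectionVars false

namespace CfsgLib.SLF

open Cfsg.Lie CfsgLib.RGD CfsgLib.Stein CfsgLib.Semi CfsgLib.SLE CfsgLib.UFP Subgroup
open scoped commutatorElement Pointwise

universe u

variable {F : Type} [Field F] [Finite F] [CharP F 2] {G : Type u} [Group G] [Finite G]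
  {S : StSys ΦF4 F G}

/-- facts on one factor -/
structure Side4 (U : Subgroup G) : Prop where
  nab : ∃ a ∈ U, ∃ b ∈ U, a * b ≠ b * a
  ci : ∀ B ≤ U, ∀ C ≤ U, B ≤ centralizer (C : Set G) → U ≤ B ⊔ C →
    B ≤ centralizer (U : Set G) ∨ C ≤ centralizer (U : Set G)
  zc : U ⊓ centralizer (U : Set G) ≤ ⁅U, U⁆

/-- as `UFP.NUData` -/
structure NU4 (G1 GN C1 C2 P L1 : Subgroup G) (t : G) {ι : Type} (R : ι → Subgroup G) : Prop
    extends PrdL G1 GN C1 C2 P L1 t where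
  side : Side4 (P ⊓ L1)
  nh : ∀ D ≤ P, P ⊓ L1 ⊔ MulAut.conj t • (P ⊓ L1) ≤ D → normalizer (D : Set G) ≤
    normalizer ((P ⊓ L1 ⊔ MulAut.conj t • (P ⊓ L1) : Subgroup G) : Set G)
  top : ∀ g ∈ normalizer (L1 : Set G),
    g ∈ normalizer ((MulAut.conj t • L1 : Subgroup G) : Set G) → g ∈ G1
  fpf : ∀ K : Subgroup G, (∀ h ∈ L1 ⊓ normalizer ((P ⊓ L1 : Subgroup G) : Set G), ∀ u ∈ P ⊓ L1,
    h * u * h⁻¹ * u⁻¹ ∈ K) → P ⊓ L1 ≤ K
  RU : ∀ j, R j ≤ P ⊓ L1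
  nR : ∀ j, P ⊓ L1 ≤ normalizer (R j : Set G)
  cR : ∀ j, ∀ w ∈ GN, IsPGroup 2 (zpowers w) → w ∈ centralizer (R j : Set G) → w ∈ R j ⊔ C2
  gen : ∀ K : Subgroup G,
    (∀ j, ∀ l ∈ L1 ⊓ normalizer (R j : Set G), ∀ u ∈ P ⊓ L1, l * u * l⁻¹ ∈ K) → L1 ≤ K
  rn : ∀ δ ∈ normalizer ((P ⊓ L1 : Subgroup G) : Set G), Odd (orderOf δ) →
    ActsLike GN (P ⊓ L1) (L1 ⊓ normalizer ((P ⊓ L1 : Subgroup G) : Set G)) δ →
    ∀ j, δ ∈ normalizer (R j : Set G)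


theorem Side4.map {U : Subgroup G} (h : Side4 U) (φ : G ≃* G) : Side4 (U.map (φ : G →* G)) := by
  have mm : ∀ (H : Subgroup G) (x : G), φ x ∈ H.map (φ : G →* G) ↔ x ∈ H := fun H x =>
    mem_map_iff_mem φ.injective
  have ml : ∀ H K : Subgroup G, H.map (φ : G →* G) ≤ K.map (φ : G →* G) ↔ H ≤ K := fun H K =>
    map_le_map_iff_of_injective φ.injective
  refine ⟨?_, fun B hB C hC h1 h2 => ?_, ?_⟩
  · obtain ⟨a, ha, b, hb, hab⟩ := h.nab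
    exact ⟨φ a, (mm _ _).2 ha, φ b, (mm _ _).2 hb, fun e => hab (φ.injective (by simpa using e))⟩
  · obtain ⟨B, rfl⟩ : ∃ J' : Subgroup G, J'.map (φ : G →* G) = B :=
      ⟨B.comap φ, map_comap_eq_self_of_surjective φ.surjective B⟩
    obtain ⟨C, rfl⟩ : ∃ J' : Subgroup G, J'.map (φ : G →* G) = C :=
      ⟨C.comap φ, map_comap_eq_self_of_surjective φ.surjective C⟩
    rw [← Core.map_equiv_centralizer, ml] at h1
    rw [← Subgroup.map_sup, ml] at h2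
    rw [← Core.map_equiv_centralizer, ml, ml]
    exact h.ci B ((ml _ _).1 hB) C ((ml _ _).1 hC) h1 h2
  · rw [← Core.map_equiv_centralizer, ← map_inf _ _ _ φ.injective, ← map_commutator]
    exact map_mono h.zc

section

variable {G1 GN C1 C2 S L1 U1 U2 Gs : Subgroup G} {t : G}

/-- the two Sylow subgroups of the two factors -/
structure Two4 (G1 GN C1 C2 S U1 U2 : Subgroup G) : Prop extends Swap G1 GN C1 C2 where
  Sp : IsPGroup 2 S
  S1 : S ≤ G1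
  u1 : U1 ≤ S ⊓ C1
  u2 : U2 ≤ S ⊓ C2
  m1 : S ⊓ GN ≤ normalizer (U1 : Set G)
  m2 : S ⊓ GN ≤ normalizer (U2 : Set G)
  w1 : ∀ a ∈ S, a ∉ GN → ∀ x ∈ U1, a * x * a⁻¹ ∈ U2
  w2 : ∀ a ∈ S, a ∉ GN → ∀ x ∈ U2, a * x * a⁻¹ ∈ U1
  d1 : Side4 U1
  d2 : Side4 U2

namespace Two4

variable (T : Two4 G1 GN C1 C2 S U1 U2)
include T

theorem symm : Two4 G1 GN C2 C1 S U2 U1 :=
  { T.toSwap.symm with
    Sp := T.Sp, S1 := T.S1, u1 := T.u2, u2 := T.u1, m1 := T.m2, m2 := T.m1, w1 := T.w2,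
    w2 := T.w1, d1 := T.d2, d2 := T.d1 }

theorem c12 : U2 ≤ centralizer (U1 : Set G) := fun _ hb => mem_cent.2 fun _ ha =>
  T.toSwap.comm T.Sp (T.u1 ha).1 (T.u2 hb).1 (T.u1 ha).2 (T.u2 hb).2

theorem hatN : U1 ⊔ U2 ≤ S ⊓ GN :=
  sup_le (T.u1.trans (inf_le_inf_left _ T.c1)) (T.u2.trans (inf_le_inf_left _ T.c2))

theorem normS : S ≤ normalizer ((U1 ⊔ U2 : Subgroup G) : Set G) := fun a ha => by
  by_cases h : a ∈ GN
  · exact norm_sup (fun x hx => mem_sup_left (conj_mem (T.m1 ⟨ha, h⟩) hx))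
      fun x hx => mem_sup_right (conj_mem (T.m2 ⟨ha, h⟩) hx)
  · exact norm_sup (fun x hx => mem_sup_right (T.w1 a ha h x hx))
      fun x hx => mem_sup_left (T.w2 a ha h x hx)

theorem swZ {a : G} (ha : a ∈ S) (hN : a ∉ GN) {x : G} (hx : x ∈ U1 ⊓ centralizer (U1 : Set G)) :
    a * x * a⁻¹ ∈ U2 ⊓ centralizer (U2 : Set G) := by
  refine ⟨T.w1 a ha hN x hx.1, mem_cent.2 fun y hy => ?_⟩
  have := mem_cent.1 hx.2 _ (T.w2 a⁻¹ (S.inv_mem ha) (fun hh => hN (GN.inv_mem_iff.1 hh)) y hy)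
  calc y * (a * x * a⁻¹) = a * (a⁻¹ * y * a⁻¹⁻¹ * x) * a⁻¹ := by group
    _ = _ := by rw [this]; group

theorem exists_z :
    ∃ z ∈ U1, z ≠ 1 ∧ z * z = 1 ∧ ∀ u ∈ S ⊓ GN, u * z * u⁻¹ = z := by
  obtain ⟨z, h1, h2, h4, h3⟩ := exists_layer (N := ⊥) T.Sp.to_inf_left (le_sup_left.trans T.hatN)
    T.m1 (by rw [normalizer_eq_top]; exact le_top) fun hle => by
      obtain ⟨a, ha, b, -, hab⟩ := T.d1.nab
      exact hab (by rw [mem_bot.1 (hle ha), one_mul, mul_one])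
  exact ⟨z, h1, h2, h4, fun u hu => mul_inv_eq_one.1 (h3 u hu)⟩

theorem exists_Z : ∃ z ∈ U1 ⊓ centralizer (U1 : Set G), z ∉ C2 := by
  obtain ⟨z, h1, h2, -, h3⟩ := T.exists_z
  exact ⟨z, ⟨h1, mem_cent.2 fun u hu => mul_inv_eq_iff_eq_mul.1 (h3 u (T.hatN (mem_sup_left hu)))⟩,
    fun hh => h2 (T.toSwap.eq_one T.Sp (T.u1 h1).1 (T.u1 h1).2 hh)⟩


theorem one {a : G} (h1 : a ∈ U1) (h2 : a ∈ U2) : a = 1 :=
  T.toSwap.eq_one T.Sp (T.u1 h1).1 (T.u1 h1).2 (T.u2 h2).2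

/-- one of two commuting supplements projects into the centre -/
theorem proj {A B : Subgroup G} (hA : A ≤ U1 ⊔ U2) (hB : B ≤ U1 ⊔ U2) (hc : B ≤ centralizer (A : Set G))
    (h : U1 ⊔ U2 ≤ A ⊔ B) : A ≤ U2 ⊔ U1 ⊓ centralizer (U1 : Set G) ∨
      B ≤ U2 ⊔ U1 ⊓ centralizer (U1 : Set G) := by
  have dec : ∀ {x}, x ∈ U1 ⊔ U2 → ∃ a ∈ U1, ∃ b ∈ U2, a * b = x := T.toSwap.mem_sup T.Sp T.u1 T.u2
  have n2 : U1 ⊔ U2 ≤ normalizer (U2 : Set G) :=
    sup_le (T.symm.c12.trans (centralizer_le_normalizer _)) le_normalizer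
  have cm : ∀ a ∈ U1, ∀ b ∈ U2, Commute a b := fun a ha b hb => mem_cent.1 (T.c12 hb) a ha
  have pr : ∀ {A : Subgroup G} {a b}, a ∈ U1 → b ∈ U2 → a * b ∈ A → a ∈ U1 ⊓ (A ⊔ U2) := fun ha hb k =>
    ⟨ha, (mul_mem_cancel_right (mem_sup_right hb)).1 (mem_sup_left k)⟩
  have fin : ∀ {A : Subgroup G}, A ≤ U1 ⊔ U2 → U1 ⊓ (A ⊔ U2) ≤ centralizer (U1 : Set G) →
      A ≤ U2 ⊔ U1 ⊓ centralizer (U1 : Set G) := fun hA k x hx => by
    obtain ⟨a, ha, b, hb, rfl⟩ := dec (hA hx)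
    exact mul_mem (mem_sup_right ⟨ha, k (pr ha hb hx)⟩) (mem_sup_left hb)
  refine (T.d1.ci _ inf_le_left _ inf_le_left (fun a ha => mem_cent.2 fun a' ha' => ?_)
    fun u hu => ?_).imp (fin hA) (fin hB)
  · obtain ⟨x, hx, b, hb, e⟩ := (Core.mem_sup_of_le_normalizer_right (hA.trans n2)).1 ha.2
    obtain ⟨x', hx', b', hb', e'⟩ := (Core.mem_sup_of_le_normalizer_right (hB.trans n2)).1 ha'.2
    obtain rfl := eq_mul_inv_of_mul_eq e
    obtain rfl := eq_mul_inv_of_mul_eq e'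
    have k := mem_cent.1 (hc hx') _ hx
    rw [(cm _ ha'.1 _ (inv_mem hb)).symm.mul_mul_mul_comm, (cm _ ha.1 _ (inv_mem hb')).symm.mul_mul_mul_comm,
      ← inv_mul_eq_iff_eq_mul, ← mul_assoc, ← eq_mul_inv_iff_mul_eq] at k
    exact inv_mul_eq_one.1 (T.one (mul_mem (inv_mem (mul_mem ha'.1 ha.1)) (mul_mem ha.1 ha'.1))
      (k ▸ mul_mem (mul_mem (inv_mem hb') (inv_mem hb)) (inv_mem (mul_mem (inv_mem hb) (inv_mem hb')))))
  · obtain ⟨x, hx, x', hx', e⟩ := (Core.mem_sup_of_le_normalizer_left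
      (hc.trans (centralizer_le_normalizer _))).1 (h (mem_sup_left hu))
    obtain ⟨a, ha, b, hb, rfl⟩ := dec (hA hx)
    obtain ⟨a', ha', b', hb', rfl⟩ := dec (hB hx')
    rw [(cm _ ha' _ hb).symm.mul_mul_mul_comm] at e
    rw [T.one ((mul_mem_cancel_left (mul_mem ha ha')).1 (e ▸ hu)) (mul_mem hb hb'), mul_one] at e
    exact e ▸ mul_mem (mem_sup_left (pr ha hb hx)) (mem_sup_right (pr ha' hb' hx'))

theorem not_both {A : Subgroup G} (hA : ∃ a ∈ A, ∃ b ∈ A, a * b ≠ b * a)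
    (h1 : A ≤ U2 ⊔ U1 ⊓ centralizer (U1 : Set G)) (h2 : A ≤ U1 ⊔ U2 ⊓ centralizer (U2 : Set G)) : False := by
  obtain ⟨a, ha, b, hb, e⟩ := hA
  have c1 : b ∈ centralizer (U1 : Set G) := (sup_le T.c12 inf_le_right : _ ≤ centralizer (U1 : Set G)) (h1 hb)
  have c2 : b ∈ centralizer (U2 : Set G) :=
    (sup_le T.symm.c12 inf_le_right : _ ≤ centralizer (U2 : Set G)) (h2 hb)
  have c3 : b ∈ centralizer ((U1 ⊔ U2 : Subgroup G) : Set G) := by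
    rw [Core.centralizer_sup]; exact ⟨c1, c2⟩
  exact e (mem_cent.1 c3 a (sup_le_sup_left inf_le_left U1 (h2 ha)))

theorem perm_U {n : G} (hn : n ∈ normalizer ((U1 ⊔ U2 : Subgroup G) : Set G)) :
    (MulAut.conj n • U1 ≤ U1 ⊔ U2 ⊓ centralizer (U2 : Set G) ∧
      MulAut.conj n • U2 ≤ U2 ⊔ U1 ⊓ centralizer (U1 : Set G)) ∨
    (MulAut.conj n • U1 ≤ U2 ⊔ U1 ⊓ centralizer (U1 : Set G) ∧
      MulAut.conj n • U2 ≤ U1 ⊔ U2 ⊓ centralizer (U2 : Set G)) := by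
  have e : MulAut.conj n • U1 ⊔ MulAut.conj n • U2 = U1 ⊔ U2 :=
    (smul_sup _ _ _).symm.trans (Core.mem_normalizer_iff_conj_smul_eq.1 hn)
  have hc : MulAut.conj n • U2 ≤ centralizer ((MulAut.conj n • U1 : Subgroup G) : Set G) := fun x hx =>
    cent_conj.2 (T.c12 (Coprime.mem_conj_smul_iff.1 hx))
  have a1 := (T.d1.map (MulAut.conj n)).nab
  have a2 := (T.d2.map (MulAut.conj n)).nab
  rcases T.proj (le_sup_left.trans e.le) (le_sup_right.trans e.le) hc e.ge with h1 | h1 <;>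
  rcases T.symm.proj (le_sup_left.trans (e.trans (sup_comm _ _)).le)
    (le_sup_right.trans (e.trans (sup_comm _ _)).le) hc (e.trans (sup_comm _ _)).ge with h2 | h2
  exacts [(T.not_both a1 h1 h2).elim, .inr ⟨h1, h2⟩, .inl ⟨h2, h1⟩, (T.not_both a2 h1 h2).elim]

theorem Z_cent : U1 ⊓ centralizer (U1 : Set G) ≤ centralizer ((U1 ⊔ U2 : Subgroup G) : Set G) := by
  rw [Core.centralizer_sup]
  exact le_inf inf_le_right (inf_le_left.trans T.symm.c12)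

theorem Z_map {V Z : Subgroup G} (zc : Z ≤ ⁅V, V⁆) (hc : Z ≤ centralizer ((U1 ⊔ U2 : Subgroup G) : Set G))
    {n : G} (hn : n ∈ normalizer ((U1 ⊔ U2 : Subgroup G) : Set G))
    (h : MulAut.conj n • V ≤ U1 ⊔ U2 ⊓ centralizer (U2 : Set G)) {z : G} (hz : z ∈ Z) :
    n * z * n⁻¹ ∈ U1 ⊓ centralizer (U1 : Set G) := by
  refine ⟨?_, centralizer_le (le_sup_left : U1 ≤ U1 ⊔ U2) (conj_cent hn (hc hz))⟩
  have k := T.toSwap.comm_sup T.Sp T.u1 (inf_le_left.trans T.u2) (commutator_mono h h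
    ((conj_comm n V).ge (Coprime.conj_mem_conj_smul (zc hz))))
  rw [(commutator_eq_bot_iff_le_centralizer (H₁ := U2 ⊓ _)).2 (inf_le_right.trans (centralizer_le inf_le_left)),
    sup_bot_eq] at k
  exact comm_le_self _ k

theorem norm_Z {δ : G} (hn : δ ∈ normalizer ((U1 ⊔ U2 : Subgroup G) : Set G)) (ho : Odd (orderOf δ)) :
    δ ∈ normalizer ((U1 ⊓ centralizer (U1 : Set G) : Subgroup G) : Set G) := by
  rcases T.perm_U hn with ⟨h1, -⟩ | ⟨h1, h2⟩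
  · exact mem_normalizer_fintype fun x hx => T.Z_map T.d1.zc T.Z_cent hn h1 hx
  refine zpowers_le.2 (mem_normalizer_fintype fun x hx => ?_) (mem_zpowers_two_pow ho 1)
  have := T.Z_map T.d2.zc (sup_comm U1 U2 ▸ T.symm.Z_cent) hn h2
    (T.symm.Z_map T.d1.zc (sup_comm U1 U2 ▸ T.Z_cent) (sup_comm U1 U2 ▸ hn) h1 hx)
  rwa [show δ * (δ * x * δ⁻¹) * δ⁻¹ = δ ^ 2 ^ 1 * x * (δ ^ 2 ^ 1)⁻¹ by rw [pow_one, sq]; group] at this

theorem norm_M {n : G} (hn : n ∈ normalizer ((U1 ⊔ U2 : Subgroup G) : Set G))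
    (h2 : n ∈ normalizer ((U2 ⊓ centralizer (U2 : Set G) : Subgroup G) : Set G)) :
    n ∈ normalizer ((U1 ⊔ U2 ⊓ centralizer (U2 : Set G) : Subgroup G) : Set G) := by
  rcases T.perm_U hn with ⟨h1, -⟩ | ⟨-, h1⟩
  · exact norm_sup (Coprime.conj_smul_le_iff.1 h1) fun x hx => mem_sup_right (conj_mem h2 hx)
  obtain ⟨z, hz, hz'⟩ := T.symm.exists_Z
  have := T.one (T.Z_map T.d2.zc (sup_comm U1 U2 ▸ T.symm.Z_cent) hn h1 hz).1 (conj_mem h2 hz).1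
  exact (hz' (conj_eq_one_iff.1 this ▸ one_mem _)).elim

/-- an odd element normalising `U1 U2` normalises `U1` -/
theorem norm_U (hS : Odd S.index) {B : Subgroup G} (B1 : B ≤ normalizer (U1 : Set G))
    (B2 : B ≤ centralizer (U2 : Set G))
    (fpf : ∀ K : Subgroup G, (∀ h ∈ B, ∀ u ∈ U1, h * u * h⁻¹ * u⁻¹ ∈ K) → U1 ≤ K) {δ : G}
    (hn : δ ∈ normalizer ((U1 ⊔ U2 : Subgroup G) : Set G))
    (ho : Odd (orderOf δ)) : δ ∈ normalizer (U1 : Set G) := by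
  have w := T.toSwap
  obtain ⟨Z1, hZ1⟩ : ∃ Z, Z = U1 ⊓ centralizer (U1 : Set G) := ⟨_, rfl⟩
  obtain ⟨Z2, hZ2⟩ : ∃ Z, Z = U2 ⊓ centralizer (U2 : Set G) := ⟨_, rfl⟩
  obtain ⟨N', hN'⟩ : ∃ N, N = normalizer ((U1 ⊔ U2 : Subgroup G) : Set G) ⊓
    (normalizer (Z1 : Set G) ⊓ normalizer (Z2 : Set G)) := ⟨_, rfl⟩
  obtain ⟨N, hN⟩ : ∃ N, N = N' ⊓ centralizer (Z2 : Set G) := ⟨_, rfl⟩
  have z12 : ∀ a ∈ S, a ∉ GN → MulAut.conj a • Z1 = Z2 ∧ MulAut.conj a • Z2 = Z1 := by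
    intro a ha aN
    have i := fun hh => aN (GN.inv_mem_iff.1 hh)
    rw [hZ1, hZ2]
    exact ⟨le_antisymm (Coprime.conj_smul_le_iff.2 fun x hx => T.swZ ha aN hx) fun x hx =>
      Coprime.mem_conj_smul_iff.2 (by simpa using T.symm.swZ (S.inv_mem ha) i hx),
      le_antisymm (Coprime.conj_smul_le_iff.2 fun x hx => T.symm.swZ ha aN hx) fun x hx =>
      Coprime.mem_conj_smul_iff.2 (by simpa using T.swZ (S.inv_mem ha) i hx)⟩
  have nZ1 : normalizer (U1 : Set G) ≤ normalizer (Z1 : Set G) := fun g hg =>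
    hZ1 ▸ norm_inf hg (Core.normalizer_le_normalizer_centralizer _ hg)
  have nZ2 : normalizer (U2 : Set G) ≤ normalizer (Z2 : Set G) := fun g hg =>
    hZ2 ▸ norm_inf hg (Core.normalizer_le_normalizer_centralizer _ hg)
  have SN' : S ≤ normalizer (N' : Set G) := fun a ha => by
    rw [hN']
    refine norm_inf (le_normalizer (T.normS ha)) ?_
    by_cases aN : a ∈ GN
    · exact norm_inf (le_normalizer (nZ1 (T.m1 ⟨ha, aN⟩))) (le_normalizer (nZ2 (T.m2 ⟨ha, aN⟩)))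
    · exact mem_normalizer_fintype fun x hx =>
        ⟨(z12 a ha aN).2 ▸ norm_conj hx.2, (z12 a ha aN).1 ▸ norm_conj hx.1⟩
  have N'N : N' ≤ normalizer (N : Set G) := fun g hg => hN ▸ norm_inf (le_normalizer hg)
    (Core.normalizer_le_normalizer_centralizer _ (hN' ▸ hg).2.2)
  have o1 : Odd ((S ⊓ N').relIndex N') := by
    rw [inf_relIndex_right]
    exact odd_rel le_top le_top SN' (by rwa [relIndex_top_right])
  have o2 := odd_rel inf_le_right (hN ▸ inf_le_left) (inf_le_right.trans N'N) o1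
  have o3 : Odd ((normalizer (U1 : Set G)).relIndex N) :=
    o2.of_dvd_nat (relIndex_dvd_of_le_left _ fun a ha => T.m1 ⟨ha.1, by
      by_contra aN
      obtain ⟨z, hz, hz'⟩ := T.exists_Z
      have := conj_mem' (hN' ▸ ha.2).2.1 (hZ1 ▸ hz)
      have := w.s1 a (T.S1 ha.1) aN _ (T.u1 (hZ1 ▸ this).1).2
      rw [show a * (a⁻¹ * z * a) * a⁻¹ = z by group] at this
      exact hz' this⟩)
  have nM : N' ≤ normalizer ((U1 ⊔ Z2 : Subgroup G) : Set G) := fun g hg =>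
    hZ2 ▸ T.norm_M (hN' ▸ hg).1 (hZ2 ▸ (hN' ▸ hg).2.2)
  have Z2S : Z2 ≤ S ⊓ C2 := hZ2 ▸ inf_le_left.trans T.u2
  have dec : ∀ x ∈ U1 ⊔ Z2, ∃ a ∈ U1, ∃ b ∈ Z2, a * b = x := fun x hx =>
    w.mem_sup T.Sp T.u1 Z2S hx
  have MU : U1 ⊔ Z2 ≤ normalizer (U1 : Set G) :=
    sup_le le_normalizer (hZ2 ▸ inf_le_left.trans (T.c12.trans (centralizer_le_normalizer _)))
  obtain ⟨Q, _, _, π, hsurj, hker⟩ := exists_quot' MU
  have pi1 : ∀ (a : G) (ha : a ∈ U1) (b : G) (hb : b ∈ Z2),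
      π ⟨a * b, mul_mem (mem_sup_left ha) (mem_sup_right hb)⟩ = π ⟨b, mem_sup_right hb⟩ := by
    intro a ha b hb
    rw [← one_mul (π ⟨b, _⟩), ← (hker ⟨a, mem_sup_left ha⟩).2 ha, ← map_mul]; rfl
  let _ : CommGroup Q := { (inferInstance : Group Q) with
    mul_comm := fun p q => by
      obtain ⟨⟨p, hp⟩, rfl⟩ := hsurj p
      obtain ⟨⟨q, hq⟩, rfl⟩ := hsurj q
      obtain ⟨a, ha, b, hb, rfl⟩ := dec p hp
      obtain ⟨a', ha', b', hb', rfl⟩ := dec q hq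
      rw [pi1 a ha b hb, pi1 a' ha' b' hb', ← map_mul, ← map_mul]
      congr 1
      exact Subtype.ext (mem_cent.1 (hZ2 ▸ hb').2 b (hZ2 ▸ hb).1) }
  classical
  obtain ⟨f, hf⟩ : ∃ f : G → Q, ∀ (a : G) (h : a ∈ U1 ⊔ Z2), f a = π ⟨a, h⟩ :=
    ⟨fun a => if h : a ∈ U1 ⊔ Z2 then π ⟨a, h⟩ else 1, fun a h => dif_pos h⟩
  have cZ : ∀ g ∈ N, ∀ b ∈ Z2, g * b * g⁻¹ = b := fun g hg b hb => by
    rw [← mem_cent.1 (hN ▸ hg).2 b hb, mul_inv_cancel_right]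
  obtain ⟨F, F1, F2, F3⟩ := average (N := N) (St := normalizer (U1 : Set G))
    (le_trans (hN ▸ inf_le_left) nM) f (fun a ha b hb => by
      rw [hf a ha, hf b hb, hf _ (mul_mem ha hb), ← map_mul]; rfl) fun g g1 g2 x hx => by
      obtain ⟨a, ha, b, hb, rfl⟩ := dec x hx
      rw [show g * (a * b) * g⁻¹ = g * a * g⁻¹ * (g * b * g⁻¹) by group, cZ g g2 b hb,
        hf _ (mul_mem (mem_sup_left (conj_mem g1 ha)) (mem_sup_right hb)), hf _ hx,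
        pi1 _ (conj_mem g1 ha) b hb, pi1 a ha b hb]
  have BN : B ≤ N := fun h hh => by
    rw [hN, hN']
    exact ⟨⟨Core.normalizer_inf_le_normalizer_sup _ _ ⟨B1 hh, centralizer_le_normalizer _ (B2 hh)⟩,
      nZ1 (B1 hh), nZ2 (centralizer_le_normalizer _ (B2 hh))⟩,
      centralizer_le (hZ2 ▸ inf_le_left) (B2 hh)⟩
  have F0 : F 1 = 1 := by simpa using F1 1 (one_mem _) 1 (one_mem _)
  have FU : ∀ u ∈ U1, F u = 1 := by
    let K : Subgroup G :=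
      { carrier := {x | x ∈ U1 ∧ F x = 1}
        one_mem' := ⟨one_mem _, F0⟩
        mul_mem' := fun {a b} ha hb => ⟨mul_mem ha.1 hb.1, by
          rw [F1 a (mem_sup_left ha.1) b (mem_sup_left hb.1), ha.2, hb.2, one_mul]⟩
        inv_mem' := fun {a} ha => ⟨inv_mem ha.1, by
          have := F1 a (mem_sup_left ha.1) a⁻¹ (mem_sup_left (inv_mem ha.1))
          rwa [mul_inv_cancel, F0, ha.2, one_mul, eq_comm] at this⟩ }
    refine fun u hu => (fpf K (fun h hh u hu => ⟨mul_mem (conj_mem (B1 hh) hu) (inv_mem hu), ?_⟩)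
      hu).2
    rw [F1 _ (mem_sup_left (conj_mem (B1 hh) hu)) _ (mem_sup_left (inv_mem hu)),
      F2 h (BN hh) u (mem_sup_left hu), ← F1 u (mem_sup_left hu) _ (mem_sup_left (inv_mem hu)),
      mul_inv_cancel, F0]
  have NU : N ≤ normalizer (U1 : Set G) := fun g hg => mem_normalizer_fintype fun u hu => by
    obtain ⟨a, ha, b, hb, e⟩ := dec _ (conj_mem (nM (hN ▸ hg).1) (mem_sup_left hu))
    have h1 := F2 g hg u (mem_sup_left hu)
    rw [FU u hu, ← e, F1 a (mem_sup_left ha) b (mem_sup_right hb), FU a ha, one_mul,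
      F3 b fun g hg => cZ g hg b hb, hf b (mem_sup_right hb), ← map_pow, hker] at h1
    have h2 : b ^ (normalizer (U1 : Set G)).relIndex N = 1 :=
      w.eq_one T.Sp (T.u1 h1).1 (T.u1 h1).2 (pow_mem (Z2S hb).2 _)
    rw [← e, eq_one_of_odd T.Sp (Z2S hb).1 o3 h2, mul_one]
    exact ha
  have δN : δ ∈ N' := hN' ▸ ⟨hn, hZ1 ▸ T.norm_Z hn ho,
    hZ2 ▸ T.symm.norm_Z (sup_comm U1 U2 ▸ hn) ho⟩
  refine mem_normalizer_fintype fun u hu =>
    fpf (U1.comap (MulAut.conj δ).toMonoidHom) (fun h hh u hu => ?_) hu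
  obtain ⟨a, ha, b, hb, e⟩ := dec _ (conj_mem (nM δN) (mem_sup_left hu))
  have k := conj_mem (N'N δN) (BN hh)
  show δ * (h * u * h⁻¹ * u⁻¹) * δ⁻¹ ∈ U1
  rw [show δ * (h * u * h⁻¹ * u⁻¹) * δ⁻¹ = δ * h * δ⁻¹ * (δ * u * δ⁻¹) * (δ * h * δ⁻¹)⁻¹ *
    (δ * u * δ⁻¹)⁻¹ by group, ← e]
  generalize δ * h * δ⁻¹ = g at k
  rw [show g * (a * b) * g⁻¹ * (a * b)⁻¹ = g * a * g⁻¹ * (g * b * g⁻¹) * b⁻¹ * a⁻¹ by group,
    cZ g k b hb, mul_inv_cancel_right]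
  exact mul_mem (conj_mem (NU k) ha) (inv_mem ha)

end Two4

namespace NU4

variable {ι : Type} {R : ι → Subgroup G} (d : NU4 G1 GN C1 C2 S L1 t R)
include d

theorem ne : Nonempty ι := by
  by_contra hc
  obtain ⟨a, ha, b, -, hab⟩ := d.side.nab
  exact hab (by rw [mem_bot.1 (d.gen ⊥ (fun j => (hc ⟨j⟩).elim) ha.2), one_mul, mul_one])

theorem R2 (j : ι) : MulAut.conj t • R j ≤ MulAut.conj t • (S ⊓ L1) :=
  Coprime.conj_smul_le_iff.2 fun _ hx => Coprime.conj_mem_conj_smul (d.RU j hx)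

theorem cR2 (t2 : t * t = 1) (j : ι) {w : G} (hw : w ∈ GN)
    (hp : IsPGroup 2 (zpowers w))
    (hc : w ∈ centralizer ((R j ⊔ MulAut.conj t • R j : Subgroup G) : Set G)) :
    w ∈ R j ⊔ MulAut.conj t • R j := by
  have p := d.toPrdL
  have n2 : R j ≤ normalizer (C2 : Set G) := fun x hx => d.n2 (p.L1N (d.RU j hx).2)
  have hc' := hc
  rw [Core.centralizer_sup] at hc'
  obtain ⟨r, hr, c, hc1, e⟩ := (Core.mem_sup_of_le_normalizer_right n2).1 (d.cR j w hw hp hc'.1)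
  obtain ⟨r', hr', c', hc2, e'⟩ := (Core.mem_sup_of_le_normalizer_right n2).1 (d.cR j (t⁻¹ * w * t)
    (by simpa using d.toSwap.conj (G1.inv_mem p.t1) hw) (by
      obtain ⟨k, hk⟩ := Core.isPGroup_zpowers_iff.1 hp
      exact Core.isPGroup_zpowers_iff.2 ⟨k, by
        rw [show t⁻¹ * w * t = t⁻¹ * w * t⁻¹⁻¹ by group, conj_pow, hk]; group⟩)
    (cent_conj.1 hc'.2))
  have m2 := Coprime.conj_mem_conj_smul (g := t) hr'
  have r1 := p.u1 (d.RU j hr)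
  have r2 := p.u2 (d.R2 j m2)
  have hE : IsPGroup 2 (R j ⊔ MulAut.conj t • R j : Subgroup G) := d.Sp.to_le (sup_le
    ((d.RU j).trans inf_le_left) ((d.R2 j).trans (p.u2.trans inf_le_left)))
  have hP := hE.to_sup_of_normal_left' hp (zpowers_le.2 (centralizer_le_normalizer _ hc))
  have := d.toSwap.eq_one hP (a := (t * r' * t⁻¹)⁻¹ * r⁻¹ * w) (mul_mem (mem_sup_left (mul_mem
    (mem_sup_right (inv_mem m2)) (mem_sup_left (inv_mem hr)))) (mem_sup_right (mem_zpowers w)))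
    (by
      rw [← d.toSwap.comm d.Sp (S.inv_mem r1.1) (S.inv_mem r2.1) (C1.inv_mem r1.2) (C2.inv_mem r2.2),
        show r⁻¹ * (t * r' * t⁻¹)⁻¹ * w = r⁻¹ * (t * (r'⁻¹ * (t⁻¹ * w * t)) * t⁻¹) by group, ← e',
        inv_mul_cancel_left]
      exact C1.mul_mem (C1.inv_mem r1.2) (d.s2 t p.t1 d.tN c' hc2))
    (by rw [← e, mul_assoc, inv_mul_cancel_left]; exact C2.mul_mem (C2.inv_mem r2.2) hc1)
  rw [← mul_inv_rev, inv_mul_eq_one] at this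
  exact this ▸ mul_mem (mem_sup_left hr) (mem_sup_right m2)

theorem two (t2 : t * t = 1) :
    Two4 G1 GN C1 C2 S (S ⊓ L1) (MulAut.conj t • (S ⊓ L1)) := by
  have p := d.toPrdL
  have ti := inv_eq_of_mul_eq_one_right t2
  have m1 : S ⊓ GN ≤ normalizer ((S ⊓ L1 : Subgroup G) : Set G) := fun u hu =>
    norm_inf (le_normalizer hu.1) (d.nL hu.2)
  refine { d.toSwap with
    Sp := d.Sp, S1 := d.S1, u1 := p.u1, u2 := p.u2, m1 := m1, m2 := fun u hu => ?_,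
    w1 := fun a ha aN x hx => Coprime.mem_conj_smul_iff.2 ?_, w2 := fun a ha aN x hx => ?_,
    d1 := d.side, d2 := d.side.map (MulAut.conj t) }
  · have := norm_conj (g := t) (m1 ⟨S.mul_mem (S.mul_mem (S.inv_mem d.tS) hu.1) d.tS,
      by simpa using d.toSwap.conj (G1.inv_mem p.t1) hu.2⟩)
    rwa [show t * (t⁻¹ * u * t) * t⁻¹ = u by group] at this
  · have := conj_mem (m1 ⟨S.mul_mem (S.inv_mem d.tS) ha, d.idx _ (G1.inv_mem p.t1) _ (d.S1 ha)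
      (ti.symm ▸ d.tN) aN⟩) hx
    rwa [show t⁻¹ * a * x * (t⁻¹ * a)⁻¹ = t⁻¹ * (a * x * a⁻¹) * t by group] at this
  · have := conj_mem (m1 ⟨S.mul_mem ha d.tS, d.idx _ (d.S1 ha) _ p.t1 aN d.tN⟩)
      (Coprime.mem_conj_smul_iff.1 hx)
    rwa [show a * t * (t⁻¹ * x * t) * (a * t)⁻¹ = a * x * a⁻¹ by group] at this

theorem cent_R (h : U G1 t) (j : ι) : centralizer (R j : Set G) ⊓
    centralizer ((MulAut.conj t • R j : Subgroup G) : Set G) ≤ G1 := by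
  have p := d.toPrdL
  have T := d.two h.sq
  have EN : R j ⊔ MulAut.conj t • R j ≤ S ⊓ GN := (sup_le_sup (d.RU j) (d.R2 j)).trans T.hatN
  have tE : t ∈ normalizer ((R j ⊔ MulAut.conj t • R j : Subgroup G) : Set G) :=
    norm_sup (fun x hx => mem_sup_right (Coprime.conj_mem_conj_smul hx)) fun x hx =>
      mem_sup_left (conj_conj h.sq (R j) ▸ Coprime.conj_mem_conj_smul hx)
  rw [← Core.centralizer_sup]
  refine h.cent_le d.uw0 (d.Sp.to_le (EN.trans inf_le_left)) tE (inf_le_left.trans (sup_le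
    (fun u hu => Core.normalizer_inf_le_normalizer_sup _ _ ⟨d.nR j hu, centralizer_le_normalizer _
      (centralizer_le (d.R2 j) (T.symm.c12 hu))⟩)
    fun u hu => Core.normalizer_inf_le_normalizer_sup _ _ ⟨centralizer_le_normalizer _
      (centralizer_le (d.RU j) (T.c12 hu)), ?_⟩)) (fun hh => d.tN (EN hh).2)
    fun m m1 mc P hP _ tP sP => d.cR2 h.sq j (d.idx _ (G1.inv_mem p.t1) _
      (h.conj m1).mem (fun hh => d.tN (GN.inv_mem_iff.1 hh)) (d.toSwap.conj_not m1 d.tN))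
      (hP.to_le (zpowers_le.2 (P.mul_mem (P.inv_mem tP) sP))) ?_
  · have := norm_conj (g := t) (d.nR j (Coprime.mem_conj_smul_iff.1 hu))
    rwa [show t * (t⁻¹ * u * t) * t⁻¹ = u by group] at this
  · have := mul_mem (conj_cent (inv_mem tE) mc) (inv_mem mc)
    rwa [show t⁻¹ * m * t⁻¹⁻¹ * m⁻¹ = t⁻¹ * (m * t * m⁻¹) by group] at this

theorem R_ne (j : ι) : ∃ a ∈ R j, a ≠ 1 := by
  by_contra hc
  push Not at hc
  obtain ⟨a, ha, b, -, hab⟩ := d.side.nab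
  have := d.cR j a (d.toPrdL.L1N ha.2) (d.Sp.to_le (zpowers_le.2 ha.1))
    (mem_cent.2 fun e he => by rw [hc e he, one_mul, mul_one])
  rw [(eq_bot_iff_forall _).2 hc, bot_sup_eq] at this
  exact hab (by rw [d.toSwap.eq_one d.Sp ha.1 (d.hL ha.2) this, one_mul, mul_one])

theorem kt (h : U G1 t) {A : Subgroup G} (j : ι) (h1 : R j ≤ A) (h2 : A ≤ S ⊓ L1)
    {k : G} (k1 : k ∈ normalizer (A : Set G))
    (k2 : k ∈ centralizer ((MulAut.conj t • A : Subgroup G) : Set G)) :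
    t * k * t⁻¹ ∈ centralizer (A : Set G) ∧ k * (t * k * t⁻¹) ∈ GN := by
  obtain ⟨e1, e2⟩ := h.kt (le_trans (inf_le_inf (centralizer_le h1) (centralizer_le
    (Coprime.conj_smul_le_iff.2 fun _ hx => Coprime.conj_mem_conj_smul (h1 hx)))) (d.cent_R h j))
    k1 k2
  refine ⟨e1, ?_⟩
  by_contra hc
  obtain ⟨a, ha, a1⟩ := d.R_ne j
  have m := h2 (conj_mem (mul_mem k1 (centralizer_le_normalizer _ e1)) (h1 ha))
  have := d.toSwap.eq_one d.Sp m.1 (d.hL m.2) (d.s1 _ e2 hc a (d.hL (d.RU j ha).2))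
  exact a1 (by rwa [mul_inv_eq_one, mul_eq_left] at this)

theorem mem_of_norm (h : U G1 t) {δ : G} (ho : Odd (orderOf δ))
    (hn : δ ∈ normalizer ((S ⊓ L1 ⊔ MulAut.conj t • (S ⊓ L1) : Subgroup G) : Set G)) :
    δ ∈ G1 := by
  have p := d.toPrdL
  have T := d.two h.sq
  obtain ⟨j0⟩ := d.ne
  have LC : L1 ≤ centralizer ((MulAut.conj t • (S ⊓ L1) : Subgroup G) : Set G) :=
    le_centralizer_iff.1 (p.u2.trans (inf_le_right.trans d.cL))
  let Pr : G → Prop := fun δ => Odd (orderOf δ) ∧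
    δ ∈ normalizer ((S ⊓ L1 ⊔ MulAut.conj t • (S ⊓ L1) : Subgroup G) : Set G)
  have P1 : ∀ δ, Pr δ → Pr (t⁻¹ * δ * t) := fun δ hδ => ⟨by
    rw [show t⁻¹ * δ * t = t⁻¹ * δ * t⁻¹⁻¹ by group, ← MulAut.conj_apply, MulEquiv.orderOf_eq]
    exact hδ.1, mul_mem (mul_mem (inv_mem (T.normS d.tS)) hδ.2) (T.normS d.tS)⟩
  have up : ∀ {A : Subgroup G} {δ : G}, t⁻¹ * δ * t ∈ normalizer (A : Set G) →
      δ ∈ normalizer ((MulAut.conj t • A : Subgroup G) : Set G) := fun {A δ} hh => by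
    have := norm_conj (g := t) hh
    rwa [show t * (t⁻¹ * δ * t) * t⁻¹ = δ by group] at this
  have A1 : ∀ δ, Pr δ → δ ∈ normalizer ((S ⊓ L1 : Subgroup G) : Set G) := fun δ hδ =>
    T.norm_U (odd_index_of_syl h d.Sp d.tS d.syl) inf_le_right (inf_le_left.trans LC) d.fpf
      hδ.2 hδ.1
  have A2 := fun δ hδ => up (A1 _ (P1 δ hδ))
  have A3 : ∀ δ, Pr δ → ∀ j, δ ∈ normalizer (R j : Set G) := fun δ hδ =>
    d.rn δ (A1 δ hδ) hδ.1 fun n hn k hk => by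
      have n1 : n ∈ normalizer ((S ⊓ L1 : Subgroup G) : Set G) := by
        rcases hn with rfl | rfl; exacts [A1 _ hδ, inv_mem (A1 _ hδ)]
      have n2 : n ∈ normalizer ((MulAut.conj t • (S ⊓ L1) : Subgroup G) : Set G) := by
        rcases hn with rfl | rfl; exacts [A2 _ hδ, inv_mem (A2 _ hδ)]
      obtain ⟨e1, e2⟩ := d.kt h j0 (d.RU j0) le_rfl (mul_mem (mul_mem n1 hk.2) (inv_mem n1))
        (conj_cent n2 (LC hk.1))
      refine ⟨_, e2, fun u hu => ?_⟩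
      generalize n * k * n⁻¹ = g at e1
      rw [mul_assoc g (t * g * t⁻¹), ← mem_cent.1 e1 u hu]; group
  have A4 : ∀ δ, Pr δ → δ ∈ normalizer (L1 : Set G) := by
    intro δ hδ
    have B1 : L1 ≤ G1.comap (MulAut.conj δ).toMonoidHom := d.gen _ fun j l hl u hu => by
      have n1 := A3 δ hδ j
      have n2 := up (A3 _ (P1 δ hδ) j)
      have k1 := mul_mem (mul_mem n1 hl.2) (inv_mem n1)
      have k2 := conj_cent n2 (centralizer_le (d.R2 j) (LC hl.1))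
      obtain ⟨e1, e2⟩ := d.kt h j le_rfl (d.RU j) k1 k2
      have y := conj_mem (A1 δ hδ) hu
      show δ * (l * u * l⁻¹) * δ⁻¹ ∈ G1
      rw [show δ * (l * u * l⁻¹) * δ⁻¹ = δ * l * δ⁻¹ * (δ * u * δ⁻¹) * (δ * l * δ⁻¹)⁻¹ by group]
      generalize δ * l * δ⁻¹ = k at k1 k2 e1 e2
      generalize δ * u * δ⁻¹ = x at y
      have y2 := centralizer_le (d.R2 j) (LC y.2)
      have m1 := conj_cent k1 (mul_mem e1 (conj_cent (inv_mem (d.nR j y)) (inv_mem e1)))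
      have m2 := mul_mem (inv_mem (conj_cent (mul_mem (centralizer_le_normalizer _ k2)
        (norm_conj (g := t) k1)) y2)) (conj_cent (centralizer_le_normalizer _ k2) y2)
      rw [show k * (t * k * t⁻¹ * (x⁻¹ * (t * k * t⁻¹)⁻¹ * x⁻¹⁻¹)) * k⁻¹ =
        (k * (t * k * t⁻¹) * x * (k * (t * k * t⁻¹))⁻¹)⁻¹ * (k * x * k⁻¹) by group] at m1
      exact (G1.mul_mem_cancel_left (G1.inv_mem (d.le (d.toSwap.conj (d.le e2)
        (p.L1N y.2))))).1 (d.cent_R h j ⟨m1, m2⟩)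
    refine mem_normalizer_fintype fun x hx => d.gen (L1.comap (MulAut.conj δ).toMonoidHom)
      (fun j l hl u hu => ?_) hx
    have lN : δ * l * δ⁻¹ ∈ GN := by
      by_contra hc
      obtain ⟨z, hz, hz'⟩ := T.symm.exists_Z
      have := d.s2 _ (B1 hl.1) hc z (p.u2 hz.1).2
      rw [show (MulAut.conj δ).toMonoidHom l = δ * l * δ⁻¹ from rfl,
        ← mem_cent.1 (conj_cent (A2 δ hδ) (LC hl.1)) z hz.1, mul_inv_cancel_right] at this
      exact hz' this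
    show δ * (l * u * l⁻¹) * δ⁻¹ ∈ L1
    rw [show δ * (l * u * l⁻¹) * δ⁻¹ = δ * l * δ⁻¹ * (δ * u * δ⁻¹) * (δ * l * δ⁻¹)⁻¹ by group]
    exact conj_mem (d.nL lN) (conj_mem (A1 δ hδ) hu).2
  exact d.top δ (A4 δ ⟨ho, hn⟩) (up (A4 _ (P1 δ ⟨ho, hn⟩)))

theorem not_res (h : U G1 t) : ¬ Res G1 Gs C1 C2 S t := by
  rintro ⟨D, DS, D1, D2, -, -, -, -, -, -, δ, hn, h1, ho⟩
  exact h1 (d.mem_of_norm h ho (d.nh D DS (sup_le (d.toPrdL.u1.trans D1) (d.toPrdL.u2.trans D2)) hn))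

end NU4

end

theorem NU4.mem {G1 GN C1 C2 P L1 Gs : Subgroup G} {t : G} {ι : Type} {R : ι → Subgroup G}
    (d : NU4 G1 GN C1 C2 P L1 t R) (h : U G1 t) (hi : Gs.index = 2) (ht : t ∉ Gs) {u : G} (hu : u ∈ Gs)
    (hu2 : u * u = 1) : u ∈ G1 := (d.toPrdL.prd h.sq).mem h hi ht (d.not_res h) hu hu2

end CfsgLib.SLF
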