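import Mathlib
import Cfsg.Agent.Lib.SLF.Ci
import Cfsg.Agent.Lib.SLF.NUX
import Cfsg.Agent.Lib.SLE.NS

/-!
# The Sylow subgroup `U` modulo its commutator subgroup
-/

set_option autoImplicit false
set_option linter.unusedSectionVars false

namespace CfsgLib.SLF

open Cfsg.Lie CfsgLib.RGD CfsgLib.Stein CfsgLib.Semi CfsgLib.SLE CfsgLib.UFP Subgroup
open scoped commutatorElement Pointwise

universe u

variable {F : Type} [Field F] [Finite F] [CharP F 2] {G : Type u} [Group G] [Finite G]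
  {S : StSys ΦF4 F G}

/-- the radicals of the minimal parabolic subgroups -/
abbrev Rj (S : StSys ΦF4 F G) (i : Fin 4) : Subgroup G := S.UU ({r | ΦF4.Pos r} \ {ΦF4.simple i})

theorem nk_cv : ∀ r : R4, cv r r = 2 := by decide +kernel

theorem nk_pos : ∀ r : R4, 24 ≤ r.1 → (∀ i, r ≠ ΦF4.simple i) →
    r = 28 ∨ r = 30 ∨ r ∉ [24, 25, 27, 28, 30, 33] := by decide +kernel

theorem nk_st : ∀ i j, ¬ 0 ≤ ip4 (ΦF4.simple i) (ΦF4.simple j) → CiX.ht (ΦF4.simple i) = 1 ∧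
    CiX.ht (ΦF4.simple j) = 1 ∧ ∃ k, CiX.ht k = 1 + 1 ∧ St (ΦF4.simple i) (ΦF4.simple j) k := by
  decide +kernel

theorem nk_sym : ∀ p : Fin 4 → Fin 4, (∀ i j, 0 ≤ ip4 (ΦF4.simple (p i)) (ΦF4.simple (p j)) ↔
    0 ≤ ip4 (ΦF4.simple i) (ΦF4.simple j)) → ∀ i, p (p i) = i := by decide +kernel

theorem nk_el : ∀ i, ElC (posL4.erase (ΦF4.simple i))
    (posL4.filter fun r => ∀ a ∈ posL4.erase (ΦF4.simple i), 0 ≤ ip4 r a) [] ∧
    (∀ r ∈ posL4.filter fun r => ∀ a ∈ posL4.erase (ΦF4.simple i), 0 ≤ ip4 r a,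
      24 ≤ r.1 ∧ r ≠ ΦF4.simple i) ∧ Idl4 (posL4.erase (ΦF4.simple i)) ∧
    ∀ r ∈ posL4.erase (ΦF4.simple i), 24 ≤ r.1 ∧ r ≠ ΦF4.simple i := by decide +kernel

theorem nk_17 : ∀ r : R4, 24 ≤ r.1 → 17 ≤ (posL4.filter fun s => 0 ≤ ip4 s r).length ∧
    (posL4.filter fun s => 0 ≤ ip4 s r).Nodup ∧ (∀ s ∈ posL4.filter fun s => 0 ≤ ip4 s r, 24 ≤ s.1) ∧
    ∀ a ∈ posL4.filter fun s => 0 ≤ ip4 s r, ∀ b ∈ posL4.filter fun s => 0 ≤ ip4 s r,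
      CzL (posL4.filter fun s => 0 ≤ ip4 s r) a b := by decide +kernel

namespace Amb

variable (A : Amb S)
include A

theorem nk_x_mem_comm (hq : 2 < Nat.card F) {r : R4} (hr : ΦF4.Pos r) (h : ∀ i, r ≠ ΦF4.simple i) (c : F) :
    S.x r c ∈ ⁅S.U, S.U⁆ := by
  have k : ∀ c v, S.x 28 (c * v) * S.x 30 (c * v ^ 2) ∈ ⁅S.U, S.U⁆ := fun c v =>
    A.rel.ls 25 27 28 30 (by decide) c v ▸
      commutator_mem_commutator (x_mem_U4 (by decide) c) (x_mem_U4 (by decide) v)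
  have k30 : ∀ c, S.x 30 c ∈ ⁅S.U, S.U⁆ := fun c => by
    obtain ⟨l, l0, l1, -⟩ := exists_ne hq
    have := mul_mem (inv_mem (k (c / (l * (l - 1)) * l) 1)) (k (c / (l * (l - 1))) l)
    rw [mul_one, mul_inv_rev, mul_assoc _ _⁻¹, inv_mul_cancel_left, ← S.x_neg, ← S.x_add] at this
    have l2 := sub_ne_zero.2 l1
    convert this using 2
    field_simp
    ring
  rcases nk_pos r ((pos4 r).1 hr) h with rfl | rfl | e
  · have := (mul_mem_cancel_right (k30 _)).1 (k c 1)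
    rwa [mul_one] at this
  · exact k30 c
  · exact A.der_U (S.x_mem_UU (by exact ⟨(pos4 r).1 hr, e⟩) c)

theorem nk_mem_comm (hq : 2 < Nat.card F) {u : G} : u ∈ ⁅S.U, S.U⁆ ↔ u ∈ S.U ∧ ∀ i, S.scoef i u = 0 := by
  refine ⟨fun h => ⟨comm_le_self _ h, fun i => ?_⟩, fun h => ?_⟩
  · refine (A.nd.scoef_eq_zero_iff (comm_le_self _ h)).2 (commutator_le.2 (fun a ha b hb => ?_) h)
    have h1 := mul_mem (mul_mem ha hb) (inv_mem ha)
    rw [commutatorElement_def, ← A.nd.scoef_eq_zero_iff (mul_mem h1 (inv_mem hb)),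
      A.nd.scoef_mul i h1 (inv_mem hb), A.nd.scoef_conj_U i ha hb, A.nd.scoef_inv i hb,
      add_neg_cancel]
  · exact S.UU_le_iff.2 (fun r hr c => A.nk_x_mem_comm hq hr.1 hr.2 c)
      (A.nd.mem_UU_of_scoef ΦF4.closed_pos (fun _ h => h) h.1 h.2)

theorem nk_comm_le_Ax (hq : 2 < Nat.card F) (i : Fin 4) : ⁅S.U, S.U⁆ ≤ Ax A.nd i := fun _ h =>
  ⟨((A.nk_mem_comm hq).1 h).1, fun j _ => ((A.nk_mem_comm hq).1 h).2 j⟩

theorem nk_x_mem_Ax (i : Fin 4) (c : F) : S.x (ΦF4.simple i) c ∈ Ax A.nd i :=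
  ⟨S.x_mem_U (ΦF4.pos_simple i) c, fun _ hj => A.nd.scoef_x_of_ne (ΦF4.pos_simple i)
    (fun e => hj (ΦF4.simple_injective e).symm) c⟩

theorem nk_dec_Ax (hq : 2 < Nat.card F) {i : Fin 4} {u : G} (h : u ∈ Ax A.nd i) :
    (S.x (ΦF4.simple i) (S.scoef i u))⁻¹ * u ∈ ⁅S.U, S.U⁆ := by
  have h1 := (Ax A.nd i).mul_mem (inv_mem (A.nk_x_mem_Ax i (S.scoef i u))) h
  refine (A.nk_mem_comm hq).2 ⟨h1.1, fun j => ?_⟩
  by_cases hj : j = i
  · rw [hj]; exact (A.nd.scoef_eq_zero_iff h1.1).2 (StSys.scoef_spec i h.1)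
  · exact h1.2 j hj

theorem nk_B_eq : S.grp ⊓ normalizer (S.U : Set G) = S.B := by rw [inf_comm, A.nd.normalizer_U]

theorem nk_norm_Ax (i : Fin 4) : S.B ≤ normalizer (Ax A.nd i : Set G) := fun b hb => by
  obtain ⟨u, hu, h, hh, rfl⟩ := S.mem_B_iff.1 hb
  refine mul_mem (mem_normalizer_fintype fun x hx => ⟨mul_mem (mul_mem hu hx.1) (inv_mem hu),
    fun j hj => by rw [A.nd.scoef_conj_U j hu hx.1, hx.2 j hj]⟩)
    (mem_normalizer_fintype fun x hx => ⟨S.H_conj_mem_UU hh hx.1, fun j hj => ?_⟩)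
  obtain ⟨l, -, hl⟩ := S.acts_of_mem_H hh
  rw [A.nd.scoef_conj j hl hx.1, hx.2 j hj, mul_zero]

theorem nk_Ax_le (hq : 2 < Nat.card F) {V : Subgroup G} (h1 : ⁅S.U, S.U⁆ ≤ V) (h2 : V ≤ S.U)
    (h3 : S.B ≤ normalizer (V : Set G)) {v : G} (hv : v ∈ V) {i : Fin 4} (hi : S.scoef i v ≠ 0) :
    Ax A.nd i ≤ V := fun u hu => by
  let T : AddSubgroup (Fin 4 → F) :=
    { carrier := {f | ∃ v ∈ V, f = fun j => S.scoef j v}
      zero_mem' := ⟨1, one_mem _, funext fun j => (A.nd.scoef_one j).symm⟩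
      add_mem' := by
        rintro _ _ ⟨a, ha, rfl⟩ ⟨b, hb, rfl⟩
        exact ⟨a * b, mul_mem ha hb, funext fun j => (A.nd.scoef_mul j (h2 ha) (h2 hb)).symm⟩
      neg_mem' := by
        rintro _ ⟨a, ha, rfl⟩
        exact ⟨a⁻¹, inv_mem ha, funext fun j => (A.nd.scoef_inv j (h2 ha)).symm⟩ }
  obtain ⟨c, c0, c1, c2⟩ := exists_ne hq
  obtain ⟨w, hw, e⟩ := single_mem_of_stable T
    {χ | ∃ d c, c ≠ 0 ∧ χ = fun j => c ^ cv (ΦF4.simple j) d} (by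
      rintro _ ⟨d, c, hc, rfl⟩ _ ⟨a, ha, rfl⟩
      exact ⟨_, conj_mem (h3 (S.H_le_B (S.h_mem_H d hc))) ha,
        funext fun j => (A.nd.scoef_conj j (fun s => A.h_conj d s hc) (h2 ha)).symm⟩) (i := i)
    (fun j hj => by
      obtain ⟨d, d1, d2⟩ := BA4.ex_cv (ΦF4.simple i) (ΦF4.simple j)
        (fun e => hj (ΦF4.simple_injective e).symm)
        (neg4 _ ▸ ΦF4.ne_neg_of_pos (ΦF4.pos_simple i) (ΦF4.pos_simple j))
      refine ⟨_, ⟨d, c, c0, rfl⟩, by simp [d1], ?_⟩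
      rcases d2 with d2 | d2 <;> simp only [d2]
      · rwa [zpow_one]
      · exact_mod_cast c2)
    (fun a ha => ⟨_, ⟨ΦF4.simple i, a, ha, rfl⟩, by simp only [nk_cv]; exact zpow_two a ▸ (sq a).symm⟩)
    ⟨v, hv, rfl⟩ hi (S.scoef i u)
  have h4 : w⁻¹ * u ∈ ⁅S.U, S.U⁆ := (A.nk_mem_comm hq).2 ⟨mul_mem (inv_mem (h2 hw)) hu.1, fun j => by
    rw [A.nd.scoef_mul j (inv_mem (h2 hw)) hu.1, A.nd.scoef_inv j (h2 hw), ← congrFun e j]
    by_cases hj : j = i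
    · rw [hj, Pi.single_eq_same, neg_add_cancel]
    · rw [Pi.single_eq_of_ne hj, hu.2 j hj, neg_zero, add_zero]⟩
  exact (V.mul_mem_cancel_left (inv_mem hw)).1 (h1 h4)

theorem nk_adj_iff (hq : 2 < Nat.card F) (i j : Fin 4) : ⁅Ax A.nd i, Ax A.nd j⁆ ≤ ⁅⁅S.U, S.U⁆, S.U⁆ ↔
    0 ≤ ip4 (ΦF4.simple i) (ΦF4.simple j) := by
  have hU : S.U ≤ S.UU (CiX.H 1) := CiX.U_eq.le
  refine ⟨fun h => ?_, fun h => commutator_le.2 fun a ha b hb => ?_⟩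
  · by_contra hn
    obtain ⟨h5, h6, k, h7, h8⟩ := nk_st i j hn
    have h1 := h (commutator_mem_commutator (A.nk_x_mem_Ax i 1) (A.nk_x_mem_Ax j 1))
    have h2 : ⁅S.U, S.U⁆ ≤ S.UU (CiX.H 2) := commutator_le.2 fun a ha b hb =>
      CiX.comm_H A le_rfl le_rfl (by decide) le_rfl (hU ha) (hU hb)
    have h3 : ⁅⁅S.U, S.U⁆, S.U⁆ ≤ S.UU (CiX.H 3) := commutator_le.2 fun a ha b hb =>
      CiX.comm_H A (by decide) le_rfl (by decide) le_rfl (h2 ha) (hU hb)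
    have h4 := A.cf_eq_zero (Amb.lay_cl (CiX.lay (by decide))) (CiX.lay (by decide)).pos (h3 h1) (r := k)
      fun e => absurd (le_of_le_of_eq e h7) (by decide)
    rw [commutatorElement_def, CiX.cf_gen A le_rfl h7 h5.ge h6.ge, A.cf_x ((CiX.ht_pos _).1 h5.ge),
      A.cf_x ((CiX.ht_pos _).1 h6.ge), CiX.bl_single, if_pos ⟨h6, h8⟩, mul_one] at h4
    exact one_ne_zero h4
  · have hN : S.U ≤ normalizer ((⁅⁅S.U, S.U⁆, S.U⁆ : Subgroup G) : Set G) :=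
      normalizer_commutator_ge_right _ _
    have h1 := A.nk_dec_Ax hq ha
    have h2 := A.nk_dec_Ax hq hb
    have h3 := A.com h (S.scoef i a) (S.scoef j b)
    have x1 := (A.nk_x_mem_Ax i (S.scoef i a)).1
    have x2 := (A.nk_x_mem_Ax j (S.scoef j b)).1
    generalize S.x (ΦF4.simple i) (S.scoef i a) = x, S.x (ΦF4.simple j) (S.scoef j b) = y at *
    have h4 := mul_mem (conj_mem (hN x1) (commutator_mem_commutator h1 hb.1))
      (conj_mem (hN x2) (inv_mem (commutator_mem_commutator h2 x1)))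
    rwa [show x * ⁅x⁻¹ * a, b⁆ * x⁻¹ * (y * ⁅y⁻¹ * b, x⁆⁻¹ * y⁻¹) =
      a * b * a⁻¹ * x * b⁻¹ * x⁻¹ * (y * x) * y⁻¹ * b * x⁻¹ * b⁻¹ by
        simp only [commutatorElement_def]; group, ← h3,
      show a * b * a⁻¹ * x * b⁻¹ * x⁻¹ * (x * y) * y⁻¹ * b * x⁻¹ * b⁻¹ = ⁅a, b⁆ by
        simp only [commutatorElement_def]; group] at h4

theorem nk_fix_Ax (hq : 2 < Nat.card F) {k : G} (hk : k ∈ normalizer (S.U : Set G)) (ho : Odd (orderOf k))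
    (h : ∀ i, ∃ j, MulAut.conj k • Ax A.nd i = Ax A.nd j) (i : Fin 4) :
    k ∈ normalizer (Ax A.nd i : Set G) := by
  choose p hp using h
  have hU := Coprime.mem_normalizer_iff_conj_smul_eq.1 hk
  have h1 := nk_sym p fun i j => by
    have e1 : ∀ X Y : Subgroup G, ⁅MulAut.conj k • X, MulAut.conj k • Y⁆ =
        MulAut.conj k • ⁅X, Y⁆ := fun X Y => (map_commutator _ _ _).symm
    rw [← A.nk_adj_iff hq, ← A.nk_adj_iff hq, ← hp, ← hp, e1]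
    conv_lhs => rw [← hU, e1, e1]
    exact pointwise_smul_le_pointwise_smul_iff
  have h2 : k ^ 2 ^ 1 ∈ normalizer (Ax A.nd i : Set G) := by
    refine Coprime.mem_normalizer_iff_conj_smul_eq.2 ?_
    rw [pow_one, pow_two, map_mul, mul_smul, hp, hp]
    exact congrArg _ (h1 i)
  exact zpowers_le.2 h2 (mem_zpowers_two_pow ho 1)

theorem nk_P_norm (i : Fin 4) : S.P {i} ≤ normalizer (Rj S i : Set G) := by
  rw [Rj, StSys.pos_diff_simple_eq]; exact S.P_le_normalizer_UJ _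

theorem side4 : Side4 S.U := by
  refine ⟨⟨_, x_mem_U4 (r := 24) (by decide) 1, _, x_mem_U4 (r := 25) (by decide) 1, fun e => ?_⟩,
    fun B hB C hC => A.ci hB hC, fun u hu => A.der_U (S.UU_mono (by decide +kernel : ∀ r ∈ ([44, 47] : List R4),
      24 ≤ r.1 ∧ r ∉ [24, 25, 27, 28, 30, 33]) (A.center_U hu.1 hu.2))⟩
  have := A.rel.cm 24 25 26 (by decide) 1 1
  rw [e, mul_inv_cancel_right, mul_inv_cancel, mul_one] at this
  exact one_ne_zero (A.x_eq_one.1 this.symm)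

theorem fpf (hq : 2 < Nat.card F) {K : Subgroup G}
    (h : ∀ b ∈ S.grp ⊓ normalizer (S.U : Set G), ∀ u ∈ S.U, b * u * b⁻¹ * u⁻¹ ∈ K) : S.U ≤ K := by
  obtain ⟨c, c0, -, c2⟩ := exists_ne hq
  refine S.UU_le_iff.2 fun r hr a => ?_
  have h1 := h _ (A.nk_B_eq.ge (S.H_le_B (S.h_mem_H r c0))) _ (S.x_mem_U hr (a / (c ^ 2 - 1)))
  rwa [A.h_conj r r c0, ← S.x_sub, nk_cv, zpow_two, ← sq, ← sub_one_mul,
    mul_div_cancel₀ _ (sub_ne_zero.2 c2)] at h1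

theorem cR (i : Fin 4) {w : G} (h1 : w ∈ NL S) (h2 : w ∈ centralizer (Rj S i : Set G)) :
    ∃ u ∈ Rj S i, u * w ∈ CL S := by
  obtain ⟨e1, e2, e3, e4⟩ := nk_el i
  have hc : ∀ r ∈ posL4.erase (ΦF4.simple i), ∀ c, w * S.x r c = S.x r c * w := fun r hr c =>
    (mem_cent_UU.1 h2 r ⟨(pos4 r).2 (e4 r hr).1, (e4 r hr).2⟩ c).symm
  obtain ⟨u, hu, k, hk, rfl⟩ := A.cenU e3 h1 hc
  refine ⟨u⁻¹, inv_mem (S.UU_mono (fun r hr => by exact ⟨(pos4 r).2 (e2 r hr).1, (e2 r hr).2⟩)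
    (A.ca_elim e1 hu fun a ha => ca_comm (hc a ha 1) (hk _ (S.x_mem_grp a 1)).symm)), ?_⟩
  rwa [inv_mul_cancel_left]

theorem U_norm_Rj (i : Fin 4) : S.U ≤ normalizer (Rj S i : Set G) := (S.U_le_B.trans (StSys.B_le_P _)).trans (A.nk_P_norm i)

theorem gen_Rj {K : Subgroup G}
    (h : ∀ i, ∀ l ∈ S.grp ⊓ normalizer (Rj S i : Set G), ∀ u ∈ S.U, l * u * l⁻¹ ∈ K) : S.grp ≤ K := by
  have e := S.UU_simple_eq Set.univ
  rw [show {r | ΦF4.InSub Set.univ r} = Set.univ from Set.eq_univ_of_forall ΦF4.inSub_univ] at e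
  rw [StSys.grp, ← e]
  refine S.UU_le_iff.2 ?_
  rintro r ⟨i, -, rfl | rfl⟩ c
  · simpa using h i 1 (one_mem _) _ (S.x_mem_U (ΦF4.pos_simple i) c)
  · rw [neg4, ← rf4_self, ← A.ex_n]
    exact h i _ ⟨S.n_mem_grp _ _, A.nk_P_norm i (StSys.NJ_le_P _
      (S.n_simple_mem_NJ (J := {i}) rfl one_ne_zero))⟩ _ (S.x_mem_U (ΦF4.pos_simple i) c)

theorem rn (hq : 2 < Nat.card F) {GN : Subgroup G} (hG : GN ≤ NL S) {δ : G}
    (hδ : δ ∈ normalizer (S.U : Set G)) (ho : Odd (orderOf δ))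
    (ha : ActsLike GN S.U (S.grp ⊓ normalizer (S.U : Set G)) δ) (i : Fin 4) :
    δ ∈ normalizer (Rj S i : Set G) := by
  have ex : ∀ V : Subgroup G, V ≤ S.U → ¬ V ≤ ⁅S.U, S.U⁆ → ∃ v ∈ V, ∃ j, S.scoef j v ≠ 0 :=
    fun V h1 h2 => by
      by_contra h
      push Not at h
      exact h2 fun v hv => (A.nk_mem_comm hq).2 ⟨h1 hv, h v hv⟩
  have h1 := A.nk_fix_Ax hq hδ ho (rn_of_axes (Ax A.nd)
    (fun c hc h => norm_inf (hG hc) (le_normalizer h)) inf_le_right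
    (fun b hb h => A.mem_U_of_norm hb.1 h hb.2) (fun b hb b' hb' u hu => ?_) (A.nk_comm_le_Ax hq)
    (fun _ _ h => h.1) (fun i h => one_ne_zero
      ((A.nd.scoef_x_self i 1).symm.trans (((A.nk_mem_comm hq).1 (h (A.nk_x_mem_Ax i 1))).2 i)))
    (fun i => A.nk_B_eq ▸ A.nk_norm_Ax i) (fun i V h1 h2 h3 => ?_) (fun V h1 h2 h3 h4 => ?_)
    (fun k hk ho h _ => A.nk_fix_Ax hq hk ho h) hδ ha)
  · refine norm_closure ?_
    rintro _ ⟨r, hr, c, rfl⟩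
    have h2 := conj_mem hδ (S.x_mem_U hr.1 c)
    refine (A.nd.scoef_eq_zero_iff h2).1 ?_
    by_cases h : ∃ j, r = ΦF4.simple j
    · obtain ⟨j, rfl⟩ := h
      exact (conj_mem (h1 j) (A.nk_x_mem_Ax j c)).2 i fun e => hr.2 (by rw [e]; rfl)
    · exact ((A.nk_mem_comm hq).1 (conj_mem (Core.normalizer_inf_le_normalizer_commutator _ _ ⟨hδ, hδ⟩)
        (A.nk_x_mem_comm hq hr.1 (not_exists.1 h) c))).2 i
  · refine commutator_mem_commutator (show ⁅b, b'⁆ ∈ S.U from ?_) hu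
    rw [A.nk_B_eq] at hb hb'
    obtain ⟨v, hv, h, hh, rfl⟩ := S.mem_B_iff.1 hb
    obtain ⟨v', hv', h', hh', rfl⟩ := S.mem_B_iff.1 hb'
    rw [show ⁅v * h, v' * h'⁆ = v * (h * v' * h⁻¹) * (h * h' * h⁻¹ * v⁻¹ * h'⁻¹) * v'⁻¹ by
      rw [commutatorElement_def]; group, A.r3.comm hh hh', mul_inv_cancel_right]
    exact mul_mem (mul_mem (mul_mem hv (S.H_conj_mem_UU hh hv'))
      (S.H_conj_mem_UU hh' (inv_mem hv))) (inv_mem hv')
  · refine or_iff_not_imp_left.2 fun h4 => ?_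
    obtain ⟨v, hv, j, hj⟩ := ex V (fun _ h => (h2 h).1) h4
    obtain rfl : j = i := by
      by_contra e
      exact hj ((h2 hv).2 j e)
    exact A.nk_Ax_le hq h1 (fun _ h => (h2 h).1) (A.nk_B_eq ▸ h3) hv hj
  · obtain ⟨v, hv, j, hj⟩ := ex V h2 h4
    exact ⟨j, A.nk_Ax_le hq h1 h2 (A.nk_B_eq ▸ h3) hv hj⟩

/-- a 2-element of `L C(L)` which normalises `U` -/
theorem split_U {w : G} (h1 : w ∈ N0 S) (h2 : w ∈ normalizer (S.U : Set G)) (hp : IsPGroup 2 (zpowers w)) :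
    ∃ l ∈ S.U, ∃ c ∈ CL S, w = l * c := by
  obtain ⟨l, hl, c, hc, rfl⟩ := mem_N0.1 h1
  obtain ⟨k, hk⟩ := Core.isPGroup_zpowers_iff.1 hp
  exact ⟨l, A.mem_U_of_norm hl (Core.isPGroup_zpowers_iff.2 ⟨k, (A.au_pow hl hc hk).1⟩)
    ((Subgroup.mul_mem_cancel_right _
      (centralizer_le_normalizer _ (centralizer_le S.U_le_grp hc))).1 h2), c, hc, rfl⟩

theorem inf_le_U {P : Subgroup G} (hP : IsPGroup 2 P) (h : S.U ≤ P) : P ⊓ S.grp ≤ S.U := A.le_U hP.to_inf_left inf_le_right (le_inf h S.U_le_grp)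

theorem le_norm_U {P : Subgroup G} (hP : IsPGroup 2 P) (h : S.U ≤ P) {g : G} (h1 : g ∈ P) (h2 : g ∈ NL S) :
    g ∈ normalizer (S.U : Set G) := mem_normalizer_fintype fun _ hx => A.inf_le_U hP h
  ⟨P.mul_mem (P.mul_mem h1 (h hx)) (P.inv_mem h1), conj_mem h2 (S.U_le_grp hx)⟩

/-- root elements have large centralisers in `U` -/
theorem cent_root {r : R4} (hr : 24 ≤ r.1) (c : F) :
    Nat.card F ^ 17 ≤ Nat.card (S.U ⊓ centralizer {S.x r c} : Subgroup G) := by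
  obtain ⟨e1, e2⟩ := nk_17 r hr
  refine (Nat.pow_le_pow_right Nat.card_pos e1).trans ((A.card_UL e2).ge.trans (card_le_of_le (le_inf
    (UU_le_U4 e2.2.1) (S.UU_le_iff.2 fun s hs e => mem_cent1.2 ?_))))
  exact (A.com (by simpa using (List.mem_filter.1 hs).2) _ _).symm

end Amb

end CfsgLib.SLF
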