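import Mathlib
import Cfsg.Agent.Lib.SLF.NH
import Cfsg.Agent.Lib.SLF.Out2
import Cfsg.Agent.Lib.SLF.Ci
import Cfsg.Agent.Lib.SLF.FusA
import Cfsg.Agent.Lib.SLE.NP

/-!
# The product case: the unique fixed point of `t`
-/

set_option autoImplicit false
set_option linter.unusedSectionVars false

namespace CfsgLib.SLF

open Cfsg.Lie CfsgLib.RGD CfsgLib.Stein CfsgLib.Semi CfsgLib.SLE CfsgLib.UFP Subgroup
open scoped commutatorElement Pointwise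

universe u

variable {F : Type} [Field F] [Finite F] [CharP F 2] {G : Type u} [Group G] [Finite G]
  {S : StSys ΦF4 F G}

namespace Amb

variable (A : Amb S)
include A

theorem np_not_le_CL : ¬ S.grp ≤ CL S := fun h => one_ne_zero (A.x_eq_one.1
  (A.eq_one (S.x_mem_grp 47 1) (h (S.x_mem_grp _ _))))

/-- a subgroup normalised by `L` contains `L` or is centralised by it -/
theorem np_le_or_cent {K : Subgroup G} (h1 : S.grp ≤ normalizer (K : Set G)) (h2 : K ≤ NL S) :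
    S.grp ≤ K ∨ K ≤ CL S := by
  have := A.simple
  have n : (K.subgroupOf S.grp).Normal := ⟨fun m hm g => (mem_normalizer_iff.1 (h1 g.2) m).1 hm⟩
  refine (n.eq_bot_or_eq_top.imp (fun h k hk => mem_cent.2 fun l hl => ?_) subgroupOf_eq_top.1).symm
  have h3 := K.mul_mem hk (conj_mem (h1 hl) (K.inv_mem hk))
  rw [← mul_assoc, ← mul_assoc] at h3
  have := Subtype.ext_iff.1 (mem_bot.1 (h.le (show (⟨k * l * k⁻¹ * l⁻¹,
    S.grp.mul_mem (conj_mem (h2 hk) hl) (inv_mem hl)⟩ : S.grp) ∈ K.subgroupOf S.grp from h3)))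
  exact (mul_inv_eq_iff_eq_mul.1 (mul_inv_eq_one.1 this)).symm

theorem np_in {s : G} (s2 : s * s = 1) (h : s ∈ N0 S) :
    ∃ P ≤ S.grp ⊓ centralizer {s}, IsPGroup 2 P ∧ Nat.card F ^ 20 ≤ Nat.card P := by
  obtain ⟨l, hl, c, hc, rfl, l2, -⟩ := A.inv_split h s2
  obtain ⟨P, p1, p2⟩ := A.lb hl l2
  refine ⟨P, fun x hx => ⟨(p1 hx).1, mem_cent1.2 ?_⟩, p2⟩
  rw [mul_assoc, ← mem_cent.1 hc x (p1 hx).1, ← mul_assoc, mem_cent1.1 (p1 hx).2, mul_assoc]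

theorem np_any {s : G} (hs : s ∈ NL S) (s2 : s * s = 1) (hU : s ∈ normalizer (S.U : Set G)) :
    ∃ P ≤ S.grp ⊓ centralizer {s}, IsPGroup 2 P ∧ Nat.card F ^ 12 ≤ Nat.card P := by
  by_cases h : s ∈ N0 S
  · obtain ⟨P, p1, p2, p3⟩ := A.np_in s2 h
    exact ⟨P, p1, p2, (Nat.pow_le_pow_right Nat.card_pos (by decide)).trans p3⟩
  · exact ⟨_, inf_le_inf_right _ S.U_le_grp, A.pg_U.to_inf_left, A.sb_ge hs s2 h hU⟩

theorem np_img {P : Subgroup G} (h0 : P ≤ N0 S) (h1 : P ⊓ CL S = ⊥) : ∃ φ : P →* G, Function.Injective φ ∧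
    (∀ x, φ x ∈ S.grp) ∧ ∀ (x : P) (n : G), n ∈ NL S → n * x = x * n → n * φ x = φ x * n := by
  obtain ⟨π, p1, p2, p3⟩ := A.proj
  refine ⟨π.comp (inclusion h0), (injective_iff_map_eq_one _).2 fun x hx => ?_, fun x => p1 _,
    fun x => p3 (inclusion h0 x)⟩
  have := p2 (inclusion h0 x)
  rw [show π (inclusion h0 x) = 1 from hx, inv_one, one_mul] at this
  exact Subtype.ext (mem_bot.1 (h1.le ⟨x.2, this⟩))

theorem np_prod {B C : Subgroup G} (hP : IsPGroup 2 (B ⊔ C : Subgroup G))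
    (hc : ∀ a ∈ B, ∀ b ∈ C, a * b = b * a) (h0 : B ⊔ C ≤ N0 S) (h1 : (B ⊔ C) ⊓ CL S = ⊥)
    (h2 : Nat.card F ^ 24 ≤ Nat.card (B ⊔ C : Subgroup G)) (hB : Nat.card F ^ 12 ≤ Nat.card B)
    (hC : Nat.card F ^ 12 ≤ Nat.card C) : False := by
  obtain ⟨φ, f1, f2, -⟩ := A.np_img h0 h1
  obtain ⟨l, -, e⟩ := A.eq_cj_U (P := φ.range) (hP.of_surjective _ φ.rangeRestrict_surjective)
    (fun _ ⟨x, e⟩ => e ▸ f2 x) (h2.trans (Nat.card_congr (φ.ofInjective f1).toEquiv).le)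
  have A' := A.cj l
  have k : ∀ D ≤ B ⊔ C, Nat.card F ^ 12 ≤ Nat.card D →
      ¬ (D.subgroupOf (B ⊔ C)).map φ ≤ centralizer ((SLE.cj S l).U : Set G) := fun D h3 h4 h5 => by
    have h6 := card_le_of_le (fun x hx => A'.center_U (e.le (map_le_range _ _ hx)) (h5 hx) :
      (D.subgroupOf (B ⊔ C)).map φ ≤ _)
    rw [A'.card_UL (by decide +kernel), card_map_of_injective f1,
      Nat.card_congr (subgroupOfEquivOfLe h3).toEquiv] at h6
    exact absurd ((Nat.pow_le_pow_iff_right two_le_card).1 (h4.trans h6)) (by decide)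
  refine (A'.ci ((map_le_range _ _).trans e.le) ((map_le_range _ _).trans e.le) ?_ ?_).elim
    (k B le_sup_left hB) (k C le_sup_right hC)
  · rintro _ ⟨a, ha, rfl⟩ _ ⟨b, hb, rfl⟩
    rw [← map_mul, ← map_mul, show b * a = a * b from Subtype.ext (hc _ ha _ hb).symm]
  · rw [← e, ← Subgroup.map_sup, ← subgroupOf_sup le_sup_left le_sup_right, subgroupOf_self,
      MonoidHom.range_eq_map]

end Amb

theorem Sit.np_inf {t : G} (h : Sit S t) (h2 : Two S) {P : Subgroup G} (hP : IsPGroup 2 P)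
    (h1 : P ≤ centralizer {t}) (ht : t ∉ P) : P ⊓ CL S = ⊥ := by
  refine eq_bot_iff.2 fun c hc => mem_bot.2 ?_
  have ct := (mem_cent1.1 (h1 hc.1)).symm
  rcases h.odd_or h2 hc.2 ct with e | e
  · exact eq_one_of_odd hP hc.1 e (pow_orderOf_eq_one c)
  · refine absurd ?_ ht
    rw [eq_inv_of_mul_eq_one_right (eq_one_of_odd (h.pg_sup (pg_zpowers hP hc.1) ct)
      (mul_mem (mem_sup_right (mem_zpowers c)) (mem_sup_left (mem_zpowers t))) e (pow_orderOf_eq_one _))]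
    exact inv_mem hc.1

namespace DblP

variable {t : G} {Z : R4 → Subgroup G} {S₁ S₂ : StSys ΦF4 F G} (d : DblP S t Z S₁ S₂)
include d

theorem symm : DblP S t Z S₂ S₁ := ⟨d.toH0, d.amb₂, d.amb₁, fun r s c e => (d.c12 s r e c).symm,
    fun r c => by rw [d.ext, d.c12], fun r c => by
      rw [← d.t12, show t * (t * S₁.x r c * t⁻¹) * t⁻¹ = t * t * S₁.x r c * (t * t)⁻¹ by group, d.t2]
      group,
    fun r => by rw [d.ZT, sup_comm]⟩

theorem conj_UU (Ψ : Set R4) : MulAut.conj t • S₁.UU Ψ = S₂.UU Ψ := by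
  rw [← cj_UU]; simp only [StSys.UU, cj_x, d.t12]

theorem c21 : S₂.grp ≤ CL S₁ := S₂.UU_le_iff.2 fun r _ c => mem_cent_UU.2 fun s _ e => d.c12 s r e c

theorem cm {a b : G} (ha : a ∈ S₁.grp) (hb : b ∈ S₂.grp) : a * b = b * a := mem_cent.1 (d.c21 hb) a ha

theorem G0_eq : ⨆ r, Z r = S₁.grp ⊔ S₂.grp := le_antisymm (iSup_le fun r => d.ZT r ▸ sup_le_sup (S₁.UU_le_grp _) (S₂.UU_le_grp _)) (sup_le
    (S₁.UU_le_iff.2 fun r _ c => le_iSup Z r (d.ZT r ▸ mem_sup_left (S₁.x_mem_X r c)))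
    (S₂.UU_le_iff.2 fun r _ c => le_iSup Z r (d.ZT r ▸ mem_sup_right (S₂.x_mem_X r c))))

theorem mem_W {k : G} (h1 : k ∈ CL S₁) (h2 : k ∈ CL S₂) :
    k ∈ centralizer ((⨆ r, Z r : Subgroup G) : Set G) := by
  rw [d.G0_eq]
  exact le_centralizer_iff.1 (sup_le (le_centralizer_iff.1 (zpowers_le.2 h1))
    (le_centralizer_iff.1 (zpowers_le.2 h2))) (mem_zpowers k)

theorem norm1 : ⨆ r, Z r ≤ NL S₁ := d.G0_eq ▸ sup_le le_normalizer (d.c21.trans (centralizer_le_normalizer _))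

theorem le1 : S₁.grp ≤ ⨆ r, Z r := d.G0_eq ▸ le_sup_left

theorem ne : S₁.grp ≠ S₂.grp := fun e => d.amb₁.np_not_le_CL (e.le.trans d.c21)

theorem perm {g : G} (hg : g ∈ NZ4 Z) :
    MulAut.conj g • S₁.grp = S₁.grp ∨ MulAut.conj g • S₁.grp = S₂.grp := by
  have h1 : MulAut.conj g • S₁.grp ≤ ⨆ r, Z r :=
    Coprime.conj_smul_le_iff.2 fun x hx => conj_mem hg (d.le1 hx)
  have h2 : ⨆ r, Z r ≤ normalizer ((MulAut.conj g • S₁.grp : Subgroup G) : Set G) := fun x hx => by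
    have := norm_conj (g := g) (d.norm1 (conj_mem' hg hx))
    rwa [show g * (g⁻¹ * x * g) * g⁻¹ = x by group] at this
  have hc : Nat.card S₂.grp = Nat.card S₁.grp := by
    rw [StSys.grp, ← d.conj_UU, Coprime.card_conj_smul]; rfl
  rcases d.amb₁.np_le_or_cent (d.le1.trans h2) (h1.trans d.norm1) with h3 | h3
  · exact Or.inl (Core.eq_of_le_of_card_le h3 (Coprime.card_conj_smul g _).le).symm
  rcases d.amb₂.np_le_or_cent (d.symm.le1.trans h2) (h1.trans d.symm.norm1) with h4 | h4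
  · exact Or.inr (Core.eq_of_le_of_card_le h4 ((Coprime.card_conj_smul g _).trans hc.symm).le).symm
  · refine absurd (fun x hx => ?_) (d.amb₁.cj g).np_not_le_CL
    rw [StSys.grp, cj_UU] at hx
    refine centralizer_le ?_ (d.mem_W (h3 hx) (h4 hx))
    rw [StSys.grp, cj_UU]; exact h1

theorem norm2 {g : G} (hg : g ∈ NZ4 Z) (h : g ∈ NL S₁) : g ∈ NL S₂ := by
  rcases d.symm.perm hg with h1 | h1
  · exact Coprime.mem_normalizer_iff_conj_smul_eq.2 h1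
  · exact absurd (MulAction.injective _ ((Coprime.mem_normalizer_iff_conj_smul_eq.1 h).trans h1.symm))
      d.ne

theorem idx {g : G} (hg : g ∈ NZ4 Z) : g ∈ NL S₁ ∨ g * t ∈ NL S₁ := by
  rcases d.symm.perm hg with h1 | h1
  · exact Or.inl (d.symm.norm2 hg (Coprime.mem_normalizer_iff_conj_smul_eq.2 h1))
  · refine Or.inr (Coprime.mem_normalizer_iff_conj_smul_eq.2 ?_)
    rw [map_mul, mul_smul, StSys.grp, d.conj_UU]; exact h1

theorem diag {Ψ : Set R4} {l : G} (hl : l ∈ S.UU Ψ) : ∃ a ∈ S₁.UU Ψ, l = a * (t * a * t⁻¹) := by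
  refine S.UU_induction (p := fun l => ∃ a ∈ S₁.UU Ψ, l = a * (t * a * t⁻¹))
    ⟨1, one_mem _, by group⟩ ?_ hl
  rintro r hr c _ - ⟨a, ha, rfl⟩
  refine ⟨a * S₁.x r c, mul_mem ha (S₁.x_mem_UU hr c), ?_⟩
  have h1 : t * a * t⁻¹ ∈ S₂.grp := S₂.UU_le_grp Ψ (d.conj_UU Ψ ▸ Coprime.conj_mem_conj_smul ha)
  rw [d.ext, ← d.t12, mul_assoc a, ← mul_assoc _ (S₁.x r c), ← d.cm (S₁.x_mem_grp r c) h1]
  group

/-- the involutions of `L t` are conjugate to `t` in `G0` -/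
theorem exists_conj {w : G} (hw : w ∈ S.grp) (w2 : w * w = 1) :
    ∃ a ∈ S₁.grp, w * t = a * t * a⁻¹ := by
  obtain ⟨a, ha, e⟩ := d.diag hw
  obtain ⟨m, ⟨k, hm⟩, hp⟩ := exists_two_pow a
  have h2 : ∀ a ∈ S₁.grp, t * a * t⁻¹ ∈ S₂.grp := fun a ha =>
    S₂.UU_le_grp _ (d.conj_UU _ ▸ Coprime.conj_mem_conj_smul ha)
  have e1 : w = a ^ m * (t * a ^ m * t⁻¹) := by
    rw [← conj_pow, ← (show Commute a (t * a * t⁻¹) from d.cm ha (h2 a ha)).mul_pow, ← e, hm,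
      pow_succ, pow_mul, pow_two, w2, one_pow, one_mul]
  have hb := pow_mem ha m
  generalize a ^ m = b at *
  have h3 : b * b = (t * (b * b) * t⁻¹)⁻¹ := by
    rw [e1, mul_assoc, ← mul_assoc (t * b * t⁻¹), ← d.cm hb (h2 b hb)] at w2
    rw [eq_inv_iff_mul_eq_one, ← w2]; group
  have h4 := d.amb₁.eq_one (mul_mem hb hb) (h3 ▸ inv_mem (d.c21 (h2 _ (mul_mem hb hb))))
  refine ⟨b, hb, ?_⟩
  rw [e1, inv_eq_of_mul_eq_one_right h4]; group

theorem nat1 {g : G} (h : MulAut.conj (g * t * g⁻¹) • S₁.grp = S₂.grp) {x : G} (hx : x ∈ S₁.grp) :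
    g⁻¹ * x * g ∈ ⨆ r, Z r := by
  obtain ⟨s, hs⟩ : ∃ s, s = g * t * g⁻¹ := ⟨_, rfl⟩
  have H := d.toSit.cj g
  rw [← hs] at h H
  have h2 : ∀ a ∈ S₁.grp, s * a * s⁻¹ ∈ S₂.grp := fun a ha => h ▸ Coprime.conj_mem_conj_smul ha
  let φ : S₁.grp →* G := MonoidHom.mk' (fun a => a * (s * a * s⁻¹)) fun a b => by
    simp only [coe_mul]
    rw [mul_assoc (a : G) (s * a * s⁻¹), ← mul_assoc (s * a * s⁻¹), ← d.cm b.2 (h2 a a.2)]
    group
  have hD : ∀ a ∈ S₁.grp, g⁻¹ * (a * (s * a * s⁻¹)) * g ∈ S.grp := fun a ha =>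
    mem_cj_UU.1 (H.amb.pf_le H.cyc (d.amb₁.pf_grp.top.map φ) (le_trans (by
      rintro _ ⟨b, -, rfl⟩
      refine mem_cent1.2 ?_
      show s * (b * (s * b * s⁻¹)) = b * (s * b * s⁻¹) * s
      rw [d.cm b.2 (h2 b b.2), ← mul_inv_eq_iff_eq_mul, show s * (s * b * s⁻¹ * b) * s⁻¹ =
        s * s * b * (s * s)⁻¹ * (s * b * s⁻¹) by group, H.t2, ← d.cm b.2 (h2 b b.2)]
      group) H.CN) (mem_map_of_mem φ (mem_top ⟨a, ha⟩)))
  have h3 : S₁.grp ≤ MulAut.conj g • normalizer ((⨆ r, Z r : Subgroup G) : Set G) := by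
    refine d.amb₁.pf_grp.2.trans ((closure_le _).2 fun y hy => Coprime.mem_conj_smul_iff.2 ?_)
    have y1 : y⁻¹ = y := inv_eq_of_mul_eq_one_right hy.2
    obtain ⟨a, ha, e⟩ := d.exists_conj (hD y hy.1) (by
      rw [show g⁻¹ * (y * (s * y * s⁻¹)) * g * (g⁻¹ * (y * (s * y * s⁻¹)) * g) =
        g⁻¹ * (y * (s * y * s⁻¹ * y) * (s * y * s⁻¹)) * g by group, ← d.cm hy.1 (h2 y hy.1),
        show y * (y * (s * y * s⁻¹)) * (s * y * s⁻¹) = y * y * (s * (y * y) * s⁻¹) by group, hy.2]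
      group)
    refine (Subgroup.mul_mem_cancel_left _ (inv_mem (le_normalizer (d.le1 ha)))).1
      (d.toH0.cent_le (mem_cent1.2 ?_))
    calc _ = a⁻¹ * (a * t * a⁻¹) * (g⁻¹ * y * g) := by group
      _ = a⁻¹ * (g⁻¹ * (y * s * (y * s⁻¹ * (g * t * g⁻¹) * y)) * g) := by rw [← e]; group
      _ = _ := by rw [← hs, inv_mul_cancel_right, hy.2, hs]; group
  have h4 : ⁅S₁.grp, S₁.grp⁆ ≤ MulAut.conj g • ⨆ r, Z r := commutator_le.2 fun y hy a ha => by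
    have h5 := d.toH0.L_le (hD a ha)
    have h6 := mul_mem (conj_mem (Coprime.mem_conj_smul_iff.1 (h3 hy)) h5) (inv_mem h5)
    refine Coprime.mem_conj_smul_iff.2 ?_
    rwa [show g⁻¹ * y * g * (g⁻¹ * (a * (s * a * s⁻¹)) * g) * (g⁻¹ * y * g)⁻¹ *
      (g⁻¹ * (a * (s * a * s⁻¹)) * g)⁻¹ = g⁻¹ * (y * a * (s * a * s⁻¹ * y⁻¹) * (s * a * s⁻¹)⁻¹ * a⁻¹) * g
      by group, ← d.cm (inv_mem hy) (h2 a ha), show y * a * (y⁻¹ * (s * a * s⁻¹)) * (s * a * s⁻¹)⁻¹ *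
      a⁻¹ = ⁅y, a⁆ by rw [commutatorElement_def]; group] at h6
  exact Coprime.mem_conj_smul_iff.1 (h4 (d.amb₁.pf_grp.1 hx))

theorem np_card {A B : Subgroup G} (hA : A ≤ S₁.grp) (hB : B ≤ S₂.grp) :
    Nat.card A * Nat.card B ≤ Nat.card (A ⊔ B : Subgroup G) :=
  card_sup_comm (fun _ ha _ hb => d.cm (hA ha) (hB hb)) fun _ ha hb => d.amb₁.eq_one (hA ha) (d.c21 (hB hb))

theorem np_mixed {g : G} (h1 : g * t * g⁻¹ ∈ N0 S₁) (h2 : g * t * g⁻¹ ∈ normalizer (S₂.U : Set G))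
    (h2' : g * t * g⁻¹ ∈ NL S₂) : False := by
  have H := d.toSit.cj g
  obtain ⟨P, p1, p2, p3⟩ := d.amb₁.np_in H.t2 h1
  obtain ⟨Q, q1, q2, q3⟩ := d.amb₂.np_any h2' H.t2 h2
  have h4 := (Nat.mul_le_mul p3 q3).trans ((d.np_card (p1.trans inf_le_left) (q1.trans inf_le_left)).trans
    (H.amb.card_le (d.two.cj g) (pg_sup_comm p2 q2 fun a ha b hb => d.cm (p1 ha).1 (q1 hb).1)
      ((sup_le (p1.trans inf_le_right) (q1.trans inf_le_right)).trans H.CN)))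
  have h5 := Nat.mul_le_mul_right (Nat.card F ^ 25) (two_le_card (F := F))
  rw [← pow_succ'] at h5
  rw [← pow_add] at h4
  exact absurd ((Nat.pow_le_pow_iff_right two_le_card).1 (h4.trans h5)) (by decide)

theorem np_pg (s : G) : IsPGroup 2 (S₁.U ⊓ centralizer {s} ⊔ S₂.U ⊓ centralizer {s} : Subgroup G) :=
  pg_sup_comm d.amb₁.pg_U.to_inf_left d.amb₂.pg_U.to_inf_left fun _ ha _ hb =>
    d.cm (S₁.U_le_grp ha.1) (S₂.U_le_grp hb.1)

theorem np_bot {g : G} (o1 : g * t * g⁻¹ ∉ N0 S₁) :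
    (S₁.U ⊓ centralizer {g * t * g⁻¹} ⊔ S₂.U ⊓ centralizer {g * t * g⁻¹}) ⊓ CL (cj S g) = ⊥ :=
  (d.toSit.cj g).np_inf (d.two.cj g) (d.np_pg _) (sup_le inf_le_right inf_le_right) fun h =>
    o1 (sup_le_sup (inf_le_left.trans S₁.U_le_grp) (inf_le_left.trans (S₂.U_le_grp.trans d.c21)) h)

theorem np_out {g : G} (h1 : g * t * g⁻¹ ∈ normalizer (S₁.U : Set G)) (o1 : g * t * g⁻¹ ∉ N0 S₁)
    (c1 : Nat.card F ^ 12 ≤ Nat.card (S₁.U ⊓ centralizer {g * t * g⁻¹} : Subgroup G))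
    (c2 : Nat.card F ^ 12 ≤ Nat.card (S₂.U ⊓ centralizer {g * t * g⁻¹} : Subgroup G)) :
    S₁.U ⊓ centralizer {g * t * g⁻¹} ≤ N0 (cj S g) := fun b0 hb0 => by
  by_contra hn
  have H := d.toSit.cj g
  have hP := d.np_pg (g * t * g⁻¹)
  have h0 := d.np_bot o1
  generalize g * t * g⁻¹ = s, cj S g = S' at *
  have l2 : S₂.U ⊓ centralizer {s} ≤ S₂.grp := inf_le_left.trans S₂.U_le_grp
  have PN : S₁.U ⊓ centralizer {s} ⊔ S₂.U ⊓ centralizer {s} ≤ NL S' :=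
    (sup_le inf_le_right inf_le_right).trans H.CN
  obtain ⟨k, k1, k2⟩ := H.amb.exists_pow_out (H.CN hb0.2) (pg_zpowers d.amb₁.pg_U hb0.1) hn
  have hb := pow_mem hb0 k
  generalize b0 ^ k = b at *
  have z1 : ∀ z ∈ UL S₁ [44, 47], ∀ u ∈ S₁.U, z * u = u * z := fun z hz u hu =>
    d.amb₁.commute_UU (by decide +kernel : ∀ a ∈ ([44, 47] : List R4), ∀ b : R4, 24 ≤ b.1 → 0 ≤ ip4 a b) hz
      (U_eq_Ug.le hu)
  have z2 : UL S₁ [44, 47] ≤ S₁.U := UU_le_U4 (by decide)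
  have z3 : UL S₁ [44, 47] ⊓ centralizer {s} ≤ N0 S' := fun z hz => by
    refine H.amb.inner_of_card (H.CN hz.2) ?_ hP (le_inf PN (sup_le (fun u hu => mem_cent1.2 (z1 z hz.1 u hu.1))
      fun u hu => mem_cent1.2 (d.cm (S₁.U_le_grp (z2 hz.1)) (l2 hu)))) h0
      (le_trans ?_ ((Nat.mul_le_mul c1 c2).trans (d.np_card (inf_le_left.trans S₁.U_le_grp) l2)))
    · obtain ⟨c, e, rfl⟩ := (d.amb₁.mem_pair (by decide)).1 hz.1
      rw [mul_assoc, ← mul_assoc (S₁.x 47 e), ← d.amb₁.com (by decide), mul_assoc, d.amb₁.x_sq, mul_one,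
        d.amb₁.x_sq]
    · rw [← pow_add]; exact Nat.pow_le_pow_right Nat.card_pos (by decide)
  have z4 : UL S₁ [44, 47] ⊓ centralizer {s} ≤ S₁.U ⊓ centralizer {s} ⊓ centralizer {b} :=
    fun z hz => ⟨⟨z2 hz.1, hz.2⟩, mem_cent1.2 (z1 z hz.1 b hb.1).symm⟩
  have z5 : Nat.card F < Nat.card (S₁.U ⊓ centralizer {s} ⊓ centralizer {b} : Subgroup G) :=
    (d.amb₁.sb_Z H.t2 h1).trans_lt (not_le.1 fun e =>
      k1 (z3 ((Core.eq_of_le_of_card_le z4 e).ge ⟨hb, mem_cent1.2 rfl⟩)))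
  have p1 := d.np_card (A := S₁.U ⊓ centralizer {s} ⊓ centralizer {b})
    (inf_le_left.trans (inf_le_left.trans S₁.U_le_grp)) l2
  have p2 : S₁.U ⊓ centralizer {s} ⊓ centralizer {b} ⊔ S₂.U ⊓ centralizer {s} ≤ centralizer {b} :=
    sup_le inf_le_right fun u hu => mem_cent1.2 (d.cm (S₁.U_le_grp hb.1) (l2 hu))
  have p3 := sup_le_sup_right (inf_le_left : S₁.U ⊓ centralizer {s} ⊓ centralizer {b} ≤ _)
    (S₂.U ⊓ centralizer {s})
  generalize S₁.U ⊓ centralizer {s} ⊓ centralizer {b} ⊔ S₂.U ⊓ centralizer {s} = P at *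
  have p4 := H.amb.card_le_N0 (p3.trans PN)
  obtain ⟨φ, f1, f2, f3⟩ := H.amb.np_img (P := P ⊓ N0 S') inf_le_right
    (eq_bot_iff.2 ((inf_le_inf_right _ (inf_le_left.trans p3)).trans h0.le))
  have p5 := H.amb.sb' (H.CN hb.2) (pg_zpowers d.amb₁.pg_U hb.1) k2 k1 (P := φ.range)
    ((hP.to_le (inf_le_left.trans p3)).of_surjective _ φ.rangeRestrict_surjective)
    fun _ ⟨x, e⟩ => e ▸ ⟨f2 x, mem_cent1.2 (f3 x b (H.CN hb.2) (mem_cent1.1 (p2 x.2.1)))⟩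
  rw [← Nat.card_congr (φ.ofInjective f1).toEquiv] at p5
  have p6 : 0 < Nat.card F ^ 12 := pow_pos Nat.card_pos _
  have := (Nat.mul_le_mul z5 c2).trans (p1.trans (p4.trans (Nat.mul_le_mul_left _ p5)))
  nlinarith

theorem no_fix {g : G} (h1 : g * t * g⁻¹ ∈ normalizer (S₁.U : Set G)) (h1' : g * t * g⁻¹ ∈ NL S₁)
    (h2 : g * t * g⁻¹ ∈ normalizer (S₂.U : Set G)) (h2' : g * t * g⁻¹ ∈ NL S₂) : False := by
  have H := d.toSit.cj g
  by_cases o1 : g * t * g⁻¹ ∈ N0 S₁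
  · exact d.np_mixed o1 h2 h2'
  by_cases o2 : g * t * g⁻¹ ∈ N0 S₂
  · exact d.symm.np_mixed o2 h1 h1'
  have c1 := d.amb₁.sb_ge h1' H.t2 o1 h1
  have c2 := d.amb₂.sb_ge h2' H.t2 o2 h2
  refine H.amb.np_prod (d.np_pg _) (fun _ ha _ hb => d.cm (S₁.U_le_grp ha.1) (S₂.U_le_grp hb.1))
    (sup_le (d.np_out h1 o1 c1 c2) (d.symm.np_out h2 o2 c2 c1)) (d.np_bot o1) ?_ c1 c2
  exact (pow_add _ 12 12).le.trans ((Nat.mul_le_mul c1 c2).trans
    (d.np_card (inf_le_left.trans S₁.U_le_grp) (inf_le_left.trans S₂.U_le_grp)))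

/-- **(U)** -/
theorem u : U (NZ4 Z) t := by
  refine ⟨d.t2, d.toH0.cent_le (mem_cent1.2 rfl), fun g hg => ?_⟩
  have sq : ∀ g : G, IsPGroup 2 (zpowers (g * t * g⁻¹)) := fun g =>
    pgroup_zpowers_of_sq (d.toSit.cj g).t2
  rcases d.perm hg with h | h
  · exfalso
    have h1 : g * t * g⁻¹ ∈ NL S₁ := Coprime.mem_normalizer_iff_conj_smul_eq.2 h
    have h2 := d.norm2 hg h1
    have cj : ∀ {K : Subgroup G} {l g : G}, l ∈ K → g * t * g⁻¹ ∈ K → l * g * t * (l * g)⁻¹ ∈ K :=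
      fun {K l g} h1 h2 => by
        rw [show l * g * t * (l * g)⁻¹ = l * (g * t * g⁻¹) * l⁻¹ by group]
        exact K.mul_mem (K.mul_mem h1 h2) (K.inv_mem h1)
    obtain ⟨l, hl, h3⟩ := d.amb₁.exists_norm_U (sq g) (zpowers_le.2 h1)
    have h4 := h3 _ (mem_zpowers _)
    rw [show l * (g * t * g⁻¹) * l⁻¹ = l * g * t * (l * g)⁻¹ by group] at h4
    have h5 := cj (d.symm.norm1 (d.le1 hl)) h2
    obtain ⟨k, hk, h6⟩ := d.amb₂.exists_norm_U (sq _) (zpowers_le.2 h5)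
    have h7 := h6 _ (mem_zpowers _)
    rw [show k * (l * g * t * (l * g)⁻¹) * k⁻¹ = k * (l * g) * t * (k * (l * g))⁻¹ by group] at h7
    exact d.no_fix (cj (centralizer_le_normalizer _ (centralizer_le S₁.U_le_grp (d.c21 hk))) h4)
      (cj (d.norm1 (d.symm.le1 hk)) (cj (le_normalizer hl) h1)) h7 (cj (le_normalizer hk) h5)
  · have h' : MulAut.conj (g * t * g⁻¹) • S₂.grp = S₁.grp := by
      rw [← h, conj_conj (d.toSit.cj g).t2]
    refine inv_mem_iff.1 (mem_normalizer_fintype fun x hx => ?_)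
    rw [SetLike.mem_coe, d.G0_eq] at hx
    obtain ⟨a, ha, b, hb, rfl⟩ := mem_sup_comm (fun _ ha _ hb => d.cm ha hb) hx
    rw [show g⁻¹ * (a * b) * g⁻¹⁻¹ = g⁻¹ * a * g * (g⁻¹ * b * g) by group]
    exact mul_mem (d.nat1 h ha) (d.symm.nat1 h' hb)

end DblP

end CfsgLib.SLF
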