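import Mathlib
import Cfsg.Agent.Lib.SLF.NP
import Cfsg.Agent.Lib.SLF.NK
import Cfsg.Agent.Lib.SLE.NQ
import Cfsg.Agent.Lib.SLF.Cen

/-!
# The product case is impossible
-/

set_option autoImplicit false
set_option linter.unusedSectionVars false

namespace CfsgLib.SLF

open Cfsg.Lie CfsgLib.RGD CfsgLib.Stein CfsgLib.Semi CfsgLib.SLE CfsgLib.UFP Subgroup
open scoped commutatorElement Pointwise

universe u

variable {F : Type} [Field F] [Finite F] [CharP F 2] {G : Type u} [Group G] [Finite G]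
  {S : StSys ΦF4 F G}

theorem Amb.nq_sq (A : Amb S) {T : Set R4} (h : ∀ a ∈ T, ∀ b ∈ T, 0 ≤ ip4 a b) {u : G} (hu : u ∈ S.UU T) :
    u * u = 1 := by
  refine S.UU_induction (p := fun u => u * u = 1) (one_mul 1) (fun r hr c y hy e => ?_) hu
  rw [mul_assoc, ← mul_assoc (S.x r c), A.commute_UU h (S.x_mem_UU hr c) hy, mul_assoc, A.x_sq, mul_one, e]

theorem nq_two {P K : Subgroup G} (h : ∀ a ∈ P, ∀ b ∈ P, a ∉ K → b ∉ K → a * b ∈ K) :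
    Nat.card P ≤ 2 * Nat.card (P ⊓ K : Subgroup G) := by
  by_cases h1 : P ≤ K
  · rw [inf_eq_left.2 h1]; omega
  obtain ⟨a, ha, ha'⟩ := SetLike.not_le_iff_exists.1 h1
  rw [← Coprime.card_inf_mul_relIndex K P, inf_comm, mul_comm, relIndex,
    (index_eq_two_iff_exists_notMem_and (H := K.subgroupOf P)).2 ⟨⟨a, ha⟩, ha', fun b =>
      or_iff_not_imp_right.2 fun hb => h _ b.2 _ ha hb ha'⟩]

theorem nq_sup {A B : Subgroup G} (h : B ≤ normalizer (A : Set G)) :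
    Nat.card (A ⊔ B : Subgroup G) ≤ Nat.card A * Nat.card B :=
  (Nat.le_mul_of_pos_right _ Nat.card_pos).trans (Coprime.card_sup_mul_card_inf h).le

namespace DblP

variable {t : G} {Z : R4 → Subgroup G} {S₁ S₂ : StSys ΦF4 F G} (d : DblP S t Z S₁ S₂)
include d

theorem t_mem : t ∈ NZ4 Z := d.toH0.cent_le (mem_cent1.2 rfl)

theorem red {p : R4 → Prop} {m : G} (hm : m ∈ NZ4 Z) (h : ∀ r, p r → ∀ c, m * S.x r c = S.x r c * m) :
    ∃ n, n ∈ NL S₁ ∧ n ∈ NL S₂ ∧ m * t * m⁻¹ = n * t * n⁻¹ ∧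
      (∀ r, p r → ∀ c, n * S₁.x r c = S₁.x r c * n) ∧
      ∀ r, p r → ∀ c, n * S₂.x r c = S₂.x r c * n := by
  have key : ∀ n ∈ NZ4 Z, n ∈ NL S₁ → ∀ r c, n * S.x r c = S.x r c * n →
      n * S₁.x r c = S₁.x r c * n ∧ n * S₂.x r c = S₂.x r c * n := fun n h1 h2 r c h3 => by
    have := d.amb₁.au_uniq (conj_mem h2 (S₁.x_mem_grp r c)) (S₁.x_mem_grp r c)
      (d.c21 (conj_mem (d.norm2 h1 h2) (S₂.x_mem_grp r c))) (d.c21 (S₂.x_mem_grp r c)) (by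
        rw [← d.ext, ← mul_inv_eq_iff_eq_mul.2 h3, d.ext]; group)
    exact ⟨mul_inv_eq_iff_eq_mul.1 this.1, mul_inv_eq_iff_eq_mul.1 this.2⟩
  rcases d.idx hm with h1 | h1
  · exact ⟨m, h1, d.norm2 hm h1, rfl, fun r hr c => (key m hm h1 r c (h r hr c)).1,
      fun r hr c => (key m hm h1 r c (h r hr c)).2⟩
  · have h2 := mul_mem hm d.t_mem
    have h3 : ∀ r, p r → ∀ c, m * t * S.x r c = S.x r c * (m * t) := fun r hr c => by
      rw [mul_assoc, ← d.toSit.com (S.x_mem_grp r c), ← mul_assoc, h r hr c, mul_assoc]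
    exact ⟨m * t, h1, d.norm2 h2 h1, by group, fun r hr c => (key _ h2 h1 r c (h3 r hr c)).1,
      fun r hr c => (key _ h2 h1 r c (h3 r hr c)).2⟩

theorem conj_t {m a b : G} (ha : a ∈ S₁.grp) (hb : b ∈ S₂.grp) (h1 : a⁻¹ * m ∈ CL S₁)
    (h2 : b⁻¹ * m ∈ CL S₂) : ∃ k ∈ centralizer ((⨆ r, Z r : Subgroup G) : Set G),
      m * t * m⁻¹ = k * (a * b * t * (a * b)⁻¹) := by
  have h3 : (a * b)⁻¹ * m ∈ centralizer ((⨆ r, Z r : Subgroup G) : Set G) := d.mem_W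
    (by rw [mul_inv_rev, mul_assoc]; exact mul_mem (inv_mem (d.c21 hb)) h1)
    (by rw [d.cm ha hb, mul_inv_rev, mul_assoc]; exact mul_mem (inv_mem (d.symm.c21 ha)) h2)
  have h4 := mul_mem h3 (conj_mem (norm_cent d.t_mem) (inv_mem h3))
  refine ⟨_, h4, ?_⟩
  rw [← mul_assoc, ← mul_assoc, ← mem_cent.1 h4 _ (mul_mem (d.le1 ha) (d.symm.le1 hb))]
  group

theorem diag' {Ψ : Set R4} {a : G} (ha : a ∈ S₁.UU Ψ) : a * (t * a * t⁻¹) ∈ S.UU Ψ := by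
  refine S₁.UU_induction (p := fun a => a * (t * a * t⁻¹) ∈ S.UU Ψ) (by simp) (fun r hr c y hy e => ?_) ha
  have h1 : t * y * t⁻¹ ∈ S₂.grp := S₂.UU_le_grp Ψ (d.conj_UU Ψ ▸ Coprime.conj_mem_conj_smul hy)
  have := mul_mem e (S.x_mem_UU hr c)
  rw [d.ext, ← d.t12, mul_assoc y, ← mul_assoc _ (S₁.x r c), ← d.cm (S₁.x_mem_grp r c) h1] at this
  convert this using 1
  group

theorem nq_fin {T : Set R4} (h : ∀ a ∈ T, ∀ b ∈ T, 0 ≤ ip4 a b) {a b k k' : G} (ha : a ∈ S₁.UU T)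
    (hb : b ∈ S₂.UU T) (hk : k ∈ CL S₁) (hk' : k' ∈ CL S₂) {n : G} (e : n = a * k) (e' : n = b * k') :
    ∃ e ∈ S.UU T, ∃ k ∈ centralizer ((⨆ r, Z r : Subgroup G) : Set G), n * t * n⁻¹ = k * (t * e) := by
  obtain ⟨c, hc, e1⟩ := d.conj_t (m := n) (S₁.UU_le_grp _ ha) (S₂.UU_le_grp _ hb)
    (by rwa [e, inv_mul_cancel_left]) (by rwa [e', inv_mul_cancel_left])
  rw [← d.conj_UU] at hb
  obtain ⟨w, hw, rfl⟩ : ∃ w ∈ S₁.UU T, b = t * w * t⁻¹ := ⟨_, Coprime.mem_conj_smul_iff.1 hb, by group⟩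
  have h1 := mul_mem hw (inv_mem ha)
  refine ⟨_, d.diag' h1, c, hc, e1.trans (congrArg _ ?_)⟩
  have h2 : ∀ x ∈ S₁.UU T, t * x * t⁻¹ ∈ S₂.grp := fun x hx =>
    S₂.UU_le_grp T (d.conj_UU T ▸ Coprime.conj_mem_conj_smul hx)
  have h3 := inv_eq_of_mul_eq_one_right (d.amb₁.nq_sq h h1)
  have t2 := d.t2
  calc a * (t * w * t⁻¹) * t * (a * (t * w * t⁻¹))⁻¹
      = (t * t)⁻¹ * (t * (t * a * t⁻¹ * (t * t) * w * (t * w * t⁻¹)⁻¹ * a⁻¹)) := by group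
    _ = t * (t * a * t⁻¹ * w * ((t * w * t⁻¹)⁻¹ * a⁻¹)) := by rw [t2]; group
    _ = t * (w * a⁻¹ * (t * (w * a⁻¹)⁻¹ * t⁻¹)) := by
      rw [← d.cm (S₁.UU_le_grp _ hw) (h2 a ha), ← d.cm (S₁.UU_le_grp _ (inv_mem ha)) (inv_mem (h2 w hw)),
        mul_assoc w, ← mul_assoc _ a⁻¹, ← d.cm (S₁.UU_le_grp _ (inv_mem ha)) (h2 a ha)]
      group
    _ = _ := by rw [h3]

theorem uw : UW (NZ4 Z) t S.U := by
  refine d.toH0.uw d.u (fun m hm h => ?_) fun m hm h => ?_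
  · obtain ⟨n, n1, n2, e, h1, h2⟩ := d.red hm fun r hr c => (mem_cent_UU.1 h r hr c).symm
    obtain ⟨a, ha, k, hk, e1⟩ := d.amb₁.cen_Q n1 47 (mem_cent_UU.2 fun r hr c => (h1 r hr c).symm)
    obtain ⟨b, hb, k', hk', e2⟩ := d.amb₂.cen_Q n2 47 (mem_cent_UU.2 fun r hr c => (h2 r hr c).symm)
    rw [d.amb₁.V47_eq] at ha
    rw [d.amb₂.V47_eq] at hb
    obtain ⟨x, hx, h3⟩ := d.nq_fin (by simp only [Set.mem_ofPred_eq]; decide +kernel) ha hb hk hk' e1 e2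
    exact ⟨x, d.amb.V_le_Q 47 (d.amb.V47_eq.ge hx), e ▸ h3⟩
  · obtain ⟨n, n1, n2, e, h1, h2⟩ := d.red hm fun r hr c => (mem_cent_UU.1 h r hr c).symm
    have h0 : ∀ r ∈ posL4.tail, 25 ≤ r.1 := by decide +kernel
    have key : ∀ {S : StSys ΦF4 F G}, Amb S → n ∈ NL S →
        (∀ r : R4, 25 ≤ r.1 → ∀ c, n * S.x r c = S.x r c * n) →
        ∃ a ∈ UL S [44, 46, 47], ∃ k ∈ CL S, n = a * k := fun {S} A hn h => by
      obtain ⟨u, hu, k, hk, e⟩ := A.cenU (T := posL4.tail) (by decide +kernel) hn fun r hr => h r (h0 r hr)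
      exact ⟨u, A.ca_elim (T := posL4.tail) (by decide +kernel) hu fun a ha =>
        ca_comm (e ▸ h a (h0 a ha) 1) (hk _ (S.x_mem_grp a 1)).symm, k, hk, e⟩
    obtain ⟨a, ha, k, hk, e1⟩ := key d.amb₁ n1 h1
    obtain ⟨b, hb, k', hk', e2⟩ := key d.amb₂ n2 h2
    obtain ⟨x, hx, h3⟩ := d.nq_fin (by simp only [Set.mem_ofPred_eq]; decide +kernel) ha hb hk hk' e1 e2
    exact ⟨x, S.UU_mono (by decide : ∀ r ∈ ([44, 46, 47] : List R4), 25 ≤ r.1) hx, e ▸ h3⟩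

theorem tN : t ∉ NL S₁ := fun h =>
  d.ne ((Coprime.mem_normalizer_iff_conj_smul_eq.1 h).symm.trans (d.conj_UU _))

theorem swap : Swap (NZ4 Z) (NZ4 Z ⊓ NL S₁) (NZ4 Z ⊓ CL S₂) (NZ4 Z ⊓ CL S₁) := by
  have e : MulAut.conj t • S₁.grp = S₂.grp := d.conj_UU _
  have := swap_of d.t2 d.t_mem d.tN (fun _ => d.idx) (by
    rw [e]
    exact d.toH0.odd_W.of_dvd_nat (card_dvd_of_le fun x hx => d.mem_W hx.2.2 hx.1.2))
  rwa [e] at this

theorem not_mem {Gs : Subgroup G} (g : Glob Gs t) : t ∉ Gs := by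
  have w := d.swap
  obtain ⟨B, _, _, l, hB, hl⟩ := exists_two_hom w.le fun a ha b hb => by
    by_cases h : b ∈ NZ4 Z ⊓ NL S₁
    · exact mul_mem (w.conj ha h) (inv_mem h)
    · exact w.idx _ (mul_mem (mul_mem ha hb) (inv_mem ha)) _ (inv_mem hb) (w.conj_not ha h)
        fun e => h (inv_mem_iff.1 e)
  exact g.not_mem (not_mem_commutator d.t2 d.u.mem l (fun h => by
    obtain ⟨m, hm, h1⟩ := (hl _).1 h
    exact d.tN (mem_of_odd_pow (pgroup_zpowers_of_sq d.t2) hm h1).2) fun x hx _ => d.u.uniq x hx)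

theorem L1_le : S₁.grp ≤ NZ4 Z := d.le1.trans le_normalizer

theorem nq_mem {D : Subgroup G} (hD : IsPGroup 2 D) (h2 : S₁.U ⊔ S₂.U ≤ D) {w : G} (hw : w ∈ D)
    (k1 : w ∈ N0 S₁) (k2 : w ∈ N0 S₂) : w ∈ S₁.U ⊔ S₂.U := by
  have u1 := le_sup_left.trans h2
  have u2 := le_sup_right.trans h2
  obtain ⟨l, hl, c, hc, rfl⟩ := d.amb₁.split_U k1 (d.amb₁.le_norm_U hD u1 hw (N0_le k1)) (pg_zpowers hD hw)
  have c1 := (D.mul_mem_cancel_left (u1 hl)).1 hw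
  have c2 := ((N0 S₂).mul_mem_cancel_left (mem_sup_right (d.symm.c21 (S₁.U_le_grp hl)))).1 k2
  obtain ⟨l', hl', c', hc', rfl⟩ := d.amb₂.split_U c2 (d.amb₂.le_norm_U hD u2 c1 (N0_le c2)) (pg_zpowers hD c1)
  have := d.mem_W (((CL S₁).mul_mem_cancel_left (d.c21 (S₂.U_le_grp hl'))).1 hc) hc'
  rw [eq_one_of_odd hD ((D.mul_mem_cancel_left (u2 hl')).1 c1) d.toH0.odd_W
    (Subtype.ext_iff.1 (pow_card_eq_one' (x := (⟨c', this⟩ : centralizer _)))), mul_one]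
  exact mul_mem_sup hl hl'

theorem nq_card {D P : Subgroup G} (hD : IsPGroup 2 D) (h1 : D ≤ NZ4 Z) (h2 : S₁.U ⊔ S₂.U ≤ D) (hP : P ≤ D) :
    Nat.card P ≤ 2 * (Nat.card F * (Nat.card F * Nat.card (P ⊓ (S₁.U ⊔ S₂.U) : Subgroup G))) :=
  (nq_two (K := NZ4 Z ⊓ NL S₁) fun a ha b hb => d.swap.idx a (h1 (hP ha)) b (h1 (hP hb))).trans
    (Nat.mul_le_mul_left _ ((d.amb₁.card_le_N0 (inf_le_right.trans inf_le_right)).trans (Nat.mul_le_mul_left _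
      ((d.amb₂.card_le_N0 (P := P ⊓ (NZ4 Z ⊓ NL S₁) ⊓ N0 S₁) fun _ h => d.norm2 h.1.2.1 h.1.2.2).trans (Nat.mul_le_mul_left _
        (card_le_of_le fun _ h => ⟨h.1.1.1, d.nq_mem hD h2 (hP h.1.1.1) h.1.2 h.2⟩))))))

theorem nq_out {D : Subgroup G} (hD : IsPGroup 2 D) (h2 : S₁.U ⊔ S₂.U ≤ D) {x : G} (hx : x ∈ D) (x2 : x * x = 1)
    (n1 : x ∈ NL S₁) (n2 : x ∈ NL S₂) (o : x ∉ N0 S₁) :
    Nat.card (D ⊓ centralizer {x} ⊓ (S₁.U ⊔ S₂.U) : Subgroup G) ≤ Nat.card F ^ 36 := by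
  refine (card_le_of_le (K := S₁.U ⊓ centralizer {x} ⊔ S₂.U) fun y hy => ?_).trans ((nq_sup
    (S₂.U_le_grp.trans (d.c21.trans ((centralizer_le (inf_le_left.trans S₁.U_le_grp)).trans
      (centralizer_le_normalizer _))))).trans ?_)
  · obtain ⟨a, ha, b, hb, rfl⟩ := mem_sup_comm (fun _ ha _ hb => d.cm (S₁.U_le_grp ha) (S₂.U_le_grp hb)) hy.2
    have := d.amb₁.au_uniq (conj_mem n1 (S₁.U_le_grp ha)) (S₁.U_le_grp ha)
      (d.c21 (conj_mem n2 (S₂.U_le_grp hb))) (d.c21 (S₂.U_le_grp hb)) (by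
        rw [conj_mul, mem_cent1.1 hy.1.2, mul_inv_cancel_right])
    exact mul_mem_sup ⟨ha, mem_cent1.2 (mul_inv_eq_iff_eq_mul.1 this.1)⟩ hb
  · rw [d.amb₂.card_U, show 36 = 12 + 24 from rfl, pow_add]
    exact Nat.mul_le_mul_right _ (d.amb₁.sb_U n1 x2 o (d.amb₁.le_norm_U hD (le_sup_left.trans h2) hx n1))

theorem nq_root {D : Subgroup G} (h2 : S₁.U ⊔ S₂.U ≤ D) {r : R4} (hr : ΦF4.Pos r) (c : F) :
    S₁.x r c ∈ D ∧ S₁.x r c * S₁.x r c = 1 ∧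
      Nat.card F ^ 41 ≤ Nat.card (D ⊓ centralizer {S₁.x r c} : Subgroup G) := by
  refine ⟨h2 (mem_sup_left (S₁.x_mem_U hr c)), d.amb₁.x_sq r c, ?_⟩
  rw [show 41 = 17 + 24 from rfl, pow_add, ← d.amb₂.card_U]
  exact (Nat.mul_le_mul_right _ (d.amb₁.cent_root ((pos4 r).1 hr) c)).trans
    ((d.np_card (inf_le_left.trans S₁.U_le_grp) S₂.U_le_grp).trans (card_le_of_le (le_inf
      ((sup_le_sup_right inf_le_left _).trans h2) (sup_le inf_le_right fun u hu =>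
        mem_cent1.2 (d.cm (S₁.x_mem_grp r c) (S₂.U_le_grp hu))))))

/-- `U₁ U₂` is characteristic in the 2-subgroups of `N(G0)` which contain it -/
theorem nh {D : Subgroup G} (hD : IsPGroup 2 D) (h1 : D ≤ NZ4 Z) (h2 : S₁.U ⊔ S₂.U ≤ D) :
    normalizer (D : Set G) ≤ normalizer ((S₁.U ⊔ S₂.U : Subgroup G) : Set G) := by
  have e : S₁.U ⊔ S₂.U =
      closure {x | x ∈ D ∧ x * x = 1 ∧ Nat.card F ^ 41 ≤ Nat.card (D ⊓ centralizer {x} : Subgroup G)} := by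
    refine le_antisymm (sup_le (S₁.UU_le_iff.2 fun r hr c => subset_closure (d.nq_root h2 hr c))
      (S₂.UU_le_iff.2 fun r hr c => subset_closure (d.symm.nq_root (sup_comm S₁.U S₂.U ▸ h2) hr c)))
      ((closure_le _).2 fun x ⟨hx, x2, h3⟩ => ?_)
    by_contra hn
    have h4 : Nat.card (D ⊓ centralizer {x} ⊓ (S₁.U ⊔ S₂.U) : Subgroup G) ≤ Nat.card F ^ 36 := by
      by_cases n1 : x ∈ NL S₁
      · have n2 := d.norm2 (h1 hx) n1
        by_cases o : x ∈ N0 S₁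
        · exact sup_comm S₂.U S₁.U ▸ d.symm.nq_out hD (sup_comm S₁.U S₂.U ▸ h2) hx x2 n2 n1
            fun o' => hn (d.nq_mem hD h2 hx o o')
        · exact d.nq_out hD h2 hx x2 n1 n2 o
      have c2 : S₂.U ≤ centralizer (S₁.U : Set G) := S₂.U_le_grp.trans (d.c21.trans (centralizer_le S₁.U_le_grp))
      have h5 := Coprime.card_sup_mul_card_inf (K := S₂.U) (A := D ⊓ centralizer {x} ⊓ (S₁.U ⊔ S₂.U))
        (inf_le_right.trans (sup_le ((le_centralizer_iff.1 c2).trans (centralizer_le_normalizer _))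
          le_normalizer))
      have h6 : S₂.U ⊓ (D ⊓ centralizer {x} ⊓ (S₁.U ⊔ S₂.U)) = ⊥ := eq_bot_iff.2 fun y hy => by
        have := d.swap.s2 x (h1 hx) (fun h => n1 h.2) y
          ⟨d.symm.L1_le (S₂.U_le_grp hy.1), d.c21 (S₂.U_le_grp hy.1)⟩
        rw [mem_cent1.1 hy.2.1.2, mul_inv_cancel_right] at this
        exact d.amb₂.eq_one (S₂.U_le_grp hy.1) this.2
      have h7 := (card_le_of_le (sup_le le_sup_right inf_le_right :
        S₂.U ⊔ D ⊓ centralizer {x} ⊓ (S₁.U ⊔ S₂.U) ≤ S₁.U ⊔ S₂.U)).trans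
        (nq_sup (c2.trans (centralizer_le_normalizer _)))
      rw [h6, card_bot, mul_one] at h5
      rw [h5, mul_comm, d.amb₁.card_U] at h7
      exact (Nat.le_of_mul_le_mul_right h7 Nat.card_pos).trans (Nat.pow_le_pow_right Nat.card_pos (by decide))
    have h5 := h3.trans ((d.nq_card hD h1 h2 inf_le_left).trans (Nat.mul_le_mul (two_le_card (F := F))
      (Nat.mul_le_mul_left _ (Nat.mul_le_mul_left _ h4))))
    rw [← pow_succ', ← pow_succ', ← pow_succ'] at h5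
    exact absurd ((Nat.pow_le_pow_iff_right two_le_card).1 h5) (by decide)
  intro g hg
  rw [e]
  refine norm_closure fun x ⟨hx, x2, h3⟩ => subset_closure ⟨conj_mem hg hx, by
    rw [conj_mul, x2, mul_one, mul_inv_cancel], h3.trans ?_⟩
  rw [← Coprime.card_conj_smul g]
  exact card_le_of_le (Coprime.conj_smul_le_iff.2 fun y hy => ⟨conj_mem hg hy.1, mem_cent1.2 (by
    rw [conj_mul, conj_mul, mem_cent1.1 hy.2])⟩)

section

variable {P : Subgroup G} (hP : IsPGroup 2 P) (hU : S₁.U ≤ P)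
include hP hU

theorem mem_split {w : G} (hw : w ∈ P ⊓ (NZ4 Z ⊓ NL S₁)) (h : w ∈ N0 S₁) :
    w ∈ S₁.U ⊔ P ⊓ (NZ4 Z ⊓ CL S₁) := by
  obtain ⟨l, hl, c, hc, rfl⟩ :=
    d.amb₁.split_U h (d.amb₁.le_norm_U hP hU hw.1 hw.2.2) (pg_zpowers hP hw.1)
  exact mul_mem (mem_sup_left hl) (mem_sup_right ⟨(P.mul_mem_cancel_left (hU hl)).1 hw.1,
    (Subgroup.mul_mem_cancel_left _ (d.L1_le (S₁.U_le_grp hl))).1 hw.2.1, hc⟩)

theorem inf_eq : P ⊓ S₁.grp = S₁.U :=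
  le_antisymm (d.amb₁.inf_le_U hP hU) (le_inf hU S₁.U_le_grp)

variable (h1 : P ≤ NZ4 Z) (ht : t ∈ P)
  (syl : ∀ R ≤ NZ4 Z, IsPGroup 2 R → ∃ g ∈ NZ4 Z, ∀ p ∈ R, g * p * g⁻¹ ∈ P)
include h1 ht syl

theorem prdL : PrdL (NZ4 Z) (NZ4 Z ⊓ NL S₁) (NZ4 Z ⊓ CL S₂) (NZ4 Z ⊓ CL S₁) P S₁.grp t := by
  have A := d.amb₁
  refine ⟨d.swap, hP, h1, ht, fun h => d.tN h.2, syl, le_inf d.L1_le d.symm.c21, inf_le_right,
    inf_le_right, ?_, ?_⟩ <;> rw [d.inf_eq hP hU]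
  · have k : ∀ r : R4, 24 ≤ r.1 → S₁.U ≤ Y4 S₁ r → S₁.x r 1 ∈ S₁.U ⊓ centralizer (S₁.U : Set G) :=
      fun r hr h => ⟨x_mem_U4 hr 1, le_centralizer_iff.1 (h.trans (A.Y_le_cent r)) (S₁.x_mem_X r 1)⟩
    exact ⟨S₁.U ⊓ centralizer (S₁.U : Set G), inf_le_left, fun g hg =>
      norm_inf (A.le_norm_U hP hU hg.1 hg.2.2) (norm_cent (A.le_norm_U hP hU hg.1 hg.2.2)),
      fun a ha => A.nq_sq (by simp only [Set.mem_ofPred_eq]; decide +kernel) (A.center_U ha.1 ha.2),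
      _, k 47 (by decide) A.U_le_Y47, _, k 44 (by decide) A.U_le_Y44,
      fun e => one_ne_zero (A.x_eq_one.1 e), fun e => one_ne_zero (A.x_eq_one.1 e),
      fun e => absurd (A.x_inj one_ne_zero e).1 (by decide)⟩
  · refine d.uw.mono (le_inf (fun x hx => ?_) fun x hx =>
      mem_cent1.2 (d.toSit.com (S.U_le_grp hx)).symm)
    obtain ⟨a, ha, rfl⟩ := d.diag hx
    exact mul_mem (mem_sup_left ha) (mem_sup_right (Coprime.conj_mem_conj_smul ha))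

theorem nu (hq : 2 < Nat.card F) : NU4 (NZ4 Z) (NZ4 Z ⊓ NL S₁) (NZ4 Z ⊓ CL S₂) (NZ4 Z ⊓ CL S₁) P
    S₁.grp t (Rj S₁) := by
  have A := d.amb₁
  refine ⟨d.prdL hP hU h1 ht syl, ?_, ?_, fun g g1 g2 => ?_, ?_, ?_, ?_, fun j w hw _ hc => ?_, ?_, ?_⟩
  · rw [d.inf_eq hP hU]; exact A.side4
  · rw [d.inf_eq hP hU, show MulAut.conj t • S₁.U = S₂.U from d.conj_UU _]
    exact fun D hD => d.nh (hP.to_le hD) (hD.trans h1)
  · rw [StSys.grp, d.conj_UU] at g2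
    rw [NZ4, d.G0_eq]
    exact norm_sup (fun a ha => mem_sup_left (conj_mem g1 ha)) fun a ha => mem_sup_right (conj_mem g2 ha)
  · rw [d.inf_eq hP hU]; exact fun K => A.fpf hq
  · rw [d.inf_eq hP hU]; exact fun j => S₁.UU_le_U fun _ h => h.1
  · rw [d.inf_eq hP hU]; exact A.U_norm_Rj
  · obtain ⟨u, hu, h⟩ := A.cR j hw.2 hc
    rw [← inv_mul_cancel_left u w]
    exact mul_mem (mem_sup_left (inv_mem hu))
      (mem_sup_right ⟨mul_mem (d.L1_le (S₁.UU_le_grp _ hu)) hw.1, h⟩)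
  · rw [d.inf_eq hP hU]; exact fun K => A.gen_Rj
  · rw [d.inf_eq hP hU]; exact fun δ hδ ho ha => A.rn hq inf_le_right hδ ho ha

end

/-- **Product case** -/
theorem false {Gs : Subgroup G} (g : Glob Gs t) : False := by
  have A := d.amb₁
  have ht := d.not_mem g
  have s1 : S₁.grp ≤ Gs := g.pf_le A.pf_grp.1
  have s2 : S₂.grp ≤ Gs := g.pf_le d.amb₂.pf_grp.1
  obtain ⟨P, h0, h1, hP, syl⟩ := exists_syl ((pgroup_zpowers_of_sq d.t2).to_sup_of_normal_right'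
    (pg_sup_comm A.pg_U d.amb₂.pg_U fun _ ha _ hb => d.cm (S₁.U_le_grp ha) (S₂.U_le_grp hb))
    (zpowers_le.2 (norm_sup
      (fun a ha => mem_sup_right ((d.conj_UU _).le (Coprime.conj_mem_conj_smul (g := t) ha)))
      fun a ha => mem_sup_left ((d.symm.conj_UU _).le (Coprime.conj_mem_conj_smul (g := t) ha)))))
    (sup_le (zpowers_le.2 d.u.mem) (sup_le (S₁.U_le_grp.trans d.L1_le)
      (S₂.U_le_grp.trans d.symm.L1_le)))
  have hU : S₁.U ≤ P := (le_sup_left.trans le_sup_right).trans h0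
  have tP : t ∈ P := h0 (mem_sup_left (mem_zpowers t))
  have x1 : S₁.x 47 1 ≠ 1 := fun e => one_ne_zero (A.x_eq_one.1 e)
  have h2 : Gs ≤ NZ4 Z := le_of_invol g.simple (s1 (S₁.x_mem_grp _ _)) x1 (A.x_sq _ _) fun u hu u2 => by
    rcases (two_le_card (F := F)).lt_or_eq with hq | hq
    · exact (d.nu hP hU h1 tP syl hq).mem d.u (g.index ht) ht hu u2
    have := finite_aut (F := F)
    have e : Nat.card (F ≃+* F) = 1 :=
      Nat.pow_right_injective le_rfl ((card_aut.symm.trans hq.symm).trans (pow_one 2).symm)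
    have ho := A.out
    rw [e] at ho
    obtain ⟨f, hf⟩ := ho
    refine (d.prdL hP hU h1 tP syl).mem d.u (g.index ht) ht g.perf s1 le_sup_left
      (inf_le_right.trans le_sup_right) (fun a ha b hb h h' => (hf (⟨a, ha.2⟩ * ⟨b, hb.2⟩)).1 ?_)
      (fun w hw h => ?_) hu u2
    · rw [map_mul]
      exact (by decide : ∀ x y : Multiplicative (ZMod (2 * 1)), x ≠ 1 → y ≠ 1 → x * y = 1) _ _
        (mt (hf _).1 h) (mt (hf _).1 h')
    rw [d.inf_eq hP hU]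
    exact d.mem_split hP hU hw h
  have e : ⨆ r, Z r = Gs := g.eq_of_norm (d.G0_eq ▸ sup_le s1 s2) h2 (d.le1 (S₁.x_mem_grp _ _)) x1
  exact d.ne ((g.eq_of_norm s1 (e ▸ d.norm1) (S₁.x_mem_grp _ _) x1).trans
    (g.eq_of_norm s2 (e ▸ d.symm.norm1) (S₂.x_mem_grp 47 1)
      fun e => one_ne_zero (d.amb₂.x_eq_one.1 e)).symm)

end DblP

end CfsgLib.SLF
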