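import Mathlib
import Cfsg.Agent.Lib.SLF.Ring0a
import Cfsg.Agent.Lib.SLF.Ring1
import Cfsg.Agent.Lib.SLF.Bru

/-!
# The case `κ = 0`: all relations
-/

set_option autoImplicit false
set_option linter.unusedSectionVars false

namespace CfsgLib.SLF

open Cfsg.Lie CfsgLib.RGD CfsgLib.Stein CfsgLib.Semi CfsgLib.SLE CfsgLib.UFP Subgroup
open scoped commutatorElement Pointwise

universe u

variable {F : Type} [Field F] [Finite F] [CharP F 2] {G : Type u} [Group G] [Finite G]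
  {S : StSys ΦF4 F G}

omit [Finite G] in
theorem r0_ab {j g x x' p q : G} (c1 : Commute j g) (e1 : ⁅j, x⁆ = x') (e2 : ⁅g, x⁆ = p * q)
    (c2 : Commute x' q) :
    ⁅g, x'⁆ * (⁅x', p⁆ * p) * q * (⁅j, p⁆ * p * (⁅q, j⁆⁻¹ * q))⁻¹ = 1 := by
  have e3 := conjugate_commutatorElement g x j
  rw [c1.eq, mul_inv_cancel_right, show j * x * j⁻¹ = x' * x by
    rw [← e1, commutatorElement_def]; group, e2] at e3
  rw [mul_inv_eq_one]
  calc _ = ⁅g, x'⁆ * x' * p * (x'⁻¹ * q) := by simp only [commutatorElement_def]; group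
    _ = ⁅g, x'⁆ * x' * (p * q) * x'⁻¹ := by rw [c2.inv_left.eq]; group
    _ = j * (p * q) * j⁻¹ := by rw [e3, ← e2]; simp only [commutatorElement_def]; group
    _ = _ := by simp only [commutatorElement_def]; group

omit [Finite G] in
theorem r0_upd {f : R4 → G} {r : R4} {g : G} : ∀ {R : List R4}, R.Nodup → r ∈ R →
    (∀ s ∈ R, Commute g (f s)) →
    (R.map fun s => if r = s then g * f s else f s).prod = g * (R.map f).prod
  | s :: R, h1, h2, h3 => by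
    rw [List.nodup_cons] at h1
    rw [List.map_cons, List.map_cons, List.prod_cons, List.prod_cons]
    by_cases e : r = s
    · rw [if_pos e, mul_assoc, List.map_congr_left fun a ha => if_neg fun e' : r = a =>
        h1.1 (e ▸ e' ▸ ha)]
    · rw [if_neg e, r0_upd h1.2 (by simpa [e] using h2) fun a ha => h3 a (by simp [ha]),
        (h3 s (by simp)).symm.left_comm]

theorem r0_ls : ∀ l : R4, Lg l → ∃ b, Ls l b (rf4 l b) (rf4 b l) := by decide +kernel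

/-- the long hat `g` has the parameter `V` -/
def JJ (Z : R4 → Subgroup G) {δ : F} (y : R4 → KK δ → G) (l : R4) (V : KK δ) (g : G) : Prop :=
  g ∈ Z l ∧ ∀ b k m, Ls l b k m → ∃ ψ ∈ Z m, ⁅g, y b 1⁆ = y k V * ψ

namespace H0

variable {t : G} {Z : R4 → Subgroup G} (h : H0 S t Z)
include h

theorem comp (L : List R4) {R : List R4}
    (hR : R.Nodup ∧ (∀ r ∈ R, 24 ≤ r.1) ∧ ∀ r ∈ R, ∀ s ∈ R, 0 ≤ ip4 r s) {P : List (R4 × G)}
    (hP : ∀ p ∈ P, p.1 ∈ R ∧ p.2 ∈ Z (wd L p.1)) (e : (P.map Prod.snd).prod = 1) {r : R4}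
    (hr : r ∈ R) : ((P.filter fun p => p.1 = r).map Prod.snd).prod = 1 := by
  have hw := iso_wd L
  have k1 : ∀ {P : List (R4 × G)}, (∀ p ∈ P, p.1 ∈ R ∧ p.2 ∈ Z (wd L p.1)) → ∀ r,
      ((P.filter fun p => p.1 = r).map Prod.snd).prod ∈ Z (wd L r) := fun hP r =>
    list_prod_mem fun x hx => by
      obtain ⟨p, hp, rfl⟩ := List.mem_map.1 hx
      obtain ⟨h1, h2⟩ := List.mem_filter.1 hp
      exact of_decide_eq_true h2 ▸ (hP p h1).2
  have k2 : (R.map fun r => ((P.filter fun p => p.1 = r).map Prod.snd).prod).prod =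
      (P.map Prod.snd).prod := by
    clear e
    induction P with
    | nil => simp
    | cons p P ih =>
      have hP' := fun a ha => hP a (List.mem_cons_of_mem _ ha)
      rw [List.map_cons, List.prod_cons, ← ih hP', ← r0_upd hR.1 (hP p (by simp)).1 fun s hs =>
        h.cm0 ((hR.2.2 _ (hP p (by simp)).1 s hs).trans_eq (hw _ _).symm) (hP p (by simp)).2 (k1 hP' s)]
      congr 1
      refine List.map_congr_left fun s _ => ?_
      by_cases e : p.1 = s <;> simp [List.filter_cons, e]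
  have := h.indep (L := R.map (wd L)) (W := L.reverse) (hR.1.map hw.inj)
    (by simpa [wd_reverse] using hR.2.1) (by simpa [hw _ _] using hR.2.2)
    (g := fun s => ((P.filter fun p => p.1 = wd L.reverse s).map Prod.snd).prod)
    (fun s _ => by simpa [wd_reverse'] using k1 hP (wd L.reverse s))
    (by rw [List.map_map, ← e, ← k2]; simp [Function.comp_def, wd_reverse]) _
    (List.mem_map_of_mem hr)
  simpa [wd_reverse] using this

theorem t_conj {r : R4} {g : G} {c : F} (e : g * t * g⁻¹ = t * S.x r c) :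
    t * g * t⁻¹ = S.x r c * g := by
  rw [inv_eq_of_mul_eq_one_right h.t2, mul_assoc, mul_inv_eq_iff_eq_mul.1 e, ← mul_assoc,
    ← mul_assoc, h.t2, one_mul]

theorem tZ {r : R4} {g : G} (hg : g ∈ Z r) : t * g * t⁻¹ ∈ Z r := by
  obtain ⟨c, e⟩ := h.ovr0 hg
  exact h.t_conj e ▸ mul_mem (h.xZ0 r c) hg

variable {δ : F} {y : R4 → KK δ → G} (h' : RD S t 0 Z δ y)
include h'

theorem y_nw {r : R4} (hr : ¬ Lg r) (v : KK δ) : ∀ L : List R4,
    nw S L * y r v * (nw S L)⁻¹ = y (wd L r) v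
  | [] => by simp [nw, wd]
  | d :: L => by
    have k := ((iso_wd L).lg r).not.2 hr
    rw [show nw S (d :: L) = S.n d 1 * nw S L from List.prod_cons, show wd (d :: L) r = rf4 d (wd L r)
      from rfl, mul_assoc (S.n d 1), mul_inv_rev, ← mul_assoc, mul_assoc (S.n d 1), y_nw hr v L]
    by_cases hd : Lg d
    · exact h'.nl d _ hd k v
    · rw [h'.ns d _ hd k, tw_zero]

theorem ycm {a b k : R4} (ha : ¬ Lg a) (e : Cm a b k) (u v : KK δ) : ⁅y a u, y b v⁆ = y k (u * v) := by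
  rw [commutatorElement_def, h'.r1 a b k ha e, tw_zero]

theorem jj_of {l b k m : R4} (hl : Ls l b k m) {V : KK δ} {g ψ : G} (hg : g ∈ Z l) (hψ : ψ ∈ Z m)
    (e : ⁅g, y b 1⁆ = y k V * ψ) : JJ Z y l V g := by
  refine ⟨hg, fun b' k' m' hl' => ?_⟩
  obtain ⟨L, e1, rfl⟩ := ptrans (a := l) (b := b) (a' := l) (b' := b') Iff.rfl
    (iff_of_false hl.2.1 hl'.2.1) (hl.ip.1.trans hl'.ip.1.symm)
  have hw := (iso_wd L).ls hl
  rw [e1] at hw
  obtain rfl := hw.2.2.1.uniq hl'.2.2.1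
  obtain rfl := hw.2.2.2.uniq hl'.2.2.2
  have k1 : nw S L * g = g * nw S L := mem_centralizer_iff.1 (h.cY l hg) _
    ((h.amb.cent_x l one_ne_zero).le ⟨nw_mem L, mem_centralizer_singleton_iff.2
      (mul_inv_eq_iff_eq_mul.1 ((h.amb.ex_nw L l 1).trans (by rw [e1])))⟩)
  refine ⟨_, h.toH1.conj_nw L trivial trivial hψ, ?_⟩
  rw [← h.y_nw h' hl.2.1, ← h.y_nw h' hl.ip.2.1, conj_mul, ← e, conjugate_commutatorElement, k1,
    mul_inv_cancel_right]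

theorem jj_ex {l : R4} (hl : Lg l) {g : G} (hg : g ∈ Z l) : ∃ V, JJ Z y l V g := by
  obtain ⟨b, hb⟩ := r0_ls l hl
  obtain ⟨φ, hφ, ψ, hψ, e⟩ := h.c2 hb hg (h'.yZ hb.2.1 1)
  obtain ⟨V, rfl⟩ := (h'.rng _ hb.ip.2.1 φ).1 hφ
  exact ⟨V, h.jj_of h' hb hg hψ e⟩

theorem jj_val {l : R4} (hl : Lg l) {V V' : KK δ} {g : G} (h1 : JJ Z y l V g) (h2 : JJ Z y l V' g) :
    V = V' := by
  obtain ⟨L, rfl⟩ := trans1 (a := 41) (iff_of_true (by decide +kernel) hl)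
  have k := (iso_wd L).ls (by decide +kernel : Ls 41 29 44 47)
  obtain ⟨ψ, hψ, e⟩ := h1.2 _ _ _ k
  obtain ⟨ψ', hψ', e'⟩ := h2.2 _ _ _ k
  have := h.comp L (R := [44, 47]) (by decide +kernel)
    (P := [(44, y (wd L 44) V), (47, ψ), (47, ψ'⁻¹), (44, (y (wd L 44) V')⁻¹)])
    (by simp [hψ, hψ', h'.yZ k.ip.2.1]) (by simp [← mul_assoc, ← e, e']) (r := 44) (by simp)
  exact h'.inj k.ip.2.1 (by simpa [List.filter_cons, mul_inv_eq_one] using this)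

theorem jj_mul {l : R4} {V V' : KK δ} {g g' : G} (h1 : JJ Z y l V g) (h2 : JJ Z y l V' g') :
    JJ Z y l (V + V') (g * g') := by
  refine ⟨mul_mem h1.1 h2.1, fun b k m hl => ?_⟩
  obtain ⟨i1, -, -, i4, i5⟩ := BA4.ls_ip hl
  obtain ⟨ψ, hψ, e⟩ := h1.2 _ _ _ hl
  obtain ⟨ψ', hψ', e'⟩ := h2.2 _ _ _ hl
  have Y := h'.yZ hl.ip.2.1
  refine ⟨_, mul_mem hψ' hψ, ?_⟩
  rw [add_comm, h'.add _ hl.ip.2.1, (h.cm0 (by omega) (Y V) hψ').mul_mul_mul_comm, ← e,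
    ← mul_inv_cancel_left g (y k V' * ψ'),
    (h.cA (by omega) i5.ge h1.1 (mul_mem_sup (Y V') hψ')).inv_left.eq, ← e']
  simp only [commutatorElement_def]; group

theorem jj_x (l : R4) (c : F) : JJ Z y l (algebraMap F _ c) (S.x l c) :=
  ⟨h.xZ0 l c, fun b k m hl => ⟨_, h.xZ0 m (c * 1 ^ 2), by
    rw [← map_one (algebraMap F (KK δ)), h'.base _ hl.2.1, h'.base _ hl.ip.2.1,
      commutatorElement_def, h.amb.rel.ls l b k m hl, mul_one]⟩⟩

theorem jj_t {l : R4} {V : KK δ} {g : G} (h1 : JJ Z y l V g) : JJ Z y l (star V) (t * g * t⁻¹) := by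
  refine ⟨h.tZ h1.1, fun b k m hl => ?_⟩
  obtain ⟨ψ, hψ, e⟩ := h1.2 _ _ _ hl
  refine ⟨_, h.tZ hψ, ?_⟩
  rw [← h'.ty _ hl.ip.2.1, conj_mul, ← e, conjugate_commutatorElement, h'.ty _ hl.2.1, star_one]

theorem jj_im {l : R4} (hl : Lg l) {V : KK δ} {g : G} (h1 : JJ Z y l V g) {c : F}
    (e : g * t * g⁻¹ = t * S.x l c) : V.im = c := by
  have k := h.jj_val h' hl (h.t_conj e ▸ h.jj_t h' h1) (h.jj_mul h' (h.jj_x h' l c) h1)
  have k2 := KK.add_star V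
  rw [k, add_left_comm, KK.add_self, add_zero] at k2
  simpa using (congrArg QuadraticAlgebra.re k2).symm

theorem jj_eq {l : R4} (hl : Lg l) {V : KK δ} {g g' : G} (h1 : JJ Z y l V g) (h2 : JJ Z y l V g') :
    g = g' := by
  obtain ⟨c, e⟩ := h.ovr0 h1.1
  obtain ⟨c', e'⟩ := h.ovr0 h2.1
  obtain ⟨d, rfl⟩ := h.toH1.ovr_eq trivial h1.1 h2.1
    (by rw [e, e', ← h.jj_im h' hl h1 e, ← h.jj_im h' hl h2 e'])
  have k := congrArg QuadraticAlgebra.re (h.jj_val h' hl h1 (h.jj_mul h' h2 (h.jj_x h' l d)))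
  obtain rfl : d = 0 := by simpa using k
  rw [S.x_zero, mul_one]

theorem jj_surj {l : R4} (hl : Lg l) (V : KK δ) : ∃ g, JJ Z y l V g := by
  obtain ⟨g, hg, e⟩ := h.surj l trivial V.im
  obtain ⟨W, hW⟩ := h.jj_ex h' hl hg
  have k := h.jj_mul h' hW (h.jj_x h' l (V.re - W.re))
  rw [show W + algebraMap F _ (V.re - W.re) = V by ext <;> simp [h.jj_im h' hl hW e]] at k
  exact ⟨_, k⟩

theorem core (L : List R4) {u v P : KK δ} {g q φ ψ φ' ψ' : G} (hg : g ∈ Z (wd L 41))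
    (hq : q ∈ Z (wd L 47)) (hφ : φ ∈ Z (wd L 37)) (hψ : ψ ∈ Z (wd L 30)) (hφ' : φ' ∈ Z (wd L 40))
    (hψ' : ψ' ∈ Z (wd L 30)) (e1 : ⁅g, y (wd L 29) v⁆ = y (wd L 44) P * q)
    (e2 : ⁅g, y (wd L 14) (u * v)⁆ = φ * ψ) (e3 : ⁅q, y (wd L 11) u⁆ = φ' * ψ') :
    φ = y (wd L 37) (u * P) ∧ φ' = y (wd L 40) (u * v * P) := by
  have hw := iso_wd L
  have s : ∀ r ∈ ([11, 14, 37, 40, 44] : List R4), ¬ Lg (wd L r) := fun r hr =>
    (hw.lg r).not.2 (by revert r; decide +kernel)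
  have Y := fun r hr => h'.yZ (s r hr)
  have e := r0_ab (h.cm0 (le_of_le_of_eq (by decide +kernel) (hw _ _).symm) (Y 11 (by simp) u) hg)
    (h.ycm h' (s 11 (by simp)) (hw.cm (by decide +kernel : Cm 11 29 14)) u v) e1
    (h.cm0 (le_of_le_of_eq (by decide +kernel) (hw _ _).symm) (Y 14 (by simp) _) hq)
  rw [e2, e3, h.ycm h' (s 14 (by simp)) (hw.cm (by decide +kernel : Cm 14 44 40)),
    h.ycm h' (s 11 (by simp)) (hw.cm (by decide +kernel : Cm 11 44 37))] at e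
  have k := fun r => h.comp L (R := [30, 37, 40, 44, 47]) (by decide +kernel)
    (P := [(37, φ), (30, ψ), (40, y (wd L 40) (u * v * P)), (44, y (wd L 44) P), (47, q), (47, q⁻¹),
      (40, φ'), (30, ψ'), (44, (y (wd L 44) P)⁻¹), (37, (y (wd L 37) (u * P))⁻¹)])
    (by simp [*]) (by rw [← e]; simp [mul_assoc]) (r := r)
  refine ⟨by simpa [List.filter_cons, mul_inv_eq_one] using k 37 (by simp), ?_⟩
  rw [← h.inv0 (Y 40 (by simp) _), eq_inv_iff_mul_eq_one, mul_eq_one_comm]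
  simpa [List.filter_cons] using k 40 (by simp)

theorem jj_k {l b k m : R4} (hl : Ls l b k m) {V : KK δ} {g : G} (h1 : JJ Z y l V g) (v : KK δ) :
    ∃ ψ ∈ Z m, ⁅g, y b v⁆ = y k (v * V) * ψ := by
  obtain ⟨L, rfl, rfl⟩ := ptrans (a := 41) (b := 14) (iff_of_true (by decide +kernel) hl.1)
    (iff_of_false (by decide +kernel) hl.2.1) (hl.ip.1.symm ▸ by decide +kernel)
  have hw := iso_wd L
  obtain rfl := (hw.ad (by decide +kernel : Ad 41 14 37)).uniq hl.2.2.1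
  obtain rfl := (hw.ad (by decide +kernel : Ad 37 14 30)).uniq hl.2.2.2
  have k := hw.ls (by decide +kernel : Ls 47 11 40 30)
  obtain ⟨q, hq, e1⟩ := h1.2 _ _ _ (hw.ls (by decide +kernel : Ls 41 29 44 47))
  obtain ⟨φ, hφ, ψ, hψ, e2⟩ := h.c2 hl h1.1 (h'.yZ hl.2.1 v)
  obtain ⟨φ', hφ', ψ', hψ', e3⟩ := h.c2 k hq (h'.yZ k.2.1 v)
  exact ⟨ψ, hψ, (h.core h' L h1.1 hq hφ hψ hφ' hψ' e1 (by rwa [mul_one]) e3).1 ▸ e2⟩

theorem jj_ls {l b k m : R4} (hl : Ls l b k m) {V : KK δ} {g : G} (h1 : JJ Z y l V g) (v : KK δ) :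
    ∃ ψ, JJ Z y m (V * v ^ 2) ψ ∧ ⁅g, y b v⁆ = y k (V * v) * ψ := by
  obtain ⟨q, hq, e1⟩ := h.jj_k h' hl h1 v
  obtain ⟨W, hW⟩ := h.jj_ex h' hl.ip.2.2 hq
  refine ⟨q, ?_, mul_comm v V ▸ e1⟩
  obtain ⟨L, rfl, rfl⟩ := ptrans (a := 41) (b := 29) (iff_of_true (by decide +kernel) hl.1)
    (iff_of_false (by decide +kernel) hl.2.1) (hl.ip.1.symm ▸ by decide +kernel)
  have hw := iso_wd L
  obtain rfl := (hw.ad (by decide +kernel : Ad 41 29 44)).uniq hl.2.2.1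
  obtain rfl := (hw.ad (by decide +kernel : Ad 44 29 47)).uniq hl.2.2.2
  have k := hw.ls (by decide +kernel : Ls 47 11 40 30)
  have k' := hw.ls (by decide +kernel : Ls 41 14 37 30)
  obtain ⟨φ, hφ, ψ, hψ, e2⟩ := h.c2 k' h1.1 (h'.yZ k'.2.1 (1 * v))
  obtain ⟨ψ', hψ', e3⟩ := hW.2 _ _ _ k
  rwa [h'.inj k.ip.2.1 (h.core h' L h1.1 hq hφ hψ (h'.yZ k.ip.2.1 W) hψ' e1 e2 e3).2,
    show 1 * v * (v * V) = V * v ^ 2 by ring] at hW

theorem jj_cm {a b k : R4} (ha : Lg a) (hk : Cm a b k) {V V' : KK δ} {g g' : G}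
    (h1 : JJ Z y a V g) (h2 : JJ Z y b V' g') : JJ Z y k (V * V') ⁅g, g'⁆ := by
  have g3 : ⁅g, g'⁆ ∈ Z k := h.cz a b k trivial hk g h1.1 g' h2.1
  obtain ⟨W, hW⟩ := h.jj_ex h' (hk.2.2.1 ha) g3
  obtain ⟨L, rfl, rfl⟩ := ptrans (a := 41) (b := 24) (iff_of_true (by decide +kernel) ha)
    (iff_of_true (by decide +kernel) (hk.2.1.1 ha))
    (by have := hk.ip; rw [(lg_iff a).1 ha] at this; rw [show ip4 41 24 = -2 by decide +kernel]; omega)
  have hw := iso_wd L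
  obtain rfl := (hw.ad (by decide +kernel : Ad 41 24 42)).uniq hk.1
  have k1 := hw.ls (by decide +kernel : Ls 41 29 44 47)
  have k2 := hw.ls (by decide +kernel : Ls 24 28 29 32)
  obtain ⟨q, hq, e2⟩ := h2.2 _ _ _ k2
  obtain ⟨q', hq', e3⟩ := hW.2 _ _ _ (hw.ls (by decide +kernel : Ls 42 28 44 46))
  obtain ⟨ψ, hψ, e1⟩ := h.jj_k h' k1 h1 V'
  have Y1 := h'.yZ k1.2.1
  have Y2 := h'.yZ k1.ip.2.1
  have g4 : ⁅g, q⁆ ∈ Z (wd L 46) :=
    h.cz _ _ _ trivial (hw.cm (by decide +kernel : Cm 41 32 46)) g h1.1 q hq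
  have g5 : ⁅⁅g, g'⁆, q⁆ ∈ Z (wd L 47) :=
    h.cz _ _ _ trivial (hw.cm (by decide +kernel : Cm 42 32 47)) _ g3 q hq
  have e := r0_ab (p := q) (q := y (wd L 29) V')
    (h.cm0 (le_of_le_of_eq (by decide +kernel) (hw _ _).symm) h1.1 (h'.yZ k2.2.1 1)) (rfl : ⁅g, g'⁆ = _)
    (by rw [← commutatorElement_inv, e2, mul_inv_rev, h.inv0 hq, h.inv0 (Y1 _)])
    (h.cm0 (le_of_le_of_eq (by decide +kernel) (hw _ _).symm) g3 (Y1 _))
  rw [← commutatorElement_inv ⁅g, g'⁆ (y _ _), e3, commutatorElement_inv (y _ _) g, e1] at e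
  have := h.comp L (R := [29, 32, 44, 46, 47]) (by decide +kernel)
    (P := [(46, q'⁻¹), (44, (y (wd L 44) W)⁻¹), (47, ⁅⁅g, g'⁆, q⁆), (32, q), (29, y (wd L 29) V'),
      (29, (y (wd L 29) V')⁻¹), (47, ψ⁻¹), (44, (y (wd L 44) (V' * V))⁻¹), (32, q⁻¹), (46, ⁅g, q⁆⁻¹)])
    (by simp only [List.forall_mem_cons, inv_mem_iff]; simp [*])
    (by rw [← e]; simp only [List.map, List.prod_cons, List.prod_nil]; group) (r := 44) (by simp)
  rwa [h'.inj k1.ip.2.1 (show y _ W = y _ (V' * V) by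
    rw [← h.inv0 (Y2 W), ← mul_inv_eq_one]
    simpa [List.filter_cons] using this), mul_comm V'] at hW

end H0

theorem H0.d0 {t : G} {Z : R4 → Subgroup G} (h : H0 S t Z) {δ : F} {y : R4 → KK δ → G}
    (h' : RD S t 0 Z δ y) : ∃ y', D0 S t Z δ y' := by
  choose! Y hY using fun l hl => h.jj_surj h' (l := l) hl
  have hZ : ∀ r v, (if Lg r then Y r else y r) v ∈ Z r := fun r v => by
    split_ifs with hr
    exacts [(hY r hr v).1, h'.yZ hr v]
  refine ⟨fun r => if Lg r then Y r else y r, h, ⟨fun r u v => ?_, fun a b k hk u v => ?_,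
    fun l b k m hl c v => ?_, fun a b e u v => h.cm0 e (hZ a u) (hZ b v)⟩, fun r c => ?_,
    fun r v => ?_, fun r g => ⟨fun hg => ?_, fun ⟨v, e⟩ => e ▸ hZ r v⟩⟩
  · split_ifs with hr
    exacts [h.jj_eq h' hr (hY r hr _) (h.jj_mul h' (hY r hr u) (hY r hr v)), h'.add r hr u v]
  · by_cases ha : Lg a
    · rw [if_pos ha, if_pos (hk.2.1.1 ha), if_pos (hk.2.2.1 ha)]
      exact h.jj_eq h' (hk.2.2.1 ha) (h.jj_cm h' ha hk (hY a ha u) (hY b (hk.2.1.1 ha) v))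
        (hY k (hk.2.2.1 ha) _)
    · rw [if_neg ha, if_neg (hk.2.1.not.1 ha), if_neg (hk.2.2.not.1 ha)]
      exact h.ycm h' ha hk u v
  · rw [if_pos hl.1, if_neg hl.2.1, if_neg hl.ip.2.1, if_pos hl.ip.2.2]
    obtain ⟨ψ, h1, h2⟩ := h.jj_ls h' hl (hY l hl.1 c) v
    exact h.jj_eq h' hl.ip.2.2 h1 (hY m hl.ip.2.2 _) ▸ h2
  · split_ifs with hr
    exacts [h.jj_eq h' hr (hY r hr _) (h.jj_x h' r c), h'.base r hr c]
  · split_ifs with hr
    exacts [h.jj_eq h' hr (h.jj_t h' (hY r hr v)) (hY r hr _), h'.ty r hr v]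
  · split_ifs with hr
    · obtain ⟨V, hV⟩ := h.jj_ex h' hr hg
      exact ⟨V, h.jj_eq h' hr hV (hY r hr V)⟩
    · exact (h'.rng r hr g).1 hg

end CfsgLib.SLF
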