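import Mathlib
import Cfsg.Agent.Lib.SLF.Ring1

/-!
# The field case and the product case
-/

set_option autoImplicit false
set_option linter.unusedSectionVars false

namespace CfsgLib.SLF

open Cfsg.Lie CfsgLib.RGD CfsgLib.Stein CfsgLib.Semi CfsgLib.SLE CfsgLib.UFP Subgroup
open scoped commutatorElement Pointwise

universe u

variable {F : Type} [Field F] [Finite F] [CharP F 2] {G : Type u} [Group G] [Finite G]
  {S : StSys ΦF4 F G}

theorem Rel4.comp {K K' : Type} [CommRing K] [CommRing K'] {y : R4 → K' → G} (h : Rel4 y) (φ : K → K')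
    (ha : ∀ u v, φ (u + v) = φ u + φ v) (hm : ∀ u v, φ (u * v) = φ u * φ v) : Rel4 fun r u => y r (φ u) :=
  ⟨fun r u v => by rw [ha, h.add], fun a b k hk u v => by rw [h.cm a b k hk, hm],
    fun l b k m hk c v => by rw [h.ls l b k m hk, hm, hm, pow_two, pow_two, hm], fun a b hk u v => h.com a b hk _ _⟩

theorem Rel4.zero' {K : Type} [CommRing K] {y : R4 → K → G} (h : Rel4 y) (r : R4) : y r 0 = 1 :=
  left_eq_mul.1 (show y r 0 = y r 0 * y r 0 by rw [← h.add, add_zero])

theorem Rel4.com_of {K : Type} [CommRing K] {y : R4 → K → G} (h : Rel4 y) {r s : R4} (hs : s ≠ r.rev) {u v : K}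
    (e : u * v = 0) : y r u * y s v = y s v * y r u := by
  rcases cases4 r s with h0 | h0 | ⟨k, h0⟩ | ⟨k, m, h0⟩ | ⟨k, m, h0⟩
  · exact h.com r s h0 u v
  · exact absurd h0 hs
  · rw [← mul_inv_eq_iff_eq_mul, ← mul_inv_eq_one, h.cm _ _ _ h0, e, h.zero']
  · rw [← mul_inv_eq_iff_eq_mul, ← mul_inv_eq_one, h.ls _ _ _ _ h0, pow_two, ← mul_assoc u, e, zero_mul, h.zero', h.zero',
      mul_one]
  · rw [eq_comm, ← mul_inv_eq_iff_eq_mul, ← mul_inv_eq_one, h.ls _ _ _ _ h0, pow_two, ← mul_assoc v, mul_comm v, e,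
      zero_mul, h.zero', h.zero', mul_one]

theorem D0.dblF {t : G} {Z : R4 → Subgroup G} {δ : F} {y : R4 → KK δ → G} (h : D0 S t Z δ y)
    (hδ : ∀ e : F, e * e + e ≠ δ) : ∃ (K : Type) (_ : Field K) (_ : Finite K) (_ : CharP K 2)
      (T : StSys ΦF4 K G) (f : F →+* K) (τ : K ≃+* K), DblF S t Z T f τ := by
  have h2 : (2 : F) = 0 := CharTwo.two_eq_zero
  have : Fact (∀ r : F, r ^ 2 ≠ δ + 1 * r) := ⟨fun r e => hδ r (by linear_combination e + r * h2)⟩
  have : Finite (QuadraticAlgebra F δ 1) := Finite.of_equiv _ (QuadraticAlgebra.equivProd δ 1).symm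
  have : CharP (QuadraticAlgebra F δ 1) 2 :=
    charP_of_injective_algebraMap (QuadraticAlgebra.algebraMap_injective (R := F)) 2
  obtain ⟨T, hT, hA⟩ := kit (F := QuadraticAlgebra F δ 1) h.rel
    ⟨47, algebraMap F _ 1, by rw [h.base]; exact fun e => one_ne_zero (h.amb.x_eq_one.1 e)⟩
  refine ⟨QuadraticAlgebra F δ 1, inferInstance, inferInstance, inferInstance, T,
    algebraMap F _, starRingAut, { h.toH0 with
      ambT := hA, card := ?_, ext := fun r u => ?_, tT := fun r v => ?_, fix := fun v => ?_,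
      ZT := fun r => ?_ }⟩
  · rw [Nat.card_congr (QuadraticAlgebra.equivProd δ 1), Nat.card_prod, pow_two]
  · rw [hT, h.base]
  · rw [hT, h.ty, starRingAut_apply]
  · rw [starRingAut_apply]
    constructor
    · intro e
      have e1 := congrArg QuadraticAlgebra.re e
      rw [QuadraticAlgebra.re_star, one_mul, add_eq_left] at e1
      exact ⟨v.re, QuadraticAlgebra.ext rfl e1⟩
    · rintro ⟨u, rfl⟩
      ext <;> simp
  · ext g
    rw [T.mem_X_iff, hT, h.rng]

theorem D0.dblP {t : G} {Z : R4 → Subgroup G} {δ : F} {y : R4 → KK δ → G} (h : D0 S t Z δ y) {e : F}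
    (he : e * e + e = δ) : ∃ S₁ S₂ : StSys ΦF4 F G, DblP S t Z S₁ S₂ := by
  have h2 : (2 : F) = 0 := CharTwo.two_eq_zero
  have k : ∀ e : F, e * e + e = δ → Rel4 fun r (u : F) => y r ⟨u * e, u⟩ := fun e he =>
    h.rel.comp (fun u : F => (⟨u * e, u⟩ : KK δ)) (fun u v => by ext <;> simp [add_mul]) fun u v => by
      ext <;> simp only [QuadraticAlgebra.re_mul, QuadraticAlgebra.im_mul]
      · linear_combination (u * v) * he - u * v * e * e * h2
      · linear_combination -(u * v * e) * h2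
  have ks : ∀ r (u : F), t * y r ⟨u * e, u⟩ * t⁻¹ = y r ⟨u * (e + 1), u⟩ := fun r u => by
    rw [h.ty]
    congr 1
    ext <;> simp [mul_add, CharTwo.neg_eq]
  have ke : ∀ r (u : F), S.x r u = y r ⟨u * e, u⟩ * y r ⟨u * (e + 1), u⟩ := fun r u => by
    rw [← h.rel.add, ← h.base]
    congr 1
    ext <;> simp only [QuadraticAlgebra.re_add, QuadraticAlgebra.im_add, QuadraticAlgebra.algebraMap_re,
      QuadraticAlgebra.algebraMap_im]
    · linear_combination -(u * e) * h2
    · linear_combination -u * h2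
  have n1 : y 47 ⟨1 * e, 1⟩ ≠ 1 := fun e1 => one_ne_zero (h.amb.x_eq_one.1 (by
    rw [ke 47, ← ks, e1, mul_one, one_mul, mul_inv_cancel]))
  obtain ⟨S₁, e1, A₁⟩ := kit (k e he) ⟨47, 1, n1⟩
  obtain ⟨S₂, e2, A₂⟩ := kit (k (e + 1) (by linear_combination he + (e + 1) * h2))
    ⟨47, 1, by rw [← ks]; exact fun e => n1 (conj_eq_one_iff.1 e)⟩
  have c1 : ∀ r s : R4, s ≠ r.rev → ∀ u v, S₁.x r u * S₂.x s v = S₂.x s v * S₁.x r u := by
    intro r s hrs u v
    simp only [e1, e2]
    refine h.rel.com_of hrs ?_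
    ext <;> simp only [QuadraticAlgebra.re_mul, QuadraticAlgebra.im_mul, QuadraticAlgebra.re_zero,
      QuadraticAlgebra.im_zero]
    · linear_combination (-(u * v)) * he + u * v * (e * e + e) * h2
    · linear_combination u * v * (e + 1) * h2
  refine ⟨S₁, S₂, { h.toH0 with
    amb₁ := A₁, amb₂ := A₂, c12 := fun r s u v => ?_, ext := fun r u => ?_, t12 := fun r u => ?_,
    ZT := fun r => ?_ }⟩
  · by_cases h0 : s = r.rev
    · obtain ⟨a, b, hab, ha, hb⟩ := (by decide +kernel : ∀ s : R4, ∃ a b, Cm a b s ∧ a ≠ s ∧ b ≠ s) s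
      have ca : Commute (S₁.x r u) (S₂.x a v) := c1 r a (h0 ▸ ha) u v
      have cb : Commute (S₁.x r u) (S₂.x b 1) := c1 r b (h0 ▸ hb) u 1
      rw [← mul_one v, ← A₂.rel.cm a b _ hab]
      exact ((ca.mul_right cb).mul_right ca.inv_right).mul_right cb.inv_right
    · exact c1 r s h0 u v
  · simp only [e1, e2, ke]
  · simp only [e1, e2, ks]
  · refine le_antisymm (fun g hg => ?_) (sup_le (fun g hg => ?_) fun g hg => ?_)
    · obtain ⟨⟨p, q⟩, rfl⟩ := (h.rng r g).1 hg
      have := mul_mem_sup (S₁.x_mem_X r (q + (p + q * e))) (S₂.x_mem_X r (p + q * e))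
      simp only [e1, e2] at this
      rw [← h.rel.add] at this
      convert this using 2
      ext <;> simp only [QuadraticAlgebra.re_add, QuadraticAlgebra.im_add]
      · linear_combination -(q * e + p * e + q * e * e) * h2
      · linear_combination -(p + q * e) * h2
    · obtain ⟨u, rfl⟩ := S₁.mem_X_iff.1 hg
      rw [e1]; exact (h.rng r _).2 ⟨_, rfl⟩
    · obtain ⟨u, rfl⟩ := S₂.mem_X_iff.1 hg
      rw [e2]; exact (h.rng r _).2 ⟨_, rfl⟩

end CfsgLib.SLF
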