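import Mathlib
import Cfsg.Agent.Lib.SLF.GG
import Cfsg.Agent.Lib.SLF.IdS
import Cfsg.Agent.Lib.SLF.IdF
import Cfsg.Agent.Lib.SLF.NF
import Cfsg.Agent.Lib.SLF.NQ
import Cfsg.Agent.Lib.SLF.Ring0
import Cfsg.Agent.Lib.SLF.Ring2
import Cfsg.Agent.Lib.SLF.Hat2

/-!
# Assembly
-/

set_option autoImplicit false
set_option linter.unusedSectionVars false

namespace CfsgLib.SLF

open Cfsg Cfsg.Lie CfsgLib.RGD CfsgLib.Stein CfsgLib.Semi CfsgLib.SLE CfsgLib.UFP Subgroup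
open scoped commutatorElement Pointwise

universe u

variable {F : Type} [Field F] [Finite F] [CharP F 2] {G : Type u} [Group G] [Finite G]
  {S : StSys ΦF4 F G} {t : G} {Gs : Subgroup G}

variable (F) in
/-- the conclusion -/
def Res4 (X : Type u) [Group X] : Prop := Nonempty (X ≃* chevE6.group F) ∨
  ∃ (K : Type) (_ : Field K) (_ : Fintype K), Fintype.card K = Nat.card F ^ 2 ∧
    (Nonempty (X ≃* twistedE6 K (Nat.card F)) ∨ Nonempty (X ≃* chevF4.group K))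

theorem Res4.congr {X Y : Type u} [Group X] [Group Y] (e : X ≃* Y) (h : Res4 F Y) : Res4 F X :=
  h.imp (fun ⟨f⟩ => ⟨e.trans f⟩) fun ⟨K, a, b, c, d⟩ =>
    ⟨K, a, b, c, d.imp (fun ⟨f⟩ => ⟨e.trans f⟩) fun ⟨f⟩ => ⟨e.trans f⟩⟩

theorem Gr.res {Z : R4 → Subgroup G} {δ : F} {y : R4 → KK δ → G} (h : Gr S t Z δ y) (g : Glob Gs t) :
    Res4 F Gs := by
  by_cases hδ : ∃ e : F, e * e + e = δ
  · obtain ⟨e, he⟩ := hδ
    have e1 := (h.gs (h.rt.syl0S he) g).eq
    exact .inl (e1 ▸ h.rt.idS he (e1 ▸ g.simple))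
  · have hδ' : ∀ e : F, e * e + e ≠ δ := fun e he => hδ ⟨e, he⟩
    have e1 := (h.gs (h.rt.syl0F hδ' h.odd_W) g).eq
    obtain ⟨K, a, b, c, d⟩ := h.rt.idF hδ' (e1 ▸ g.simple)
    exact .inr ⟨K, a, b, c, .inl (e1 ▸ d)⟩

theorem H0.res {Z : R4 → Subgroup G} (h : H0 S t Z) (g : Glob Gs t) : Res4 F Gs := by
  obtain ⟨m, hm⟩ := h.hs.rm
  obtain ⟨δ, y, hy⟩ := hm.rd (.inl rfl)
  obtain ⟨y', d⟩ := h.d0 hy
  by_cases hδ : ∃ e : F, e * e + e = δ
  · obtain ⟨e, he⟩ := hδ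
    obtain ⟨S₁, S₂, d'⟩ := d.dblP he
    exact (d'.false g).elim
  · obtain ⟨K, _, _, _, T, f, τ, d'⟩ := d.dblF fun e he => hδ ⟨e, he⟩
    exact .inr ⟨K, inferInstance, Fintype.ofFinite K, by rw [← d'.card, Fintype.card_eq_nat_card],
      .inr (d'.eq g ▸ d'.ambT.equiv)⟩

theorem Sit.hs (h : Sit S t) (hb : IsConj t (t * S.x 44 1)) : ∃ κ Z, HS S t κ Z := by
  obtain ⟨κ, hm⟩ := h.mv hb
  obtain ⟨Z, hZ⟩ := hm.hats
  exact ⟨κ, Z, hZ.hs⟩

theorem Sit.res_b (h : Sit S t) (hb : IsConj t (t * S.x 44 1)) (g : Glob Gs t) : Res4 F Gs := by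
  obtain ⟨κ, Z, hZ⟩ := h.hs hb
  by_cases ha : IsConj t (t * S.x 47 1)
  · obtain ⟨S', d, A'⟩ := h.amb.exists_du
    obtain ⟨κ', Z', hZ'⟩ := (d.sit A' h).hs (by rwa [d.x_one])
    obtain ⟨σ, d'⟩ := d.symm
    have h1 := d.hl h.amb hZ'
    obtain rfl : κ = 0 := (map_eq_zero σ).1 (hZ'.k0 (d'.hl A' hZ))
    rw [hZ.k0 h1] at h1
    exact (hZ.h0 h1).res g
  · obtain rfl : κ = 1 := by_contra fun k => ha (hZ.conj_long k)
    obtain ⟨m, hm⟩ := hZ.rm
    obtain ⟨δ, y, hy⟩ := hm.rd (.inr rfl)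
    exact Gr.res ⟨hy, hy.relG, ha⟩ g

theorem Sit.res (h : Sit S t) (g : Glob Gs t) (hL : S.grp ≤ Gs) : Res4 F Gs := by
  have he : Even (Nat.card Gs) := by
    have h1 : orderOf (S.x 47 (1 : F)) = 2 := Invol.orderOf_eq_two
      (fun e => one_ne_zero (h.amb.x_eq_one.1 e)) (h.amb.x_sq _ _)
    rw [even_iff_two_dvd, ← h1]
    exact orderOf_dvd_natCard _ (hL (S.x_mem_grp _ _))
  obtain ⟨s, h1, h2, h3⟩ := g.exists_conj he h.t2 h.t1
  rcases h.fus h1 h3 h2 with ha | hb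
  · obtain ⟨S', d, A'⟩ := h.amb.exists_du
    exact (d.sit A' h).res_b (by rwa [d.x_one]) g
  · exact h.res_b hb g

variable (F) in
/-- the situation inside `Gs ⟨t⟩` -/
theorem exists_sit {L : Subgroup G} (hL : IsStandardSubgroup L)
    (hR : ∀ R : Sylow 2 (centralizer (L : Set G)), IsCyclic (R : Subgroup (centralizer (L : Set G))))
    (e : (L ⧸ oddCore L) ≃* chevF4.group F) {H : Subgroup G} (hH : L ≤ H) {t : H}
    (tC : (t : G) ∈ centralizer (L : Set G)) (t2 : t * t = 1) (t1 : t ≠ 1) :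
    ∃ S : StSys ΦF4 F H, S.grp = L.subgroupOf H ∧ Sit S t := by
  obtain ⟨S0, A0, h2⟩ := exists_sys hL.1 e
  have m : ∀ r c, S0.x r c ∈ H := fun r c => hH (h2 ▸ S0.x_mem_grp r c)
  obtain ⟨S, e1, A⟩ := kit (y := fun r c => (⟨S0.x r c, m r c⟩ : H))
    (Rel4.of_map H.subtype H.subtype_injective A0.rel)
    ⟨47, 1, fun k => one_ne_zero (A0.x_eq_one.1 (congrArg Subtype.val k))⟩
  have e2 : S.grp = L.subgroupOf H := by
    rw [← h2, StSys.grp, StSys.grp, ← UUx_eq, ← UUx_eq,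
      ← map_UUx S.x S0.x H.subtype _ fun r _ c => by rw [e1]; rfl, subgroupOf,
      comap_map_eq_self_of_injective H.subtype_injective]
  have hC : ∀ g : H, g ∈ CL S ↔ (g : G) ∈ centralizer (L : Set G) := fun g => by
    rw [CL, e2]
    exact ⟨fun k l hl => congrArg Subtype.val (k ⟨l, hH hl⟩ hl), fun k l hl => Subtype.ext (k _ hl)⟩
  refine ⟨S, e2, A, t2, t1, (hC t).2 tC, fun g hg => ?_, fun P h3 h4 => ?_⟩
  · have k : (g : G) ∈ normalizer (L : Set G) := by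
      rw [hL.2.2.2]
      by_contra k
      have k1 := hL.2.1.2 g k
      have k2 : (t : G) ∈ centralizer (L : Set G) ⊓
          (centralizer (L : Set G)).map (MulAut.conj (g : G)).toMonoidHom := ⟨tC, t, tC, by
        have := congrArg Subtype.val (mem_centralizer_singleton_iff.1 hg)
        simp only [coe_mul] at this
        simp [this]⟩
      have k3 := orderOf_dvd_natCard _ k2
      rw [orderOf_coe, Invol.orderOf_eq_two t1 t2] at k3
      exact Nat.not_even_iff_odd.2 k1 (even_iff_two_dvd.2 k3)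
    rw [NL, e2, mem_normalizer_iff]
    exact fun x => mem_normalizer_iff.1 k x
  · have k : P.map H.subtype ≤ centralizer (L : Set G) := by
      rintro _ ⟨g, hg, rfl⟩
      exact (hC g).1 (h3 hg)
    obtain ⟨R, hR'⟩ := ((h4.map H.subtype).comap_subtype (K := centralizer (L : Set G))).exists_le_sylow
    have := hR R
    have : IsCyclic ((P.map H.subtype).subgroupOf (centralizer (L : Set G))) := isCyclic_of_le hR'
    have := isCyclic_of_surjective _ (subgroupOfEquivOfLe k).surjective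
    exact isCyclic_of_surjective _ (P.equivMapOfInjective _ H.subtype_injective).symm.surjective

end CfsgLib.SLF
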